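import Mathlib

/-!
The divisors of `q³(q+1)²(q-1)/3` congruent to one modulo `(q²-q+1)/(3,q+1)`.
-/

set_option autoImplicit false

namespace Cfsg.Agent.Classical.SUThree.Arith

/-- Every such part prime to the characteristic is trivial. -/
theorem part {p f q n d z a : ℕ} (hp : p.Prime) (hq : q = p ^ f) (h7 : 7 ≤ q) (h8 : q ≠ 8)
    (hdn : d * n + q = q * q + 1) (hd : d = 1 ∨ (d = 3 ∧ 3 ∣ q + 1))
    (ha : a ≤ 3 * f) (hz : z * z ≤ (q + 1) ^ 2 * (q - 1))
    (hz3 : p ≠ 3 → 3 * (z * z) ≤ (q + 1) ^ 2 * (q - 1) ∧ 3 * z ∣ (q + 1) ^ 2 * (q - 1))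
    (hmod : p ^ a * z % n = 1) : p ^ a * z = 1 := by
  have hn0 : 1 < n := by
    rcases hd with rfl | ⟨rfl, -⟩ <;> nlinarith
  have hz0 : 0 < z := Nat.pos_of_ne_zero fun e => by subst e; simp at hmod
  -- move the power to the other side
  obtain ⟨e, he⟩ : ∃ e, a + e = 3 * f := ⟨3 * f - a, by omega⟩
  have hq3 : n ∣ q ^ 3 + 1 := ⟨d * (q + 1), by
    have : (q : ℤ) ^ 3 + 1 = (n : ℤ) * (d * (q + 1)) := by
      have h : ((d * n + q : ℕ) : ℤ) = ((q * q + 1 : ℕ) : ℤ) := by rw [hdn]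
      push_cast at h
      linear_combination (-(q : ℤ) - 1) * h
    exact_mod_cast this⟩
  have hdiv : n ∣ z + p ^ e := by
    obtain ⟨K, hK⟩ := hq3
    have hk := Nat.div_add_mod (p ^ a * z) n
    rw [hmod] at hk
    obtain ⟨K', hK'⟩ : ∃ K', p ^ a * z = n * K' + 1 := ⟨_, hk.symm⟩
    have hpe : p ^ a * p ^ e = q ^ 3 := by rw [← pow_add, he, hq, ← pow_mul]; ring_nf
    have : (n : ℤ) ∣ (z : ℤ) + (p : ℤ) ^ e := ⟨K * z - (p : ℤ) ^ e * K', by
      have h1 : (q : ℤ) ^ 3 + 1 = n * K := by exact_mod_cast hK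
      have h2 : (p : ℤ) ^ a * z = n * K' + 1 := by exact_mod_cast hK'
      have h3 : (p : ℤ) ^ a * (p : ℤ) ^ e = (q : ℤ) ^ 3 := by exact_mod_cast hpe
      linear_combination (z : ℤ) * h1 + (z : ℤ) * h3 - (p : ℤ) ^ e * h2⟩
    exact_mod_cast this
  obtain ⟨u, rfl⟩ : ∃ u, q = u + 1 := ⟨q - 1, by omega⟩
  simp only [Nat.add_sub_cancel] at hz hz3
  have hp2 := hp.two_le
  -- the shape of the shifted value
  obtain ⟨v, hv, hvv⟩ : ∃ v, n ∣ z + v ∧ ((a = 0 ∧ v = (u + 1) * u) ∨ p * v ≤ (u + 1) * (u + 1) ∧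
      (p = 2 → 2 * v = (u + 1) * (u + 1) ∨ 2 * v = (u + 1) * u ∨ 4 * v ≤ (u + 1) * (u + 1))) := by
    have hsmall : ∀ r g w : ℕ, r < g → w * p ^ g ≤ (u + 1) * (u + 1) → p * (w * p ^ r) ≤ (u + 1) * (u + 1) ∧
        (r + 1 = g → p * (w * p ^ r) = w * p ^ g) ∧ (r + 1 ≠ g → p * p * (w * p ^ r) ≤ (u + 1) * (u + 1)) := by
      intro r g w hrg hw
      refine ⟨?_, fun e => by rw [← e, pow_succ]; ring, fun e => ?_⟩
      · calc p * (w * p ^ r) = w * p ^ (r + 1) := by ring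
          _ ≤ w * p ^ g := Nat.mul_le_mul_left _ (Nat.pow_le_pow_right hp.pos hrg)
          _ ≤ _ := hw
      · calc p * p * (w * p ^ r) = w * p ^ (r + 2) := by ring
          _ ≤ w * p ^ g := Nat.mul_le_mul_left _ (Nat.pow_le_pow_right hp.pos (by omega))
          _ ≤ _ := hw
    rcases Nat.lt_or_ge e (2 * f) with h2 | h2
    · obtain ⟨h1, h3, h4⟩ := hsmall e (2 * f) 1 h2 (by rw [one_mul, two_mul, pow_add, ← hq])
      rw [one_mul] at h1 h3 h4
      refine ⟨p ^ e, hdiv, Or.inr ⟨h1, fun hp' => ?_⟩⟩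
      subst hp'
      by_cases hg : e + 1 = 2 * f
      · exact Or.inl (by rw [h3 hg, one_mul, two_mul, pow_add, ← hq])
      · exact Or.inr (Or.inr (h4 hg))
    obtain ⟨r, rfl⟩ : ∃ r, e = 2 * f + r := ⟨e - 2 * f, by omega⟩
    refine ⟨u * p ^ r, ?_, ?_⟩
    · have h1 : p ^ (2 * f + r) = (u + 1) * (u + 1) * p ^ r := by rw [pow_add, two_mul, pow_add, ← hq]
      rw [h1] at hdiv
      have h2' : (n : ℤ) ∣ (z : ℤ) + (u : ℤ) * (p : ℤ) ^ r := by
        obtain ⟨K, hK⟩ := hdiv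
        refine ⟨(K : ℤ) - d * (p : ℤ) ^ r, ?_⟩
        have h3 : (z : ℤ) + (u + 1) * (u + 1) * (p : ℤ) ^ r = n * K := by exact_mod_cast hK
        have h4 : ((d * n + (u + 1) : ℕ) : ℤ) = (((u + 1) * (u + 1) + 1 : ℕ) : ℤ) := by rw [hdn]
        push_cast at h4
        linear_combination h3 + (p : ℤ) ^ r * h4
      exact_mod_cast h2'
    by_cases hr : r = f
    · refine Or.inl ⟨by omega, ?_⟩
      rw [hr, ← hq, mul_comm]
    obtain ⟨h1, h3, h4⟩ := hsmall r f u (by omega) (by rw [← hq]; exact Nat.mul_le_mul_right _ (Nat.le_succ u))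
    refine Or.inr ⟨h1, fun hp' => ?_⟩
    subst hp'
    by_cases hg : r + 1 = f
    · exact Or.inr (Or.inl (by rw [h3 hg, ← hq, mul_comm]))
    · exact Or.inr (Or.inr (h4 hg))
  obtain ⟨k, hk⟩ := hv
  rcases hvv with ⟨ha0, rfl⟩ | ⟨hpv, h2v⟩
  · subst ha0
    rw [pow_zero, one_mul] at hmod ⊢
    have hzn : z < n + 1 := by
      rcases hd with rfl | ⟨rfl, h3⟩
      · nlinarith
      · have := (hz3 fun e => by
          subst e
          have hf : f ≠ 0 := fun e' => by rw [e', pow_zero] at hq; omega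
          have : 3 ∣ u + 1 := hq ▸ dvd_pow_self 3 hf
          omega).1
        nlinarith
    rcases Nat.lt_or_ge z n with h | h
    · rwa [Nat.mod_eq_of_lt h] at hmod
    · obtain rfl : z = n := by omega
      simp at hmod
  exfalso
  have hk0 : 0 < k := Nat.pos_of_ne_zero fun e => by rw [e, mul_zero] at hk; omega
  have hnk : n ≤ z + v := by rw [hk]; exact Nat.le_mul_of_pos_right _ hk0
  rcases hd with rfl | ⟨rfl, h3⟩
  · rcases Nat.lt_or_ge (u + 1) 9 with h9 | h9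
    · have h7' : u + 1 = 7 := by omega
      obtain rfl : u = 6 := by omega
      have hp7 : p = 7 := by
        have : p ∣ 7 := ⟨p ^ (f - 1), by
          have hf0 : f ≠ 0 := fun e' => by subst e'; simp at hq
          rw [← pow_succ', show f - 1 + 1 = f by omega]; omega⟩
        exact (Nat.prime_dvd_prime_iff_eq hp (by norm_num)).1 this
      have := (hz3 (by omega)).1
      subst hp7
      nlinarith
    · obtain ⟨t, rfl⟩ : ∃ t, u = 8 + t := ⟨u - 8, by omega⟩
      have h2v' := le_trans (Nat.mul_le_mul_right v hp2) hpv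
      have hL : t * t + 16 * t + 65 ≤ 2 * z := by nlinarith
      nlinarith [Nat.mul_le_mul hL hL, pow_nonneg (Nat.zero_le t) 3, pow_nonneg (Nat.zero_le t) 4]
  · have hp3 : p ≠ 3 := fun e => by
      subst e
      have hf : f ≠ 0 := fun e' => by rw [e', pow_zero] at hq; omega
      have : 3 ∣ u + 1 := hq ▸ dvd_pow_self 3 hf
      omega
    obtain ⟨hz2, hzd⟩ := hz3 hp3
    by_cases hp5 : 5 ≤ p
    · have h5v : 5 * v ≤ (u + 1) * (u + 1) := le_trans (Nat.mul_le_mul_right v hp5) hpv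
      rcases Nat.lt_or_ge (u + 1) 25 with hsm | hbig
      · -- the small primes
        have hf1 : f = 1 := by
          by_contra hf
          have hf0 : f ≠ 0 := fun e' => by rw [e', pow_zero] at hq; omega
          have : p ^ 2 ≤ p ^ f := Nat.pow_le_pow_right hp.pos (by omega)
          nlinarith
        subst hf1
        rw [pow_one] at hq
        subst hq
        have : v ≤ u + 1 := Nat.le_of_mul_le_mul_left hpv (by omega)
        have h11 : 11 ≤ u + 1 := by
          by_contra hlt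
          rcases (show u = 6 ∨ u = 7 ∨ u = 8 ∨ u = 9 by omega) with rfl | rfl | rfl | rfl <;> first | omega | norm_num at hp
        obtain ⟨t, rfl⟩ : ∃ t, u = 10 + t := ⟨u - 10, by omega⟩
        have hL : t * t + 18 * t + 78 ≤ 3 * z := by nlinarith
        nlinarith [Nat.mul_le_mul hL hL, pow_nonneg (Nat.zero_le t) 3, pow_nonneg (Nat.zero_le t) 4]
      · obtain ⟨t, rfl⟩ : ∃ t, u = 24 + t := ⟨u - 24, by omega⟩
        have hL : 2 * (t * t) + 95 * t + 1130 ≤ 15 * z := by nlinarith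
        nlinarith [Nat.mul_le_mul hL hL, pow_nonneg (Nat.zero_le t) 3, pow_nonneg (Nat.zero_le t) 4]
    · obtain rfl : p = 2 := by
        have : p ≠ 4 := fun e => by subst e; norm_num at hp
        omega
      have h4 : ∃ g, u + 1 = 2 ^ g := ⟨f, hq⟩
      have h32 : u + 1 = 32 ∨ 128 ≤ u + 1 := by
        rcases Nat.lt_or_ge f 7 with hf | hf
        · interval_cases f <;> norm_num at hq <;> omega
        · exact Or.inr (by rw [hq]; exact le_trans (by norm_num) (Nat.pow_le_pow_right (by norm_num : 0 < 2) hf))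
      have hk2 : 4 * v ≤ (u + 1) * (u + 1) ∨ 2 * n ≤ z + v := by
        rcases h2v rfl with h | h | h
        · right
          rcases Nat.lt_or_ge k 2 with hk1 | hk1
          · obtain rfl : k = 1 := by omega
            nlinarith
          · rw [hk]; nlinarith
        · right
          rcases Nat.lt_or_ge k 2 with hk1 | hk1
          · obtain rfl : k = 1 := by omega
            nlinarith
          · rw [hk]; nlinarith
        · exact Or.inl h
      rcases h32 with h32 | h128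
      · obtain rfl : u = 31 := by omega
        obtain rfl : n = 331 := by omega
        norm_num at hzd hz2 hk2 h2v hpv
        have hzb : z ≤ 106 := by nlinarith
        have h3751 : z ∣ 11253 := Nat.dvd_of_mul_dvd_mul_left (show 0 < 3 by norm_num) hzd
        have hf5 : f = 5 := Nat.pow_right_injective (le_refl 2) (hq.symm.trans (by norm_num) : 2 ^ f = 2 ^ 5)
        subst hf5
        have ha15 : a < 16 := by omega
        have key : ∀ z' < 107, z' ∣ 11253 → ∀ a' < 16, 2 ^ a' * z' % 331 = 1 → 2 ^ a' * z' = 1 := by decide +kernel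
        have h1 := key z (by omega) h3751 a ha15 hmod
        obtain ⟨h0, rfl⟩ : a = 0 ∧ z = 1 := by
          rcases Nat.eq_zero_or_pos a with e0 | e0
          · subst e0; exact ⟨rfl, by simpa using h1⟩
          · have := Nat.le_of_dvd one_pos (h1 ▸ Dvd.dvd.mul_right (dvd_pow_self 2 e0.ne') z)
            omega
        have hh : 330 ≤ v := by omega
        have := hpv
        rcases h2v with h | h | h <;> omega
      · obtain ⟨t, rfl⟩ : ∃ t, u = 127 + t := ⟨u - 127, by omega⟩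
        have hv2 : 2 * v ≤ (127 + t + 1) * (127 + t + 1) := le_trans (Nat.mul_le_mul_right v hp2) hpv
        have hL : t * t + 252 * t + 15876 ≤ 12 * z := by rcases hk2 with h | h <;> nlinarith
        nlinarith [Nat.mul_le_mul hL hL, pow_nonneg (Nat.zero_le t) 3, pow_nonneg (Nat.zero_le t) 4]

/-- The only divisors congruent to one. -/
theorem divisor {p f q n d x y : ℕ} (hp : p.Prime) (hq : q = p ^ f) (h7 : 7 ≤ q) (h8 : q ≠ 8)
    (hdn : d * n + q = q * q + 1) (hd : d = 1 ∧ ¬ 3 ∣ q + 1 ∨ (d = 3 ∧ 3 ∣ q + 1))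
    (hxy : 3 * (x * y) = q ^ 3 * ((q + 1) ^ 2 * (q - 1))) (hx : x % n = 1) : x = 1 ∨ y = 1 := by
  have hn0 : 1 < n := by
    rcases hd with ⟨rfl, -⟩ | ⟨rfl, -⟩ <;> nlinarith
  have hy : y % n = 1 := by
    obtain ⟨u, rfl⟩ : ∃ u, q = u + 1 := ⟨q - 1, by omega⟩
    simp only [Nat.add_sub_cancel] at hxy
    have hT : ((d * n : ℕ) : ℤ) ∣ ((u : ℤ) + 1) ^ 3 * (((u : ℤ) + 2) ^ 2 * u) - 3 :=
      ⟨((u : ℤ) + 1) ^ 4 + 2 * ((u : ℤ) + 1) ^ 3 - 3 * (u + 1) - 3, by
        have h : ((d * n + (u + 1) : ℕ) : ℤ) = (((u + 1) * (u + 1) + 1 : ℕ) : ℤ) := by rw [hdn]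
        push_cast at h ⊢
        linear_combination -((((u : ℤ) + 1) ^ 4 + 2 * ((u : ℤ) + 1) ^ 3 - 3 * (u + 1) - 3)) * h⟩
    have e : ((u : ℤ) + 1) ^ 3 * (((u : ℤ) + 2) ^ 2 * u) = 3 * ((x : ℤ) * y) := by exact_mod_cast hxy.symm
    rw [e, ← mul_sub_one] at hT
    have hxy1 : (n : ℤ) ∣ (x : ℤ) * y - 1 := by
      rcases hd with ⟨rfl, h3⟩ | ⟨rfl, -⟩
      · rw [one_mul] at hT hdn
        have hc : Nat.Coprime n 3 := by
          rw [Nat.coprime_comm, Nat.Prime.coprime_iff_not_dvd Nat.prime_three]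
          intro hn3
          obtain ⟨j, rfl⟩ := hn3
          have h' : 3 * j + (u + 1) = (u + 1) * (u + 1) + 1 := hdn
          have h'' := congrArg (Nat.cast : ℕ → ZMod 3) h'
          push_cast at h''
          rw [show (3 : ZMod 3) = 0 from rfl, zero_mul, zero_add] at h''
          have h3' : ((u + 1 + 1 : ℕ) : ZMod 3) ≠ 0 := fun e => h3 ((ZMod.natCast_eq_zero_iff (u + 1 + 1) 3).1 e)
          push_cast at h3'
          revert h'' h3'
          generalize (u : ZMod 3) = s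
          revert s
          decide
        exact (Int.isCoprime_iff_gcd_eq_one.2 (by exact_mod_cast hc)).dvd_of_dvd_mul_left hT
      · push_cast at hT
        exact (mul_dvd_mul_iff_left (by norm_num : (3 : ℤ) ≠ 0)).1 hT
    have hx' : (n : ℤ) ∣ (x : ℤ) - 1 := by
      have := Nat.div_add_mod x n
      rw [hx] at this
      exact ⟨((x / n : ℕ) : ℤ), by have h' : (n : ℤ) * ((x / n : ℕ) : ℤ) + 1 = x := by exact_mod_cast this
                                   linear_combination -h'⟩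
    have hy' : (n : ℤ) ∣ (y : ℤ) - 1 := by
      have := dvd_sub hxy1 (hx'.mul_right (y : ℤ))
      rwa [show (x : ℤ) * y - 1 - ((x : ℤ) - 1) * y = (y : ℤ) - 1 by ring] at this
    have hmodeq : (y : ℤ) % n = 1 % n := (Int.emod_eq_emod_iff_emod_sub_eq_zero).2 (Int.emod_eq_zero_of_dvd hy')
    rw [Int.emod_eq_of_lt (by norm_num) (by exact_mod_cast hn0 : (1 : ℤ) < n)] at hmodeq
    exact_mod_cast hmodeq
  -- split off the characteristic
  have hx0 : x ≠ 0 := fun e => by simp [e] at hx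
  have hy0 : y ≠ 0 := fun e => by simp [e] at hy
  obtain ⟨a, z, hzp, rfl⟩ := Nat.exists_eq_pow_mul_and_not_dvd hx0 p hp.ne_one
  obtain ⟨b, w, hwp, rfl⟩ := Nat.exists_eq_pow_mul_and_not_dvd hy0 p hp.ne_one
  have hq0 : (q + 1) ^ 2 * (q - 1) ≠ 0 := Nat.mul_ne_zero (pow_ne_zero _ (by omega)) (by omega)
  have hf : f ≠ 0 := fun e => by rw [e, pow_zero] at hq; omega
  have hpD : ¬ p ∣ (q + 1) ^ 2 * (q - 1) := fun hpd => by
    have hpq : p ∣ q := hq ▸ dvd_pow_self p hf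
    rcases hp.dvd_mul.1 hpd with h | h
    · have := Nat.dvd_sub (hp.dvd_of_dvd_pow h) hpq
      rw [Nat.add_sub_cancel_left] at this
      exact hp.ne_one (Nat.dvd_one.1 this)
    · have := Nat.dvd_sub hpq h
      rw [show q - (q - 1) = 1 by omega] at this
      exact hp.ne_one (Nat.dvd_one.1 this)
  have hsplit : ∀ k l A B : ℕ, ¬ p ∣ A → ¬ p ∣ B → p ^ k * A = p ^ l * B → k = l ∧ A = B := by
    intro k l A B hA hB e
    rcases Nat.lt_trichotomy k l with h | rfl | h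
    · exfalso; obtain ⟨j, rfl⟩ : ∃ j, l = k + (j + 1) := ⟨l - k - 1, by omega⟩
      rw [pow_add, mul_assoc] at e
      exact hA ⟨p ^ j * B, by rw [Nat.eq_of_mul_eq_mul_left (pow_pos hp.pos k) e, pow_succ]; ring⟩
    · exact ⟨rfl, Nat.eq_of_mul_eq_mul_left (pow_pos hp.pos k) e⟩
    · exfalso; obtain ⟨j, rfl⟩ : ∃ j, k = l + (j + 1) := ⟨k - l - 1, by omega⟩
      rw [pow_add, mul_assoc] at e
      exact hB ⟨p ^ j * A, by rw [← Nat.eq_of_mul_eq_mul_left (pow_pos hp.pos l) e, pow_succ]; ring⟩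
  have hzw : a + b ≤ 3 * f ∧ z * w ≤ (q + 1) ^ 2 * (q - 1) ∧
      (p ≠ 3 → 3 * (z * w) = (q + 1) ^ 2 * (q - 1)) := by
    by_cases hp3 : p = 3
    · subst hp3
      have e : 3 ^ (a + b + 1) * (z * w) = 3 ^ (3 * f) * ((q + 1) ^ 2 * (q - 1)) := by
        calc 3 ^ (a + b + 1) * (z * w) = 3 * (3 ^ a * z * (3 ^ b * w)) := by ring
          _ = q ^ 3 * ((q + 1) ^ 2 * (q - 1)) := hxy
          _ = _ := by rw [hq, ← pow_mul, mul_comm f 3]
      obtain ⟨h1, h2⟩ := hsplit _ _ _ _ (fun h => (Nat.prime_three.dvd_mul.1 h).elim hzp hwp) hpD e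
      exact ⟨by omega, h2.le, fun h => absurd rfl h⟩
    · have e : p ^ (a + b) * (3 * (z * w)) = p ^ (3 * f) * ((q + 1) ^ 2 * (q - 1)) := by
        calc p ^ (a + b) * (3 * (z * w)) = 3 * (p ^ a * z * (p ^ b * w)) := by ring
          _ = q ^ 3 * ((q + 1) ^ 2 * (q - 1)) := hxy
          _ = _ := by rw [hq, ← pow_mul, mul_comm f 3]
      obtain ⟨h1, h2⟩ := hsplit _ _ _ _ (fun h => (hp.dvd_mul.1 h).elim
        (fun h' => hp3 ((Nat.prime_dvd_prime_iff_eq hp Nat.prime_three).1 h'))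
        (fun h' => (hp.dvd_mul.1 h').elim hzp hwp)) hpD e
      exact ⟨h1.le, le_trans (Nat.le_mul_of_pos_left _ (by norm_num)) h2.le, fun _ => h2⟩
  obtain ⟨hab, hle, h3⟩ := hzw
  have hd' : d = 1 ∨ (d = 3 ∧ 3 ∣ q + 1) := hd.imp_left And.left
  rcases le_total z w with hl | hl
  · left
    exact part hp hq h7 h8 hdn hd' (by omega) (le_trans (Nat.mul_le_mul_left _ hl) hle)
      (fun hp3 => ⟨h3 hp3 ▸ Nat.mul_le_mul_left _ (Nat.mul_le_mul_left _ hl), h3 hp3 ▸ ⟨w, by ring⟩⟩) hx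
  · right
    exact part hp hq h7 h8 hdn hd' (by omega) (le_trans (Nat.mul_le_mul_right _ hl) hle)
      (fun hp3 => ⟨h3 hp3 ▸ Nat.mul_le_mul_left _ (Nat.mul_le_mul_right _ hl), h3 hp3 ▸ ⟨z, by ring⟩⟩) hy

end Cfsg.Agent.Classical.SUThree.Arith
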