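import Cfsg.Agent.Lib.Transfer.PSUThreeIndex.Main
import Cfsg.Agent.Lib.Classical.MaxUnitary

/-!
The group `GU ⊓ SL` as the image of `SU₃(q)`.
-/

set_option autoImplicit false
set_option linter.unusedSectionVars false

namespace Cfsg.Agent.Classical.SUThree

open Matrix MaxTv Cfsg.Agent.Classical.PSUAut

variable (F : Type*) [Field F] (q : ℕ)

/-- The embedding. -/
def toG : SU 3 F q →* GL (Fin 3) F := Matrix.SpecialLinearGroup.toGL.comp (SU 3 F q).subtype

variable {F} [Fintype F] {q}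

theorem toG_injective : Function.Injective (toG F q) :=
  fun _ _ h => Subtype.ext (Subtype.ext (congrArg Units.val h))

theorem range_toG : (toG F q).range = GU 3 F q ⊓ Geo.specialLinear (Fin 3) F := by
  ext g
  constructor
  · rintro ⟨A, rfl⟩
    exact ⟨mem_GU.2 A.2, MonoidHom.mem_ker.2 (Units.ext A.1.2)⟩
  · intro hg
    exact ⟨⟨⟨(g : Matrix (Fin 3) (Fin 3) F), (MonoidHom.mem_ker.trans Units.ext_iff).1 hg.2⟩, mem_GU.1 hg.1⟩,
      Units.ext rfl⟩

theorem card_comap {M : Subgroup (GL (Fin 3) F)} (hM : M ≤ GU 3 F q ⊓ Geo.specialLinear (Fin 3) F) :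
    Nat.card (M.comap (toG F q)) = Nat.card M := by
  conv_rhs => rw [← Subgroup.map_comap_eq_self (f := toG F q) (H := M) (hM.trans range_toG.ge)]
  exact Nat.card_congr (Subgroup.equivMapOfInjective _ _ toG_injective).toEquiv

variable (hF : Fintype.card F = q ^ 2)
include hF

theorem card_gusl : Nat.card (GU 3 F q ⊓ Geo.specialLinear (Fin 3) F : Subgroup (GL (Fin 3) F)) =
    q ^ 3 * (q ^ 3 + 1) * (q ^ 2 - 1) := by
  rw [← range_toG, ← UnitMult.natCard_SU3 hF]
  exact (Nat.card_congr (MonoidHom.ofInjective toG_injective).toEquiv).symm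

/-- A subgroup of index at most `q³` is everything. -/
theorem eq_of_big (hq : 3 ≤ q) (h5 : q ≠ 5) {M : Subgroup (GL (Fin 3) F)}
    (hM : M ≤ GU 3 F q ⊓ Geo.specialLinear (Fin 3) F)
    (h : (q ^ 3 + 1) * (q ^ 2 - 1) ≤ Nat.card M) : M = GU 3 F q ⊓ Geo.specialLinear (Fin 3) F := by
  obtain ⟨e, n, f, B⟩ := Lie.SUGen.exists_frame hF
  refine le_antisymm hM ?_
  rw [← range_toG, MonoidHom.range_eq_map]
  rw [← Transfer.U3Min.big_eq_top hF B hq h5 (H := M.comap (toG F q)) (by rwa [card_comap hM])]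
  exact Subgroup.map_comap_le _ _

end Cfsg.Agent.Classical.SUThree
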