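import Cfsg.Agent.Lib.Classical.SUThree.Subspace
import Cfsg.Agent.Lib.Classical.HermTotIsoLines

/-!
Three root groups with non-collinear centres give all of the three-dimensional special unitary group.
-/

set_option autoImplicit false
set_option linter.unusedSectionVars false

namespace Cfsg.Agent.Classical.SUThree

open Matrix Module MaxTv

variable {F : Type*} [Field F] [Fintype F] {q : ℕ} (hF : Fintype.card F = q ^ 2)

local notation "V" => (Fin 3 → F)
local notation "σ" => qEquiv hF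
local notation "h" => hermForm 3 F q

include hF

theorem hs3 : Herm σ h := herm_hermForm hF

/-- Orthogonal isotropic vectors are dependent. -/
theorem iso_orth {a b : Fin 3 → F} (ha0 : a ≠ 0) (ha : h a a = 0) (hb : h b b = 0) (hab : h a b = 0) :
    ∃ t : F, b = t • a := by
  have hs := hs3 hF
  by_contra hc
  push Not at hc
  obtain ⟨T, hT⟩ : ∃ T, T = Submodule.span F (Set.range ![a, b]) := ⟨_, rfl⟩
  have hli : LinearIndependent F ![a, b] := by
    rw [LinearIndependent.pair_iff' ha0]; exact fun t e => hc t e.symm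
  have hfin : finrank F T = 2 := by rw [hT, finrank_span_eq_card hli]; simp
  have hiso : ∀ v ∈ T, h v v = 0 := fun v hv => by
    rw [hT, Submodule.mem_span_range_iff_exists_fun] at hv
    obtain ⟨c, rfl⟩ := hv
    simp only [Fin.sum_univ_two, Matrix.cons_val_zero, Matrix.cons_val_one, hs.add_left, hs.add_right, hs.smul_left,
      hs.smul_right, ha, hb, hab, hs.refl _ _ hab, mul_zero, add_zero]
  have htop : NdS h (⊤ : Submodule F V) := fun w _ hw0 =>
    (hs.toSesq.exists_left hw0).imp fun x hx => ⟨trivial, hx⟩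
  have := hs.finrank_le_of_iso_in htop le_top hiso
  rw [hfin, finrank_top, Module.finrank_pi, Fintype.card_fin] at this
  omega

theorem herm_ne {a b : Fin 3 → F} (ha0 : a ≠ 0) (ha : h a a = 0) (hb : h b b = 0) (hab : ∀ t : F, b ≠ t • a) :
    h a b ≠ 0 := fun e => by
  obtain ⟨t, ht⟩ := iso_orth hF ha0 ha hb e
  exact hab t ht

variable {M : Subgroup (GL (Fin 3) F)}

/-- The isotropic points of a secant. -/
theorem chord {a b : Fin 3 → F} (ha : UPt σ h M a) (hb : UPt σ h M b) (haa : h a a = 0) (hbb : h b b = 0)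
    (hab : h a b ≠ 0) {α β : F} (hv : h (α • a + β • b) (α • a + β • b) = 0) : UPt σ h M (α • a + β • b) := by
  have hs := hs3 hF
  rcases eq_or_ne β 0 with rfl | hβ
  · rw [zero_smul, add_zero]; exact ha.smul hs α
  have hba : h b a ≠ 0 := fun e => hab (hs.refl _ _ e)
  obtain ⟨c, hc⟩ : ∃ c, c = α / β / h b a := ⟨_, rfl⟩
  have hcc : c + σ c = 0 := by
    rw [hs.add_left, hs.add_right, hs.add_right, hs.smul_left, hs.smul_left, hs.smul_left, hs.smul_left,
      hs.smul_right, hs.smul_right, hs.smul_right, hs.smul_right, haa, hbb, hs.herm a b] at hv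
    have hβ' : σ β ≠ 0 := fun e => hβ ((qEquiv hF).map_eq_zero_iff.1 e)
    have hba' : σ (h b a) ≠ 0 := fun e => hba ((qEquiv hF).map_eq_zero_iff.1 e)
    rw [hc, map_div₀, map_div₀]
    field_simp
    linear_combination hv
  have h1 := (hb.add_smul hs ha haa hcc).smul hs β
  rw [hc, div_mul_cancel₀ _ hba, smul_add, smul_smul, mul_div_cancel₀ _ hβ, add_comm] at h1
  exact h1

/-- The points of a secant other than the first centre. -/
theorem upt_pt {a b : Fin 3 → F} (ha : UPt σ h M a) (hb : UPt σ h M b) (haa : h a a = 0) {l : F} (hl : σ l = l)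
    {c : F} (hc : c + σ c = 0) : UPt σ h M (b + (l * c * h b a) • a) ∧
      (h b b = 0 → h (b + (l * c * h b a) • a) (b + (l * c * h b a) • a) = 0) := by
  have hs := hs3 hF
  have hlc : l * c + σ (l * c) = 0 := by rw [map_mul, hl]; linear_combination l * hc
  refine ⟨hb.add_smul hs ha haa hlc, fun hbb => ?_⟩
  rw [hs.add_left, hs.add_right, hs.add_right, hs.smul_left, hs.smul_right, hs.smul_left, hs.smul_right, haa, hbb,
    hs.herm a b, map_mul (qEquiv hF) (l * c)]
  linear_combination (h b a * σ (h b a)) * hlc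

theorem natCard_fix : Nat.card {x : F // σ x = x} = q := HermTotIsoLines.natCard_fixed hF

/-- Three root groups with non-collinear centres. -/
theorem guSL_le_of_three (hq : 3 ≤ q) {a b u : Fin 3 → F} (ha : UPt σ h M a) (hb : UPt σ h M b)
    (hu : UPt σ h M u) (haa : h a a = 0) (hbb : h b b = 0) (huu : h u u = 0)
    (hli : LinearIndependent F ![a, b, u]) : GU 3 F q ⊓ Geo.specialLinear (Fin 3) F ≤ M := by
  classical
  have hs := hs3 hF
  have hzero : ∀ x y z : F, x • a + y • b + z • u = 0 → x = 0 ∧ y = 0 ∧ z = 0 := fun x y z e => by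
    have := Fintype.linearIndependent_iff.1 hli ![x, y, z] (by simpa [Fin.sum_univ_three] using e)
    exact ⟨by simpa using this 0, by simpa using this 1, by simpa using this 2⟩
  have ha0 : a ≠ 0 := fun e => one_ne_zero (hzero 1 0 0 (by rw [e]; simp)).1
  have hu0 : u ≠ 0 := fun e => one_ne_zero (hzero 0 0 1 (by rw [e]; simp)).2.2
  have hab : h a b ≠ 0 := herm_ne hF ha0 haa hbb fun t e =>
    one_ne_zero (hzero (-t) 1 0 (by rw [e]; module)).2.1
  have hba : h b a ≠ 0 := fun e => hab (hs.refl _ _ e)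
  refine LinFour.guSL_le_three hF le_rfl (by omega) fun w hww => ?_
  rcases eq_or_ne w 0 with rfl | hw0
  · exact UPt.zero hs
  obtain ⟨c₀, hc0, hc₀⟩ := hs.exists_skew
  let Fx := {x : F // σ x = x}
  -- the points of the secant through the first two centres
  let p : Option Fx → V := fun o => o.elim a fun l => b + ((l : F) * c₀ * h b a) • a
  have hp : ∀ o, UPt σ h M (p o) ∧ h (p o) (p o) = 0 := by
    rintro (_ | ⟨l, hl⟩)
    · exact ⟨ha, haa⟩
    · obtain ⟨h1, h2⟩ := upt_pt hF ha hb haa hl hc₀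
      exact ⟨h1, h2 hbb⟩
  have hpu : ∀ o, h (p o) u ≠ 0 := by
    rintro (_ | ⟨l, hl⟩) e
    · obtain ⟨t, ht⟩ := iso_orth hF ha0 haa huu e
      exact one_ne_zero (hzero (-t) 0 1 (by rw [ht]; module)).2.2
    · obtain ⟨t, ht⟩ := iso_orth hF hu0 huu (hp (some ⟨l, hl⟩)).2 (hs.refl _ _ e)
      exact one_ne_zero (hzero (l * c₀ * h b a) 1 (-t) (by
        have ht' : b + (l * c₀ * h b a) • a = t • u := ht
        linear_combination (norm := module) ht')).2.1
  -- the points of the secants through the third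
  let P : Option Fx × Fx → V := fun x => p x.1 + ((x.2 : F) * c₀ * h (p x.1) u) • u
  have hP : ∀ x, UPt σ h M (P x) ∧ h (P x) (P x) = 0 := fun x => by
    obtain ⟨h1, h2⟩ := upt_pt hF hu (hp x.1).1 huu x.2.2 hc₀
    exact ⟨h1, h2 (hp x.1).2⟩
  have hPinj : ∀ x y : Option Fx × Fx, ∀ k : F, P x = k • P y → x = y := by
    rintro ⟨o, l, hl⟩ ⟨o', m, hm⟩ k e
    simp only [P] at e
    rcases o with _ | ⟨i, hi⟩ <;> rcases o' with _ | ⟨j, hj⟩ <;> simp only [p, Option.elim] at e
    · obtain ⟨e1, -, e3⟩ := hzero (1 - k) 0 (l * c₀ * h a u - k * (m * c₀ * h a u)) (by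
        linear_combination (norm := module) e)
      rw [← sub_eq_zero.1 e1, one_mul, ← sub_mul, ← sub_mul] at e3
      have hlm : l = m := sub_eq_zero.1 (((mul_eq_zero.1 e3).resolve_right (hpu none)) |> fun e4 =>
        (mul_eq_zero.1 e4).resolve_right hc0)
      subst hlm; rfl
    · obtain ⟨e1, e2, -⟩ := hzero (1 - k * (j * c₀ * h b a)) (-k)
        (l * c₀ * h a u - k * (m * c₀ * h (b + (j * c₀ * h b a) • a) u)) (by
        linear_combination (norm := module) e)
      rw [neg_eq_zero.1 e2, zero_mul, sub_zero] at e1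
      exact absurd e1 one_ne_zero
    · obtain ⟨-, e2, -⟩ := hzero (i * c₀ * h b a - k) 1
        (l * c₀ * h (b + (i * c₀ * h b a) • a) u - k * (m * c₀ * h a u)) (by
        linear_combination (norm := module) e)
      exact absurd e2 one_ne_zero
    · obtain ⟨e1, e2, e3⟩ := hzero (i * c₀ * h b a - k * (j * c₀ * h b a)) (1 - k)
        (l * c₀ * h (b + (i * c₀ * h b a) • a) u - k * (m * c₀ * h (b + (j * c₀ * h b a) • a) u)) (by
        linear_combination (norm := module) e)
      rw [← sub_eq_zero.1 e2, one_mul, ← sub_mul, ← sub_mul, mul_eq_zero, mul_eq_zero] at e1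
      have hij : i = j := sub_eq_zero.1 ((e1.resolve_right hba).resolve_right hc0)
      subst hij
      rw [← sub_eq_zero.1 e2, one_mul, ← sub_mul, ← sub_mul, mul_eq_zero, mul_eq_zero] at e3
      have hlm : l = m := sub_eq_zero.1 ((e3.resolve_right (hpu (some ⟨i, hi⟩))).resolve_right hc0)
      subst hlm; rfl
  by_cases hPw : ∃ x, h (P x) w = 0
  · obtain ⟨x, hx⟩ := hPw
    obtain ⟨t, ht⟩ := iso_orth hF (fun e0 => by
      have h0 : P x = (0 : F) • P ((x.1, ⟨x.2.1 + 1, by rw [map_add, x.2.2, map_one]⟩) : Option Fx × Fx) := by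
        rw [zero_smul, e0]
      have h1 := congrArg (fun y : Option Fx × Fx => (y.2 : F)) (hPinj _ _ _ h0)
      simp at h1) (hP x).2 hww hx
    rw [ht]; exact (hP x).1.smul hs t
  push Not at hPw
  -- the tangent at the new point
  obtain ⟨z, hz, hzz⟩ : ∃ z, h z w = 0 ∧ h z z ≠ 0 := by
    by_contra hc
    push Not at hc
    have htop : NdS h (⊤ : Submodule F V) := fun v _ hv0 =>
      (hs.toSesq.exists_left hv0).imp fun x hx => ⟨trivial, hx⟩
    have h1 := hs.finrank_le_of_iso_in htop (S := LinearMap.ker (hs.toSesq.lin w)) le_top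
      fun v hv => hc v (LinearMap.mem_ker.1 hv)
    have h2 := card_le_finrank_ker_add_one (hs.toSesq.lin w)
    rw [finrank_top, Module.finrank_pi] at h1
    rw [Fintype.card_fin] at h1 h2
    omega
  have hcard : Fintype.card F < Fintype.card (Option Fx × Fx) := by
    rw [Fintype.card_prod, Fintype.card_option, ← Nat.card_eq_fintype_card (α := Fx), natCard_fix hF, hF]
    nlinarith
  obtain ⟨x, y, hxy, e⟩ := Fintype.exists_ne_map_eq_of_card_lt (fun x => h (P x) z / h (P x) w) hcard
  obtain ⟨r, hr⟩ : ∃ r, r = h (P x) w / h (P y) w := ⟨_, rfl⟩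
  obtain ⟨d, hd⟩ : ∃ d, d = P x - r • P y := ⟨_, rfl⟩
  have hdw : h d w = 0 := by rw [hd, hs.toSesq.sub_left, hs.smul_left, hr, div_mul_cancel₀ _ (hPw y), sub_self]
  have hdz : h d z = 0 := by
    rw [hd, hs.toSesq.sub_left, hs.smul_left, hr]
    rw [div_eq_div_iff (hPw x) (hPw y)] at e
    rw [div_mul_eq_mul_div, sub_eq_zero, eq_div_iff (hPw y)]
    linear_combination e
  have hd0 : d ≠ 0 := fun e0 => hxy (hPinj x y r (sub_eq_zero.1 (hd ▸ e0)))
  have hli2 : LinearIndependent F ![w, z] := by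
    rw [LinearIndependent.pair_iff' hw0]
    exact fun t et => hzz (by rw [← et, hs.smul_left, hs.smul_right, hww, mul_zero, mul_zero])
  have hspan : Submodule.span F (Set.range ![w, z]) = LinearMap.ker (hs.toSesq.lin w) := by
    refine Submodule.eq_of_le_of_finrank_le (Submodule.span_le.2 ?_) ?_
    · rintro _ ⟨i, rfl⟩; fin_cases i
      exacts [LinearMap.mem_ker.2 hww, LinearMap.mem_ker.2 hz]
    · obtain ⟨v, hv⟩ := hs.toSesq.exists_left hw0
      have := Submodule.finrank_lt (s := LinearMap.ker (hs.toSesq.lin w)) (fun e => hv (LinearMap.mem_ker.1 (e ▸ Submodule.mem_top)))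
      rw [finrank_fin_fun] at this
      rw [finrank_span_eq_card hli2, Fintype.card_fin]
      omega
  have hdmem : d ∈ Submodule.span F (Set.range ![w, z]) := hspan ▸ LinearMap.mem_ker.2 hdw
  rw [Submodule.mem_span_range_iff_exists_fun] at hdmem
  obtain ⟨cf, hcf⟩ := hdmem
  simp only [Fin.sum_univ_two, Matrix.cons_val_zero, Matrix.cons_val_one] at hcf
  have h1 : cf 1 = 0 := by
    have h2 := hdz
    rw [← hcf, hs.add_left, hs.smul_left, hs.smul_left, hs.refl _ _ hz, mul_zero, zero_add] at h2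
    exact (mul_eq_zero.1 h2).resolve_right hzz
  rw [h1, zero_smul, add_zero] at hcf
  have hk0 : cf 0 ≠ 0 := fun e0 => hd0 (by rw [← hcf, e0, zero_smul])
  have hw_eq : w = (cf 0)⁻¹ • P x + (-((cf 0)⁻¹ * r)) • P y := by
    rw [← inv_smul_smul₀ hk0 w, hcf, hd]; module
  have hPxy : h (P x) (P y) ≠ 0 := fun e0 => by
    obtain ⟨t, ht⟩ := iso_orth hF (fun e1 => hPw x (by rw [e1, hs.toSesq.zero_left])) (hP x).2 (hP y).2 e0
    exact hxy (hPinj y x t ht).symm
  rw [hw_eq] at hww ⊢
  exact chord hF (hP x).1 (hP y).1 (hP x).2 (hP y).2 hPxy hww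

/-- An irreducible group with a full root group. -/
theorem guSL_le_of_irr (hq : 3 ≤ q)
    (hiso : ∀ g ∈ M, ∀ x y : V, h ((g : Matrix (Fin 3) (Fin 3) F) *ᵥ x) ((g : Matrix (Fin 3) (Fin 3) F) *ᵥ y) = h x y)
    (hirr : Geo.ActsIrreducibly (Geo.matrixSet M)) {a : Fin 3 → F} (ha0 : a ≠ 0) (haa : h a a = 0)
    (ha : UPt σ h M a) : GU 3 F q ⊓ Geo.specialLinear (Fin 3) F ≤ M := by
  classical
  have hs := hs3 hF
  obtain ⟨S, hS⟩ : ∃ S, S = Submodule.span F
      (Set.range fun g : M => ((g : GL (Fin 3) F) : Matrix (Fin 3) (Fin 3) F) *ᵥ a) := ⟨_, rfl⟩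
  have htop : S = ⊤ := (hirr S fun s hs' => by
    obtain ⟨k, hk, rfl⟩ := hs'
    rw [hS, Submodule.map_span, Submodule.span_le]
    rintro _ ⟨_, ⟨g, rfl⟩, rfl⟩
    refine Submodule.subset_span ⟨⟨k * g, mul_mem hk g.2⟩, ?_⟩
    simp [Matrix.mulVec_mulVec]).resolve_left fun e => ha0 ((Submodule.eq_bot_iff _).1 e a (hS ▸
      Submodule.subset_span ⟨1, by simp⟩))
  obtain ⟨g, hg⟩ : ∃ g : M, ∀ t : F, ((g : GL (Fin 3) F) : Matrix (Fin 3) (Fin 3) F) *ᵥ a ≠ t • a := by
    by_contra hc
    push Not at hc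
    have : S ≤ F ∙ a := hS ▸ Submodule.span_le.2 (by
      rintro _ ⟨g, rfl⟩
      obtain ⟨t, ht⟩ := hc g
      exact Submodule.mem_span_singleton.2 ⟨t, ht.symm⟩)
    have h1 := Submodule.finrank_mono this
    rw [htop, finrank_top, finrank_fin_fun, finrank_span_singleton ha0] at h1
    omega
  obtain ⟨b, hb⟩ : ∃ b, b = ((g : GL (Fin 3) F) : Matrix (Fin 3) (Fin 3) F) *ᵥ a := ⟨_, rfl⟩
  obtain ⟨k, hk⟩ : ∃ k : M, ((k : GL (Fin 3) F) : Matrix (Fin 3) (Fin 3) F) *ᵥ a ∉
      Submodule.span F (Set.range ![a, b]) := by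
    by_contra hc
    push Not at hc
    have h1 := Submodule.finrank_mono (show S ≤ _ from hS ▸ Submodule.span_le.2 (by
      rintro _ ⟨k, rfl⟩; exact hc k))
    have h2 := (Submodule.finrank_mono (le_refl (Submodule.span F (Set.range ![a, b])))).trans
      (finrank_range_le_card (R := F) ![a, b])
    rw [htop, finrank_top, finrank_fin_fun] at h1
    rw [Fintype.card_fin] at h2
    omega
  have hli2 : LinearIndependent F ![a, b] := by
    rw [LinearIndependent.pair_iff' ha0]; exact fun t e => hg t (hb.symm.trans e.symm)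
  have hb' : UPt σ h M b := hb ▸ ha.map hs g.2 (hiso _ g.2)
  refine guSL_le_of_three hF hq ha hb' (ha.map hs k.2 (hiso _ k.2)) haa (by rw [hb, hiso _ g.2, haa])
    (by rw [hiso _ k.2, haa]) ?_
  rw [Fintype.linearIndependent_iff]
  intro c hc
  simp only [Fin.sum_univ_three, Matrix.cons_val_zero, Matrix.cons_val_one, Matrix.cons_val_two, Matrix.tail_cons,
    Matrix.head_cons] at hc
  have h2 : c 2 = 0 := by
    by_contra h2
    refine hk (Submodule.mem_span_range_iff_exists_fun F |>.2 ⟨![-(c 0 / c 2), -(c 1 / c 2)], ?_⟩)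
    have h3 := congrArg ((c 2)⁻¹ • ·) hc
    simp only [smul_zero, smul_add, smul_smul, inv_mul_cancel₀ h2, one_smul] at h3
    simp only [Fin.sum_univ_two, Matrix.cons_val_zero, Matrix.cons_val_one]
    linear_combination (norm := module) -h3
  rw [h2, zero_smul, add_zero] at hc
  obtain ⟨h0, h1⟩ := LinearIndependent.pair_iff.1 hli2 _ _ hc
  intro i; fin_cases i <;> assumption

end Cfsg.Agent.Classical.SUThree
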