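import Cfsg.Agent.Lib.Classical.SUThree.Geometric
import Cfsg.Agent.Lib.Classical.SUThree.Full
import Cfsg.Agent.Lib.Classical.MaxUnitSubfield
import Cfsg.Agent.Lib.Classical.FieldExtNormalizer
import Cfsg.Agent.Lib.Invol.ZStar
import Cfsg.Agent.Lib.Grp.Cores
import Cfsg.Agent.S0205

/-!
Irreducible groups with a transvection that is alone at its centre, in characteristic two.
-/

set_option autoImplicit false
set_option linter.unusedSectionVars false

namespace Cfsg.Agent.Classical.SUThree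

open Matrix Module MaxTv

section Trace

variable {F : Type*} [Field F] {ι : Type} [Fintype ι] [DecidableEq ι] {σ : F ≃+* F}
  {f : (ι → F) → (ι → F) → F}

/-- The trace of a product of two transvections. -/
theorem trace_mul_tv (hs : Herm σ f) {a b : ι → F} (ha : f a a = 0) (hb : f b b = 0) {c d : F} {T S : GL ι F}
    (hT : ∀ x, (T : Matrix ι ι F) *ᵥ x = x + (c * f x a) • a)
    (hS : ∀ x, (S : Matrix ι ι F) *ᵥ x = x + (d * f x b) • b) :
    ((T * S : GL ι F) : Matrix ι ι F).trace = Fintype.card ι + c * d * (f a b * σ (f a b)) := by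
  have hsum : ∀ u w : ι → F, f u w = ∑ i, u i * f (Pi.single i 1) w := fun u w => by
    rw [← hs.toSesq.lin_apply, LinearMap.pi_apply_eq_sum_univ (hs.toSesq.lin w) u]
    refine Finset.sum_congr rfl fun i _ => ?_
    rw [smul_eq_mul, hs.toSesq.lin_apply]
    congr 2
    funext j
    rw [Pi.single_apply]
    exact if_congr eq_comm rfl rfl
  have hentry : ∀ i, ((T * S : GL ι F) : Matrix ι ι F) i i = 1 + c * (a i * f (Pi.single i 1) a) +
      d * (b i * f (Pi.single i 1) b) + c * d * f b a * (a i * f (Pi.single i 1) b) := fun i => by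
    have hcalc : ((T * S : GL ι F) : Matrix ι ι F) *ᵥ Pi.single i 1 = Pi.single i 1 +
        (d * f (Pi.single i 1) b) • b + (c * (f (Pi.single i 1) a + d * f (Pi.single i 1) b * f b a)) • a := by
      rw [Units.val_mul, ← Matrix.mulVec_mulVec, hS, hT, hs.add_left, hs.smul_left]
    have h1 := congrFun hcalc i
    simp [Matrix.mulVec_single_one] at h1
    rw [Units.val_mul, h1]; ring
  rw [Matrix.trace]
  simp only [Matrix.diag_apply, hentry, Finset.sum_add_distrib, ← Finset.mul_sum, ← hsum, ha, hb, mul_zero, add_zero,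
    Finset.sum_const, Finset.card_univ, nsmul_eq_mul, mul_one]
  rw [hs.herm b a]
  ring

/-- Two involutory transvections in a subfield subgroup. -/
theorem subfield_trace [Finite F] [Nonempty ι] (hs : Herm σ f) (h2 : (2 : F) = 0) {a b : ι → F} (ha : f a a = 0)
    (hb : f b b = 0) {c d : F} {T S : GL ι F} (hT : ∀ x, (T : Matrix ι ι F) *ᵥ x = x + (c * f x a) • a)
    (hS : ∀ x, (S : Matrix ι ι F) *ᵥ x = x + (d * f x b) • b) {F₁ : Subfield F} {P : GL ι F}
    (hTm : T ∈ Geo.subfieldSubgroup F₁ P) (hSm : S ∈ Geo.subfieldSubgroup F₁ P) :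
    c * d * (f a b * σ (f a b)) ∈ F₁ := by
  classical
  have hsq : ∀ {R : GL ι F} {e : F} {w : ι → F}, f w w = 0 →
      (∀ x, (R : Matrix ι ι F) *ᵥ x = x + (e * f x w) • w) → R * R = 1 := fun {R e w} hw hR => by
    refine Units.ext (Matrix.ext_iff_mulVec.2 fun x => ?_)
    rw [Units.val_mul, ← Matrix.mulVec_mulVec, hR, hR, hs.add_left, hs.smul_left, hw, mul_zero, add_zero,
      Units.val_one, Matrix.one_mulVec, add_assoc, ← add_smul,
      show e * f x w + e * f x w = 2 * (e * f x w) by ring, h2, zero_mul, zero_smul, add_zero]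
  have hTr := ratMap_of_involution_two h2 hTm (hsq ha hT)
  have hSr := ratMap_of_involution_two h2 hSm (hsq hb hS)
  obtain ⟨R, hR⟩ : ∃ R, R = T * S := ⟨_, rfl⟩
  have hRr : RatMap F₁ P R := fun x hx => by
    rw [hR, Units.val_mul, ← Matrix.mulVec_mulVec]; exact hTr _ (hSr _ hx)
  have hmem : ((((P⁻¹ : GL ι F) : Matrix ι ι F) * (R : Matrix ι ι F) * (P : Matrix ι ι F)).trace) ∈ F₁ := by
    rw [Matrix.trace]
    refine sum_mem fun i _ => ?_
    have h1 := hRr _ (rat_single (F₀ := F₁) (P := P) i) i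
    rw [Matrix.mulVec_mulVec, Matrix.mulVec_mulVec, Matrix.mulVec_single_one] at h1
    exact h1
  rw [Matrix.trace_units_conj', hR, trace_mul_tv hs ha hb hT hS] at hmem
  simpa using sub_mem hmem (natCast_mem F₁ (Fintype.card ι))

end Trace

variable {F : Type*} [Field F] [Fintype F] {q : ℕ} (hF : Fintype.card F = q ^ 2)

local notation "V" => (Fin 3 → F)
local notation "M₃" => Matrix (Fin 3) (Fin 3) F
local notation "σ" => qEquiv hF
local notation "h" => hermForm 3 F q

include hF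

theorem even_cases (hq : 3 ≤ q) (h2 : (2 : F) = 0) {M : Subgroup (GL (Fin 3) F)}
    (hM : M ≤ GU 3 F q ⊓ Geo.specialLinear (Fin 3) F) (hirr : Geo.ActsIrreducibly (Geo.matrixSet M))
    {y : V} (hy0 : y ≠ 0) (hyy : h y y = 0) {c : F} (hc0 : c ≠ 0) (hc : c + σ c = 0)
    (ht : InN M (qDisp h y c)) (huniq : ∀ d, d + σ d = 0 → InN M (qDisp h y d) → d = 0 ∨ d = c) :
    (∃ D : Fin 3 → Submodule F V, Geo.IsNondegenerateMDecomposition h 1 D ∧
      M ≤ Geo.decompositionStabilizer D) ∨
    (∃ (F₁ : Subfield F) (r : ℕ) (P : GL (Fin 3) F), r.Prime ∧ Odd r ∧ Fintype.card F = Nat.card F₁ ^ r ∧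
      M ≤ Geo.subfieldSubgroup F₁ P) := by
  classical
  have hs := hs3 hF
  have hiso : ∀ g ∈ M, ∀ x z : V, h ((g : M₃) *ᵥ x) ((g : M₃) *ᵥ z) = h x z := fun g hg => mem_GU.1 (hM hg).1
  obtain ⟨t, htM, htx⟩ := ht
  have htx' : ∀ x, (t : M₃) *ᵥ x = x + (c * h x y) • y := htx
  have htt : t * t = 1 := by
    refine Units.ext (Matrix.ext_iff_mulVec.2 fun x => ?_)
    rw [Units.val_mul, ← Matrix.mulVec_mulVec, htx', htx', hs.add_left, hs.smul_left, hyy, mul_zero, add_zero,
      Units.val_one, Matrix.one_mulVec, add_assoc, ← add_smul,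
      show c * h x y + c * h x y = 2 * (c * h x y) by ring, h2, zero_mul, zero_smul, add_zero]
  have ht1 : t ≠ 1 := fun e => by
    obtain ⟨z, hz⟩ := hs.toSesq.exists_left hy0
    have h1 := htx' z
    rw [e, Units.val_one, Matrix.one_mulVec] at h1
    exact smul_ne_zero (mul_ne_zero hc0 hz) hy0 (by linear_combination (norm := module) -h1)
  have hconj : ∀ g ∈ M, ∀ x, ((g * t * g⁻¹ : GL (Fin 3) F) : M₃) *ᵥ x =
      x + (c * h x ((g : M₃) *ᵥ y)) • ((g : M₃) *ᵥ y) := fun g hg x => by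
    rw [Units.val_mul, Units.val_mul, ← Matrix.mulVec_mulVec, ← Matrix.mulVec_mulVec, htx', Matrix.mulVec_add,
      Matrix.mulVec_smul, mulVec_inv_cancel]
    congr 2
    rw [← hiso g hg (((g⁻¹ : GL (Fin 3) F) : M₃) *ᵥ x) y, mulVec_inv_cancel]
  have hline : ∀ g ∈ M, Commute t (g * t * g⁻¹) → ∃ k : F, (g : M₃) *ᵥ y = k • y := fun g hg hcm => by
    obtain ⟨u, hu⟩ : ∃ u, u = (g : M₃) *ᵥ y := ⟨_, rfl⟩
    have huu : h u u = 0 := by rw [hu, hiso g hg, hyy]
    have hu0 : u ≠ 0 := fun e => hy0 (gl_mulVec_injective g (by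
      show (g : M₃) *ᵥ y = (g : M₃) *ᵥ 0
      rw [← hu, e, Matrix.mulVec_zero]))
    rw [← hu]
    by_cases huy : h y u = 0
    · exact iso_orth hF hy0 hyy huu huy
    exfalso
    have h1 : (t : M₃) *ᵥ (((g * t * g⁻¹ : GL (Fin 3) F) : M₃) *ᵥ u) =
        ((g * t * g⁻¹ : GL (Fin 3) F) : M₃) *ᵥ ((t : M₃) *ᵥ u) := by
      rw [Matrix.mulVec_mulVec, Matrix.mulVec_mulVec, ← Units.val_mul, ← Units.val_mul, hcm.eq]
    rw [hconj g hg, ← hu, huu, mul_zero, zero_smul, add_zero, hconj g hg, ← hu, htx'] at h1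
    simp only [hs.add_left, hs.smul_left, huu, mul_zero, zero_add] at h1
    have h4 : (c * (c * h u y * h y u)) • u = 0 := by linear_combination (norm := module) -h1
    have huy' : h u y ≠ 0 := fun e => huy (hs.refl _ _ e)
    exact smul_ne_zero (mul_ne_zero hc0 (mul_ne_zero (mul_ne_zero hc0 huy') huy)) hu0 h4
  have hisol : IsIsolatedInvolution (⟨t, htM⟩ : M) := by
    refine ⟨orderOf_eq_prime (by rw [pow_two]; exact Subtype.ext htt) fun e => ht1 (congrArg Subtype.val e),
      fun g hcm => ?_⟩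
    have hcm' : Commute t ((g : GL (Fin 3) F) * t * (g : GL (Fin 3) F)⁻¹) := congrArg Subtype.val hcm.eq
    obtain ⟨k, hk⟩ := hline _ g.2 hcm'
    refine Subtype.ext ?_
    show (g : GL (Fin 3) F) * t * (g : GL (Fin 3) F)⁻¹ = t
    have hkc : k * σ k * c + σ (k * σ k * c) = 0 := by
      rw [map_mul, map_mul, hs.invol]; linear_combination (k * σ k) * hc
    have hform : ∀ x, ((((g : GL (Fin 3) F) * t * (g : GL (Fin 3) F)⁻¹) : GL (Fin 3) F) : M₃) *ᵥ x =
        x + qDisp h y (k * σ k * c) x := fun x => by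
      rw [hconj _ g.2, hk, hs.smul_right, qDisp, smul_smul]
      congr 2
      ring
    rcases huniq _ hkc ⟨_, mul_mem (mul_mem g.2 htM) (inv_mem g.2), hform⟩ with e | e
    · exfalso
      refine ht1 (conj_eq_one_iff.1 (Units.ext (Matrix.ext_iff_mulVec.2 fun x => ?_) :
        (g : GL (Fin 3) F) * t * (g : GL (Fin 3) F)⁻¹ = 1))
      rw [hform, e]
      simp [qDisp]
    · refine Units.ext (Matrix.ext_iff_mulVec.2 fun x => ?_)
      rw [hform, e, htx']
      rfl
  obtain ⟨g, hgM, hg⟩ : ∃ g ∈ M, ∀ k : F, (g : M₃) *ᵥ y ≠ k • y := by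
    by_contra hcon
    push Not at hcon
    rcases hirr (F ∙ y) (by
      rintro _ ⟨k, hk, rfl⟩
      rw [Submodule.map_span, Set.image_singleton, Submodule.span_singleton_le_iff_mem]
      obtain ⟨a, ha⟩ := hcon k hk
      exact Submodule.mem_span_singleton.2 ⟨a, ha.symm⟩) with e | e
    · exact hy0 ((Submodule.span_singleton_eq_bot).1 e)
    · have := finrank_span_singleton (K := F) hy0
      rw [e, finrank_top, Module.finrank_fin_fun] at this
      omega
  obtain ⟨O, hO⟩ : ∃ O, O = (pPrimeCore 2 M).map M.subtype := ⟨_, rfl⟩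
  have hOM : O ≤ M := by rw [hO]; rintro _ ⟨z, -, rfl⟩; exact z.2
  have hnorm : ∀ k ∈ M, ∀ x ∈ O, k * x * k⁻¹ ∈ O := by
    intro k hk x hx
    rw [hO] at hx ⊢
    obtain ⟨z, hz, rfl⟩ := hx
    exact ⟨⟨k, hk⟩ * z * ⟨k, hk⟩⁻¹, (inferInstance : (pPrimeCore 2 M).Normal).conj_mem z hz _, rfl⟩
  have hsol : Group.IsSolvable O := by
    refine S0205.result ?_
    rw [hO, Subgroup.card_map_of_injective M.subtype_injective]
    exact Nat.coprime_two_right.1 Grp.pPrimeCore_coprime
  have hns : ¬ O ≤ Geo.scalars (Fin 3) F := fun hle => by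
    have hmem := Cfsg.Agent.ZStar.commutator_mem_oddCore (Nat.card M) M rfl _ hisol ⟨g, hgM⟩
    have h1 := hle (hO ▸ Subgroup.mem_map_of_mem M.subtype hmem)
    have htinv : t⁻¹ = t := inv_eq_of_mul_eq_one_right htt
    obtain ⟨s, hs'⟩ := (Geo.mem_scalars_iff _).1 h1
    have h1' : t * g * t * g⁻¹ ∈ Geo.scalars (Fin 3) F := by
      simpa [htinv] using h1
    obtain ⟨s, hs'⟩ := (Geo.mem_scalars_iff _).1 h1'
    have hcomm : Commute t (t * g * t * g⁻¹) := Units.ext (by
      rw [Units.val_mul, Units.val_mul (t * g * t * g⁻¹) t, hs', Matrix.mul_smul, Matrix.smul_mul, mul_one, one_mul])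
    have hcm : Commute t (g * t * g⁻¹) := by
      have h4 : g * t * g⁻¹ = t * (t * g * t * g⁻¹) := by
        simp only [← mul_assoc, htt, one_mul]
      rw [h4]; exact (Commute.refl t).mul_right hcomm
    obtain ⟨k, hk⟩ := hline g hgM hcm
    exact hg k hk
  rcases geometric_cases hF (hM.trans inf_le_left) hirr hOM hnorm hsol hns with hD | ⟨F₁, r, P, h1, h3, h4, -, h5⟩ |
    ⟨F₁, P, hodd, -⟩ | ⟨R, hp, -⟩ | ⟨K, hK, -, hle⟩
  · exact Or.inl hD
  · exact Or.inr ⟨F₁, r, P, h1, h3, h4, h5⟩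
  · exfalso
    have : CharP F 2 := CharTwo.of_one_ne_zero_of_two_eq_zero one_ne_zero h2
    have hev := FiniteField.even_card_of_char_two (ringChar.eq F 2)
    rw [hF, Nat.pow_mod] at hev
    rw [Nat.odd_iff.1 hodd] at hev
    norm_num at hev
  · exfalso
    have : CharP F 2 := CharTwo.of_one_ne_zero_of_two_eq_zero one_ne_zero h2
    have hev := FiniteField.even_card_of_char_two (ringChar.eq F 2)
    rw [hF, Nat.pow_mod] at hev
    rcases hp.eq_two_or_odd with e | e
    · omega
    · rw [e] at hev; norm_num at hev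
  · exfalso
    have hcom := FieldExtNormalizer.comm_of_pow hK Nat.prime_three Nat.prime_two (by decide) (hle htM) (z := (1 : F))
      (by rw [pow_two, htt, one_smul, Units.val_one])
    let ev : K →ₗ[F] V :=
      { toFun := fun a => (a : M₃) *ᵥ y
        map_add' := fun a b => by simp [Matrix.add_mulVec]
        map_smul' := fun k a => by simp [Matrix.smul_mulVec] }
    obtain ⟨z, hz⟩ := hs.toSesq.exists_left hy0
    have hinto : ∀ a : K, ev a ∈ F ∙ y := fun a => by
      have h1 := congrArg (fun A : M₃ => A *ᵥ z) (hcom a a.2)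
      simp only [← Matrix.mulVec_mulVec, htx', Matrix.mulVec_add, Matrix.mulVec_smul] at h1
      have h3 : (c * h z y) • ev a = (c * h ((a : M₃) *ᵥ z) y) • y := by
        show (c * h z y) • ((a : M₃) *ᵥ y) = _
        linear_combination (norm := module) -h1
      refine Submodule.mem_span_singleton.2 ⟨(c * h z y)⁻¹ * (c * h ((a : M₃) *ᵥ z) y), ?_⟩
      rw [mul_smul, ← h3, smul_smul, inv_mul_cancel₀ (mul_ne_zero hc0 hz), one_smul]
    have hinj : Function.Injective (ev.codRestrict (F ∙ y) hinto) := by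
      rw [injective_iff_map_eq_zero]
      intro a ha
      by_contra ha0
      obtain ⟨b, -, hb⟩ := hK.inv (a : M₃) a.2 fun e => ha0 (Subtype.ext e)
      refine hy0 ?_
      have h1 : (a : M₃) *ᵥ y = 0 := congrArg Subtype.val ha
      have hb' : b * (a : M₃) = 1 := mul_eq_one_comm.1 hb
      rw [← Matrix.one_mulVec y, ← hb', ← Matrix.mulVec_mulVec, h1, Matrix.mulVec_zero]
    have h1 := LinearMap.finrank_le_finrank_of_injective hinj
    rw [finrank_span_singleton hy0, hK.finrank_eq] at h1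
    omega

end Cfsg.Agent.Classical.SUThree
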