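import Mathlib

/-!
A large set in a finite field contains a generator.
-/

set_option autoImplicit false

namespace Cfsg.Agent.Classical.SUThree

open Finset

variable {K : Type*} [Field K] [Fintype K]

theorem exists_gen {p f : ℕ} (hp : p.Prime) (hK : Fintype.card K = p ^ f) (S : Finset K) (h0 : (0 : K) ∉ S)
    (hS : ∑ j ∈ range (f / 2 + 1), (p ^ j - 1) < S.card) : ∃ x ∈ S, Subfield.closure ({x} : Set K) = ⊤ := by
  classical
  by_contra hcon
  push Not at hcon
  have hsub : S ⊆ (range (f / 2 + 1)).biUnion fun j => (Polynomial.nthRoots (p ^ j - 1) (1 : K)).toFinset := by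
    intro x hx
    obtain ⟨L, hL⟩ : ∃ L, L = Subfield.closure ({x} : Set K) := ⟨_, rfl⟩
    have : Fintype L := Fintype.ofFinite _
    have hx0 : x ≠ 0 := fun e => h0 (e ▸ hx)
    have hxL : x ∈ L := hL ▸ Subfield.subset_closure rfl
    have hd : Nat.card K = Nat.card L ^ Module.finrank L K := Module.natCard_eq_pow_finrank
    rw [Nat.card_eq_fintype_card, Nat.card_eq_fintype_card, hK] at hd
    have hdvd : Fintype.card L ∣ p ^ f := hd ▸ dvd_pow_self _ Module.finrank_pos.ne'
    obtain ⟨j, -, hj⟩ := (Nat.dvd_prime_pow hp).1 hdvd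
    rw [hj, ← pow_mul] at hd
    have hf : f = j * Module.finrank L K := Nat.pow_right_injective hp.two_le hd
    have h2 : 2 ≤ Module.finrank L K := by
      have h1 := Module.finrank_pos (R := L) (M := K)
      by_contra hlt
      have he : Module.finrank L K = 1 := by omega
      refine hcon x hx (hL ▸ eq_top_iff.2 fun y _ => ?_)
      by_contra hy
      have hlt2 : Fintype.card L < Fintype.card K :=
        Fintype.card_lt_of_injective_of_notMem (fun z : L => (z : K)) Subtype.val_injective (b := y)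
          (by rintro ⟨z, rfl⟩; exact hy z.2)
      rw [hK, hj, hf, he, mul_one] at hlt2
      exact lt_irrefl _ hlt2
    have hjf : j ≤ f / 2 := by
      rw [Nat.le_div_iff_mul_le two_pos, hf]
      exact Nat.mul_le_mul_left j h2
    refine mem_biUnion.2 ⟨j, mem_range.2 (by omega), Multiset.mem_toFinset.2 ?_⟩
    have h1 : 1 < Fintype.card L := Fintype.one_lt_card
    rw [hj] at h1
    rw [Polynomial.mem_nthRoots (by omega)]
    have h3 := FiniteField.pow_card_sub_one_eq_one (⟨x, hxL⟩ : L) fun e => hx0 (congrArg Subtype.val e)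
    rw [hj] at h3
    exact congrArg Subtype.val h3
  have h1 := (card_le_card hsub).trans (card_biUnion_le.trans (sum_le_sum (g := fun j => p ^ j - 1) fun j _ =>
    (Multiset.toFinset_card_le _).trans (Polynomial.card_nthRoots _ _)))
  omega

/-- The small subfields are few. -/
theorem four_mul_sum_lt {p f : ℕ} (hp : p.Prime) (hp2 : p ≠ 2) (hq : 7 ≤ p ^ f) (h9 : p ^ f ≠ 9) :
    4 * ∑ j ∈ range (f / 2 + 1), (p ^ j - 1) < p ^ f - 1 := by
  have h3 : 3 ≤ p := by have := hp.two_le; omega
  have hsum : ∀ m, 2 * ∑ j ∈ range (m + 1), (p ^ j - 1) ≤ 3 * (p ^ m - 1) := by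
    intro m
    induction m with
    | zero => simp
    | succ m ih =>
      rw [sum_range_succ, mul_add]
      have h1 : 3 * p ^ m ≤ p ^ (m + 1) := by rw [pow_succ']; exact Nat.mul_le_mul_right _ h3
      omega
  obtain ⟨m, hm⟩ : ∃ m, m = f / 2 := ⟨_, rfl⟩
  have hs := hsum m
  rw [← hm]
  obtain ⟨a, ha⟩ : ∃ a, a = p ^ m := ⟨_, rfl⟩
  rw [← ha] at hs
  have ha1 : 1 ≤ a := ha ▸ Nat.one_le_pow _ _ hp.pos
  have hle : a * a ≤ p ^ f := by
    rw [ha, ← pow_add]; exact Nat.pow_le_pow_right hp.pos (by omega)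
  rcases Nat.lt_or_ge a 6 with h6 | h6
  · rcases Nat.eq_zero_or_pos m with e | e
    · subst e
      simp at ha ⊢
      omega
    rcases Nat.lt_or_ge m 2 with h2 | h2
    · obtain rfl : m = 1 := by omega
      rw [sum_range_succ, sum_range_succ, sum_range_zero, pow_zero, pow_one]
      rw [pow_one] at ha
      subst ha
      have hf23 : f = 2 ∨ f = 3 := by omega
      have hp5 : a = 3 ∨ a = 4 ∨ a = 5 := by omega
      rcases hp5 with rfl | rfl | rfl
      · rcases hf23 with rfl | rfl <;> norm_num at *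
      · norm_num at hp
      · rcases hf23 with rfl | rfl <;> norm_num
    · have : 3 ^ 2 ≤ p ^ m := (Nat.pow_le_pow_left h3 2).trans (Nat.pow_le_pow_right hp.pos h2)
      omega
  · have h66 : 6 * a ≤ a * a := Nat.mul_le_mul_right a h6
    omega

end Cfsg.Agent.Classical.SUThree
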