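import Cfsg.Agent.Lib.Classical.AschUnitShape
import Cfsg.Agent.Lib.Classical.AschUnitThree

/-!
Irreducible subgroups of a three-dimensional unitary group with a non-central solvable normal subgroup.
-/

set_option autoImplicit false
set_option linter.unusedSectionVars false

namespace Cfsg.Agent.Classical.SUThree

open Cfsg.Agent.Classical.Asch Module

variable {F : Type*} [Field F]

/-- The residual class has no non-central solvable normal subgroups. -/
theorem le_scalars_of_residual {ι : Type} [Fintype ι] [DecidableEq ι] {H P N : Subgroup (GL ι F)}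
    (hP : Geo.IsResidualCore H P) (hN : N ≤ H) (hnorm : ∀ h ∈ H, ∀ x ∈ N, h * x * h⁻¹ ∈ N)
    (hsol : Group.IsSolvable N) : N ≤ Geo.scalars ι F := by
  classical
  haveI := hP.simple
  haveI : ((N ⊓ P).subgroupOf P).Normal := ⟨fun x hx g => by
    rw [Subgroup.mem_subgroupOf] at hx ⊢
    exact ⟨hnorm _ (hP.le g.2) _ hx.1, P.mul_mem (P.mul_mem g.2 x.2) (P.inv_mem g.2)⟩⟩
  haveI : Group.IsSolvable ((N ⊓ P).subgroupOf P) := by
    haveI := hsol
    let φ : (N ⊓ P).subgroupOf P →* N :=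
      (Subgroup.inclusion (inf_le_left : N ⊓ P ≤ N)).comp
        (Subgroup.subgroupOfEquivOfLe (inf_le_right : N ⊓ P ≤ P)).toMonoidHom
    exact solvable_of_solvable_injective (f := φ)
      ((Subgroup.inclusion_injective inf_le_left).comp (Subgroup.subgroupOfEquivOfLe inf_le_right).injective)
  obtain ⟨I, hI⟩ : ∃ I, I = ((N ⊓ P).subgroupOf P).map (QuotientGroup.mk' ((Geo.scalars ι F).subgroupOf P)) :=
    ⟨_, rfl⟩
  haveI : I.Normal := hI ▸ Subgroup.Normal.map inferInstance _ (QuotientGroup.mk'_surjective _)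
  have hIsol : Group.IsSolvable I := hI ▸ solvable_of_surjective
    (f := (QuotientGroup.mk' ((Geo.scalars ι F).subgroupOf P)).subgroupMap _) (MonoidHom.subgroupMap_surjective _ _)
  rcases IsSimpleGroup.eq_bot_or_eq_top_of_normal I inferInstance with h | h
  · intro n hn
    refine hP.centralizer_scalar n (hN hn) fun x hx => ?_
    have hm : n * x * n⁻¹ * x⁻¹ ∈ N ⊓ P := ⟨by
      rw [show n * x * n⁻¹ * x⁻¹ = n * (x * n⁻¹ * x⁻¹) by group]
      exact N.mul_mem hn (hnorm _ (hP.le hx) _ (N.inv_mem hn)),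
      P.mul_mem (hP.normal n (hN hn) x hx) (P.inv_mem hx)⟩
    have h1 : QuotientGroup.mk' ((Geo.scalars ι F).subgroupOf P) ⟨_, hm.2⟩ ∈ I :=
      hI ▸ Subgroup.mem_map_of_mem _ (show (⟨_, hm.2⟩ : P) ∈ (N ⊓ P).subgroupOf P from hm)
    rw [h, Subgroup.mem_bot, QuotientGroup.mk'_apply, QuotientGroup.eq_one_iff] at h1
    exact h1
  · refine absurd ?_ hP.nonabelian
    have : Group.IsSolvable (P ⧸ (Geo.scalars ι F).subgroupOf P) := by
      haveI := hIsol
      exact solvable_of_surjective (f := I.subtype) fun x => ⟨⟨x, h ▸ Subgroup.mem_top x⟩, rfl⟩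
    exact ⟨⟨fun a b => IsSimpleGroup.comm_iff_isSolvable.2 this a b⟩⟩

variable [Fintype F] {q : ℕ}

/-- The geometric members containing such a group. -/
theorem geometric_cases (hF : Fintype.card F = q ^ 2) {H : Subgroup (GL (Fin 3) F)}
    (hH : H ≤ GU 3 F q) (hirr : Geo.ActsIrreducibly (Geo.matrixSet H)) {N : Subgroup (GL (Fin 3) F)}
    (hN : N ≤ H) (hnorm : ∀ h ∈ H, ∀ x ∈ N, h * x * h⁻¹ ∈ N) (hsol : Group.IsSolvable N)
    (hns : ¬ N ≤ Geo.scalars (Fin 3) F) :
    (∃ D : Fin 3 → Submodule F (Fin 3 → F), Geo.IsNondegenerateMDecomposition (hermForm 3 F q) 1 D ∧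
      H ≤ Geo.decompositionStabilizer D) ∨
    (∃ (F₀ : Subfield F) (r : ℕ) (P : GL (Fin 3) F), r.Prime ∧ Odd r ∧ Fintype.card F = Nat.card F₀ ^ r ∧
      Geo.IsFormRationalStructure (hermForm 3 F q) F₀ 1 P ∧ H ≤ Geo.subfieldSubgroup F₀ P) ∨
    (∃ (F₀ : Subfield F) (P : GL (Fin 3) F), Odd q ∧ Fintype.card F = Nat.card F₀ ^ 2 ∧
      Geo.IsFormRationalStructure (hermForm 3 F q) F₀ 1 P ∧ H ≤ Geo.subfieldSubgroup F₀ P) ∨
    (∃ R : Subgroup (GL (Fin 3) F), q.Prime ∧ Geo.IsSymplecticTypeGroup 3 R ∧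
      Geo.ActsAbsolutelyIrreducibly (Geo.matrixSet R) ∧ R ≤ Geo.similarityGroup (hermForm 3 F q) ∧
      Nat.card R = 27 ∧ Nat.card (Subgroup.center R) = 3 ∧ H ≤ Geo.subgroupNormalizer R) ∨
    (∃ K : Subalgebra F (Matrix (Fin 3) (Fin 3) F), Geo.IsFieldSubalgebra 3 K ∧
      Geo.IsAdjointClosedFor (hermForm 3 F q) K ∧ H ≤ Geo.subalgebraNormalizer K) := by
  haveI : Nonempty (Fin 3) := ⟨0⟩
  rcases aschbacher_unit_dim (le_refl 3) hF hH with ⟨M, hM, hle⟩ | ⟨P, hP, -, -⟩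
  swap
  · exact absurd (le_scalars_of_residual hP hN hnorm hsol) hns
  have hsub : ∀ W : Submodule F (Fin 3 → F), H ≤ Geo.subspaceStabilizer W → W ≠ ⊥ → W ≠ ⊤ → False := by
    intro W hW h0 h1
    rcases hirr W (by
      rintro _ ⟨g, hg, rfl⟩ _ ⟨x, hx, rfl⟩
      exact ((hW hg) x).1 hx) with e | e
    · exact h0 e
    · exact h1 e
  rcases hM with (⟨W, h1, h2, rfl⟩ | ⟨W, h1, h2, h3, rfl⟩ | ⟨t, k, D, hD, rfl⟩ | ⟨k, D, hk, hD, hts, rfl⟩ |
    ⟨F₀, r, P, hr, hro, hc, hrat, rfl⟩ | ⟨F₀, P, hodd, hc, hrat, rfl⟩ |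
    ⟨F₀, P, ζ, hev, hc, hζ, hz, hrat, halt, rfl⟩ |
    ⟨r, R, p, e, k, hR, hai, hsim, hrp, hmin, hcases, hscal, hdim, rfl⟩) |
    ⟨r, K, hr, hro, hK, hac, rfl⟩ | ⟨a, b, e, P, f₁, f₂, ha, hab, hf₁, hf₂, hst, rfl⟩ |
    ⟨k, t, e, P, f₁, hk, ht, hex, hf₁, hst, rfl⟩
  · refine (hsub W (hle.trans inf_le_left) h1 ?_).elim
    intro h
    subst h
    obtain ⟨v, hv0, -, hv⟩ := exists_iso_not_perp hF (le_refl 3) (u := (Pi.single 0 1 : Fin 3 → F)) (by simp)
    exact hv (h2 _ trivial v trivial)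
  · refine (hsub W (hle.trans inf_le_left) h1 ?_).elim
    intro h
    subst h
    rw [finrank_top, Module.finrank_fin_fun] at h3
    omega
  · have hc : t * k = 3 := by simpa using MaxMon.decomp_card hD.decomp
    have hk1 := hD.decomp.pos
    have ht2 := hD.decomp.two_le
    obtain rfl : k = 1 := by nlinarith
    obtain rfl : t = 3 := by omega
    exact Or.inl ⟨D, hD, hle.trans inf_le_left⟩
  · omega
  · exact Or.inr (Or.inl ⟨F₀, r, P, hr, hro, hc, hrat, hle.trans inf_le_left⟩)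
  · exact Or.inr (Or.inr (Or.inl ⟨F₀, P, hodd, hc, hrat, hle.trans inf_le_left⟩))
  · exact absurd hev (by decide)
  · have hk : k ≠ 0 := by rintro rfl; norm_num at hdim
    rcases hcases with ⟨ho, hcen, -, hcard⟩ | ⟨rfl, rfl, hcen, hcard⟩
    · obtain ⟨rfl, rfl⟩ := Nat.Prime.pow_inj' hR.prime Nat.prime_three hk one_ne_zero
        (hdim.symm.trans (pow_one 3).symm)
      rw [hcen] at hmin
      obtain ⟨hp, hchar, d, he2, hqd, hd, hlt, he, hm⟩ := unit_class_six ho hR.prime hrp hF hmin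
      obtain rfl : d = 1 := by omega
      rw [pow_one] at hqd
      subst hqd
      exact Or.inr (Or.inr (Or.inr (Or.inl ⟨R, hp, hR, hai, hsim, hcard.trans (by norm_num), hcen,
        hle.trans inf_le_left⟩)))
    · have := Nat.Prime.pow_inj' Nat.prime_two Nat.prime_three hk one_ne_zero (hdim.symm.trans (pow_one 3).symm)
      omega
  · have hdvd : r ∣ 3 := by simpa using field_degree_dvd hK
    obtain rfl := (Nat.prime_dvd_prime_iff_eq hr Nat.prime_three).1 hdvd
    exact Or.inr (Or.inr (Or.inr (Or.inr ⟨K, hK, hac, hle.trans inf_le_left⟩)))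
  · exfalso
    have hc : a * b = 3 := by
      have := Fintype.card_congr e
      simpa using this.symm
    nlinarith
  · exfalso
    have hc : k ^ t = 3 := by
      have := Fintype.card_congr e
      simpa using this.symm
    have hkt : k ^ 2 ≤ k ^ t := Nat.pow_le_pow_right (by omega) ht
    have : 3 ^ 2 ≤ k ^ 2 := Nat.pow_le_pow_left hk 2
    omega

end Cfsg.Agent.Classical.SUThree
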