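import Cfsg.Agent.Lib.Classical.SLThree.HessianFrame

/-!
The centraliser of the reflection type involution over the field of `p²` elements: without transvections its image
in `PGL(2)` has order prime to `p`.
-/

set_option autoImplicit false
set_option linter.unusedSectionVars false
set_option maxRecDepth 20000
set_option maxHeartbeats 1000000

namespace Cfsg.Agent.Classical.SUThree.Hess

open Matrix MaxTv HeisenbergThree SLThree SLThree.Hessian

universe u

variable {F : Type u} [Field F] [Fintype F] {X : Subgroup (GL (Fin 3) F)} {w : Fˣ}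

local notation "M₃" => Matrix (Fin 3) (Fin 3) F

theorem charP_of_card_sq {p : ℕ} [Fact p.Prime] (hF : Fintype.card F = p ^ 2) : CharP F p :=
  charP_of_card_eq_prime_pow hF

/-- Without transvections the image has no element of order `p`. -/
theorem blockHom_pow (h2 : (2 : F) ≠ 0) (hX : NoTv X) {p : ℕ} (hp : p.Prime) (hF : Fintype.card F = p ^ 2) {P : GL (Fin 3) F}
    {g : Subgroup.centralizer ({P * J₀ * P⁻¹} : Set (GL (Fin 3) F))} (hg : (g : GL (Fin 3) F) ∈ X)
    (hgp : blockHom h2 P g ^ p = 1) : blockHom h2 P g = 1 := by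
  by_contra hne
  haveI : Fact p.Prime := ⟨hp⟩
  haveI : CharP F p := charP_of_card_sq hF
  obtain ⟨B, hB⟩ : ∃ B, B = lowHom h2 (toStd P g) := ⟨_, rfl⟩
  rw [blockHom, MonoidHom.comp_apply, MonoidHom.comp_apply, ← hB] at hgp hne
  rw [← map_pow, pgl_mk_eq_one] at hgp
  obtain ⟨l₀, hl⟩ := hgp
  rw [Units.val_pow_eq_pow_val] at hl
  obtain ⟨l, hll⟩ : ∃ l : F, l ^ p = l₀ := ⟨l₀ ^ p, by rw [← pow_mul, ← pow_two, ← hF, FiniteField.pow_card]⟩
  obtain ⟨N, hN⟩ : ∃ N : Matrix (Fin 2) (Fin 2) F, N = (B : Matrix (Fin 2) (Fin 2) F) - l • 1 := ⟨_, rfl⟩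
  have hNp : N ^ p = 0 := by
    rw [hN, sub_pow_char_of_commute p ((Commute.one_right _).smul_right _), hl, smul_pow, one_pow, hll, sub_self]
  have hdet : N.det = 0 := by
    have := congrArg Matrix.det hNp
    rw [Matrix.det_pow, Matrix.det_zero] at this
    exact pow_eq_zero_iff hp.ne_zero |>.1 this
  have hNN : N * N = (N 0 0 + N 1 1) • N := by
    rw [Matrix.det_fin_two] at hdet
    ext i j
    fin_cases i <;> fin_cases j <;> simp [Matrix.mul_apply, Fin.sum_univ_two] <;>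
      first | linear_combination hdet | linear_combination -hdet | ring
  have hpow : ∀ k : ℕ, N ^ (k + 1) = (N 0 0 + N 1 1) ^ k • N := fun k => by
    induction k with
    | zero => simp
    | succ k ih => rw [pow_succ, ih, Matrix.smul_mul, hNN, smul_smul, pow_succ]
  have hN0 : N ≠ 0 := fun e => hne (pgl_mk_eq_one.2 ⟨l, by rw [← sub_eq_zero, ← hN, e]⟩)
  have htr : N 0 0 + N 1 1 = 0 := by
    have := hpow (p - 1)
    rw [Nat.sub_add_cancel hp.pos, hNp] at this
    exact pow_eq_zero_iff (by have := hp.two_le; omega) |>.1 ((smul_eq_zero.1 this.symm).resolve_right hN0)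
  rw [htr, zero_smul] at hNN
  obtain ⟨h01, h02, h10, h20⟩ := block_zero h2 (Subgroup.mem_centralizer_singleton_iff.1 (toStd P g).2)
  rw [coe_toStd] at h01 h02 h10 h20
  obtain ⟨K, hK⟩ : ∃ K : GL (Fin 3) F, K = P⁻¹ * (g : GL (Fin 3) F) * P := ⟨_, rfl⟩
  rw [← hK] at h01 h02 h10 h20
  have hBK : (B : Matrix (Fin 2) (Fin 2) F) = low (K : M₃) := by rw [hB, coe_lowHom, coe_toStd, hK]
  obtain ⟨χ, hχ⟩ : ∃ χ, χ = (K : M₃) 0 0 := ⟨_, rfl⟩
  obtain ⟨N₃, hN₃⟩ : ∃ N₃ : M₃, N₃ = !![0, 0, 0; 0, N 0 0, N 0 1; 0, N 1 0, N 1 1] := ⟨_, rfl⟩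
  have hK' : (K : M₃) = Matrix.diagonal ![χ, l, l] + N₃ := by
    rw [hN₃, hN, hBK]
    ext i j
    fin_cases i <;> fin_cases j <;> simp [low, h01, h02, h10, h20, hχ, Matrix.one_apply]
  have hl0 : l ≠ 0 := fun e => by
    have h1 := (B ^ p).det_ne_zero
    rw [Units.val_pow_eq_pow_val, hl, ← hll, e, zero_pow hp.ne_zero] at h1
    simp at h1
  have hχ0 : χ ≠ 0 := fun e => K.det_ne_zero (by
    rw [Matrix.det_fin_three, h01, h02, ← hχ, e]; ring)
  have e00 := congrFun (congrFun hNN 0) 0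
  have e01 := congrFun (congrFun hNN 0) 1
  have e10 := congrFun (congrFun hNN 1) 0
  have e11 := congrFun (congrFun hNN 1) 1
  simp [Matrix.mul_apply, Fin.sum_univ_two] at e00 e01 e10 e11
  have hsq : N₃ * N₃ = 0 := by
    rw [hN₃]
    ext i j
    fin_cases i <;> fin_cases j <;> simp [Matrix.mul_apply, Fin.sum_univ_three, e00, e01, e10, e11]
  have hpowK : ∀ k : ℕ, (K : M₃) ^ (k + 1) =
      Matrix.diagonal ![χ ^ (k + 1), l ^ (k + 1), l ^ (k + 1)] + ((k + 1 : ℕ) * l ^ k : F) • N₃ := fun k => by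
    induction k with
    | zero => simpa using hK'
    | succ k ih =>
      rw [pow_succ, ih, hK', add_mul, mul_add, mul_add, Matrix.smul_mul, Matrix.smul_mul, hsq, smul_zero, add_zero,
        Matrix.diagonal_mul_diagonal, add_assoc]
      congr 1
      · congr 1
        funext i
        fin_cases i <;> simp [pow_succ]
      · rw [hN₃]
        ext i j
        fin_cases i <;> fin_cases j <;> simp [Matrix.mul_apply, Matrix.vecMul_diagonal, Fin.sum_univ_three, pow_succ] <;> ring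
  have hp2 : p ^ 2 - 1 = p ^ 2 - 2 + 1 := by
    have h4 : 4 ≤ p ^ 2 := Nat.pow_le_pow_left hp.two_le 2
    omega
  have hKp : (K : M₃) ^ (p ^ 2 - 1) = 1 + (-(l ^ (p ^ 2 - 2))) • N₃ := by
    rw [hp2, hpowK, ← hp2]
    congr 1
    · rw [show p ^ 2 - 1 = Fintype.card F - 1 by rw [hF]]
      simp only [FiniteField.pow_card_sub_one_eq_one _ hχ0, FiniteField.pow_card_sub_one_eq_one _ hl0]
      ext i j
      fin_cases i <;> fin_cases j <;> simp
    · congr 1
      rw [Nat.cast_sub (Nat.one_le_pow _ _ hp.pos), Nat.cast_pow, CharP.cast_eq_zero, zero_pow two_ne_zero, Nat.cast_one,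
        zero_sub, neg_one_mul]
  obtain ⟨N', hN'⟩ : ∃ N' : M₃, N' = (P : M₃) * ((-(l ^ (p ^ 2 - 2))) • N₃) * ((P⁻¹ : GL (Fin 3) F) : M₃) := ⟨_, rfl⟩
  have hg' : ((g : GL (Fin 3) F) ^ (p ^ 2 - 1) : GL (Fin 3) F) = P * K ^ (p ^ 2 - 1) * P⁻¹ := by
    have hgK : (g : GL (Fin 3) F) = P * K * P⁻¹ := by rw [hK]; group
    exact (congrArg (· ^ (p ^ 2 - 1)) hgK).trans conj_pow
  have hgval : (((g : GL (Fin 3) F) ^ (p ^ 2 - 1) : GL (Fin 3) F) : M₃) = 1 + N' := by
    rw [hg', Units.val_mul, Units.val_mul, Units.val_pow_eq_pow_val, hKp, hN', mul_add, add_mul, mul_one,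
      Units.mul_inv]
  have hN'sq : N' * N' = 0 := by
    rw [hN']
    calc (P : M₃) * ((-(l ^ (p ^ 2 - 2))) • N₃) * ((P⁻¹ : GL (Fin 3) F) : M₃) *
          ((P : M₃) * ((-(l ^ (p ^ 2 - 2))) • N₃) * ((P⁻¹ : GL (Fin 3) F) : M₃))
        = (P : M₃) * (((-(l ^ (p ^ 2 - 2))) • N₃) * ((-(l ^ (p ^ 2 - 2))) • N₃)) * ((P⁻¹ : GL (Fin 3) F) : M₃) := by
          simp [mul_assoc]
      _ = 0 := by simp [Matrix.smul_mul, Matrix.mul_smul, hsq]
  obtain ⟨v, φ, hvφ, hform⟩ := exists_rankOne_of_sq hN'sq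
  have hne0 : N' ≠ 0 := fun e => hN0 (by
    have h3 : (-(l ^ (p ^ 2 - 2))) • N₃ = 0 := by
      have := congrArg (fun z => ((P⁻¹ : GL (Fin 3) F) : M₃) * z * (P : M₃)) (hN'.symm.trans e)
      simpa [mul_assoc] using this
    have h4 := (smul_eq_zero.1 h3).resolve_left (neg_ne_zero.2 (pow_ne_zero _ hl0))
    rw [hN₃] at h4
    ext i j
    fin_cases i <;> fin_cases j
    · simpa using congrFun (congrFun h4 1) 1
    · simpa using congrFun (congrFun h4 1) 2
    · simpa using congrFun (congrFun h4 2) 1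
    · simpa using congrFun (congrFun h4 2) 2)
  refine hX v φ (fun e => hne0 (Matrix.ext_iff_mulVec.2 fun z => by rw [hform, e, smul_zero, Matrix.zero_mulVec]))
    (fun e => hne0 (Matrix.ext_iff_mulVec.2 fun z => by rw [hform, e, zero_dotProduct, zero_smul, Matrix.zero_mulVec]))
    hvφ ⟨(g : GL (Fin 3) F) ^ (p ^ 2 - 1), pow_mem hg _, fun x => ?_⟩
  rw [hgval, Matrix.add_mulVec, Matrix.one_mulVec, hform]

/-- The image of the centraliser in a finite group of order prime to the characteristic. -/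
theorem exists_psl (h2 : (2 : F) ≠ 0) (hX : NoTv X) {p : ℕ} (hp : p.Prime) (hF : Fintype.card F = p ^ 2) (P : GL (Fin 3) F) :
    ∃ (E : Type) (_ : Field E) (_ : Fintype E) (_ : CharP E p)
      (f : Subgroup.centralizer ({P * J₀ * P⁻¹} : Set (GL (Fin 3) F)) →*
        Matrix.ProjectiveSpecialLinearGroup (Fin 2) E),
      (∀ g, f g = 1 ↔ blockHom h2 P g = 1) ∧
        ¬ p ∣ Nat.card (Subgroup.map f (X.subgroupOf (Subgroup.centralizer ({P * J₀ * P⁻¹} : Set (GL (Fin 3) F))))) := by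
  haveI : Fact p.Prime := ⟨hp⟩
  haveI : CharP F p := charP_of_card_sq hF
  obtain ⟨E, _, _, _, ψ, hψ⟩ := Dickson.PGLMax.exists_emb (F := F) p
  refine ⟨E, inferInstance, inferInstance, inferInstance, ψ.comp (blockHom h2 P), fun g => ?_, fun hd => ?_⟩
  · rw [MonoidHom.comp_apply, map_eq_one_iff ψ hψ]
  obtain ⟨a, ha⟩ := exists_prime_orderOf_dvd_card' p hd
  obtain ⟨g, hg, hga⟩ := a.2
  have hga' : ψ (blockHom h2 P g) = (a : Matrix.ProjectiveSpecialLinearGroup (Fin 2) E) := hga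
  have hb : blockHom h2 P g ^ p = 1 := hψ (by
    rw [map_pow, map_one, hga', ← SubmonoidClass.coe_pow, ← ha, pow_orderOf_eq_one, OneMemClass.coe_one])
  rw [blockHom_pow h2 hX hp hF hg hb, map_one] at hga'
  have : a = 1 := Subtype.ext hga'.symm
  rw [this, orderOf_one] at ha
  exact hp.one_lt.ne ha

section Homology

variable (h2 : (2 : F) ≠ 0)

/-- The homologies at the involution. -/
theorem homology (hw : w ^ 3 = 1) (hw1 : w ≠ 1) (hX : NoTv X) {p : ℕ} (hp : p.Prime) (hF : Fintype.card F = p ^ 2)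
    (hA : dia (A w) ∈ X) (hh : (negSwap : GL (Fin 3) F) ∈ X)
    {g : Subgroup.centralizer ({frame h2 * J₀ * (frame h2)⁻¹} : Set (GL (Fin 3) F))} (hg : (g : GL (Fin 3) F) ∈ X)
    (hg1 : blockHom h2 (frame h2) g = 1) :
    pr (g : GL (Fin 3) F) = 1 ∨ pr (g : GL (Fin 3) F) = pr negSwap := by
  classical
  obtain ⟨χ, l, hD⟩ := (blockHom_eq_one h2).1 hg1
  obtain ⟨K, hK⟩ : ∃ K : GL (Fin 3) F, K = (frame h2)⁻¹ * (g : GL (Fin 3) F) * frame h2 := ⟨_, rfl⟩
  rw [← hK] at hD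
  have hgK : (g : GL (Fin 3) F) = frame h2 * K * (frame h2)⁻¹ := by rw [hK]; group
  have hχ0 : χ ≠ 0 := fun e => K.det_ne_zero (by rw [hD, Matrix.det_diagonal, Fin.prod_univ_three]; simp [e])
  have hl0 : l ≠ 0 := fun e => K.det_ne_zero (by rw [hD, Matrix.det_diagonal, Fin.prod_univ_three]; simp [e])
  have hneg : ((negSwap : GL (Fin 3) F) : M₃) =
      ((frame h2 : GL (Fin 3) F) : M₃) * Matrix.diagonal ![1, -1, -1] * (((frame h2)⁻¹ : GL (Fin 3) F) : M₃) := by
    rw [← coe_J₀, ← Units.val_mul, ← Units.val_mul, frame_J₀]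
  have hval : ((g : GL (Fin 3) F) : M₃) =
      ((frame h2 : GL (Fin 3) F) : M₃) * Matrix.diagonal ![χ, l, l] * (((frame h2)⁻¹ : GL (Fin 3) F) : M₃) := by
    rw [hgK, Units.val_mul, Units.val_mul, hD]
  rcases eq_or_ne (l / χ) 1 with h1 | h1
  · left
    rw [div_eq_one_iff_eq hχ0] at h1
    refine pr_eq_one.2 ⟨χ, ?_⟩
    rw [hval, h1, show Matrix.diagonal ![χ, χ, χ] = χ • (1 : M₃) by
      rw [Matrix.smul_one_eq_diagonal]; congr 1; funext i; fin_cases i <;> simp]
    simp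
  rcases eq_or_ne (l / χ) (-1) with hm1 | hm1
  · right
    rw [div_eq_iff hχ0, neg_one_mul] at hm1
    refine pr_eq_pr.2 ⟨χ, ?_⟩
    rw [hval, hneg, hm1, ← Matrix.smul_mul, ← Matrix.mul_smul, ← Matrix.diagonal_smul]
    congr 3
    funext i
    fin_cases i <;> simp
  exfalso
  -- adjust the ratio to even order
  obtain ⟨K', χ', l', hK'X, hD', hev, hsq⟩ : ∃ (K' : GL (Fin 3) F) (χ' l' : F),
      frame h2 * K' * (frame h2)⁻¹ ∈ X ∧ (K' : M₃) = Matrix.diagonal ![χ', l', l'] ∧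
      Even (orderOf (l' / χ')) ∧ (l' / χ') ^ 2 ≠ 1 := by
    have hne2 : (l / χ) ^ 2 ≠ 1 := fun e => by
      rcases sq_eq_one_iff.1 e with e | e
      exacts [h1 e, hm1 e]
    by_cases hev : Even (orderOf (l / χ))
    · exact ⟨K, χ, l, hgK ▸ hg, hD, hev, hne2⟩
    · refine ⟨K * J₀, χ, -l, ?_, ?_, ?_, by rwa [neg_div, neg_sq]⟩
      · have e : frame h2 * (K * J₀) * (frame h2)⁻¹ = (g : GL (Fin 3) F) * negSwap := by
          rw [hgK, ← frame_J₀ h2]; group
        rw [e]; exact mul_mem hg hh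
      · rw [Units.val_mul, hD, coe_J₀, Matrix.diagonal_mul_diagonal]
        congr 1
        funext i
        fin_cases i <;> simp
      · by_contra hodd
        rw [Nat.not_even_iff_odd] at hev hodd
        rw [neg_div] at hodd
        have e1 : (l / χ) ^ (orderOf (-l / χ) * orderOf (l / χ)) = 1 := by rw [mul_comm, pow_mul, pow_orderOf_eq_one, one_pow]
        have e2 : (-l / χ) ^ (orderOf (-l / χ) * orderOf (l / χ)) = 1 := by rw [pow_mul, pow_orderOf_eq_one, one_pow]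
        rw [neg_div] at e1
        rw [neg_div, (hodd.mul hev).neg_pow, e1] at e2
        exact h2 (by linear_combination -e2)
  have hχ' : χ' ≠ 0 := fun e => K'.det_ne_zero (by rw [hD', Matrix.det_diagonal, Fin.prod_univ_three]; simp [e])
  have hl' : l' ≠ 0 := fun e => K'.det_ne_zero (by rw [hD', Matrix.det_diagonal, Fin.prod_univ_three]; simp [e])
  obtain ⟨m, hm⟩ := hev
  have hord : 0 < orderOf (l' / χ') :=
    orderOf_pos_iff.2 (isOfFinOrder_iff_pow_eq_one.2 ⟨Fintype.card F - 1,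
      by have := Fintype.one_lt_card (α := F); omega, FiniteField.pow_card_sub_one_eq_one _ (div_ne_zero hl' hχ')⟩)
  have hm2 : 2 ≤ m := by
    by_contra hlt
    exact hsq (orderOf_dvd_iff_pow_eq_one.1 (by rw [hm, show m = 1 by omega]))
  have hhalf : (l' / χ') ^ m = -1 := by
    refine (sq_eq_one_iff.1 ?_).resolve_left fun e => ?_
    · rw [← pow_mul, mul_comm, two_mul, ← hm, pow_orderOf_eq_one]
    · have := Nat.le_of_dvd (by omega) (orderOf_dvd_of_pow_eq_one e)
      omega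
  -- the two elements in the block of the first basis vector
  obtain ⟨E, _, _, _, f, hf, hpH⟩ := exists_psl h2 hX hp hF (1 : GL (Fin 3) F)
  haveI : Fact p.Prime := ⟨hp⟩
  have hp2 : p ≠ 2 := fun e => h2 (by
    haveI : CharP F p := charP_of_card_sq hF
    rw [e] at *
    exact_mod_cast CharP.cast_eq_zero F 2)
  have hcent : ∀ x : GL (Fin 3) F, x * J₀ = J₀ * x →
      x ∈ Subgroup.centralizer ({(1 : GL (Fin 3) F) * J₀ * 1⁻¹} : Set (GL (Fin 3) F)) := fun x hx => by
    rw [Subgroup.mem_centralizer_singleton_iff]; simpa using hx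
  obtain ⟨G₁, hG₁⟩ : ∃ G₁, G₁ = frame h2 * K' * (frame h2)⁻¹ := ⟨_, rfl⟩
  have hG₁v : ∀ i : ℕ, ((G₁ ^ i : GL (Fin 3) F) : M₃) = !![l' ^ i, 0, 0; 0, (χ' ^ i + l' ^ i) / 2, (l' ^ i - χ' ^ i) / 2;
      0, (l' ^ i - χ' ^ i) / 2, (χ' ^ i + l' ^ i) / 2] := fun i => by
    rw [hG₁, conj_pow, Units.val_mul, Units.val_mul, Units.val_pow_eq_pow_val, hD', Matrix.diagonal_pow,
      ← frame_diag h2]
    congr 3
    funext a
    fin_cases a <;> simp
  have hG₁J : G₁ * J₀ = J₀ * G₁ := by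
    refine Units.ext ?_
    rw [Units.val_mul, Units.val_mul, ← pow_one G₁, hG₁v, coe_J₀]
    ext i j
    fin_cases i <;> fin_cases j <;> simp [Matrix.mul_apply, Fin.sum_univ_three]
  have hAJ : dia (A w) * (J₀ : GL (Fin 3) F) = J₀ * dia (A w) := by
    rw [J₀, ← map_mul, ← map_mul, mul_comm]
  have hNJ : (negSwap : GL (Fin 3) F) * J₀ = J₀ * negSwap := by
    refine Units.ext ?_
    rw [Units.val_mul, Units.val_mul, coe_negSwap, coe_J₀]
    ext i j
    fin_cases i <;> fin_cases j <;> simp [Matrix.mul_apply, Fin.sum_univ_three]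
  let a' : Subgroup.centralizer ({(1 : GL (Fin 3) F) * J₀ * 1⁻¹} : Set (GL (Fin 3) F)) := ⟨G₁, hcent _ hG₁J⟩
  let r' : Subgroup.centralizer ({(1 : GL (Fin 3) F) * J₀ * 1⁻¹} : Set (GL (Fin 3) F)) := ⟨dia (A w), hcent _ hAJ⟩
  let n' : Subgroup.centralizer ({(1 : GL (Fin 3) F) * J₀ * 1⁻¹} : Set (GL (Fin 3) F)) := ⟨negSwap, hcent _ hNJ⟩
  have haX : a' ∈ X.subgroupOf _ := Subgroup.mem_subgroupOf.2 (show G₁ ∈ X by rw [hG₁]; exact hK'X)
  have hrX : r' ∈ X.subgroupOf _ := Subgroup.mem_subgroupOf.2 (show dia (A w) ∈ X from hA)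
  let α : Subgroup.map f (X.subgroupOf _) := ⟨f a', a', haX, rfl⟩
  let ρ : Subgroup.map f (X.subgroupOf _) := ⟨f r', r', hrX, rfl⟩
  have hscal : ∀ i : ℕ, f a' ^ i = 1 ↔ (l' / χ') ^ i = 1 := fun i => by
    rw [← map_pow, hf, blockHom_eq_one h2]
    simp only [SubmonoidClass.coe_pow, inv_one, one_mul, mul_one]
    rw [show ((a' : GL (Fin 3) F)) = G₁ from rfl, hG₁v, div_pow, div_eq_one_iff_eq (pow_ne_zero _ hχ')]
    constructor
    · rintro ⟨c, d, e⟩
      have e1 := congrFun (congrFun e 1) 2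
      simp at e1
      exact (sub_eq_zero.1 (e1.resolve_right h2))
    · intro e
      refine ⟨l' ^ i, χ' ^ i, ?_⟩
      rw [e]
      ext a b
      fin_cases a <;> fin_cases b <;> simp <;> field_simp <;> ring
  have hoa : orderOf α = 2 * m := by
    rw [← Subgroup.orderOf_coe, show (α : Matrix.ProjectiveSpecialLinearGroup (Fin 2) E) = f a' from rfl,
      orderOf_eq_orderOf_iff.2 hscal, hm, two_mul]
  have hcomm := commute_halves p hp2 hpH (a := α) (b := ρ * α * ρ⁻¹) hm2 hoa ((MulEquiv.orderOf_eq (MulAut.conj ρ) α).trans hoa)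
  have hfn : f a' ^ m = f n' := by
    rw [← mul_inv_eq_one, ← map_pow, ← map_inv, ← map_mul, hf, blockHom_eq_one h2]
    refine ⟨χ' ^ m, χ' ^ m, ?_⟩
    have e0 : l' ^ m = -(χ' ^ m) := by
      rw [div_pow, div_eq_iff (pow_ne_zero _ hχ')] at hhalf
      linear_combination hhalf
    simp only [Subgroup.coe_mul, SubmonoidClass.coe_pow, Subgroup.coe_inv, inv_one, one_mul, mul_one]
    rw [show ((a' : GL (Fin 3) F)) = G₁ from rfl, show ((n' : GL (Fin 3) F)) = negSwap from rfl,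
      inv_eq_of_mul_eq_one_right negSwap_mul_self, Units.val_mul, hG₁v, coe_negSwap, e0]
    ext i j
    fin_cases i <;> fin_cases j <;> simp [Matrix.mul_apply, Fin.sum_univ_three] <;> field_simp <;> ring
  have hc := congrArg Subtype.val hcomm.eq
  rw [conj_pow] at hc
  simp only [Subgroup.coe_mul, SubmonoidClass.coe_pow, Subgroup.coe_inv] at hc
  rw [show (α : Matrix.ProjectiveSpecialLinearGroup (Fin 2) E) = f a' from rfl,
    show (ρ : Matrix.ProjectiveSpecialLinearGroup (Fin 2) E) = f r' from rfl, hfn, ← map_inv, ← map_mul, ← map_mul,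
    ← map_mul, ← map_mul, ← mul_inv_eq_one, ← map_inv, ← map_mul, hf, blockHom_eq_one h2] at hc
  obtain ⟨c, d, e⟩ := hc
  have hnn : (negSwap : GL (Fin 3) F) * (dia (A w) * negSwap * (dia (A w))⁻¹) = dia (A w) := by
    have h1 := (neg_A hw hw1)
    rw [show negSwap * (dia (A w) * negSwap * (dia (A w))⁻¹) = negSwap * dia (A w) * negSwap * (dia (A w))⁻¹ by
      group, h1, mul_inv_cancel_right]
  simp only [Subgroup.coe_mul, Subgroup.coe_inv, inv_one, one_mul, mul_one] at e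
  rw [show ((n' : GL (Fin 3) F)) = negSwap from rfl, show ((r' : GL (Fin 3) F)) = dia (A w) from rfl, hnn,
    show dia (A w) * (negSwap : GL (Fin 3) F) * (dia (A w))⁻¹ * negSwap = (dia (A w))⁻¹ from by
      simpa [mul_assoc, inv_eq_of_mul_eq_one_right negSwap_mul_self] using congrArg (·⁻¹) hnn,
    inv_inv, ← map_mul, coe_dia] at e
  have e11 := congrFun (congrFun e 1) 1
  have e22 := congrFun (congrFun e 2) 2
  simp [A] at e11 e22
  refine hw1 (Units.ext ?_)
  obtain ⟨h3, -⟩ := sum_pow hw hw1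
  have h4 : (w : F) * (w : F) = (w : F) ^ 2 * (w : F) ^ 2 := by rw [e11, e22]
  rw [Units.val_one]
  linear_combination (w : F) ^ 2 * h4 - (w : F) * h3 + ((w : F) ^ 3 + 1) * h3
where
  neg_A {w : Fˣ} (hw : w ^ 3 = 1) (hw1 : w ≠ 1) :
      (negSwap : GL (Fin 3) F) * dia (A w) * negSwap = dia (A w) * dia (A w) := by
    obtain ⟨h3, -⟩ := sum_pow hw hw1
    refine Units.ext ?_
    simp only [Units.val_mul, coe_dia, coe_negSwap]
    ext i j
    fin_cases i <;> fin_cases j <;> simp [Matrix.mul_apply, Matrix.vecMul_diagonal, Fin.sum_univ_three, A] <;>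
      (first
      | ring1
      | (obtain ⟨a, ha⟩ : ∃ a, a = (w : F) := ⟨_, rfl⟩
         rw [← ha] at h3 ⊢
         grind))

end Homology

end Cfsg.Agent.Classical.SUThree.Hess
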