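import Mathlib

/-!
Counting involutions in a finite group with one class of involutions, a centraliser with a cyclic subgroup of
index two and an elementary abelian self-centralising Sylow subgroup of order nine.
-/

set_option autoImplicit false
set_option linter.unusedSectionVars false

namespace Cfsg.Agent.Classical.SUThree.Hess

variable {G : Type*} [Group G]

theorem invol_iff {x : G} : orderOf x = 2 ↔ x * x = 1 ∧ x ≠ 1 := by
  rw [orderOf_eq_prime_iff, pow_two]

theorem card_class [Finite G] (a : G) :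
    Nat.card {x // IsConj a x} * Nat.card (Subgroup.centralizer {a}) = Nat.card G := by
  rw [← (Subgroup.centralizer {a}).card_mul_index, mul_comm, Subgroup.index]
  congr 1
  have hk : ∀ x y : G, x * a * x⁻¹ = y * a * y⁻¹ ↔ x⁻¹ * y ∈ Subgroup.centralizer {a} := fun x y => by
    rw [Subgroup.mem_centralizer_singleton_iff]
    constructor <;> intro h
    · calc x⁻¹ * y * a = x⁻¹ * (y * a * y⁻¹) * y := by group
        _ = x⁻¹ * (x * a * x⁻¹) * y := by rw [h]
        _ = _ := by group
    · calc x * a * x⁻¹ = x * (a * (x⁻¹ * y)) * y⁻¹ := by group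
        _ = x * (x⁻¹ * y * a) * y⁻¹ := by rw [← h]
        _ = _ := by group
  refine (Nat.card_congr (Equiv.ofBijective (fun c : G ⧸ Subgroup.centralizer {a} =>
    Quotient.liftOn' c (fun x => (⟨x * a * x⁻¹, isConj_iff.2 ⟨x, rfl⟩⟩ : {x // IsConj a x}))
      fun x y h => Subtype.ext ((hk x y).2 (QuotientGroup.leftRel_apply.1 h))) ⟨?_, ?_⟩)).symm
  · intro c d
    induction c using Quotient.inductionOn' with | h x => ?_
    induction d using Quotient.inductionOn' with | h y => ?_
    intro h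
    exact Quotient.sound' (QuotientGroup.leftRel_apply.2 ((hk x y).1 (congrArg Subtype.val h)))
  · rintro ⟨y, hy⟩
    obtain ⟨x, rfl⟩ := isConj_iff.1 hy
    exact ⟨QuotientGroup.mk x, rfl⟩

/-- The hypotheses of the count. -/
structure Config (G : Type*) [Group G] (h : G) (n p : ℕ) (R : Subgroup G) : Prop where
  inv : orderOf h = 2
  conj : ∀ x : G, orderOf x = 2 → IsConj h x
  cardC : Nat.card (Subgroup.centralizer {h}) = 4 * n
  four : 4 ∣ n
  three : ¬ 3 ∣ n
  cardS : Nat.card {v : G // orderOf v = 2 ∧ v ≠ h ∧ Commute v h} = n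
  two : ∀ v x : G, orderOf v = 2 → v ≠ h → Commute v h → Commute x h → Commute x v →
    x = 1 ∨ x = h ∨ x = v ∨ x = h * v
  own : ∀ x v : G, Commute x h → x * x ≠ 1 → orderOf v = 2 → Commute x v → v = h
  cardR : Nat.card R = 9
  expR : ∀ r ∈ R, r ^ 3 = 1
  invR : ∀ r ∈ R, h * r * h = r⁻¹
  centR : ∀ r ∈ R, r ≠ 1 → ∀ x, Commute x r → x ∈ R
  conjR : ∀ x : G, orderOf x = 3 → ∀ r ∈ R, r ≠ 1 → IsConj r x
  prime : p.Prime
  five : 5 ≤ p
  mod : p % 3 = 2
  coprime : ¬ p ∣ 4 * n
  pcent : ∀ x b : G, b ^ p = 1 → b ≠ 1 → Commute x b → x ^ p = 1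
  pcyc : ∀ x b : G, b ^ p = 1 → b ≠ 1 → Commute x b → x ∈ Subgroup.zpowers b
  fixp : ∀ x y z : G, orderOf x = p → y * x * y⁻¹ ∈ Subgroup.zpowers x → ¬ Commute (y * y) x → Commute z y →
    z * x * z⁻¹ ∈ Subgroup.zpowers x
  big : ∀ y : G, Commute y h → y ^ 4 ≠ 1 → Nat.card (Subgroup.centralizer {y}) = 2 * n
  regular : ∀ x : G, (∀ v : G, orderOf v = 2 → ¬ Commute x v) → x ^ 3 ≠ 1 → x ^ p ≠ 1 → h * x * h = x⁻¹ →
    (∀ a b : G, Commute a x → Commute b x → Commute a b) ∧
      ∃ φ : Subgroup.normalizer (Subgroup.centralizer {x} : Set G) →* Equiv.Perm (Fin 3),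
        ∀ k, φ k = 1 ↔ Commute (k : G) x

theorem commute_conj {a b : G} (g : G) (h : Commute a b) : Commute (g * a * g⁻¹) (g * b * g⁻¹) :=
  h.map (MulAut.conj g).toMonoidHom

variable {h : G} {n p : ℕ} {R : Subgroup G}

namespace Config

theorem hh (c : Config G h n p R) : h * h = 1 := (invol_iff.1 c.inv).1

theorem hinv (c : Config G h n p R) : h⁻¹ = h := inv_eq_of_mul_eq_one_right c.hh

theorem hx (c : Config G h n p R) (x : G) : h * (h * x) = x := by rw [← mul_assoc, c.hh, one_mul]

/-- An element commuting with an involution and not involutory commutes with no other involution. -/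
theorem own_any (c : Config G h n p R) {x v w : G} (hv : orderOf v = 2) (hw : orderOf w = 2)
    (hxv : Commute x v) (hxw : Commute x w) (hx : x * x ≠ 1) : w = v := by
  obtain ⟨g, hg⟩ := isConj_iff.1 (c.conj v hv)
  subst hg
  have e := c.own (g⁻¹ * x * g) (g⁻¹ * w * g) (by simpa [mul_assoc] using commute_conj g⁻¹ hxv)
    (fun e => hx (by
      calc x * x = g * (g⁻¹ * x * g * (g⁻¹ * x * g)) * g⁻¹ := by group
        _ = 1 := by rw [e]; group))
    (by simpa using (MulEquiv.orderOf_eq (MulAut.conj g⁻¹) w).trans hw)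
    (by simpa using commute_conj g⁻¹ hxw)
  rw [← e]; group

theorem card_invol (c : Config G h n p R) [Finite G] :
    Nat.card {x : G // orderOf x = 2} * (4 * n) = Nat.card G := by
  rw [← c.cardC, ← card_class h]
  congr 1
  exact Nat.card_congr (Equiv.subtypeEquivRight fun x => ⟨c.conj x, fun hx => by
    obtain ⟨g, rfl⟩ := isConj_iff.1 hx
    rw [← MulAut.conj_apply, MulEquiv.orderOf_eq, c.inv]⟩)

/-- A three-element commutes with no involution. -/
theorem three_free (c : Config G h n p R) [Finite G] {x v : G} (hx : x ^ 3 = 1) (hx1 : x ≠ 1)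
    (hv : orderOf v = 2) : ¬ Commute x v := by
  intro hxv
  obtain ⟨r, hr, hr1⟩ : ∃ r ∈ R, r ≠ 1 := by
    by_contra hc
    push Not at hc
    have := c.cardR
    rw [(Subgroup.eq_bot_iff_forall R).2 hc, Subgroup.card_bot] at this
    omega
  haveI : Fact (Nat.Prime 3) := ⟨Nat.prime_three⟩
  obtain ⟨g, rfl⟩ := isConj_iff.1 (c.conjR x (orderOf_eq_prime hx hx1) r hr hr1)
  have h1 := c.expR _ (c.centR r hr hr1 (g⁻¹ * v * g) (by simpa [mul_assoc] using (commute_conj g⁻¹ hxv).symm))
  have h2 : orderOf (g⁻¹ * v * g) = 2 := by simpa using (MulEquiv.orderOf_eq (MulAut.conj g⁻¹) v).trans hv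
  have := orderOf_dvd_of_pow_eq_one h1
  rw [h2] at this
  norm_num at this

/-- An element of order `p` commutes with no involution. -/
theorem p_free (c : Config G h n p R) [Finite G] {x v : G} (hx : x ^ p = 1) (hx1 : x ≠ 1)
    (hv : orderOf v = 2) : ¬ Commute x v := by
  intro hxv
  obtain ⟨g, rfl⟩ := isConj_iff.1 (c.conj v hv)
  have hm : g⁻¹ * x * g ∈ Subgroup.centralizer {h} :=
    Subgroup.mem_centralizer_singleton_iff.2 (by simpa [mul_assoc] using (commute_conj g⁻¹ hxv).eq)
  haveI : Fact p.Prime := ⟨c.prime⟩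
  have h2 : orderOf (g⁻¹ * x * g) = p := by
    simpa using (MulEquiv.orderOf_eq (MulAut.conj g⁻¹) x).trans (orderOf_eq_prime hx hx1)
  have := Subgroup.orderOf_dvd_natCard _ hm
  rw [h2, c.cardC] at this
  exact c.coprime this

/-- The number of involutions commuting with a given one. -/
theorem card_commuting (c : Config G h n p R) [Finite G] {v : G} (hv : orderOf v = 2) :
    Nat.card {u // orderOf u = 2 ∧ Commute u v} = n + 1 := by
  classical
  obtain ⟨g, rfl⟩ := isConj_iff.1 (c.conj v hv)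
  have e : {u // orderOf u = 2 ∧ Commute u h} ≃ {u // orderOf u = 2 ∧ Commute u (g * h * g⁻¹)} :=
    (MulAut.conj g).toEquiv.subtypeEquiv fun u => by
      have h1 : orderOf ((MulAut.conj g) u) = orderOf u := MulEquiv.orderOf_eq _ u
      show _ ↔ orderOf ((MulAut.conj g) u) = 2 ∧ Commute ((MulAut.conj g) u) ((MulAut.conj g) h)
      rw [h1, commute_iff_eq, commute_iff_eq, ← map_mul, ← map_mul, (MulAut.conj g).injective.eq_iff]
  rw [← Nat.card_congr e, ← c.cardS]
  have hsplit : {u // orderOf u = 2 ∧ Commute u h} ≃ Option {v // orderOf v = 2 ∧ v ≠ h ∧ Commute v h} :=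
    { toFun := fun u => if hu : (u : G) = h then none else some ⟨u, u.2.1, hu, u.2.2⟩
      invFun := fun o => o.elim ⟨h, c.inv, Commute.refl h⟩ fun v => ⟨v, v.2.1, v.2.2.2⟩
      left_inv := fun u => by
        by_cases hu : (u : G) = h
        · simp [hu]; exact Subtype.ext hu.symm
        · simp [hu]
      right_inv := fun o => by
        rcases o with _ | ⟨v, hv⟩
        · simp
        · simp [hv.2.1] }
  rw [Nat.card_congr hsplit, Finite.card_option]

/-- The centraliser of an element without commuting involution. -/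
theorem regular_data (c : Config G h n p R) [Finite G] {x : G} (hfree : ∀ v : G, orderOf v = 2 → ¬ Commute x v)
    (h3 : x ^ 3 ≠ 1) (hp : x ^ p ≠ 1) (hix : h * x * h = x⁻¹) :
    (∀ b, Commute b x → b ≠ 1 → ∀ y, Commute y b → Commute y x) ∧
      (∀ b, Commute b x → b ≠ 1 → ∀ v, orderOf v = 2 → ¬ Commute b v) ∧
      Nat.card (Subgroup.normalizer (Subgroup.centralizer {x} : Set G)) ≤
        2 * Nat.card (Subgroup.centralizer {x}) := by
  classical
  have hreg := c.regular x hfree h3 hp hix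
  set A := Subgroup.centralizer {x} with hA
  set N := Subgroup.normalizer (A : Set G) with hN
  obtain ⟨habel, φ, hφ⟩ := hreg
  have hmem : ∀ {b}, b ∈ A ↔ Commute b x := fun {b} => Subgroup.mem_centralizer_singleton_iff
  have hconjA : ∀ {b}, Commute b x → Commute (h * b * h) x := fun {b} hb => by
    have := commute_conj h hb
    rw [c.hinv, hix] at this
    simpa using this.inv_right
  have hodd : ∀ b, Commute b x → b ≠ 1 → b * b ≠ 1 := fun b hb hb1 e =>
    hfree b (invol_iff.2 ⟨e, hb1⟩) hb.symm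
  -- no fixed points
  have hfix : ∀ b, Commute b x → Commute b h → b = 1 := by
    intro b hb hbh
    by_contra hb1
    have hxx : Commute x x⁻¹ := (Commute.refl x).inv_right
    -- the conjugate of the involution commutes with `b`
    have hbv : Commute b (x * h * x⁻¹) := by
      have := commute_conj x hbh
      rwa [← hb.eq, mul_inv_cancel_right] at this
    have he := c.own b (x * h * x⁻¹) hbh (hodd b hb hb1)
      (by rw [← MulAut.conj_apply, MulEquiv.orderOf_eq, c.inv]) hbv
    exact hfree h c.inv (mul_inv_eq_iff_eq_mul.1 he)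
  -- hence inversion
  have hinv : ∀ b ∈ A, h * b * h = b⁻¹ := by
    intro b hb
    let f : A → A := fun a => ⟨(a : G)⁻¹ * (h * a * h), mul_mem (inv_mem a.2) (hmem.2 (hconjA (hmem.1 a.2)))⟩
    have hf : Function.Injective f := fun a a' e => by
      have e' : (a : G)⁻¹ * (h * a * h) = (a' : G)⁻¹ * (h * a' * h) := congrArg Subtype.val e
      have hca := habel _ _ (hmem.1 a.2) (hmem.1 a'.2)
      have h1 : h * ((a' : G) * (a : G)⁻¹) * h = (a' : G) * (a : G)⁻¹ := by
        calc h * ((a' : G) * (a : G)⁻¹) * h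
            = (h * a' * h) * ((h * a * h)⁻¹) := by rw [mul_inv_rev, mul_inv_rev, c.hinv]; simp [mul_assoc, c.hx]
          _ = (a' : G) * ((a' : G)⁻¹ * (h * a' * h)) * ((a : G)⁻¹ * (h * a * h))⁻¹ * (a : G)⁻¹ := by group
          _ = _ := by rw [e']; group
      have h2 : Commute ((a' : G) * (a : G)⁻¹) h := by
        show _ * h = h * _
        calc (a' : G) * (a : G)⁻¹ * h = h * ((a' : G) * (a : G)⁻¹) * h * h := by rw [h1]
          _ = _ := by rw [mul_assoc, c.hh, mul_one]
      have := hfix _ ((hmem.1 a'.2).mul_left (hmem.1 a.2).inv_left) h2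
      exact Subtype.ext (mul_inv_eq_one.1 this).symm
    obtain ⟨a, ha⟩ := Finite.injective_iff_surjective.1 hf ⟨b, hb⟩
    have hb' : b = (a : G)⁻¹ * (h * a * h) := (congrArg Subtype.val ha).symm
    rw [hb', mul_inv_rev, inv_inv]
    have hc := habel _ _ (hmem.1 (inv_mem a.2)) (hconjA (hmem.1 a.2))
    calc h * ((a : G)⁻¹ * (h * a * h)) * h = (h * (a : G)⁻¹ * h) * a := by simp [mul_assoc, c.hx, c.hh]
      _ = _ := by rw [mul_inv_rev, mul_inv_rev, c.hinv]; simp [mul_assoc]
  -- no commuting involutions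
  have hfreeb : ∀ b, Commute b x → b ≠ 1 → ∀ v, orderOf v = 2 → ¬ Commute b v := by
    intro b hb hb1 v hv hbv
    have hxv : Commute b (x * v * x⁻¹) := by
      have := commute_conj x hbv
      rwa [← hb.eq, mul_inv_cancel_right] at this
    have he := c.own_any hv (by rw [← MulAut.conj_apply, MulEquiv.orderOf_eq, hv]) hbv hxv (hodd b hb hb1)
    exact hfree v hv (mul_inv_eq_iff_eq_mul.1 he)
  have hcent : ∀ b, Commute b x → b ≠ 1 → ∀ y, Commute y b → Commute y x := by
    intro b hb hb1 y hy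
    have hb3 : b ^ 3 ≠ 1 := fun e => by
      haveI : Fact (Nat.Prime 3) := ⟨Nat.prime_three⟩
      obtain ⟨r, hr, hr1⟩ : ∃ r ∈ R, r ≠ 1 := by
        by_contra hc
        push Not at hc
        have := c.cardR
        rw [(Subgroup.eq_bot_iff_forall R).2 hc, Subgroup.card_bot] at this
        omega
      obtain ⟨g, rfl⟩ := isConj_iff.1 (c.conjR b (orderOf_eq_prime e hb1) r hr hr1)
      have h1 := c.expR _ (c.centR r hr hr1 (g⁻¹ * x * g) (by
        simpa [mul_assoc] using (commute_conj g⁻¹ hb).symm))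
      refine h3 ?_
      calc x ^ 3 = g * (g⁻¹ * x * g) ^ 3 * g⁻¹ := by simp [pow_succ, mul_assoc]
        _ = 1 := by rw [h1]; group
    have hbp : b ^ p ≠ 1 := fun e => hp (c.pcent x b e hb1 hb.symm)
    exact ((c.regular b (hfreeb b hb hb1) hb3 hbp (hinv b (hmem.2 hb))).1 x y hb.symm hy).symm
  refine ⟨hcent, hfreeb, ?_⟩
  -- the index in the normaliser
  have hker : Nat.card φ.ker ≤ Nat.card A :=
    Nat.card_le_card_of_injective (fun k : φ.ker => (⟨((k : N) : G), hmem.2 ((hφ _).1 k.2)⟩ : A))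
      fun a b e => Subtype.ext (Subtype.ext (congrArg (fun z : A => (z : G)) e :))
  have hNk : Nat.card N = Nat.card φ.range * Nat.card φ.ker := by
    rw [← φ.ker.index_mul_card, Subgroup.index_ker]
  -- the image has no element of order three
  have h3r : ¬ 3 ∣ Nat.card φ.range := by
    intro hd
    haveI : Fact (Nat.Prime 3) := ⟨Nat.prime_three⟩
    haveI : Finite φ.range := inferInstance
    obtain ⟨⟨y, k, rfl⟩, hy⟩ := exists_prime_orderOf_dvd_card' 3 hd
    have hφk : φ k ^ 3 = 1 ∧ φ k ≠ 1 := by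
      have h1 : orderOf (φ k) = 3 := (Subgroup.orderOf_coe _).trans hy
      exact ⟨(congrArg (φ k ^ ·) h1).symm.trans (pow_orderOf_eq_one _), fun e => by rw [e, orderOf_one] at h1; omega⟩
    have hkN : (k : G) ∈ N := k.2
    -- `k` lies in `A` times the centraliser of the involution
    obtain ⟨k', hk'⟩ : ∃ k', k' = (k : G) := ⟨_, rfl⟩
    have hxA : x ∈ A := hmem.2 (Commute.refl x)
    have hd' : h * (k' * h * k'⁻¹) ∈ A := by
      have h1 : ∀ b ∈ A, Commute (h * (k' * h * k'⁻¹)) b := fun b hb => by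
        obtain ⟨b', hb', rfl⟩ : ∃ b' ∈ A, b = k' * b' * k'⁻¹ := ⟨k'⁻¹ * b * k',
          (Subgroup.mem_normalizer_iff'.1 (hk' ▸ hkN) _).2 (by simpa [mul_assoc] using hb), by group⟩
        show _ = _
        have e1 := hinv _ hb
        have e2 := hinv _ hb'
        calc h * (k' * h * k'⁻¹) * (k' * b' * k'⁻¹) = h * (k' * (h * b' * h) * h * k'⁻¹) := by
              simp [mul_assoc, c.hh]
          _ = h * (k' * b'⁻¹ * h * k'⁻¹) := by rw [e2]
          _ = h * (k' * b' * k'⁻¹)⁻¹ * (k' * h * k'⁻¹) := by group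
          _ = h * (h * (k' * b' * k'⁻¹) * h) * (k' * h * k'⁻¹) := by rw [e1]
          _ = _ := by simp [mul_assoc, c.hx]
      exact hmem.2 (h1 x hxA)
    let sq : A → A := fun a => ⟨(a : G) * a, mul_mem a.2 a.2⟩
    have hsq : Function.Injective sq := fun a a' e => by
      have e' : (a : G) * a = (a' : G) * a' := congrArg Subtype.val e
      by_contra hne
      have hca := habel _ _ (hmem.1 a.2) (hmem.1 a'.2)
      refine hodd ((a : G) * (a' : G)⁻¹) ((hmem.1 a.2).mul_left (hmem.1 a'.2).inv_left)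
        (fun e'' => hne (Subtype.ext (mul_inv_eq_one.1 e''))) ?_
      calc (a : G) * (a' : G)⁻¹ * ((a : G) * (a' : G)⁻¹) = (a : G) * a * ((a' : G)⁻¹ * (a' : G)⁻¹) :=
            hca.inv_right.symm.mul_mul_mul_comm _ _
        _ = 1 := by rw [e']; group
    obtain ⟨a, ha⟩ := Finite.injective_iff_surjective.1 hsq ⟨_, inv_mem hd'⟩
    have ha' : (a : G) * a = (h * (k' * h * k'⁻¹))⁻¹ := congrArg Subtype.val ha
    obtain ⟨w, hw⟩ : ∃ w, w = (a : G)⁻¹ * k' := ⟨_, rfl⟩
    have hwh : Commute w h := by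
      have e1 := hinv a a.2
      show w * h = h * w
      rw [hw]
      calc (a : G)⁻¹ * k' * h = (a : G)⁻¹ * (h * (h * (k' * h * k'⁻¹))) * k' := by rw [c.hx]; group
        _ = (a : G)⁻¹ * (h * ((a : G) * a)⁻¹) * k' := by rw [ha', inv_inv]
        _ = (h * a * h) * (h * ((a : G) * a)⁻¹) * k' := by rw [e1]
        _ = h * ((a : G)⁻¹ * k') := by simp [mul_assoc, c.hx, c.hh]
    have hwN : w ∈ N := hw ▸ mul_mem (inv_mem (Subgroup.le_normalizer a.2)) (hk' ▸ hkN)
    have hwk : φ ⟨w, hwN⟩ ^ 3 = 1 ∧ φ ⟨w, hwN⟩ ≠ 1 → False := by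
      rintro ⟨e3, e1⟩
      have hwC : w ∈ Subgroup.centralizer {h} := Subgroup.mem_centralizer_singleton_iff.2 hwh.eq
      have h1 : (⟨w, hwN⟩ : N) ^ (4 * n) = 1 := Subtype.ext (by
        rw [← c.cardC]
        rw [SubmonoidClass.coe_pow]
        exact congrArg Subtype.val (pow_card_eq_one' (x := (⟨w, hwC⟩ : Subgroup.centralizer {h}))))
      have h2 : φ ⟨w, hwN⟩ ^ (4 * n) = 1 := by rw [← map_pow, h1, map_one]
      have h3' := orderOf_dvd_of_pow_eq_one h2
      rw [orderOf_eq_prime e3 e1] at h3'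
      exact c.three ((Nat.Coprime.dvd_mul_left (by norm_num : Nat.Coprime 3 4)).1 h3')
    refine hwk ?_
    have : (⟨w, hwN⟩ : N) = (⟨(a : G), Subgroup.le_normalizer a.2⟩)⁻¹ * k := Subtype.ext (by
      simp [hw, hk'])
    rw [this, map_mul, map_inv, (hφ _).2 (hmem.1 a.2), inv_one, one_mul]
    exact hφk
  have h6 : Nat.card φ.range ∣ 6 := by
    have := Subgroup.card_subgroup_dvd_card φ.range
    rwa [Nat.card_perm, Nat.card_fin] at this
  have h2 : Nat.card φ.range ≤ 2 := by
    have := Nat.le_of_dvd (by norm_num) h6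
    interval_cases hc : Nat.card φ.range <;> first | omega | (norm_num at h6 h3r)
  rw [hNk]
  exact Nat.mul_le_mul h2 hker

/-- A non-trivial element of `R`. -/
theorem exists_r (c : Config G h n p R) : ∃ r ∈ R, r ≠ 1 := by
  by_contra hc
  push Not at hc
  have := c.cardR
  rw [(Subgroup.eq_bot_iff_forall R).2 hc, Subgroup.card_bot] at this
  omega

/-- Elements commuting with an involution take up most of the group. -/
theorem card_bound (c : Config G h n p R) [Finite G] :
    Nat.card {v : G // orderOf v = 2} * (3 * n - 2) ≤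
      Nat.card {x : G // orderOf x ≠ 2 ∧ x ≠ 1 ∧ ∃ v, orderOf v = 2 ∧ Commute x v} := by
  classical
  set S := {x : G // orderOf x ≠ 2 ∧ x ≠ 1 ∧ ∃ v, orderOf v = 2 ∧ Commute x v}
  have hfib : ∀ v : {v : G // orderOf v = 2},
      3 * n - 2 ≤ Nat.card {x : G // orderOf x ≠ 2 ∧ x ≠ 1 ∧ Commute x (v : G)} := by
    rintro ⟨v, hv⟩
    obtain ⟨g, hg⟩ := isConj_iff.1 (c.conj v hv)
    have hC : Nat.card (Subgroup.centralizer {v}) = 4 * n := by
      have h1 := card_class v
      have h2 := c.card_invol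
      have h3 : Nat.card {x // IsConj v x} = Nat.card {x : G // orderOf x = 2} :=
        Nat.card_congr (Equiv.subtypeEquivRight fun x => ⟨fun hx => by
          obtain ⟨y, rfl⟩ := isConj_iff.1 hx
          rw [← MulAut.conj_apply, MulEquiv.orderOf_eq, hv], fun hx => (c.conj v hv).symm.trans (c.conj x hx)⟩)
      rw [h3, ← h2] at h1
      have : 0 < Nat.card {x : G // orderOf x = 2} := Nat.card_pos_iff.2 ⟨⟨⟨v, hv⟩⟩, inferInstance⟩
      exact Nat.eq_of_mul_eq_mul_left this h1
    have : Fintype G := Fintype.ofFinite G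
    have hsub : ∀ x, x ∈ Subgroup.centralizer {v} ↔ Commute x v := fun x => Subgroup.mem_centralizer_singleton_iff
    have e1 : Nat.card (Subgroup.centralizer {v}) =
        (Finset.univ.filter fun x : G => Commute x v).card := by
      rw [Nat.card_congr (Equiv.subtypeEquivRight hsub), Nat.card_eq_fintype_card, Fintype.card_subtype]
    have e2 : Nat.card {x : G // orderOf x ≠ 2 ∧ x ≠ 1 ∧ Commute x v} =
        (Finset.univ.filter fun x : G => orderOf x ≠ 2 ∧ x ≠ 1 ∧ Commute x v).card := by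
      rw [Nat.card_eq_fintype_card, Fintype.card_subtype]
    have e3 := c.card_commuting hv
    rw [Nat.card_eq_fintype_card, Fintype.card_subtype] at e3
    have h1 : (Finset.univ.filter fun x : G => Commute x v).card ≤
        ((Finset.univ.filter fun x : G => orderOf x ≠ 2 ∧ x ≠ 1 ∧ Commute x v) ∪
          (Finset.univ.filter fun u : G => orderOf u = 2 ∧ Commute u v) ∪ {1}).card := by
      refine Finset.card_le_card fun x hx => ?_
      simp only [Finset.mem_filter, Finset.mem_univ, true_and] at hx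
      simp only [Finset.mem_union, Finset.mem_filter, Finset.mem_univ, true_and, Finset.mem_singleton]
      tauto
    have h2 := (h1.trans (Finset.card_union_le _ _)).trans (Nat.add_le_add_right (Finset.card_union_le _ _) _)
    rw [Finset.card_singleton, e3, ← e1, hC, ← e2] at h2
    show 3 * n - 2 ≤ Nat.card {x : G // orderOf x ≠ 2 ∧ x ≠ 1 ∧ Commute x v}
    omega
  have : Fintype {v : G // orderOf v = 2} := Fintype.ofFinite _
  calc Nat.card {v : G // orderOf v = 2} * (3 * n - 2)
      ≤ ∑ v : {v : G // orderOf v = 2}, Nat.card {x : G // orderOf x ≠ 2 ∧ x ≠ 1 ∧ Commute x (v : G)} := by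
        rw [Nat.card_eq_fintype_card, ← smul_eq_mul, ← Finset.card_univ, ← Finset.sum_const]
        exact Finset.sum_le_sum fun v _ => hfib v
    _ ≤ Nat.card S := by
        rw [← Nat.card_sigma]
        refine Nat.card_le_card_of_injective (fun z => ⟨z.2, z.2.2.1, z.2.2.2.1, z.1, z.1.2, z.2.2.2.2⟩) ?_
        rintro ⟨⟨v, hv⟩, x, hx1, hx2, hxv⟩ ⟨⟨w, hw⟩, y, hy1, hy2, hyw⟩ e
        have exy : x = y := congrArg (fun z : S => (z : G)) e
        subst exy
        have hxx : x * x ≠ 1 := fun e' => hx1 (invol_iff.2 ⟨e', hx2⟩)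
        obtain rfl : w = v := c.own_any hv hw hxv hyw hxx
        rfl

/-- Every inverted element without commuting involution has order three or `p`. -/
theorem no_regular (c : Config G h n p R) [Finite G] {x : G} (hfree : ∀ v : G, orderOf v = 2 → ¬ Commute x v)
    (h3 : x ^ 3 ≠ 1) (hp : x ^ p ≠ 1) (hix : h * x * h = x⁻¹) : False := by
  classical
  obtain ⟨hcent, hfreeb, hcard⟩ := c.regular_data hfree h3 hp hix
  set A := Subgroup.centralizer {x} with hA
  set N := Subgroup.normalizer (A : Set G) with hN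
  have hmem : ∀ {b}, b ∈ A ↔ Commute b x := fun {b} => Subgroup.mem_centralizer_singleton_iff
  have habel := (c.regular x hfree h3 hp hix).1
  have hcentA : ∀ b ∈ A, b ≠ 1 → Subgroup.centralizer {b} = A := fun b hb hb1 => le_antisymm
    (fun y hy => hmem.2 (hcent b (hmem.1 hb) hb1 y (Subgroup.mem_centralizer_singleton_iff.1 hy)))
    (fun y hy => Subgroup.mem_centralizer_singleton_iff.2 (habel y b (hmem.1 hy) (hmem.1 hb)).eq)
  have hx1 : x ≠ 1 := fun e => h3 (by rw [e, one_pow])
  have hA5 : 5 ≤ Nat.card A := by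
    have hd : orderOf x ∣ Nat.card A := Subgroup.orderOf_dvd_natCard _ (hmem.2 (Commute.refl x))
    have hodd : ¬ 2 ∣ orderOf x := fun hd2 => by
      obtain ⟨k, hk⟩ := hd2
      have hk0 : k ≠ 0 := fun e => (orderOf_pos x).ne' (by rw [hk, e, mul_zero])
      refine hfree (x ^ k) ?_ ((Commute.refl x).pow_right k)
      rw [orderOf_pow' x hk0, hk, Nat.gcd_eq_right (Dvd.intro_left 2 rfl),
        Nat.mul_div_cancel _ (Nat.pos_of_ne_zero hk0)]
    have hne1 : orderOf x ≠ 1 := fun e => hx1 (orderOf_eq_one_iff.1 e)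
    have hne3 : orderOf x ≠ 3 := fun e => h3 (e ▸ pow_orderOf_eq_one x)
    have := Nat.le_of_dvd Nat.card_pos hd
    have := orderOf_pos x
    omega
  -- the conjugates of the non-trivial elements of `A`
  set T := {y : G // ∀ v : G, orderOf v = 2 → ¬ Commute y v}
  have : Fintype G := Fintype.ofFinite G
  have hG : Nat.card G * (Nat.card A - 1) ≤ Nat.card N * Nat.card T := by
    have hsrc : Nat.card (G × {b : A // b ≠ 1}) = Nat.card G * (Nat.card A - 1) := by
      rw [Nat.card_prod]
      congr 1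
      rw [Nat.card_eq_fintype_card, Nat.card_eq_fintype_card, Fintype.card_subtype_compl,
        Fintype.card_subtype_eq]
    rw [← hsrc]
    let F : G × {b : A // b ≠ 1} → T := fun z => ⟨z.1 * (z.2 : A) * z.1⁻¹, fun v hv hc => by
      refine hfreeb _ (hmem.1 z.2.1.2) (fun e => z.2.2 (Subtype.ext e)) (z.1⁻¹ * v * z.1)
        (by simpa using (MulEquiv.orderOf_eq (MulAut.conj z.1⁻¹) v).trans hv) ?_
      simpa [mul_assoc] using commute_conj z.1⁻¹ hc⟩
    have hfib : ∀ y : T, Nat.card {z // F z = y} ≤ Nat.card N := by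
      intro y
      by_cases hne : Nonempty {z // F z = y}
      swap
      · have : IsEmpty {z // F z = y} := not_nonempty_iff.1 hne
        simp
      obtain ⟨⟨⟨g₀, b₀, hb₀⟩, h₀⟩⟩ := hne
      have h₀' : g₀ * (b₀ : G) * g₀⁻¹ = (y : G) := congrArg (fun z : T => (z : G)) h₀
      have hin : ∀ z : {z // F z = y}, g₀⁻¹ * z.1.1 ∈ N := by
        rintro ⟨⟨g, b, hb⟩, hz⟩
        have hz' : g * (b : G) * g⁻¹ = (y : G) := congrArg (fun z : T => (z : G)) hz
        have hbb : (b₀ : G) = (g₀⁻¹ * g) * (b : G) * (g₀⁻¹ * g)⁻¹ := by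
          calc (b₀ : G) = g₀⁻¹ * (g₀ * (b₀ : G) * g₀⁻¹) * g₀ := by group
            _ = _ := by rw [h₀', ← hz']; group
        refine Subgroup.mem_normalizer_iff.2 fun a => ?_
        show a ∈ A ↔ g₀⁻¹ * g * a * (g₀⁻¹ * g)⁻¹ ∈ A
        conv_rhs => rw [← hcentA _ b₀.2 (fun e => hb₀ (Subtype.ext e))]
        conv_lhs => rw [← hcentA _ b.2 (fun e => hb (Subtype.ext e))]
        rw [Subgroup.mem_centralizer_singleton_iff, Subgroup.mem_centralizer_singleton_iff, hbb]
        constructor
        · intro e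
          exact (commute_conj (g₀⁻¹ * g) e).eq
        · intro e
          simpa [mul_assoc] using (commute_conj (g₀⁻¹ * g)⁻¹ e).eq
      refine Nat.card_le_card_of_injective (fun z => (⟨_, hin z⟩ : N)) ?_
      rintro ⟨⟨g, b, hb⟩, hz⟩ ⟨⟨g', b', hb'⟩, hz'⟩ e
      have e' : g = g' := mul_left_cancel (congrArg (fun k : N => (k : G)) e :)
      subst e'
      have h1 : g * (b : G) * g⁻¹ = g * (b' : G) * g⁻¹ :=
        congrArg (fun z : T => (z : G)) (hz.trans hz'.symm)
      obtain rfl : b = b' := Subtype.ext (mul_left_cancel (mul_right_cancel h1))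
      rfl
    calc Nat.card (G × {b : A // b ≠ 1}) = ∑ y : T, Nat.card {z // F z = y} := by
          rw [← Nat.card_congr (Equiv.sigmaFiberEquiv F), Nat.card_sigma]
      _ ≤ ∑ _y : T, Nat.card N := Finset.sum_le_sum fun y _ => hfib y
      _ = _ := by rw [Finset.sum_const, Finset.card_univ, smul_eq_mul, mul_comm, Nat.card_eq_fintype_card (α := T)]
  -- disjointness
  have hdisj : Nat.card {v : G // orderOf v = 2} +
      Nat.card {x : G // orderOf x ≠ 2 ∧ x ≠ 1 ∧ ∃ v, orderOf v = 2 ∧ Commute x v} + Nat.card T ≤ Nat.card G := by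
    rw [← Nat.card_sum, ← Nat.card_sum]
    refine Nat.card_le_card_of_injective
      (Sum.elim (Sum.elim (fun z => (z : G)) fun z => (z : G)) fun z => (z : G)) ?_
    rintro ((⟨a, ha⟩ | ⟨a, ha, ha1, v, hv, hav⟩) | ⟨a, ha⟩) ((⟨b, hb⟩ | ⟨b, hb, hb1, w, hw, hbw⟩) | ⟨b, hb⟩) e <;>
      simp only [Sum.elim_inl, Sum.elim_inr] at e <;> subst e
    · rfl
    · exact absurd ha hb
    · exact absurd (Commute.refl _) (hb _ ha)
    · exact absurd hb ha
    · rfl
    · exact absurd hav (hb v hv)
    · exact absurd (Commute.refl _) (ha _ hb)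
    · exact absurd hbw (ha w hw)
    · rfl
  have hb := c.card_bound
  have ht := c.card_invol
  obtain ⟨k, hk⟩ := c.four
  have hn0 : 0 < n := Nat.pos_of_ne_zero fun e => c.three (e ▸ dvd_zero 3)
  have hgpos : 0 < Nat.card G := Nat.card_pos
  have htpos : 0 < Nat.card {v : G // orderOf v = 2} := Nat.card_pos_iff.2 ⟨⟨⟨h, c.inv⟩⟩, inferInstance⟩
  generalize Nat.card {v : G // orderOf v = 2} = t at hb ht hdisj htpos
  generalize Nat.card {x : G // orderOf x ≠ 2 ∧ x ≠ 1 ∧ ∃ v, orderOf v = 2 ∧ Commute x v} = s at hb hdisj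
  generalize Nat.card T = m at hG hdisj
  generalize Nat.card A = a at hG hcard hA5
  generalize Nat.card N = N' at hG hcard
  generalize Nat.card G = g at hG hdisj hgpos ht
  obtain ⟨j, rfl⟩ : ∃ j, n = j + 4 := ⟨n - 4, by omega⟩
  obtain ⟨a', rfl⟩ : ∃ a', a = a' + 5 := ⟨a - 5, by omega⟩
  rw [show 3 * (j + 4) - 2 = 3 * j + 10 by omega] at hb
  rw [show a' + 5 - 1 = a' + 4 by omega] at hG
  have h1 : g * (a' + 4) ≤ 2 * (a' + 5) * m := hG.trans (Nat.mul_le_mul_right m hcard)
  subst ht
  have hm : m ≤ t * (j + 5) := by nlinarith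
  have h2 := Nat.mul_le_mul_left (2 * (a' + 5)) hm
  have h4 : 2 * (a' + 5) * (j + 5) + 1 ≤ 4 * (j + 4) * (a' + 4) := by nlinarith
  have h5 := Nat.mul_le_mul_left t h4
  nlinarith

/-- A subgroup of order `p` is a Sylow subgroup and meets every class of elements of order `p`. -/
theorem exists_conj_p (c : Config G h n p R) [Finite G] {x z : G} (hx : orderOf x = p) (hz : orderOf z = p) :
    ∃ g : G, g⁻¹ * z * g ∈ Subgroup.zpowers x := by
  haveI : Fact p.Prime := ⟨c.prime⟩
  have hne : ∀ {a : G}, orderOf a = p → a ≠ 1 := fun e e1 => c.prime.one_lt.ne (by rw [← e, e1, orderOf_one])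
  obtain ⟨P, hP⟩ := (IsPGroup.of_card (n := 1) (p := p) (G := Subgroup.zpowers x)
    (by rw [Nat.card_zpowers, hx, pow_one])).exists_le_sylow
  obtain ⟨Q, hQ⟩ := (IsPGroup.of_card (n := 1) (p := p) (G := Subgroup.zpowers z)
    (by rw [Nat.card_zpowers, hz, pow_one])).exists_le_sylow
  have hxP : x ∈ (P : Subgroup G) := hP (Subgroup.mem_zpowers x)
  haveI : Nontrivial (P : Subgroup G) := ⟨⟨⟨x, hxP⟩, 1, fun e => hne hx (congrArg Subtype.val e)⟩⟩
  haveI := P.isPGroup'.center_nontrivial
  obtain ⟨a, ha⟩ := exists_ne (1 : Subgroup.center (P : Subgroup G))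
  have hac : ∀ b ∈ (P : Subgroup G), Commute b ((a : (P : Subgroup G)) : G) := fun b hb =>
    congrArg Subtype.val (Subgroup.mem_center_iff.1 a.2 ⟨b, hb⟩)
  have ha1 : ((a : (P : Subgroup G)) : G) ≠ 1 := fun e => ha (Subtype.ext (Subtype.ext e))
  have haz : ((a : (P : Subgroup G)) : G) ∈ Subgroup.zpowers x :=
    c.pcyc _ x (hx ▸ pow_orderOf_eq_one x) (hne hx) (hac x hxP).symm
  have hap : ((a : (P : Subgroup G)) : G) ^ p = 1 := by
    obtain ⟨i, hi⟩ := mem_powers_iff_mem_zpowers.2 haz
    dsimp only at hi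
    rw [← hi, ← pow_mul, mul_comm, pow_mul, ← hx, pow_orderOf_eq_one, one_pow]
  obtain ⟨g, hg⟩ := MulAction.exists_smul_eq G Q P
  refine ⟨g⁻¹, ?_⟩
  have hin : g * z * g⁻¹ ∈ (P : Subgroup G) := by
    rw [← hg, Sylow.coe_subgroup_smul]
    exact Subgroup.smul_mem_pointwise_smul _ (MulAut.conj g) _ (hQ (Subgroup.mem_zpowers z))
  rw [inv_inv]
  exact Subgroup.zpowers_le.2 haz (c.pcyc _ _ hap ha1 (hac _ hin))

/-- Inverted elements of order `p` and the automizer of their group. -/
theorem card_inverted_p (c : Config G h n p R) [Finite G] {x : G} (hix : h * x * h = x⁻¹) (hx : orderOf x = p)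
    {k : ℕ} (hk : Nat.card (Subgroup.normalizer (Subgroup.zpowers x : Set G)) = p * k) :
    Nat.card {z : G // h * z * h = z⁻¹ ∧ orderOf z = p} * k = 4 * n * (p - 1) ∧
      Nat.card {v : G // orderOf v = 2} * Nat.card {z : G // h * z * h = z⁻¹ ∧ orderOf z = p} =
        Nat.card {z : G // orderOf z = p} * p := by
  classical
  haveI : Fact p.Prime := ⟨c.prime⟩
  set Sp := {z : G // orderOf z = p}
  set Ip := {z : G // h * z * h = z⁻¹ ∧ orderOf z = p}
  have : Fintype Sp := Fintype.ofFinite _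
  have : Fintype {v : G // orderOf v = 2} := Fintype.ofFinite _
  have hne : ∀ {a : G}, orderOf a = p → a ≠ 1 := fun e e1 => c.prime.one_lt.ne (by rw [← e, e1, orderOf_one])
  set Z := Subgroup.zpowers x with hZ
  set N := Subgroup.normalizer (Z : Set G) with hN
  -- all elements of order `p`
  have hS : Nat.card Sp * Nat.card N = (p - 1) * Nat.card G := by
    let A := {a : Z // a ≠ 1}
    have hA : Nat.card A = p - 1 := by
      haveI : Fintype Z := Fintype.ofFinite _
      rw [Nat.card_eq_fintype_card, Fintype.card_subtype_compl, Fintype.card_subtype_eq, ← Nat.card_eq_fintype_card,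
        hZ, Nat.card_zpowers, hx]
    have hAp : ∀ a : A, orderOf ((a : Z) : G) = p := fun a => by
      refine orderOf_eq_prime ?_ fun e => a.2 (Subtype.ext e)
      obtain ⟨i, hi⟩ := mem_powers_iff_mem_zpowers.2 (a : Z).2
      dsimp only at hi
      rw [← hi, ← pow_mul, mul_comm, pow_mul, ← hx, pow_orderOf_eq_one, one_pow]
    let f : G × A → Sp := fun ga => ⟨ga.1 * ((ga.2 : Z) : G) * ga.1⁻¹, by
      rw [← MulAut.conj_apply, MulEquiv.orderOf_eq]; exact hAp _⟩
    have hfib : ∀ z : Sp, Nat.card {ga // f ga = z} = Nat.card N := by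
      rintro ⟨z, hz⟩
      obtain ⟨g₀, hg₀⟩ := c.exists_conj_p hx hz
      have hz0 : g₀⁻¹ * z * g₀ ≠ 1 := fun e => hne hz (by rw [show z = g₀ * (g₀⁻¹ * z * g₀) * g₀⁻¹ by group, e]; group)
      obtain ⟨a₀, ha₀⟩ : ∃ a₀, a₀ = g₀⁻¹ * z * g₀ := ⟨_, rfl⟩
      rw [← ha₀] at hg₀ hz0
      have hgen : ∀ a : G, a ∈ Z → a ≠ 1 → Subgroup.zpowers a = Z := fun a ha ha1 =>
        Subgroup.eq_of_le_of_card_ge (Subgroup.zpowers_le.2 ha) (le_of_eq (by
          rw [hZ, Nat.card_zpowers, Nat.card_zpowers, hx, hAp ⟨⟨a, ha⟩, fun e => ha1 (congrArg Subtype.val e)⟩]))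
      let e : N ≃ {ga // f ga = (⟨z, hz⟩ : Sp)} :=
        { toFun := fun m => ⟨(g₀ * m, ⟨⟨(m : G)⁻¹ * a₀ * m,
              (Subgroup.mem_normalizer_iff'.1 m.2 _).2 (by simpa [mul_assoc] using hg₀)⟩,
              fun e => hz0 (by
                have e' : (m : G)⁻¹ * a₀ * m = 1 := congrArg Subtype.val e
                rw [show a₀ = (m : G) * ((m : G)⁻¹ * a₀ * m) * (m : G)⁻¹ by group, e']; group)⟩),
            Subtype.ext (by show g₀ * m * ((m : G)⁻¹ * a₀ * m) * (g₀ * m)⁻¹ = z; rw [ha₀]; group)⟩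
          invFun := fun ga => ⟨g₀⁻¹ * ga.1.1, by
            have h1 : ga.1.1 * ((ga.1.2 : Z) : G) * ga.1.1⁻¹ = z := congrArg Subtype.val ga.2
            have h2 : a₀ = g₀⁻¹ * ga.1.1 * ((ga.1.2 : Z) : G) * (g₀⁻¹ * ga.1.1)⁻¹ := by
              rw [ha₀]; exact (congrArg (fun t => g₀⁻¹ * t * g₀) h1).symm.trans (by group)
            refine Subgroup.mem_normalizer_iff.2 fun b => ?_
            have key : ∀ (g a a' : G), a' = g * a * g⁻¹ → Subgroup.zpowers a = Z → Subgroup.zpowers a' = Z →
                ∀ b, b ∈ Z ↔ g * b * g⁻¹ ∈ Z := by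
              intro g a a' e ea ea' b
              conv_lhs => rw [← ea]
              conv_rhs => rw [← ea', e]
              simp only [Subgroup.mem_zpowers_iff, ← MulAut.conj_apply, ← map_zpow, EquivLike.apply_eq_iff_eq]
            exact key _ _ _ h2 (hgen _ (ga.1.2 : Z).2 fun e => ga.1.2.2 (Subtype.ext e)) (hgen _ hg₀ hz0) b⟩
          left_inv := fun m => Subtype.ext (by simp)
          right_inv := fun ga => by
            have h1 : ga.1.1 * ((ga.1.2 : Z) : G) * ga.1.1⁻¹ = z := congrArg Subtype.val ga.2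
            refine Subtype.ext (Prod.ext ?_ (Subtype.ext (Subtype.ext ?_)))
            · show g₀ * (g₀⁻¹ * ga.1.1) = ga.1.1; group
            · show (g₀⁻¹ * ga.1.1)⁻¹ * a₀ * (g₀⁻¹ * ga.1.1) = _
              rw [ha₀]
              exact (congrArg (fun t => (g₀⁻¹ * ga.1.1)⁻¹ * (g₀⁻¹ * t * g₀) * (g₀⁻¹ * ga.1.1)) h1).symm.trans
                (by group) }
      exact (Nat.card_congr e).symm
    calc Nat.card Sp * Nat.card N = ∑ z : Sp, Nat.card {ga // f ga = z} := by
          rw [Finset.sum_congr rfl fun z _ => hfib z, Finset.sum_const, Finset.card_univ, smul_eq_mul,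
            Nat.card_eq_fintype_card (α := Sp)]
      _ = Nat.card (G × A) := by rw [← Nat.card_congr (Equiv.sigmaFiberEquiv f), Nat.card_sigma]
      _ = _ := by rw [Nat.card_prod, hA, mul_comm]
  -- each has `p` inverting involutions
  set P := {z : G × G // orderOf z.1 = 2 ∧ orderOf z.2 = p ∧ z.1 * z.2 * z.1 = z.2⁻¹}
  have hA : Nat.card P = Nat.card Sp * p := by
    let e : P ≃ Σ z : Sp, {u : G // orderOf u = 2 ∧ u * z * u = (z : G)⁻¹} :=
      ⟨fun z => ⟨⟨z.1.2, z.2.2.1⟩, ⟨z.1.1, z.2.1, z.2.2.2⟩⟩, fun z => ⟨(z.2, z.1), z.2.2.1, z.1.2, z.2.2.2⟩,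
        fun z => rfl, fun z => rfl⟩
    rw [Nat.card_congr e, Nat.card_sigma, Finset.sum_congr rfl (g := fun _ => p), Finset.sum_const,
      Finset.card_univ, smul_eq_mul, Nat.card_eq_fintype_card (α := Sp)]
    rintro ⟨z, hz⟩ -
    obtain ⟨g, hg⟩ := c.exists_conj_p hx hz
    have hv : orderOf (g * h * g⁻¹) = 2 := by rw [← MulAut.conj_apply, MulEquiv.orderOf_eq, c.inv]
    obtain ⟨v, hvdef⟩ : ∃ v, v = g * h * g⁻¹ := ⟨_, rfl⟩
    rw [← hvdef] at hv
    obtain ⟨hvv, hv1⟩ := invol_iff.1 hv
    have hvz : v * z * v = z⁻¹ := by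
      obtain ⟨i, hi⟩ := mem_powers_iff_mem_zpowers.2 hg
      dsimp only at hi
      have h1 : h * x ^ i * h = (x ^ i)⁻¹ := by
        have := map_pow (MulAut.conj h) x i
        rw [MulAut.conj_apply, MulAut.conj_apply, c.hinv, hix, inv_pow] at this
        exact this
      rw [hi] at h1
      calc v * z * v = g * (h * (g⁻¹ * z * g) * h) * g⁻¹ := by rw [hvdef]; group
        _ = z⁻¹ := by rw [h1]; group
    have hvm : ∀ s ∈ Subgroup.zpowers z, v * s * v = s⁻¹ := fun s hs => by
      obtain ⟨i, rfl⟩ := Subgroup.mem_zpowers_iff.1 hs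
      have := map_zpow (MulAut.conj v) z i
      rw [MulAut.conj_apply, MulAut.conj_apply, inv_eq_of_mul_eq_one_right hvv, hvz, inv_zpow] at this
      exact this
    let e' : Subgroup.zpowers z ≃ {u : G // orderOf u = 2 ∧ u * z * u = z⁻¹} :=
      { toFun := fun s => ⟨v * s, by
          have h1 : v * (s : G) * (v * s) = 1 := by rw [← mul_assoc, hvm s s.2, inv_mul_cancel]
          refine ⟨invol_iff.2 ⟨h1, fun e => ?_⟩, ?_⟩
          · have hsv : (s : G) = v := (eq_inv_of_mul_eq_one_right e).trans (inv_eq_of_mul_eq_one_right hvv)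
            have h2 := Subgroup.orderOf_dvd_natCard _ s.2
            rw [hsv, hv, Nat.card_zpowers, hz] at h2
            have := (Nat.prime_dvd_prime_iff_eq Nat.prime_two c.prime).1 h2
            have := c.five
            omega
          · have hcs : Commute (s : G) z := by
              obtain ⟨i, hi⟩ := Subgroup.mem_zpowers_iff.1 s.2
              rw [← hi]; exact (Commute.refl z).zpow_left i
            calc v * (s : G) * z * (v * s) = v * ((s : G) * z) * v * s := by group
              _ = v * (z * s) * v * s := by rw [hcs.eq]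
              _ = (v * z * v) * ((v * v)⁻¹ * (v * (s : G) * v) * s) := by rw [hvv]; simp [mul_assoc, ← mul_assoc v v, hvv]
              _ = z⁻¹ := by rw [hvz, hvm s s.2, hvv]; group⟩
        invFun := fun u => ⟨v * u, by
          refine c.pcyc _ z (hz ▸ pow_orderOf_eq_one z) (hne hz) ?_
          have h1 : (u : G) * z * u = z⁻¹ := u.2.2
          have hu := (invol_iff.1 u.2.1).1
          show _ = _
          calc v * (u : G) * z = v * ((u : G) * z * u) * u := by simp [mul_assoc, hu]
            _ = v * z⁻¹ * u := by rw [h1]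
            _ = v * (v * z * v) * u := by rw [hvz]
            _ = _ := by simp [← mul_assoc, hvv]⟩
        left_inv := fun s => Subtype.ext (by simp [← mul_assoc, hvv])
        right_inv := fun u => Subtype.ext (by simp [← mul_assoc, hvv]) }
    rw [← Nat.card_congr e', Nat.card_zpowers, hz]
  have hB : Nat.card P = Nat.card {v : G // orderOf v = 2} * Nat.card Ip := by
    let e : P ≃ Σ u : {v : G // orderOf v = 2}, {z : G // (u : G) * z * u = z⁻¹ ∧ orderOf z = p} :=
      ⟨fun z => ⟨⟨z.1.1, z.2.1⟩, ⟨z.1.2, z.2.2.2, z.2.2.1⟩⟩, fun z => ⟨(z.1, z.2), z.1.2, z.2.2.2, z.2.2.1⟩,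
        fun z => rfl, fun z => rfl⟩
    rw [Nat.card_congr e, Nat.card_sigma, Finset.sum_congr rfl (g := fun _ => Nat.card Ip), Finset.sum_const,
      Finset.card_univ, smul_eq_mul, Nat.card_eq_fintype_card (α := {v : G // orderOf v = 2})]
    rintro ⟨u, hu⟩ -
    obtain ⟨g, rfl⟩ := isConj_iff.1 (c.conj u hu)
    refine Nat.card_congr ((MulAut.conj g).toEquiv.subtypeEquiv fun z => ?_).symm
    show _ ↔ g * h * g⁻¹ * (g * z * g⁻¹) * (g * h * g⁻¹) = (g * z * g⁻¹)⁻¹ ∧ orderOf (MulAut.conj g z) = p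
    rw [MulEquiv.orderOf_eq,
      show g * h * g⁻¹ * (g * z * g⁻¹) * (g * h * g⁻¹) = g * (h * z * h) * g⁻¹ by group,
      show (g * z * g⁻¹)⁻¹ = g * z⁻¹ * g⁻¹ by group, mul_left_inj, mul_right_inj]
  rw [hA] at hB
  rw [hk, ← c.card_invol] at hS
  have hpos : 0 < Nat.card {v : G // orderOf v = 2} := Nat.card_pos_iff.2 ⟨⟨⟨h, c.inv⟩⟩, inferInstance⟩
  refine ⟨Nat.eq_of_mul_eq_mul_left hpos ?_, hB.symm⟩
  calc Nat.card {v : G // orderOf v = 2} * (Nat.card Ip * k) = Nat.card Sp * p * k := by rw [← mul_assoc, ← hB]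
    _ = Nat.card Sp * (p * k) := by ring
    _ = _ := by rw [hS]; ring

/-- An element carrying a generator of a finite cyclic group into it normalises it. -/
theorem mem_normalizer_of_conj [Finite G] {x z : G} (h : z * x * z⁻¹ ∈ Subgroup.zpowers x) :
    z ∈ Subgroup.normalizer (Subgroup.zpowers x : Set G) := by
  have hle : (Subgroup.zpowers x).map (MulAut.conj z).toMonoidHom ≤ Subgroup.zpowers x := by
    rw [MonoidHom.map_zpowers, Subgroup.zpowers_le]
    exact h
  have heq : (Subgroup.zpowers x).map (MulAut.conj z).toMonoidHom = Subgroup.zpowers x :=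
    Subgroup.eq_of_le_of_card_ge hle (le_of_eq (Nat.card_congr
      (Subgroup.equivMapOfInjective _ _ (MulAut.conj z).injective).toEquiv))
  refine Subgroup.mem_normalizer_iff.2 fun b => ?_
  conv_rhs => rw [← heq]
  exact ⟨fun hb => ⟨b, hb, rfl⟩, fun ⟨b', hb', e⟩ => by
    have : b' = b := by simpa using e
    exact this ▸ hb'⟩

/-- The automizer: of order two or four, or the cyclic part of an involution centraliser. -/
theorem exists_automizer (c : Config G h n p R) [Finite G] {x : G} (hix : h * x * h = x⁻¹) (hx : orderOf x = p) :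
    ∃ k, Nat.card (Subgroup.normalizer (Subgroup.zpowers x : Set G)) = p * k ∧ 0 < k ∧ (k ≤ 4 ∨ k = 2 * n) := by
  classical
  haveI : Fact p.Prime := ⟨c.prime⟩
  have hx1 : x ≠ 1 := fun e => c.prime.one_lt.ne (by rw [← hx, e, orderOf_one])
  have hxp : x ^ p = 1 := hx ▸ pow_orderOf_eq_one x
  set Z := Subgroup.zpowers x with hZ
  set N := Subgroup.normalizer (Z : Set G) with hN
  have hZp : Nat.card Z = p := by rw [hZ, Nat.card_zpowers, hx]
  obtain ⟨φ, hφ⟩ : ∃ φ, φ = Z.normalizerMonoidHom := ⟨_, rfl⟩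
  have hkerx : ∀ m : N, φ m = 1 ↔ Commute (m : G) x := fun m => by
    rw [← MonoidHom.mem_ker, hφ, Subgroup.normalizerMonoidHom_ker, Subgroup.mem_subgroupOf,
      Subgroup.mem_centralizer_iff]
    constructor
    · exact fun hm => (hm x (Subgroup.mem_zpowers x)).symm
    · intro hm s hs
      obtain ⟨i, rfl⟩ := Subgroup.mem_zpowers_iff.1 hs
      exact (hm.zpow_right i).symm.eq
  have hker : Nat.card φ.ker = p := by
    rw [← hZp]
    refine Nat.card_congr
      { toFun := fun m => ⟨((m : N) : G), c.pcyc _ x hxp hx1 ((hkerx _).1 m.2)⟩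
        invFun := fun s => ⟨⟨s, Subgroup.le_normalizer s.2⟩, (hkerx _).2 (by
          obtain ⟨i, hi⟩ := Subgroup.mem_zpowers_iff.1 s.2
          show Commute (s : G) x
          rw [← hi]; exact (Commute.refl x).zpow_left i)⟩
        left_inv := fun m => rfl
        right_inv := fun s => rfl }
  haveI : IsCyclic Z := inferInstanceAs (IsCyclic (Subgroup.zpowers x))
  have hcyc : IsCyclic φ.range := by
    haveI : IsCyclic (MulAut Z) := by
      haveI : IsCyclic (ZMod (Nat.card Z))ˣ := by rw [hZp]; infer_instance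
      exact isCyclic_of_surjective (IsCyclic.mulAutMulEquiv Z).symm (IsCyclic.mulAutMulEquiv Z).symm.surjective
    infer_instance
  obtain ⟨k, hk⟩ : ∃ k, k = Nat.card φ.range := ⟨_, rfl⟩
  have hNk : Nat.card N = p * k := by
    rw [← φ.ker.index_mul_card, Subgroup.index_ker, hker, hk, mul_comm]
  have hkp : k ∣ p - 1 := by
    rw [hk]
    refine (Subgroup.card_subgroup_dvd_card φ.range).trans (dvd_of_eq ?_)
    rw [Nat.card_congr (IsCyclic.mulAutMulEquiv Z).toEquiv, hZp, Nat.card_eq_fintype_card, ZMod.card_units]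
  have hk0 : 0 < k := hk ▸ Nat.card_pos
  refine ⟨k, hNk, hk0, ?_⟩
  by_contra hcon
  push Not at hcon
  obtain ⟨hk4, hk2n⟩ := hcon
  -- a complement
  obtain ⟨⟨_, g, rfl⟩, hg⟩ := IsCyclic.exists_ofOrder_eq_natCard (α := φ.range)
  rw [← hk, ← Subgroup.orderOf_coe] at hg
  change orderOf (φ g) = k at hg
  obtain ⟨y, hy⟩ : ∃ y : N, y = g ^ p := ⟨_, rfl⟩
  have hpk : p % k = 1 := by
    obtain ⟨d, hd⟩ := hkp
    rw [show p = 1 + k * d by have := c.prime.two_le; omega, Nat.add_mul_mod_self_left, Nat.mod_eq_of_lt (by omega)]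
  have hφy : φ y = φ g := by
    rw [hy, map_pow, ← pow_mod_orderOf, hg, hpk, pow_one]
  have hyk : y ^ k = 1 := by
    have h1 : g ^ k ∈ φ.ker := by rw [MonoidHom.mem_ker, map_pow, ← hg, pow_orderOf_eq_one]
    have h2 : (g ^ k) ^ p = 1 := by
      have := pow_card_eq_one' (x := (⟨g ^ k, h1⟩ : φ.ker))
      rw [hker] at this
      exact congrArg Subtype.val this
    rw [hy, ← pow_mul, mul_comm, pow_mul, h2]
  have hfree : ∀ j : ℕ, 0 < j → j < k → ¬ Commute ((y : G) ^ j) x := fun j hj hjk e => by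
    have h1 := (hkerx (y ^ j)).2 (by rwa [SubmonoidClass.coe_pow])
    rw [map_pow, hφy] at h1
    have := Nat.le_of_dvd hj (hg ▸ orderOf_dvd_of_pow_eq_one h1)
    omega
  have hne : ∀ j : ℕ, 0 < j → j < k → (y : G) ^ j ≠ 1 := fun j hj hjk e =>
    hfree j hj hjk (by rw [e]; exact Commute.one_left x)
  -- its centraliser
  have hyconj : (y : G) * x * (y : G)⁻¹ ∈ Z := ((Subgroup.mem_normalizer_iff.1 y.2) x).1 (Subgroup.mem_zpowers x)
  obtain ⟨C, hC⟩ : ∃ C, C = Subgroup.centralizer {(y : G)} := ⟨_, rfl⟩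
  have hCN : ∀ z ∈ C, z ∈ N := by
    intro z hz
    rw [hC, Subgroup.mem_centralizer_singleton_iff] at hz
    have h1 := c.fixp x y z hx hyconj (by rw [← pow_two]; exact hfree 2 two_pos (by omega)) hz
    exact mem_normalizer_of_conj h1
  have hCk : Nat.card C = k := by
    refine le_antisymm ?_ ?_
    · rw [hk]
      refine Nat.card_le_card_of_injective (fun z : C => (⟨φ ⟨z, hCN z z.2⟩, _, rfl⟩ : φ.range)) fun a b e => ?_
      have h1 : φ (⟨a, hCN a a.2⟩⁻¹ * ⟨b, hCN b b.2⟩) = 1 := by
        rw [map_mul, map_inv, show φ ⟨a, hCN a a.2⟩ = φ ⟨b, hCN b b.2⟩ from congrArg Subtype.val e, inv_mul_cancel]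
      obtain ⟨s, hs⟩ : ∃ s, s = ((a : G))⁻¹ * b := ⟨_, rfl⟩
      have hsZ : s ∈ Z := c.pcyc _ x hxp hx1 (by
        rw [hs]; exact (hkerx _).1 h1)
      have hsy : Commute s (y : G) := by
        rw [hs]
        have h2 : (a : G)⁻¹ * (b : G) ∈ C := mul_mem (inv_mem a.2) b.2
        exact Subgroup.mem_centralizer_singleton_iff.1 (hC.le h2)
      by_contra hab
      have hs1 : s ≠ 1 := fun e1 => hab (Subtype.ext (inv_mul_eq_one.1 (hs ▸ e1)))
      have hsp : s ^ p = 1 := by
        have := pow_card_eq_one' (x := (⟨s, hsZ⟩ : Z))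
        rw [hZp] at this
        exact congrArg Subtype.val this
      have h2 := c.pcent y s hsp hs1 hsy.symm
      refine hne 1 one_pos (by omega) ?_
      rw [pow_one]
      have h3 : (y : G) ^ Nat.gcd k p = 1 := pow_gcd_eq_one.2 ⟨by
        rw [← SubmonoidClass.coe_pow, hyk, Subgroup.coe_one], h2⟩
      rwa [Nat.Coprime.gcd_eq_one, pow_one] at h3
      rw [Nat.coprime_comm, c.prime.coprime_iff_not_dvd]
      intro hd
      have := (Nat.le_of_dvd (by omega) hd).trans (Nat.le_of_dvd (by have := c.five; omega) hkp)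
      have := c.five
      omega
    · have hyo : orderOf (y : G) = k := by
        refine (orderOf_eq_iff hk0).2 ⟨by rw [← SubmonoidClass.coe_pow, hyk, Subgroup.coe_one], fun j hjk hj => hne j hj hjk⟩
      rw [← hyo]
      exact Nat.le_of_dvd Nat.card_pos (Subgroup.orderOf_dvd_natCard C (hC ▸ Subgroup.mem_centralizer_singleton_iff.2 rfl))
  -- an involution among the powers
  have hev : Even k := by
    have hhN : h ∈ N := mem_normalizer_of_conj (x := x) (z := h) (by rw [c.hinv, hix]; exact inv_mem (Subgroup.mem_zpowers x))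
    have h1 : (⟨φ ⟨h, hhN⟩, _, rfl⟩ : φ.range) ^ 2 = 1 := Subtype.ext (by
      rw [SubmonoidClass.coe_pow, Subgroup.coe_one, ← map_pow]
      exact (congrArg φ (show (⟨h, hhN⟩ : N) ^ 2 = 1 from Subtype.ext ((pow_two h).trans c.hh))).trans (map_one φ))
    have h2 : φ ⟨h, hhN⟩ ≠ 1 := fun e => by
      have hc := (hkerx _).1 e
      refine hx1 ?_
      have h3 : h * x * h = x := by rw [show h * x = x * h from hc.eq, mul_assoc, c.hh, mul_one]
      rw [hix, inv_eq_iff_mul_eq_one] at h3
      have h4 := orderOf_dvd_of_pow_eq_one (show x ^ 2 = 1 by rw [pow_two]; exact h3)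
      rw [hx] at h4
      have := Nat.le_of_dvd two_pos h4
      have := c.five
      omega
    have h5 := orderOf_eq_prime h1 fun e => h2 (congrArg Subtype.val e)
    exact even_iff_two_dvd.2 (h5 ▸ hk ▸ orderOf_dvd_natCard _)
  obtain ⟨m, hm⟩ := hev
  have hu : orderOf ((y : G) ^ m) = 2 := invol_iff.2 ⟨by
    rw [← pow_add, ← hm, ← SubmonoidClass.coe_pow, hyk, Subgroup.coe_one], hne m (by omega) (by omega)⟩
  obtain ⟨g₀, hg₀⟩ := isConj_iff.1 (c.conj _ hu)
  have hcy : Commute (g₀⁻¹ * (y : G) * g₀) h := by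
    have h1 := commute_conj g₀⁻¹ (Commute.self_pow (y : G) m)
    rw [← hg₀] at h1
    simpa [mul_assoc] using h1
  have hy4 : (g₀⁻¹ * (y : G) * g₀) ^ 4 ≠ 1 := fun e => hne 4 (by norm_num) (by omega) (by
    have h1 : (g₀⁻¹ * (y : G) * g₀) ^ 4 = g₀⁻¹ * (y : G) ^ 4 * g₀ := by
      have := conj_pow (a := g₀⁻¹) (b := (y : G)) (i := 4); rwa [inv_inv] at this
    rw [e] at h1
    rw [show (y : G) ^ 4 = g₀ * (g₀⁻¹ * (y : G) ^ 4 * g₀) * g₀⁻¹ by group, ← h1]; group)
  have h2 := c.big _ hcy hy4
  refine hk2n ?_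
  rw [← hCk, ← h2, hC]
  refine Nat.card_congr ((MulAut.conj g₀⁻¹).toEquiv.subtypeEquiv fun z => ?_)
  show z ∈ _ ↔ MulAut.conj g₀⁻¹ z ∈ _
  rw [Subgroup.mem_centralizer_singleton_iff, Subgroup.mem_centralizer_singleton_iff,
    show g₀⁻¹ * (y : G) * g₀ = MulAut.conj g₀⁻¹ (y : G) by simp [MulAut.conj_apply], ← map_mul, ← map_mul,
    EmbeddingLike.apply_eq_iff_eq]

set_option maxHeartbeats 1000000 in
/-- The configuration is impossible. -/
theorem false_of (c : Config G h n p R) [Finite G] (h11 : 11 ≤ p) : False := by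
  classical
  haveI : Fact p.Prime := ⟨c.prime⟩
  haveI : Fact (Nat.Prime 3) := ⟨Nat.prime_three⟩
  set I := {x : G // h * x * h = x⁻¹}
  -- elements inverted by the involution
  have hI : Nat.card I = Nat.card {v : G // orderOf v = 2} + 1 := by
    let e : I ≃ {u : G // u * u = 1} :=
      { toFun := fun x => ⟨h * x, by rw [← mul_assoc, x.2, inv_mul_cancel]⟩
        invFun := fun u => ⟨h * u, by
          rw [← mul_assoc, c.hh, one_mul, mul_inv_rev, c.hinv, show (u : G)⁻¹ = u from inv_eq_of_mul_eq_one_right u.2]⟩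
        left_inv := fun x => Subtype.ext (by simp [← mul_assoc, c.hh])
        right_inv := fun u => Subtype.ext (by simp [← mul_assoc, c.hh]) }
    rw [Nat.card_congr e, ← Finite.card_option]
    refine Nat.card_congr ⟨fun u => if hu : (u : G) = 1 then none else some ⟨u, invol_iff.2 ⟨u.2, hu⟩⟩,
      fun o => o.elim ⟨1, mul_one 1⟩ fun v => ⟨v, (invol_iff.1 v.2).1⟩, fun u => ?_, fun o => ?_⟩
    · by_cases hu : (u : G) = 1
      · simp [hu]; exact Subtype.ext hu.symm
      · simp [hu]
    · rcases o with _ | ⟨v, hv⟩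
      · simp
      · simp [(invol_iff.1 hv).2]
  -- four kinds
  set I1 := {x : G // h * x * h = x⁻¹ ∧ x ≠ 1 ∧ x ≠ h ∧ ∃ v, orderOf v = 2 ∧ Commute x v}
  set I3 := {x : G // h * x * h = x⁻¹ ∧ orderOf x = 3}
  set Ip := {x : G // h * x * h = x⁻¹ ∧ orderOf x = p}
  have hp3 : p ≠ 3 := fun e => by have := c.five; omega
  have hpart : Nat.card I = 2 + Nat.card I1 + Nat.card I3 + Nat.card Ip := by
    have : Fintype G := Fintype.ofFinite G
    simp only [I, I1, I3, Ip, Nat.card_eq_fintype_card, Fintype.card_subtype]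
    obtain ⟨s1, hs1⟩ : ∃ s, s = Finset.univ.filter fun x : G =>
      h * x * h = x⁻¹ ∧ x ≠ 1 ∧ x ≠ h ∧ ∃ v, orderOf v = 2 ∧ Commute x v := ⟨_, rfl⟩
    obtain ⟨s3, hs3⟩ : ∃ s, s = Finset.univ.filter fun x : G => h * x * h = x⁻¹ ∧ orderOf x = 3 := ⟨_, rfl⟩
    obtain ⟨sp, hsp⟩ : ∃ s, s = Finset.univ.filter fun x : G => h * x * h = x⁻¹ ∧ orderOf x = p := ⟨_, rfl⟩
    have h1h : (1 : G) ≠ h := fun e => (invol_iff.1 c.inv).2 e.symm
    have hpow : ∀ {x : G} {q : ℕ}, orderOf x = q → x ^ q = 1 := fun e => e ▸ pow_orderOf_eq_one _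
    have hne : ∀ {x : G} {q : ℕ}, q.Prime → orderOf x = q → x ≠ 1 := fun hq e e' => by
      rw [e', orderOf_one] at e; exact hq.one_lt.ne e
    have hset : (Finset.univ.filter fun x : G => h * x * h = x⁻¹) = {1, h} ∪ s1 ∪ s3 ∪ sp := by
      ext x
      simp only [hs1, hs3, hsp, Finset.mem_filter, Finset.mem_univ, true_and, Finset.mem_union, Finset.mem_insert,
        Finset.mem_singleton]
      constructor
      · intro hx
        by_cases h1 : x = 1
        · exact Or.inl (Or.inl (Or.inl (Or.inl h1)))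
        by_cases hh' : x = h
        · exact Or.inl (Or.inl (Or.inl (Or.inr hh')))
        by_cases hv : ∃ v, orderOf v = 2 ∧ Commute x v
        · exact Or.inl (Or.inl (Or.inr ⟨hx, h1, hh', hv⟩))
        push Not at hv
        by_cases h3 : x ^ 3 = 1
        · exact Or.inl (Or.inr ⟨hx, orderOf_eq_prime h3 h1⟩)
        by_cases hp : x ^ p = 1
        · exact Or.inr ⟨hx, orderOf_eq_prime hp h1⟩
        exact (c.no_regular hv h3 hp hx).elim
      · rintro ((((rfl | rfl) | hx) | hx) | hx)
        · simp [c.hh]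
        · simp [c.hh, c.hinv]
        all_goals exact hx.1
    rw [hset, ← hs1, ← hs3, ← hsp, Finset.card_union_of_disjoint, Finset.card_union_of_disjoint,
      Finset.card_union_of_disjoint, Finset.card_pair h1h]
    all_goals
      rw [Finset.disjoint_left]
      intro x hx hx'
      simp only [hs1, hs3, hsp, Finset.mem_filter, Finset.mem_univ, true_and, Finset.mem_union, Finset.mem_insert,
        Finset.mem_singleton] at hx hx'
    · rcases hx with rfl | rfl
      · exact hx'.2.1 rfl
      · exact hx'.2.2.1 rfl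
    · rcases hx with (rfl | rfl) | ⟨-, -, -, v, hv, hxv⟩
      · exact hne Nat.prime_three hx'.2 rfl
      · rw [c.inv] at hx'; omega
      · exact c.three_free (hpow hx'.2) (hne Nat.prime_three hx'.2) hv hxv
    · rcases hx with ((rfl | rfl) | ⟨-, -, -, v, hv, hxv⟩) | hx
      · exact hne c.prime hx'.2 rfl
      · rw [c.inv] at hx'
        have := c.five
        omega
      · exact c.p_free (hpow hx'.2) (hne c.prime hx'.2) hv hxv
      · exact hp3 (hx'.2.symm.trans hx.2)
  -- elements commuting with an involution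
  have h1 : Nat.card I1 = n * (n - 1) := by
    set S := {v : G // orderOf v = 2 ∧ v ≠ h ∧ Commute v h}
    have hch : ∀ x : I1, ∃ v : S, Commute (x : G) v ∧ ((x : G) * x = 1 → (v : G) = x) := by
      rintro ⟨x, hix, hx1, hxh, v, hv, hxv⟩
      by_cases hxx : x * x = 1
      · refine ⟨⟨x, invol_iff.2 ⟨hxx, hx1⟩, hxh, ?_⟩, Commute.refl _, fun _ => rfl⟩
        show x * h = h * x
        have := congrArg (h * ·) (hix.trans (inv_eq_of_mul_eq_one_right hxx))
        simpa [mul_assoc, c.hx] using this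
      have hvh : orderOf (h * v * h) = 2 := by
        have := MulEquiv.orderOf_eq (MulAut.conj h) v
        rw [MulAut.conj_apply, c.hinv] at this
        rw [this, hv]
      have hxv' : Commute x (h * v * h) := by
        have := commute_conj h hxv
        rw [c.hinv, hix] at this
        simpa using this.inv_left
      have he := c.own_any hv hvh hxv hxv' hxx
      refine ⟨⟨v, hv, fun e => hxx ?_, ?_⟩, hxv, fun e => absurd e hxx⟩
      · rw [show v = h from e] at hxv
        have : x⁻¹ = x := by rw [← hix, hxv.symm.eq, mul_assoc, c.hh, mul_one]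
        calc x * x = x * x⁻¹ := by rw [this]
          _ = 1 := mul_inv_cancel x
      · show v * h = h * v
        have := congrArg (h * ·) he
        first
          | simpa [mul_assoc, c.hx] using this
          | simpa [mul_assoc, c.hx] using this.symm
    choose f hf hf' using hch
    have : Fintype S := Fintype.ofFinite S
    have hfib : ∀ v : S, Nat.card {x : I1 // f x = v} = n - 1 := by
      rintro ⟨v, hv, hvh, hcv⟩
      let e : {x : I1 // f x = ⟨v, hv, hvh, hcv⟩} ≃ {u : G // (orderOf u = 2 ∧ Commute u v) ∧ u ≠ h ∧ u ≠ v} :=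
        { toFun := fun x => ⟨h * (x.1 : G), by
            have hxv : Commute (x.1 : G) v := by
              have := hf x.1; rwa [x.2] at this
            refine ⟨⟨invol_iff.2 ⟨by rw [← mul_assoc, x.1.2.1, inv_mul_cancel], fun e => x.1.2.2.2.1 ?_⟩,
              hcv.symm.mul_left hxv⟩, fun e => x.1.2.2.1 (mul_eq_left.1 e), fun e => ?_⟩
            · exact (eq_inv_of_mul_eq_one_right e).trans c.hinv
            · have hx : (x.1 : G) = h * v := (c.hx _).symm.trans (congrArg (h * ·) e)
              have hxx : (x.1 : G) * x.1 = 1 := by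
                rw [hx, mul_assoc, ← mul_assoc v h v, hcv.eq, mul_assoc h v v, (invol_iff.1 hv).1, mul_one, c.hh]
              have := hf' x.1 hxx
              rw [x.2, hx] at this
              exact (invol_iff.1 c.inv).2 (mul_eq_right.1 this.symm)⟩
          invFun := fun u => ⟨⟨h * u, by
            have hu := invol_iff.1 u.2.1.1
            refine ⟨?_, fun e => u.2.2.1 ?_, fun e => hu.2 (mul_eq_left.1 e), v, hv,
              hcv.symm.mul_left u.2.1.2⟩
            · rw [← mul_assoc, c.hh, one_mul, mul_inv_rev, c.hinv, inv_eq_of_mul_eq_one_right hu.1]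
            · exact (eq_inv_of_mul_eq_one_right e).trans c.hinv⟩, Subtype.ext (by
              obtain ⟨u, ⟨hu2, huv⟩, huh, huv'⟩ := u
              set x : I1 := ⟨h * u, _⟩ with hx
              have hu := invol_iff.1 hu2
              by_cases hxx : h * u * (h * u) = 1
              · refine (hf' x hxx).trans ?_
                have hch : Commute u h := by
                  show u * h = h * u
                  calc u * h = h * (h * u * (h * u)) * u := by
                        simp [mul_assoc, c.hx, hu.1]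
                    _ = h * u := by rw [hxx, mul_one]
                rcases c.two v u hv hvh hcv hch huv with e | e | e | e
                · exact absurd e hu.2
                · exact absurd e huh
                · exact absurd e huv'
                · show h * u = v
                  rw [e, c.hx]
              · exact c.own_any hv (f x).2.1 (hcv.symm.mul_left huv) (hf x) hxx)⟩
          left_inv := fun x => Subtype.ext (Subtype.ext (c.hx _))
          right_inv := fun u => Subtype.ext (c.hx _) }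
      rw [Nat.card_congr e]
      have : Fintype G := Fintype.ofFinite G
      have h' := c.card_commuting hv
      rw [Nat.card_eq_fintype_card, Fintype.card_subtype] at h' ⊢
      have hs : (Finset.univ.filter fun u : G => orderOf u = 2 ∧ Commute u v) =
          insert h (insert v (Finset.univ.filter fun u : G => (orderOf u = 2 ∧ Commute u v) ∧ u ≠ h ∧ u ≠ v)) := by
        ext u
        simp only [Finset.mem_filter, Finset.mem_univ, true_and, Finset.mem_insert]
        refine ⟨fun hu => by tauto, ?_⟩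
        rintro (rfl | rfl | hu)
        exacts [⟨c.inv, hcv.symm⟩, ⟨hv, Commute.refl _⟩, hu.1]
      rw [hs, Finset.card_insert_of_notMem (by simp [Ne.symm hvh]), Finset.card_insert_of_notMem (by simp)] at h'
      omega
    rw [← Nat.card_congr (Equiv.sigmaFiberEquiv f), Nat.card_sigma, Finset.sum_congr rfl fun v _ => hfib v,
      Finset.sum_const, Finset.card_univ, smul_eq_mul, ← Nat.card_eq_fintype_card, c.cardS]
  -- elements of order three
  obtain ⟨r, hr, hr1⟩ := c.exists_r
  have hro : orderOf r = 3 := orderOf_eq_prime (c.expR r hr) hr1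
  have hcentr : Nat.card (Subgroup.centralizer {r}) = 9 := by
    rw [show Subgroup.centralizer {r} = R from le_antisymm
      (fun y hy => c.centR r hr hr1 y (Subgroup.mem_centralizer_singleton_iff.1 hy))
      (fun y hy => Subgroup.mem_centralizer_singleton_iff.2 ?_), c.cardR]
    haveI : IsMulCommutative R := ⟨⟨fun a b => (IsPGroup.commutative_of_card_eq_prime_sq (p := 3) c.cardR) a b⟩⟩
    exact congrArg Subtype.val (mul_comm' (⟨y, hy⟩ : R) ⟨r, hr⟩)
  set O3 := {x : G // orderOf x = 3}
  have hO3 : Nat.card O3 * 9 = Nat.card G := by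
    rw [← card_class r, ← hcentr]
    congr 1
    exact Nat.card_congr (Equiv.subtypeEquivRight fun x => ⟨fun hx => c.conjR x hx r hr hr1, fun hx => by
      obtain ⟨g, rfl⟩ := isConj_iff.1 hx
      rw [← MulAut.conj_apply, MulEquiv.orderOf_eq, hro]⟩)
  have h3 : Nat.card I3 = 4 * n := by
    set P := {z : G × G // orderOf z.1 = 2 ∧ orderOf z.2 = 3 ∧ z.1 * z.2 * z.1 = z.2⁻¹}
    have : Fintype O3 := Fintype.ofFinite _
    have : Fintype {v : G // orderOf v = 2} := Fintype.ofFinite _
    have hA : Nat.card P = Nat.card O3 * 9 := by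
      let e : P ≃ Σ x : O3, {u : G // orderOf u = 2 ∧ u * x * u = (x : G)⁻¹} :=
        ⟨fun z => ⟨⟨z.1.2, z.2.2.1⟩, ⟨z.1.1, z.2.1, z.2.2.2⟩⟩, fun z => ⟨(z.2, z.1), z.2.2.1, z.1.2, z.2.2.2⟩,
          fun z => rfl, fun z => rfl⟩
      rw [Nat.card_congr e, Nat.card_sigma, Finset.sum_congr rfl (g := fun _ => 9), Finset.sum_const,
        Finset.card_univ, smul_eq_mul, Nat.card_eq_fintype_card (α := O3)]
      rintro ⟨x, hx⟩ -
      obtain ⟨g, rfl⟩ := isConj_iff.1 (c.conjR x hx r hr hr1)
      have hrh : h * r * h = r⁻¹ := c.invR r hr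
      let e' : R ≃ {u : G // orderOf u = 2 ∧ u * (g * r * g⁻¹) * u = (g * r * g⁻¹)⁻¹} :=
        { toFun := fun s => ⟨g * (h * s) * g⁻¹, by
            have hs := c.invR s s.2
            have h1 : h * (s : G) * (h * s) = 1 := by rw [← mul_assoc, hs, inv_mul_cancel]
            refine ⟨invol_iff.2 ⟨?_, fun e => ?_⟩, ?_⟩
            · calc g * (h * s) * g⁻¹ * (g * (h * s) * g⁻¹) = g * (h * s * (h * s)) * g⁻¹ := by group
                _ = 1 := by rw [h1]; group
            · rw [conj_eq_one_iff] at e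
              have h4 := c.expR _ s.2
              rw [show (s : G) = h by rw [← c.hinv]; exact eq_inv_of_mul_eq_one_right e,
                pow_succ, pow_two, c.hh, one_mul] at h4
              exact (invol_iff.1 c.inv).2 h4
            · haveI : IsMulCommutative R :=
                ⟨⟨fun a b => (IsPGroup.commutative_of_card_eq_prime_sq (p := 3) c.cardR) a b⟩⟩
              have hsr : (s : G) * r = r * s := congrArg Subtype.val (mul_comm' s ⟨r, hr⟩)
              calc g * (h * s) * g⁻¹ * (g * r * g⁻¹) * (g * (h * s) * g⁻¹)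
                  = g * (h * (s * r) * h * s) * g⁻¹ := by group
                _ = g * ((h * r * h) * (h * s * h) * s) * g⁻¹ := by rw [hsr]; simp [mul_assoc, c.hx]
                _ = _ := by rw [hrh, hs]; group⟩
          invFun := fun u => ⟨h * (g⁻¹ * (u : G) * g), c.centR r hr hr1 _ (by
            show _ = _
            calc h * (g⁻¹ * (u : G) * g) * r = h * (g⁻¹ * ((u : G) * (g * r * g⁻¹) * u) * ((u : G)⁻¹ * g)) := by group
              _ = h * (r⁻¹ * (g⁻¹ * (u : G) * g)) := by
                rw [u.2.2, inv_eq_of_mul_eq_one_right (invol_iff.1 u.2.1).1]; group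
              _ = _ := by rw [← hrh]; simp [mul_assoc, c.hx])⟩
          left_inv := fun s => Subtype.ext (by simp [mul_assoc, c.hx])
          right_inv := fun u => Subtype.ext (by simp [mul_assoc, c.hx]) }
      rw [← Nat.card_congr e', c.cardR]
    have hB : Nat.card P = Nat.card {v : G // orderOf v = 2} * Nat.card I3 := by
      let e : P ≃ Σ u : {v : G // orderOf v = 2}, {x : G // (u : G) * x * u = x⁻¹ ∧ orderOf x = 3} :=
        ⟨fun z => ⟨⟨z.1.1, z.2.1⟩, ⟨z.1.2, z.2.2.2, z.2.2.1⟩⟩, fun z => ⟨(z.1, z.2), z.1.2, z.2.2.2, z.2.2.1⟩,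
          fun z => rfl, fun z => rfl⟩
      rw [Nat.card_congr e, Nat.card_sigma, Finset.sum_congr rfl (g := fun _ => Nat.card I3), Finset.sum_const,
        Finset.card_univ, smul_eq_mul, Nat.card_eq_fintype_card (α := {v : G // orderOf v = 2})]
      rintro ⟨u, hu⟩ -
      obtain ⟨g, rfl⟩ := isConj_iff.1 (c.conj u hu)
      refine Nat.card_congr ((MulAut.conj g).toEquiv.subtypeEquiv fun x => ?_).symm
      show _ ↔ g * h * g⁻¹ * (g * x * g⁻¹) * (g * h * g⁻¹) = (g * x * g⁻¹)⁻¹ ∧ orderOf (MulAut.conj g x) = 3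
      rw [MulEquiv.orderOf_eq,
        show g * h * g⁻¹ * (g * x * g⁻¹) * (g * h * g⁻¹) = g * (h * x * h) * g⁻¹ by group,
        show (g * x * g⁻¹)⁻¹ = g * x⁻¹ * g⁻¹ by group, mul_left_inj, mul_right_inj]
    have ht := c.card_invol
    have hpos : 0 < Nat.card {v : G // orderOf v = 2} := Nat.card_pos_iff.2 ⟨⟨⟨h, c.inv⟩⟩, inferInstance⟩
    exact Nat.eq_of_mul_eq_mul_left hpos (by rw [← hB, hA, hO3, ht])
  -- elements of order `p` fall into triples
  have hpd : Nat.card Ip % 3 ≠ 1 := by
    rcases isEmpty_or_nonempty Ip with he | ⟨⟨x, hix, hxo⟩⟩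
    · simp
    obtain ⟨k, hk, hk0, hk'⟩ := c.exists_automizer hix hxo
    obtain ⟨hcount, hpairs⟩ := c.card_inverted_p hix hxo hk
    rcases hk' with hk4 | rfl
    · exfalso
      -- the classes overfill the group
      have ht := c.card_invol
      have hdisj : Nat.card {v : G // orderOf v = 2} +
          Nat.card {x : G // orderOf x ≠ 2 ∧ x ≠ 1 ∧ ∃ v, orderOf v = 2 ∧ Commute x v} +
          Nat.card {x : G // orderOf x = 3} + Nat.card {x : G // orderOf x = p} ≤ Nat.card G := by
        rw [← Nat.card_sum, ← Nat.card_sum, ← Nat.card_sum]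
        refine Nat.card_le_card_of_injective (Sum.elim (Sum.elim (Sum.elim (fun z => (z : G)) fun z => (z : G))
          fun z => (z : G)) fun z => (z : G)) ?_
        have hne : ∀ {a : G} {q : ℕ}, q.Prime → orderOf a = q → a ^ q = 1 ∧ a ≠ 1 := fun hq e =>
          ⟨e ▸ pow_orderOf_eq_one _, fun e' => hq.one_lt.ne (by rw [← e, e', orderOf_one])⟩
        have hp5 := c.five
        rintro (((⟨a, ha⟩ | ⟨a, ha, ha1, v, hv, hav⟩) | ⟨a, ha⟩) | ⟨a, ha⟩)
          (((⟨b, hb⟩ | ⟨b, hb, hb1, w, hw, hbw⟩) | ⟨b, hb⟩) | ⟨b, hb⟩) e <;>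
          simp only [Sum.elim_inl, Sum.elim_inr] at e <;> subst e <;>
          first
            | rfl
            | omega
            | exact absurd ha hb
            | exact absurd hb ha
            | exact absurd hav (c.three_free (hne Nat.prime_three hb).1 (hne Nat.prime_three hb).2 hv)
            | exact absurd hbw (c.three_free (hne Nat.prime_three ha).1 (hne Nat.prime_three ha).2 hw)
            | exact absurd hav (c.p_free (hne c.prime hb).1 (hne c.prime hb).2 hv)
            | exact absurd hbw (c.p_free (hne c.prime ha).1 (hne c.prime ha).2 hw)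
      have hSp : Nat.card {x : G // orderOf x = p} * p * k = Nat.card G * (p - 1) := by
        have hci := c.card_invol
        rw [← hpairs, mul_assoc, hcount, ← hci]
        ring
      have hb := c.card_bound
      rw [show Nat.card O3 = Nat.card {x : G // orderOf x = 3} from rfl] at hO3
      obtain ⟨j, hj⟩ : ∃ j, n = j + 4 := ⟨n - 4, by
        have := c.four; have := c.three; omega⟩
      obtain ⟨r', hr'⟩ : ∃ r', p = r' + 11 := ⟨p - 11, by omega⟩
      have htpos : 0 < Nat.card {v : G // orderOf v = 2} := Nat.card_pos_iff.2 ⟨⟨⟨h, c.inv⟩⟩, inferInstance⟩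
      generalize Nat.card {v : G // orderOf v = 2} = t at hb ht hdisj htpos
      generalize Nat.card {x : G // orderOf x ≠ 2 ∧ x ≠ 1 ∧ ∃ v, orderOf v = 2 ∧ Commute x v} = S at hb hdisj
      generalize Nat.card {x : G // orderOf x = 3} = o at hO3 hdisj
      generalize Nat.card {x : G // orderOf x = p} = P at hSp hdisj
      generalize Nat.card G = g at hO3 hSp hdisj ht
      subst hj hr' ht
      rw [show 3 * (j + 4) - 2 = 3 * j + 10 by omega] at hb
      rw [show r' + 11 - 1 = r' + 10 by omega] at hSp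
      have h1 : 9 * ((r' + 11) * k) * (t + t * (3 * j + 10)) + t * (4 * (j + 4)) * ((r' + 11) * k) +
          9 * (t * (4 * (j + 4)) * (r' + 10)) ≤ 9 * ((r' + 11) * k) * (t * (4 * (j + 4))) := by
        rw [← hSp, show t * (4 * (j + 4)) * ((r' + 11) * k) = o * 9 * ((r' + 11) * k) by rw [hO3]]
        calc _ = 9 * ((r' + 11) * k) * (t + t * (3 * j + 10) + o + P) := by ring
          _ ≤ _ := Nat.mul_le_mul_left _ (le_trans (by omega) hdisj)
      have h2 : 9 * ((r' + 11) * k) * (3 * j + 11) + 4 * (j + 4) * ((r' + 11) * k) + 36 * ((j + 4) * (r' + 10)) ≤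
          36 * ((r' + 11) * k) * (j + 4) := Nat.le_of_mul_le_mul_left (by
        calc t * _ = 9 * ((r' + 11) * k) * (t + t * (3 * j + 10)) + t * (4 * (j + 4)) * ((r' + 11) * k) +
              9 * (t * (4 * (j + 4)) * (r' + 10)) := by ring
          _ ≤ _ := h1
          _ = _ := by ring) htpos
      have h3 := Nat.mul_le_mul_left ((r' + 11) * (5 * j + 29)) hk4
      nlinarith [Nat.zero_le (j * r')]
    · have h1 : Nat.card Ip = 2 * (p - 1) := by
        have hn0 : 0 < n := Nat.pos_of_ne_zero fun e => c.three (e ▸ dvd_zero 3)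
        refine Nat.eq_of_mul_eq_mul_right (show 0 < 2 * n by omega) ?_
        rw [hcount]; ring
      rw [h1]
      have := c.mod
      omega
  -- congruence modulo three
  have ht : 3 ∣ Nat.card {v : G // orderOf v = 2} := by
    have h1 : 3 ∣ Nat.card {v : G // orderOf v = 2} * (4 * n) := by
      rw [c.card_invol, ← hO3]; exact Dvd.dvd.mul_left (by norm_num) _
    exact (Nat.Coprime.dvd_mul_right ((Nat.Prime.coprime_iff_not_dvd Nat.prime_three).2 fun hd =>
      c.three ((Nat.Coprime.dvd_mul_left (by norm_num : Nat.Coprime 3 4)).1 hd))).1 h1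
  obtain ⟨a, ha⟩ := ht
  rw [hI, h1, h3, ha] at hpart
  have hn3 := c.three
  obtain ⟨j, hj⟩ | ⟨j, hj⟩ : (∃ j, n = 3 * j + 1) ∨ ∃ j, n = 3 * j + 2 := by
    rcases (show n % 3 = 1 ∨ n % 3 = 2 by omega) with e | e
    exacts [Or.inl ⟨n / 3, by omega⟩, Or.inr ⟨n / 3, by omega⟩]
  · subst hj
    rw [show (3 * j + 1) * (3 * j + 1 - 1) = 3 * (j * (3 * j + 1)) by rw [Nat.add_sub_cancel]; ring] at hpart
    omega
  · subst hj
    rw [show (3 * j + 2) * (3 * j + 2 - 1) = 3 * (3 * j * j + 3 * j) + 2 by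
      rw [show 3 * j + 2 - 1 = 3 * j + 1 by omega]; ring] at hpart
    omega

end Config

end Cfsg.Agent.Classical.SUThree.Hess
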