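import Cfsg.Agent.Lib.Classical.SUThree.HessGroup

/-!
The centraliser of the involution of the projective group covers a finite subgroup of `PGL(2)`, and it has no
element of order three.
-/

set_option autoImplicit false
set_option linter.unusedSectionVars false
set_option maxHeartbeats 1000000

namespace Cfsg.Agent.Classical.SUThree.Hess

open Matrix MaxTv HeisenbergThree SLThree SLThree.Hessian

universe u

variable {F : Type u} [Field F]

local notation "M₃" => Matrix (Fin 3) (Fin 3) F

/-- The eigenvalue at the centre. -/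
def chiHom (h2 : (2 : F) ≠ 0) (P : GL (Fin 3) F) :
    Subgroup.centralizer ({P * J₀ * P⁻¹} : Set (GL (Fin 3) F)) →* Fˣ :=
  MonoidHom.toHomUnits
    { toFun := fun g => ((toStd P g : GL (Fin 3) F) : M₃) 0 0
      map_one' := by simp [coe_toStd]
      map_mul' := fun a b => by
        obtain ⟨h01, h02, -, -⟩ := block_zero h2 (Subgroup.mem_centralizer_singleton_iff.1 (toStd P a).2)
        rw [map_mul, Subgroup.coe_mul, Units.val_mul, Matrix.mul_apply, Fin.sum_univ_three, h01, h02]
        ring }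

theorem coe_chiHom (h2 : (2 : F) ≠ 0) (P : GL (Fin 3) F)
    (g : Subgroup.centralizer ({P * J₀ * P⁻¹} : Set (GL (Fin 3) F))) :
    (chiHom h2 P g : F) = ((toStd P g : GL (Fin 3) F) : M₃) 0 0 := rfl

/-- The shape of an element of the block subgroup with square `J₀` or `1`. -/
theorem chi_of_square (h2 : (2 : F) ≠ 0) {K : GL (Fin 3) F} (hK : K * J₀ = J₀ * K) (hd : (K : M₃).det = 1) {ε : F}
    (hε : ε * ε = 1) (hsq : (K : M₃) * K = Matrix.diagonal ![1, ε, ε]) :
    (∃ χ l : F, (K : M₃) = Matrix.diagonal ![χ, l, l]) ∨ (K : M₃) 0 0 = -ε := by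
  obtain ⟨h01, h02, h10, h20⟩ := block_zero h2 hK
  have e := fun i j => congrFun (congrFun hsq i) j
  have e00 := e 0 0
  have e11 := e 1 1
  have e12 := e 1 2
  have e21 := e 2 1
  have e22 := e 2 2
  simp [Matrix.mul_apply, Fin.sum_univ_three, h01, h02, h10, h20] at e00 e11 e12 e21 e22
  rw [Matrix.det_fin_three] at hd
  simp only [h01, h02, h10, h20] at hd
  by_cases ht : (K : M₃) 1 1 + (K : M₃) 2 2 = 0
  · refine Or.inr ?_
    linear_combination (norm := ring1) (-ε) * hd - ((K : M₃) 0 0) * hε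
      - (K : M₃) 0 0 * ε * e11 + (K : M₃) 0 0 * ε * (K : M₃) 1 1 * ht
  · refine Or.inl ⟨(K : M₃) 0 0, (K : M₃) 1 1, ?_⟩
    have h12 : (K : M₃) 1 2 = 0 := (mul_eq_zero.1 (show ((K : M₃) 1 1 + (K : M₃) 2 2) * (K : M₃) 1 2 = 0 by
      linear_combination e12)).resolve_left ht
    have h21 : (K : M₃) 2 1 = 0 := (mul_eq_zero.1 (show ((K : M₃) 1 1 + (K : M₃) 2 2) * (K : M₃) 2 1 = 0 by
      linear_combination e21)).resolve_left ht
    have hdd : (K : M₃) 1 1 = (K : M₃) 2 2 := by
      refine sub_eq_zero.1 ((mul_eq_zero.1 (show ((K : M₃) 1 1 + (K : M₃) 2 2) * ((K : M₃) 1 1 - (K : M₃) 2 2) = 0 by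
        linear_combination e11 - e22)).resolve_left ht)
    ext i j
    fin_cases i <;> fin_cases j <;> simp [h01, h02, h10, h20, h12, h21, hdd]

/-- Twice scaled by one cube root of unity. -/
theorem diag_square {K : GL (Fin 3) F} {z : F} (hz : (K : M₃) * K = z • 1) :
    ((K : M₃) * K).det = z ^ 3 := by
  rw [hz, Matrix.det_smul, Matrix.det_one, mul_one, Fintype.card_fin]

variable {X : Subgroup (GL (Fin 3) F)} {w : Fˣ} {p : ℕ} [Fintype F]

namespace Std

variable (c : Std X w p)
include c

local notation "CP" =>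
  Subgroup.centralizer ({frame c.two_ne * J₀ * (frame c.two_ne)⁻¹} : Set (GL (Fin 3) F))

/-- Members centralising the projective involution lift into the block subgroup. -/
theorem exists_lift {x : PX X} (hx : x ∈ Cn c.bh) :
    ∃ g : GL (Fin 3) F, g ∈ X ∧ g ∈ Subgroup.centralizer ({frame c.two_ne * J₀ * (frame c.two_ne)⁻¹} :
      Set (GL (Fin 3) F)) ∧ pr g = (x : Matrix.ProjGenLinGroup (Fin 3) F) := by
  obtain ⟨g, rfl⟩ := mkX_surjective x
  refine ⟨g, g.2, ?_, rfl⟩
  rw [Subgroup.mem_centralizer_singleton_iff, frame_J₀]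
  exact commute_of_sq negSwap_mul_self
    (congrArg Subtype.val (Subgroup.mem_centralizer_singleton_iff.1 hx) : Commute (pr (g : GL (Fin 3) F)) (pr negSwap))

theorem comm_of_block {a : GL (Fin 3) F}
    (ha : a ∈ Subgroup.centralizer ({frame c.two_ne * J₀ * (frame c.two_ne)⁻¹} : Set (GL (Fin 3) F))) :
    a * negSwap = negSwap * a := by
  rwa [Subgroup.mem_centralizer_singleton_iff, frame_J₀] at ha

/-- The cover. -/
theorem exists_cov : ∃ (M : Type) (_ : Group M) (_ : Finite M) (π : Cn c.bh →* M) (β : Cn c.bh →* Fˣ),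
    Cov (PX X) c.bh π β (-1) ∧ ¬ p ∣ Nat.card M ∧
    (∀ x v : PX X, Commute x c.bh → x * x ≠ 1 → v * v = 1 → Commute x v → Commute v c.bh) ∧
    (∀ x : PX X, Commute x c.bh → x ^ 3 = 1 → x ≠ 1 → ∃ g : GL (Fin 3) F, g ∈ X ∧
      pr g = (x : Matrix.ProjGenLinGroup (Fin 3) F) ∧ g ^ 3 = 1) := by
  classical
  haveI : Finite (GL (Fin 3) F) := Finite.of_injective _ Units.val_injective
  haveI : Finite (Matrix.ProjGenLinGroup (Fin 3) F) := Finite.of_surjective _ Matrix.ProjGenLinGroup.mk_surjective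
  haveI : Fact p.Prime := ⟨c.prime⟩
  haveI : CharP F p := c.charP
  obtain ⟨E, _, _, _, f, hf, hpM⟩ := exists_psl c.two_ne c.noTv c.prime c.card (frame c.two_ne)
  choose L hLX hLC hLpr using fun x : Cn c.bh => c.exists_lift x.2
  let Lc : Cn c.bh → CP := fun x => ⟨L x, hLC x⟩
  have hker : ∀ g : CP, Sc (g : GL (Fin 3) F) → f g = 1 := by
    rintro g ⟨z, hz⟩
    rw [hf, blockHom_eq_one]
    refine ⟨z, z, ?_⟩
    rw [Units.val_mul, Units.val_mul, hz, Matrix.mul_smul, mul_one, Matrix.smul_mul, Units.inv_mul,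
      Matrix.smul_one_eq_diagonal]
    congr 1
    funext i
    fin_cases i <;> simp
  have hchi : ∀ g : CP, (g : GL (Fin 3) F) ∈ X → Sc (g : GL (Fin 3) F) → chiHom c.two_ne _ g ^ 3 = 1 := by
    rintro g hgX ⟨z, hz⟩
    refine Units.ext ?_
    rw [Units.val_pow_eq_pow_val, coe_chiHom, coe_toStd, Units.val_mul, Units.val_mul, hz, Matrix.mul_smul, mul_one,
      Matrix.smul_mul, Units.inv_mul]
    have hd := c.det _ hgX
    rw [hz, Matrix.det_smul, Matrix.det_one, Fintype.card_fin, mul_one] at hd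
    simpa using hd
  have hdiff : ∀ x : Cn c.bh, ∀ g : CP, pr (g : GL (Fin 3) F) = ((x : PX X) : Matrix.ProjGenLinGroup (Fin 3) F) →
      Sc ((Lc x)⁻¹ * g : CP).1 := fun x g hg => pr_eq_one.1 (by
    rw [Subgroup.coe_mul, Subgroup.coe_inv, map_mul, map_inv, hg, show ((Lc x : CP) : GL (Fin 3) F) = L x from rfl,
      hLpr, inv_mul_cancel])
  have hpi : ∀ x : Cn c.bh, ∀ g : CP, pr (g : GL (Fin 3) F) = ((x : PX X) : Matrix.ProjGenLinGroup (Fin 3) F) →
      f g = f (Lc x) := fun x g hg => by
    have := hker _ (hdiff x g hg)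
    rw [map_mul, map_inv, inv_mul_eq_one] at this
    exact this.symm
  have hbe : ∀ x : Cn c.bh, ∀ g : CP, (g : GL (Fin 3) F) ∈ X →
      pr (g : GL (Fin 3) F) = ((x : PX X) : Matrix.ProjGenLinGroup (Fin 3) F) →
      chiHom c.two_ne _ g ^ 3 = chiHom c.two_ne _ (Lc x) ^ 3 := fun x g hgX hg => by
    have h1 := hchi _ (by
      rw [Subgroup.coe_mul, Subgroup.coe_inv]
      exact mul_mem (inv_mem (hLX x)) hgX) (hdiff x g hg)
    rw [map_mul, map_inv, mul_pow, inv_pow, inv_mul_eq_one] at h1
    exact h1.symm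
  have hprmul : ∀ x y : Cn c.bh, pr ((Lc x * Lc y : CP) : GL (Fin 3) F) =
      (((x * y : Cn c.bh) : PX X) : Matrix.ProjGenLinGroup (Fin 3) F) := fun x y => by
    rw [Subgroup.coe_mul, map_mul, show ((Lc x : CP) : GL (Fin 3) F) = L x from rfl,
      show ((Lc y : CP) : GL (Fin 3) F) = L y from rfl, hLpr, hLpr]
    rfl
  obtain ⟨π, hπ⟩ : ∃ π : Cn c.bh →* Subgroup.map f (X.subgroupOf CP), ∀ x, (π x : Matrix.ProjectiveSpecialLinearGroup (Fin 2) E) = f (Lc x) :=
    ⟨MonoidHom.mk' (fun x => ⟨f (Lc x), Lc x, Subgroup.mem_subgroupOf.2 (hLX x), rfl⟩) fun x y => Subtype.ext (by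
      show f (Lc (x * y)) = f (Lc x) * f (Lc y)
      rw [← map_mul, hpi (x * y) (Lc x * Lc y) (hprmul x y)]), fun x => rfl⟩
  obtain ⟨β, hβ⟩ : ∃ β : Cn c.bh →* Fˣ, ∀ x, β x = chiHom c.two_ne _ (Lc x) ^ 3 :=
    ⟨MonoidHom.mk' (fun x => chiHom c.two_ne _ (Lc x) ^ 3) fun x y => by
      rw [← hbe (x * y) (Lc x * Lc y) (mul_mem (hLX x) (hLX y)) (hprmul x y), map_mul, mul_pow], fun x => rfl⟩
  have hkerπ : ∀ x, π x = 1 ↔ (x : PX X) = 1 ∨ (x : PX X) = c.bh := by
    intro x
    rw [← Subtype.coe_inj, hπ, Subgroup.coe_one]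
    constructor
    · intro h1
      rw [hf] at h1
      rcases homology c.two_ne c.hw c.hw1 c.noTv c.prime c.card c.hA c.hh (g := Lc x) (hLX x) h1 with h | h
      · exact Or.inl (Subtype.ext (by rw [← hLpr, Subgroup.coe_one]; exact h))
      · exact Or.inr (Subtype.ext (by rw [← hLpr, c.coe_bh]; exact h))
    · rintro (h1 | h1)
      · rw [← hpi x 1 (by rw [h1]; simp), map_one]
      · have hn : (negSwap : GL (Fin 3) F) ∈ CP := by
          rw [Subgroup.mem_centralizer_singleton_iff, frame_J₀]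
        rw [← hpi x ⟨negSwap, hn⟩ (by rw [h1, c.coe_bh]), hf, blockHom_eq_one]
        refine ⟨1, -1, ?_⟩
        rw [← coe_J₀]
        congr 1
        show (frame c.two_ne)⁻¹ * negSwap * frame c.two_ne = J₀
        rw [← frame_J₀ c.two_ne]
        group
  have hsq : ∀ x : Cn c.bh, ∀ {ε : F}, ε * ε = 1 → ∀ g : CP, (g : GL (Fin 3) F) ∈ X →
      pr (g : GL (Fin 3) F) = ((x : PX X) : Matrix.ProjGenLinGroup (Fin 3) F) → π x ≠ 1 →
      (((frame c.two_ne)⁻¹ * ((g : GL (Fin 3) F) * g) * frame c.two_ne : GL (Fin 3) F) : M₃) =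
        Matrix.diagonal ![1, ε, ε] → (β x : F) = (-ε) ^ 3 := by
    intro x ε hε g hgX hg hne hsq
    rw [hβ, ← hbe x g hgX hg, Units.val_pow_eq_pow_val, coe_chiHom]
    rcases chi_of_square c.two_ne (Subgroup.mem_centralizer_singleton_iff.1 (toStd _ g).2) (by
        rw [coe_toStd, Units.val_mul, Units.val_mul, Matrix.det_units_conj', c.det _ hgX]) hε (by
        rw [← hsq, ← Units.val_mul, coe_toStd]
        congr 1
        group) with h1 | h1
    · refine absurd (Subtype.ext ?_) hne
      rw [hπ, ← hpi x g hg, Subgroup.coe_one, hf, blockHom_eq_one]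
      rw [coe_toStd] at h1
      exact h1
    · rw [h1]
  have hpM2 : ¬ p ∣ Nat.card (Subgroup.map f (X.subgroupOf CP)) := hpM
  have cov : Cov (PX X) c.bh π β (-1 : Fˣ) := by
    refine ⟨⟨c.bh_sq, fun e => ?_⟩, ?_, hkerπ, ?_, ?_, ?_, by simp, ?_, ?_, kind_of p c.p_ne_two hpM2 (MulEquiv.refl _)⟩
    · have h1 := c.bR_inv c.bA_mem
      rw [e, one_mul, mul_one] at h1
      have h2 := c.bR_cube c.bA_mem
      rw [pow_succ, pow_two, eq_inv_iff_mul_eq_one.1 h1, one_mul] at h2
      exact c.bA_ne h2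
    · rintro ⟨m, g, hg, rfl⟩
      have hgh : mkX X ⟨g, Subgroup.mem_subgroupOf.1 hg⟩ ∈ Cn c.bh := by
        rw [Subgroup.mem_centralizer_singleton_iff]
        refine Subtype.ext ?_
        have h1 := c.comm_of_block g.2
        show pr (g : GL (Fin 3) F) * pr negSwap = pr negSwap * pr (g : GL (Fin 3) F)
        rw [← map_mul, ← map_mul, h1]
      exact ⟨⟨_, hgh⟩, Subtype.ext (by rw [hπ]; exact (hpi ⟨_, hgh⟩ g rfl).symm)⟩
    · intro v hv hv1 hvh
      obtain ⟨g, hg, hgg⟩ := c.exists_invol hv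
      have hgC : (g : GL (Fin 3) F) ∈ CP := by
        rw [Subgroup.mem_centralizer_singleton_iff, frame_J₀]
        exact commute_of_sq negSwap_mul_self (by
          have h1 := congrArg Subtype.val (Subgroup.mem_centralizer_singleton_iff.1 v.2)
          rw [← hg] at h1
          exact h1)
      refine Units.ext ?_
      rw [hsq v (one_mul 1) ⟨g, hgC⟩ g.2 (by rw [← hg]; rfl)
        (fun e => ((hkerπ v).1 e).elim hv1 hvh) ?_]
      · simp; ring
      · rw [hgg, mul_one, inv_mul_cancel, Units.val_one]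
        ext i j
        fin_cases i <;> fin_cases j <;> simp
    · intro q hq
      obtain ⟨g, hg⟩ := mkX_surjective (q : PX X)
      obtain ⟨z, hz⟩ := pr_eq_pr.1 (show pr ((g : GL (Fin 3) F) * (g : GL (Fin 3) F)) = pr negSwap by
        rw [map_mul, ← coe_mkX, hg]; exact congrArg Subtype.val hq)
      have hz3 : z ^ 3 = 1 := by
        have h := congrArg Matrix.det hz
        rw [Units.val_mul, Matrix.det_mul, c.det g g.2, Matrix.det_smul, det_negSwap, Fintype.card_fin] at h
        simpa using h.symm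
      have hz0 : z ≠ 0 := fun e => by rw [e] at hz3; simp at hz3
      let s : GL (Fin 3) F := dia fun _ => Units.mk0 z hz0
      have hs : (s : M₃) = z • 1 := by simp [s, coe_dia, Matrix.smul_one_eq_diagonal]
      have hsg : pr (s * (g : GL (Fin 3) F)) = ((q : PX X) : Matrix.ProjGenLinGroup (Fin 3) F) := by
        rw [map_mul, pr_eq_one.2 ⟨z, hs⟩, one_mul, ← coe_mkX, hg]
      have hgC : s * (g : GL (Fin 3) F) ∈ CP := by
        rw [Subgroup.mem_centralizer_singleton_iff, frame_J₀]
        exact commute_of_sq negSwap_mul_self (by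
          rw [hsg]
          exact congrArg Subtype.val (Subgroup.mem_centralizer_singleton_iff.1 q.2))
      refine Units.ext ?_
      rw [hsq q (ε := -1) (by ring) ⟨_, hgC⟩ (mul_mem (c.sc_mem hs hz3) g.2) hsg ?_ ?_]
      · simp
      · intro e
        rcases (hkerπ q).1 e with e1 | e1
        · rw [e1, one_mul] at hq
          exfalso; exact one_ne_zero (α := F) (by
            have h1 := congrArg Subtype.val hq.symm
            rw [c.coe_bh, Subgroup.coe_one, pr_eq_one] at h1
            obtain ⟨t, ht⟩ := h1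
            have h2 := congrFun (congrFun ht 1) 2
            simp [coe_negSwap] at h2)
        · rw [e1, c.bh_sq] at hq
          exfalso; exact one_ne_zero (α := F) (by
            have h1 := congrArg Subtype.val hq.symm
            rw [c.coe_bh, Subgroup.coe_one, pr_eq_one] at h1
            obtain ⟨t, ht⟩ := h1
            have h2 := congrFun (congrFun ht 1) 2
            simp [coe_negSwap] at h2)
      · have hval : s * (g : GL (Fin 3) F) * (s * (g : GL (Fin 3) F)) = negSwap := by
          refine Units.ext ?_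
          rw [Units.val_mul, Units.val_mul, hs, Matrix.smul_mul, one_mul, Matrix.smul_mul, Matrix.mul_smul, smul_smul,
            ← Units.val_mul, hz, smul_smul, show z * z * z = 1 by linear_combination hz3, one_smul]
        rw [hval, ← frame_J₀ c.two_ne, show (frame c.two_ne)⁻¹ * (frame c.two_ne * J₀ * (frame c.two_ne)⁻¹) *
          frame c.two_ne = J₀ by group, coe_J₀]
    · intro e
      exact c.two_ne (by
        have := congrArg Units.val e
        simp at this
        linear_combination -this)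
    · have hcm : ∀ {g : GL (Fin 3) F} (hg : g ∈ X), g * negSwap = negSwap * g → mkX X ⟨g, hg⟩ ∈ Cn c.bh :=
        fun {g} hg h1 => Subgroup.mem_centralizer_singleton_iff.2 (Subtype.ext (by
          show pr g * pr negSwap = pr negSwap * pr g
          rw [← map_mul, ← map_mul, h1]))
      have e1 : four c.hw c.hw1 * negSwap = negSwap * four c.hw c.hw1 := by
        rw [← four_sq c.hw c.hw1, mul_assoc]
      have e2 : four' c.hw c.hw1 * negSwap = negSwap * four' c.hw c.hw1 := by
        rw [← four'_sq c.hw c.hw1, mul_assoc]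
      refine ⟨⟨_, hcm c.hf e1⟩, ⟨_, hcm c.hf' e2⟩, Subtype.ext ?_, Subtype.ext ?_, Subtype.ext ?_⟩
      · show pr (four c.hw c.hw1) * pr (four c.hw c.hw1) = pr negSwap
        rw [← map_mul, four_sq]
      · show pr (four' c.hw c.hw1) * pr (four' c.hw c.hw1) = pr negSwap
        rw [← map_mul, four'_sq]
      · show pr (four' c.hw c.hw1) * pr (four c.hw c.hw1) * (pr (four' c.hw c.hw1))⁻¹ =
          pr negSwap * pr (four c.hw c.hw1)
        rw [← map_mul, four'_mul_four, map_mul, map_mul, mul_inv_cancel_right]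
    · obtain ⟨v, hv, hv1, hvh, hvc, -⟩ := c.exists_other
      exact ⟨⟨v, Subgroup.mem_centralizer_singleton_iff.2 hvc.eq⟩, hv, hv1, hvh⟩
  refine ⟨_, inferInstance, inferInstance, π, β, cov, hpM2, ?_, ?_⟩
  · -- only block elements commute with a non-involutory member
    intro x v hxh hxx hv hxv
    obtain ⟨x', rfl⟩ : ∃ x' : Cn c.bh, (x' : PX X) = x :=
      ⟨⟨x, Subgroup.mem_centralizer_singleton_iff.2 hxh.eq⟩, rfl⟩
    obtain ⟨u, hu, huu⟩ := c.exists_invol hv
    have hgu : L x' * (u : GL (Fin 3) F) = u * L x' := commute_of_sq huu (by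
      rw [hLpr, ← coe_mkX, hu]
      exact hxv.map (PX X).subtype)
    have hgn : L x' * negSwap = negSwap * L x' := by
      have := Subgroup.mem_centralizer_singleton_iff.1 (hLC x')
      rwa [frame_J₀] at this
    have hcm : CommCent (L x' : M₃) := by
      refine (quad_or_commCent c.two_ne _).resolve_left ?_
      rintro ⟨μ, ν, hq⟩
      obtain ⟨K, hK⟩ : ∃ K : GL (Fin 3) F, K = (frame c.two_ne)⁻¹ * L x' * frame c.two_ne := ⟨_, rfl⟩
      have hKq : ((K : M₃) - μ • 1) * ((K : M₃) - ν • 1) = 0 := by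
        have e : ∀ t : F, (K : M₃) - t • 1 =
            (((frame c.two_ne)⁻¹ : GL (Fin 3) F) : M₃) * ((L x' : M₃) - t • 1) * ((frame c.two_ne : GL (Fin 3) F) : M₃) := fun t => by
          rw [hK, Units.val_mul, Units.val_mul, mul_sub, sub_mul, Matrix.mul_smul, mul_one, Matrix.smul_mul, Units.inv_mul]
        rw [e, e]
        calc _ = (((frame c.two_ne)⁻¹ : GL (Fin 3) F) : M₃) * (((L x' : M₃) - μ • 1) * ((L x' : M₃) - ν • 1)) *
              ((frame c.two_ne : GL (Fin 3) F) : M₃) := by simp [mul_assoc]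
          _ = 0 := by rw [hq]; simp
      have hπ1 : π x' ≠ 1 := fun e => by
        rcases (hkerπ x').1 e with h1 | h1
        · exact hxx (by rw [h1, one_mul])
        · exact hxx (by rw [h1, c.bh_sq])
      rcases eq_or_ne μ ν with rfl | hne
      · -- a unipotent element up to scalars
        have hzero : ((L x' : M₃) - μ • 1) ^ p = 0 := by
          rw [show p = 2 + (p - 2) by have := c.prime.two_le; omega, pow_add, pow_two, hq, zero_mul]
        rw [sub_pow_char_of_commute p ((Commute.one_right _).smul_right _), sub_eq_zero, smul_pow, one_pow] at hzero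
        have h1 : π x' ^ p = 1 := by
          rw [← map_pow, hkerπ]
          refine Or.inl (Subtype.ext ?_)
          rw [SubmonoidClass.coe_pow, SubmonoidClass.coe_pow, ← hLpr, ← map_pow, Subgroup.coe_one, pr_eq_one]
          exact ⟨_, by rw [Units.val_pow_eq_pow_val, hzero]⟩
        exact hπ1 (orderOf_eq_one_iff.1 (by
          rcases (Nat.dvd_prime c.prime).1 (orderOf_dvd_of_pow_eq_one h1) with e | e
          · exact e
          · have h5 := orderOf_dvd_natCard (π x')
            rw [e] at h5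
            exact absurd h5 hpM2))
      · obtain ⟨h01, h02, h10, h20⟩ := block_zero c.two_ne (Subgroup.mem_centralizer_singleton_iff.1 (toStd _ (Lc x')).2)
        rw [coe_toStd, ← hK] at h01 h02 h10 h20
        have e := fun i j => congrFun (congrFun hKq i) j
        have e00 := e 0 0
        have e11 := e 1 1
        have e12 := e 1 2
        have e21 := e 2 1
        have e22 := e 2 2
        simp [Matrix.mul_apply, Fin.sum_univ_three, h01, h02, h10, h20, Matrix.one_apply] at e00 e11 e12 e21 e22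
        rw [sub_eq_zero, sub_eq_zero] at e00
        have hd : (K : M₃).det = 1 := by
          rw [hK, Units.val_mul, Units.val_mul, Matrix.det_units_conj', c.det _ (hLX x')]
        rw [Matrix.det_fin_three] at hd
        simp only [h01, h02, h10, h20] at hd
        have ht : (K : M₃) 1 1 + (K : M₃) 2 2 = μ + ν := by
          by_contra ht
          refine hπ1 (Subtype.ext ?_)
          rw [hπ, Subgroup.coe_one, hf, blockHom_eq_one]
          refine ⟨(K : M₃) 0 0, (K : M₃) 1 1, ?_⟩
          rw [← hK]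
          have h12 : (K : M₃) 1 2 = 0 := (mul_eq_zero.1 (show ((K : M₃) 1 1 + (K : M₃) 2 2 - (μ + ν)) *
            (K : M₃) 1 2 = 0 by linear_combination e12)).resolve_left (sub_ne_zero.2 ht)
          have h21 : (K : M₃) 2 1 = 0 := (mul_eq_zero.1 (show ((K : M₃) 1 1 + (K : M₃) 2 2 - (μ + ν)) *
            (K : M₃) 2 1 = 0 by linear_combination e21)).resolve_left (sub_ne_zero.2 ht)
          have hdd : (K : M₃) 1 1 = (K : M₃) 2 2 := sub_eq_zero.1 ((mul_eq_zero.1
            (show ((K : M₃) 1 1 + (K : M₃) 2 2 - (μ + ν)) * ((K : M₃) 1 1 - (K : M₃) 2 2) = 0 by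
              linear_combination e11 - e22)).resolve_left (sub_ne_zero.2 ht))
          ext i j
          fin_cases i <;> fin_cases j <;> simp [-Units.val_mul, h01, h02, h10, h20, h12, h21, hdd]
        have hdet : (K : M₃) 0 0 * (μ * ν) = 1 := by
          linear_combination (norm := ring1) hd + (K : M₃) 0 0 * e11 - (K : M₃) 0 0 * (K : M₃) 1 1 * ht
        have hb6 : ((K : M₃) 0 0 ^ 3) ^ 2 = 1 := by
          have h1 := congrArg Units.val (cov.beta_sq x')
          rw [Units.val_mul, hβ, Units.val_pow_eq_pow_val, coe_chiHom, coe_toStd, ← pow_two,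
            show ((Lc x' : CP) : GL (Fin 3) F) = L x' from rfl, ← hK, Units.val_one] at h1
          exact h1
        have hkey : ∀ a b : F, a ≠ b → (K : M₃) 0 0 = a → (K : M₃) 0 0 * (a * b) = 1 → b = -a := by
          intro a b hab ha hdet
          rw [ha] at hdet hb6
          have ha0 : a ≠ 0 := fun e0 => by rw [e0] at hdet; simp at hdet
          have hsq : (b - a) * (b + a) = 0 := by
            refine (mul_eq_zero.1 (show a ^ 4 * ((b - a) * (b + a)) = 0 by
              linear_combination (a * (a * b) + 1) * hdet - hb6)).resolve_left (pow_ne_zero 4 ha0)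
          exact eq_neg_of_add_eq_zero_left ((mul_eq_zero.1 hsq).resolve_left (sub_ne_zero.2 hab.symm))
        have hsum : μ + ν = 0 := by
          rcases e00 with h1 | h1
          · rw [hkey μ ν hne h1 hdet, add_neg_cancel]
          · rw [hkey ν μ hne.symm h1 (by rw [mul_comm ν μ]; exact hdet), neg_add_cancel]
        refine hxx (Subtype.ext ?_)
        rw [Subgroup.coe_mul, ← hLpr, ← map_mul, Subgroup.coe_one, pr_eq_one]
        refine ⟨-(μ * ν), ?_⟩
        simp only [sub_mul, mul_sub, Matrix.smul_mul, Matrix.mul_smul, one_mul, mul_one, smul_smul] at hq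
        rw [Units.val_mul]
        obtain rfl : ν = -μ := eq_neg_of_add_eq_zero_right hsum
        linear_combination (norm := module) hq
    have h1 := hcm (u : GL (Fin 3) F) (negSwap : GL (Fin 3) F)
      (by show _ = _; rw [← Units.val_mul, ← Units.val_mul, hgu])
      (by show _ = _; rw [← Units.val_mul, ← Units.val_mul, hgn])
    rw [← hu]
    refine Subtype.ext ?_
    show pr (u : GL (Fin 3) F) * pr negSwap = pr negSwap * pr (u : GL (Fin 3) F)
    rw [← map_mul, ← map_mul]
    exact congrArg pr (Units.ext h1.eq)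
  · intro x hxh hx3 hx1
    obtain ⟨x', rfl⟩ : ∃ x' : Cn c.bh, (x' : PX X) = x :=
      ⟨⟨x, Subgroup.mem_centralizer_singleton_iff.2 hxh.eq⟩, rfl⟩
    have hx3' : x' ^ 3 = 1 := Subtype.ext (by rw [SubmonoidClass.coe_pow]; exact hx3)
    have hb := cov.beta_cube hx3'
    rw [hβ] at hb
    obtain ⟨z, hz⟩ : ∃ z, z = (chiHom c.two_ne _ (Lc x'))⁻¹ := ⟨_, rfl⟩
    have hz3 : (z : F) ^ 3 = 1 := by rw [← Units.val_pow_eq_pow_val, hz, inv_pow, hb, inv_one, Units.val_one]
    let s : GL (Fin 3) F := dia fun _ => z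
    have hs : (s : M₃) = (z : F) • 1 := by simp [s, coe_dia, Matrix.smul_one_eq_diagonal]
    have hsc := scalar_comm ⟨_, hs⟩
    refine ⟨s * L x', mul_mem (c.sc_mem hs hz3) (hLX x'), ?_, ?_⟩
    · rw [map_mul, pr_eq_one.2 ⟨_, hs⟩, one_mul, hLpr]
    · obtain ⟨t, ht⟩ := pr_eq_one.1 (show pr (L x' ^ 3) = 1 by
        rw [map_pow, hLpr]; exact congrArg Subtype.val hx3)
      have hzt : (z : F) ^ 3 * t = 1 := by
        have h1 : ((toStd _ (Lc x' ^ 3) : GL (Fin 3) F) : M₃) 0 0 = t := by
          rw [coe_toStd, SubmonoidClass.coe_pow, show ((Lc x' : CP) : GL (Fin 3) F) = L x' from rfl, Units.val_mul,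
            Units.val_mul, ht, Matrix.mul_smul, mul_one, Matrix.smul_mul, Units.inv_mul]
          simp
        rw [← coe_chiHom c.two_ne, map_pow, hb, Units.val_one] at h1
        rw [← h1, hz3, one_mul]
      refine Units.ext ?_
      rw [(show Commute s (L x') from hsc _).mul_pow, Units.val_mul, Units.val_pow_eq_pow_val, hs, ht, smul_pow,
        one_pow, Matrix.smul_mul, one_mul, smul_smul, hzt, one_smul, Units.val_one]

end Std

end Cfsg.Agent.Classical.SUThree.Hess
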