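import Cfsg.Agent.Lib.Classical.SUThree.HessUnip
import Cfsg.Agent.Lib.Classical.SUThree.HessCover
import Cfsg.Agent.Lib.Classical.SUThree.HessCount

/-!
A group of isometries without transvections above the standard group and its quaternion group: one class of
involutions, every nontrivial normal subgroup contains it, and for characteristic at least eleven there is no such
group outside the normaliser of the standard group.
-/

set_option autoImplicit false
set_option linter.unusedSectionVars false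
set_option maxHeartbeats 1000000

namespace Cfsg.Agent.Classical.SUThree.Hess

open Matrix MaxTv HeisenbergThree SLThree SLThree.Hessian
open scoped commutatorElement

universe u

variable {F : Type u} [Field F]

local notation "M₃" => Matrix (Fin 3) (Fin 3) F

/-- The centraliser of an element of order at least three in the cyclic part. -/
theorem card_centralizer_big {G : Type*} [Group G] [Finite G] {h : G} {M : Type*} [Group M] [Finite M] {A : Type*}
    [CommGroup A] {π : Cn h →* M} {β : Cn h →* A} {e : A} (cov : Cov G h π β e) (h3 : ¬ 3 ∣ Nat.card (Cn h))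
    {n : ℕ} (hcard : Nat.card (Cn h) = 4 * n)
    (hown : ∀ z : G, z * z = 1 → z ≠ 1 → ∀ x : G, Commute x h → x * x ≠ 1 → Commute x z → z = h)
    {y : G} (hy : Commute y h) (hy4 : y ^ 4 ≠ 1) : Nat.card (Subgroup.centralizer ({y} : Set G)) = 2 * n := by
  classical
  obtain ⟨y', rfl⟩ : ∃ y' : Cn h, (y' : G) = y := ⟨⟨y, Subgroup.mem_centralizer_singleton_iff.2 hy⟩, rfl⟩
  rcases cov.split with ⟨⟨i⟩⟩ | ⟨T, hTtop, hT, hcy, hi⟩
  · exfalso
    refine h3 ?_
    have h1 : Nat.card M ∣ Nat.card (Cn h) := Subgroup.card_dvd_of_surjective π cov.surj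
    refine dvd_trans ?_ h1
    rw [Nat.card_congr i.toEquiv, Nat.card_perm, Nat.card_eq_fintype_card, Fintype.card_fin]
    norm_num [Nat.factorial]
  have hyy : π (y' * y') ≠ 1 := fun e1 => hy4 (by
    rcases (cov.ker _).1 e1 with e2 | e2 <;> rw [Subgroup.coe_mul] at e2 <;>
      rw [pow_succ, pow_succ, pow_two, e2, mul_assoc, e2]
    · exact one_mul 1
    · exact cov.hh)
  have hyT : π y' ∈ T := by_contra fun hn => hyy (by rw [map_mul, hi _ hn])
  -- the cyclic part is abelian
  haveI := hcy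
  obtain ⟨c0, hgen⟩ := IsCyclic.exists_generator (α := T)
  obtain ⟨x₀, hx₀⟩ := cov.surj c0
  have hab : ∀ x : Cn h, π x ∈ T → ∀ w : G, Commute w h → Commute w (x₀ : G) → Commute w (x : G) := by
    intro x hx w hwh hwx
    obtain ⟨k, hk⟩ := mem_powers_iff_mem_zpowers.2 (hgen ⟨π x, hx⟩)
    dsimp only at hk
    rcases cov.kerm (show π (x₀ ^ k) = π x by rw [map_pow, hx₀, ← SubmonoidClass.coe_pow, hk]) with h1 | h1 <;>
      rw [h1, SubmonoidClass.coe_pow]
    · exact hwx.pow_right k
    · exact hwh.mul_right (hwx.pow_right k)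
  have hcomT : ∀ z : Cn h, π z ∈ T → Commute (z : G) (y' : G) := fun z hz =>
    hab y' hyT z (Cov.comm z).symm (hab z hz _ (Cov.comm x₀).symm (Commute.refl _)).symm
  have hyh : Commute (y' : G) h := hy
  have hys : (y' : G) * y' ≠ 1 := fun e1 => hy4 (by rw [pow_succ, pow_succ, pow_two, e1, one_mul, e1])
  have hC : Subgroup.centralizer ({(y' : G)} : Set G) = (T.comap π).map (Cn h).subtype := by
    ext z
    rw [Subgroup.mem_centralizer_singleton_iff]
    constructor
    · intro hz
      have hzh : z * h * z⁻¹ = h := by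
        refine hown _ ?_ ?_ _ hyh hys ?_
        · rw [show z * h * z⁻¹ * (z * h * z⁻¹) = z * (h * h) * z⁻¹ by group, cov.hh]; group
        · exact fun e1 => cov.inv.2 (conj_eq_one_iff.1 e1)
        · exact ((Commute.mul_right (show Commute (y' : G) z from hz.symm) hyh).mul_right
            (show Commute (y' : G) z from hz.symm).inv_right)
      have hzC : z ∈ Cn h := Subgroup.mem_centralizer_singleton_iff.2 (mul_inv_eq_iff_eq_mul.1 hzh)
      refine ⟨⟨z, hzC⟩, ?_, rfl⟩
      show π ⟨z, hzC⟩ ∈ T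
      by_contra hn
      have h1 : π ⟨z, hzC⟩ * π y' * (π ⟨z, hzC⟩)⁻¹ = π y' := by
        rw [← map_mul, ← map_inv, ← map_mul]
        exact congrArg π (Subtype.ext (mul_inv_eq_iff_eq_mul.2 hz))
      rw [Cov.invert hi hn hyT] at h1
      exact hyy (by rw [map_mul]; exact eq_inv_iff_mul_eq_one.1 h1.symm)
    · rintro ⟨z', hz', rfl⟩
      exact (hcomT z' hz').eq
  obtain ⟨a, ha⟩ : ∃ a, a ∉ T := by
    by_contra hc
    push Not at hc
    exact hTtop (eq_top_iff.2 fun g _ => hc g)
  have hidx : (T.comap π).index = 2 := by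
    rw [Subgroup.index_comap_of_surjective _ cov.surj, Subgroup.index_eq_two_iff]
    refine ⟨a, fun b => ?_⟩
    by_cases hb : b ∈ T
    · exact Or.inr ⟨hb, fun h1 => ha (by simpa using mul_mem (inv_mem hb) h1)⟩
    · exact Or.inl ⟨hT _ _ hb ha, hb⟩
  have h2 := (T.comap π).card_mul_index
  rw [hidx, hcard] at h2
  rw [hC, Subgroup.card_map_of_injective (Cn h).subtype_injective]
  omega

variable {X : Subgroup (GL (Fin 3) F)} {w : Fˣ} {p : ℕ} [Fintype F]

namespace Std

variable (c : Std X w p)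
include c

theorem bh_ne : c.bh ≠ 1 := fun e => by
  have h1 := c.bR_inv c.bA_mem
  rw [e, one_mul, mul_one] at h1
  have h2 := c.bR_cube c.bA_mem
  rw [pow_succ, pow_two, eq_inv_iff_mul_eq_one.1 h1, one_mul] at h2
  exact c.bA_ne h2

theorem mem_Cn {x : PX X} : x ∈ Cn c.bh ↔ Commute x c.bh := Subgroup.mem_centralizer_singleton_iff

/-- The centraliser of the involution has no element of order three. -/
theorem no_cube {x : PX X} (hx : Commute x c.bh) (hx3 : x ^ 3 = 1) : x = 1 := by
  classical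
  haveI : Finite (GL (Fin 3) F) := Finite.of_injective _ Units.val_injective
  haveI : Finite (Matrix.ProjGenLinGroup (Fin 3) F) := Finite.of_surjective _ Matrix.ProjGenLinGroup.mk_surjective
  haveI : Fact (Nat.Prime 3) := ⟨Nat.prime_three⟩
  by_contra hx1
  obtain ⟨M, _, _, π, β, cov, -, hown, -⟩ := c.exists_cov
  have hxx : x * x ≠ 1 := fun e => hx1 (by rwa [pow_succ, pow_two, e, one_mul] at hx3)
  obtain ⟨x', rfl⟩ : ∃ x' : Cn c.bh, (x' : PX X) = x := ⟨⟨x, c.mem_Cn.2 hx⟩, rfl⟩
  have hx3' : x' ^ 3 = 1 := Subtype.ext (by rw [SubmonoidClass.coe_pow]; exact hx3)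
  have hx1' : x' ≠ 1 := fun e => hx1 (congrArg Subtype.val e)
  -- elements of order three commuting with it
  have key : ∀ z : PX X, z ^ 3 = 1 → Commute z (x' : PX X) → z = 1 ∨ z = x' ∨ z = (x' : PX X)⁻¹ := by
    intro z hz hzx
    have hv : z * c.bh * z⁻¹ * (z * c.bh * z⁻¹) = 1 := by
      rw [show z * c.bh * z⁻¹ * (z * c.bh * z⁻¹) = z * (c.bh * c.bh) * z⁻¹ by group, c.bh_sq]; group
    have hxv : Commute (x' : PX X) (z * c.bh * z⁻¹) := by
      have h1 := commute_conj z hx
      rwa [hzx.eq, mul_inv_cancel_right] at h1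
    have hvC := hown _ _ hx hxx hv hxv
    have he : z * c.bh * z⁻¹ = c.bh := cov.own_cube (y := x') (v := ⟨_, c.mem_Cn.2 hvC⟩) hx3' hx1' hv
      (fun e => c.bh_ne (conj_eq_one_iff.1 e)) (Subtype.ext hxv.eq)
    have hzC : z ∈ Cn c.bh := c.mem_Cn.2 (mul_inv_eq_iff_eq_mul.1 he)
    rcases cov.pow_cube (z := ⟨z, hzC⟩) hx3' hx1' (Subtype.ext (by rw [SubmonoidClass.coe_pow]; exact hz))
      (Subtype.ext hzx.symm.eq) with e | e | e
    · exact Or.inl (congrArg Subtype.val e)
    · exact Or.inr (Or.inl (congrArg Subtype.val e))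
    · exact Or.inr (Or.inr (congrArg Subtype.val e))
  have hzp : IsPGroup 3 (Subgroup.zpowers (x' : PX X)) :=
    IsPGroup.of_card (n := 1) (by rw [Nat.card_zpowers, orderOf_eq_prime hx3 hx1, pow_one])
  obtain ⟨P, hP⟩ := hzp.exists_le_sylow
  have hxP : (x' : PX X) ∈ (P : Subgroup (PX X)) := hP (Subgroup.mem_zpowers _)
  haveI : Nontrivial (P : Subgroup (PX X)) :=
    ⟨⟨⟨x', hxP⟩, 1, fun e => hx1 (congrArg Subtype.val e)⟩⟩
  haveI := P.isPGroup'.center_nontrivial
  obtain ⟨k, hk⟩ := IsPGroup.iff_card.1 (P.isPGroup'.to_subgroup (Subgroup.center (P : Subgroup (PX X))))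
  have hk0 : k ≠ 0 := fun e => by
    have h1 := Finite.one_lt_card (α := Subgroup.center (P : Subgroup (PX X)))
    rw [hk, e, pow_zero] at h1
    exact lt_irrefl _ h1
  obtain ⟨z, hz⟩ := exists_prime_orderOf_dvd_card' (G := Subgroup.center (P : Subgroup (PX X))) 3
    (hk ▸ dvd_pow_self 3 hk0)
  have hzc : ∀ q, q ∈ (P : Subgroup (PX X)) → Commute ((z : (P : Subgroup (PX X))) : PX X) q := fun q hq =>
    (congrArg Subtype.val (Subgroup.mem_center_iff.1 z.2 ⟨q, hq⟩)).symm
  have hz3 : ((z : (P : Subgroup (PX X))) : PX X) ^ 3 = 1 := by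
    have h := pow_orderOf_eq_one ((z : (P : Subgroup (PX X))) : PX X)
    rwa [Subgroup.orderOf_coe, Subgroup.orderOf_coe, hz] at h
  have hz1 : ((z : (P : Subgroup (PX X))) : PX X) ≠ 1 := fun e => by
    have h1 : orderOf z = 1 := by rw [← Subgroup.orderOf_coe, ← Subgroup.orderOf_coe, e, orderOf_one]
    omega
  have hxc : ∀ q ∈ (P : Subgroup (PX X)), Commute (x' : PX X) q := fun q hq => by
    rcases key _ hz3 (hzc _ hxP) with e | e | e
    · exact absurd e hz1
    · exact e ▸ hzc q hq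
    · have h1 := hzc q hq
      rw [e] at h1
      exact Commute.inv_left_iff.1 h1
  obtain ⟨Q, hQ⟩ := (IsPGroup.of_card (n := 2) (p := 3) (G := c.bR) (by rw [c.card_bR]; rfl)).exists_le_sylow
  obtain ⟨g, hg⟩ := MulAction.exists_smul_eq (PX X) Q P
  have hmem : ∀ r : c.bR, g * r * g⁻¹ ∈ ({1, (x' : PX X), (x' : PX X)⁻¹} : Finset (PX X)) := fun r => by
    have h1 : g * (r : PX X) * g⁻¹ ∈ (P : Subgroup (PX X)) := by
      rw [← hg, Sylow.coe_subgroup_smul]
      exact Subgroup.smul_mem_pointwise_smul _ (MulAut.conj g) _ (hQ r.2)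
    simp only [Finset.mem_insert, Finset.mem_singleton]
    exact key _ (by rw [conj_pow, c.bR_cube r.2]; group) (hxc _ h1).symm
  have hcard := Nat.card_le_card_of_injective
    (fun r : c.bR => (⟨g * r * g⁻¹, hmem r⟩ : ({1, (x' : PX X), (x' : PX X)⁻¹} : Finset (PX X))))
    fun r s e => Subtype.ext (by simpa using congrArg Subtype.val e)
  rw [c.card_bR, Nat.card_eq_fintype_card, Fintype.card_coe] at hcard
  have := hcard.trans Finset.card_le_three
  omega
/-- The order of the centraliser of the involution is not divisible by three. -/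
theorem not_three : ¬ 3 ∣ Nat.card (Cn c.bh) := fun hd => by
  classical
  haveI : Finite (GL (Fin 3) F) := Finite.of_injective _ Units.val_injective
  haveI : Finite (Matrix.ProjGenLinGroup (Fin 3) F) := Finite.of_surjective _ Matrix.ProjGenLinGroup.mk_surjective
  haveI : Fact (Nat.Prime 3) := ⟨Nat.prime_three⟩
  haveI : Fact p.Prime := ⟨c.prime⟩
  haveI : CharP F p := c.charP
  obtain ⟨y, hy⟩ := exists_prime_orderOf_dvd_card' 3 hd
  have h1 : (y : PX X) = 1 := c.no_cube (c.mem_Cn.1 y.2) (by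
    have h := pow_orderOf_eq_one (y : PX X)
    rwa [Subgroup.orderOf_coe, hy] at h)
  rw [show y = 1 from Subtype.ext h1, orderOf_one] at hy
  norm_num at hy

/-- One class of involutions. -/
theorem conj_invol (u : PX X) (hu : u * u = 1) (hu1 : u ≠ 1) : IsConj c.bh u := by
  classical
  haveI : Finite (GL (Fin 3) F) := Finite.of_injective _ Units.val_injective
  haveI : Finite (Matrix.ProjGenLinGroup (Fin 3) F) := Finite.of_surjective _ Matrix.ProjGenLinGroup.mk_surjective
  haveI : Fact (Nat.Prime 3) := ⟨Nat.prime_three⟩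
  haveI : Fact p.Prime := ⟨c.prime⟩
  haveI : CharP F p := c.charP
  obtain ⟨M, _, _, π, β, cov, hpM, hown, -⟩ := c.exists_cov
  obtain ⟨n, hcard, h4, h3n, hS, htwo, hcls⟩ := cov.dihedral_data c.not_three
  -- one class of involutions
  obtain ⟨s, hs, hs1, hsh, hsc, hsconj⟩ := c.exists_other
  have hconjC : ∀ v, v * v = 1 → v ≠ 1 → Commute v c.bh → IsConj c.bh v := fun v hv hv1 hvc => by
    by_cases hvh : v = c.bh
    · rw [hvh]
    · exact hsconj.trans (hcls s v hs hs1 hsh hsc hv hv1 hvh hvc)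
  obtain ⟨d, hd⟩ : ∃ d, d = u * c.bh := ⟨_, rfl⟩
  have hui : u⁻¹ = u := inv_eq_of_mul_eq_one_right hu
  have hhi : c.bh⁻¹ = c.bh := inv_eq_of_mul_eq_one_right c.bh_sq
  have hud : ∀ j : ℕ, u * d ^ j * u = (d ^ j)⁻¹ := fun j => by
    have h1 : u * d * u = d⁻¹ := by rw [hd, _root_.mul_inv_rev, hui, hhi, ← mul_assoc, hu, one_mul]
    have h2 : u * d ^ j * u⁻¹ = (u * d * u⁻¹) ^ j := conj_pow.symm
    rw [hui, h1, inv_pow] at h2
    exact h2
  obtain ⟨k, hk⟩ | ⟨k, hk⟩ := Nat.even_or_odd (orderOf d)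
  · -- even order: a common involution
    obtain ⟨v, hv⟩ : ∃ v, v = d ^ k := ⟨_, rfl⟩
    have hk0 : k ≠ 0 := fun e => by have := orderOf_pos d; omega
    have hvv : v * v = 1 := by rw [hv, ← pow_add, ← hk, pow_orderOf_eq_one]
    have hv1 : v ≠ 1 := fun e => by
      have := Nat.le_of_dvd (by omega) (orderOf_dvd_of_pow_eq_one (hv ▸ e))
      omega
    have hvu : Commute v u := by
      have h1 : u * v * u = v := by rw [hv, hud, inv_eq_of_mul_eq_one_right (hv ▸ hvv)]
      show v * u = u * v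
      conv_lhs => rw [← h1, mul_assoc, hu, mul_one]
    have hvh : Commute v c.bh := by
      have h1 : Commute v d := by rw [hv]; exact Commute.pow_self d k
      have h2 := hvu.mul_right h1
      rwa [hd, ← mul_assoc, hu, one_mul] at h2
    obtain ⟨g, hg⟩ := isConj_iff.1 (hconjC v hvv hv1 hvh)
    refine (hconjC (g⁻¹ * u * g) ?_ ?_ ?_).trans (isConj_iff.2 ⟨g, by group⟩)
    · rw [show g⁻¹ * u * g * (g⁻¹ * u * g) = g⁻¹ * (u * u) * g by group, hu]; group
    · intro e; exact hu1 (by rw [show u = g * (g⁻¹ * u * g) * g⁻¹ by group, e]; group)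
    · have h1 := commute_conj g⁻¹ hvu.symm
      rw [← hg] at h1
      simpa [mul_assoc] using h1
  · refine (isConj_iff.2 ⟨(d ^ (k + 1))⁻¹, ?_⟩ : IsConj u c.bh).symm
    rw [inv_inv, ← hud, show u * d ^ (k + 1) * u * u * d ^ (k + 1) = u * (d ^ (k + 1) * (u * u)) * d ^ (k + 1) by
        simp only [mul_assoc], hu, mul_one, mul_assoc, ← pow_add,
      show k + 1 + (k + 1) = orderOf d + 1 by omega, pow_add, pow_orderOf_eq_one, one_mul, pow_one, hd,
      ← mul_assoc, hu, one_mul]

/-- A nontrivial normal subgroup contains the involution. -/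
theorem bh_mem_of_normal {N : Subgroup (PX X)} (hN : N.Normal) (hne : N ≠ ⊥) : c.bh ∈ N := by
  classical
  haveI : Finite (GL (Fin 3) F) := Finite.of_injective _ Units.val_injective
  haveI : Finite (Matrix.ProjGenLinGroup (Fin 3) F) := Finite.of_surjective _ Matrix.ProjGenLinGroup.mk_surjective
  by_cases hev : 2 ∣ Nat.card N
  · haveI : Fact (Nat.Prime 2) := ⟨Nat.prime_two⟩
    obtain ⟨v, hv⟩ := exists_prime_orderOf_dvd_card' 2 hev
    rw [← Subgroup.orderOf_coe] at hv
    obtain ⟨g, hg⟩ := isConj_iff.1 (c.conj_invol _ (invol_iff.1 hv).1 (invol_iff.1 hv).2)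
    rw [show c.bh = g⁻¹ * (v : PX X) * g by rw [← hg]; group]
    simpa using hN.conj_mem (v : PX X) v.2 g⁻¹
  · exfalso
    haveI := hN
    haveI : Nontrivial N := (Subgroup.nontrivial_iff_ne_bot N).2 hne
    haveI : Group.IsSolvable N := Cfsg.Agent.S0205.result (Nat.odd_iff.2 (Nat.two_dvd_ne_zero.1 hev))
    obtain ⟨d, hd⟩ := Group.IsSolvable.solvable (G := N)
    obtain ⟨k, hk, hk1⟩ : ∃ k, derivedSeries N k ≠ ⊥ ∧ derivedSeries N (k + 1) = ⊥ := by
      by_contra hcon
      push Not at hcon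
      have hall : ∀ k, derivedSeries N k ≠ ⊥ := fun k => by
        induction k with
        | zero => rw [derivedSeries_zero]; exact top_ne_bot
        | succ k ih => exact hcon k ih
      exact hall d hd
    refine hk ((Subgroup.map_eq_bot_iff_of_injective _ N.subtype_injective).1
      (c.no_abelian ((derivedSeries N k).map N.subtype) inferInstance ?_))
    rintro _ ⟨a, ha, rfl⟩ _ ⟨b, hb, rfl⟩
    have h1 : ⁅a, b⁆ ∈ derivedSeries N (k + 1) := by
      rw [derivedSeries_succ]; exact Subgroup.commutator_mem_commutator ha hb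
    rw [hk1, Subgroup.mem_bot, commutatorElement_eq_one_iff_mul_comm] at h1
    exact congrArg (fun z : N => (z : PX X)) h1

/-- In characteristic at least eleven the configuration of the count is impossible. -/
theorem false (h11 : 11 ≤ p) : False := by
  classical
  haveI : Finite (GL (Fin 3) F) := Finite.of_injective _ Units.val_injective
  haveI : Finite (Matrix.ProjGenLinGroup (Fin 3) F) := Finite.of_surjective _ Matrix.ProjGenLinGroup.mk_surjective
  haveI : Fact (Nat.Prime 3) := ⟨Nat.prime_three⟩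
  haveI : Fact p.Prime := ⟨c.prime⟩
  haveI : CharP F p := c.charP
  obtain ⟨M, _, _, π, β, cov, hpM, hown, -⟩ := c.exists_cov
  obtain ⟨n, hcard, h4, h3n, hS, htwo, hcls⟩ := cov.dihedral_data c.not_three
  have hinv2 : ∀ x : PX X, orderOf x = 2 ↔ x * x = 1 ∧ x ≠ 1 := fun x => invol_iff
  have hconj := c.conj_invol
  have hfree : ∀ y v : PX X, y ^ 3 = 1 → y ≠ 1 → v * v = 1 → v ≠ 1 → ¬ Commute y v := by
    intro y v hy hy1 hv hv1 hyv
    obtain ⟨g, rfl⟩ := isConj_iff.1 (hconj v hv hv1)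
    have h1 := commute_conj g⁻¹ hyv
    have h2 := c.no_cube (x := g⁻¹ * y * g) (by simpa [mul_assoc] using h1)
      (by rw [show g⁻¹ * y * g = g⁻¹ * y * g⁻¹⁻¹ by rw [inv_inv], conj_pow, hy]; group)
    exact hy1 (by rw [show y = g * (g⁻¹ * y * g) * g⁻¹ by group, h2]; group)
  -- the centraliser of the first generator
  have hCA : ∀ x : PX X, Commute x c.bA → x ∈ c.bR := by
    intro x hx
    obtain ⟨m, rfl⟩ := mkX_surjective x
    obtain ⟨k, -, hd⟩ := exists_diag c.hw c.hw1 (g := (m : GL (Fin 3) F)) (hx.map (PX X).subtype)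
    obtain ⟨u, hu⟩ : ∃ u : X, u = m * (⟨cyc, c.hc⟩ : X) ^ k := ⟨_, rfl⟩
    have hud : ∀ i j : Fin 3, i ≠ j → ((u : GL (Fin 3) F) : M₃) i j = 0 := by rw [hu]; exact hd
    have claim : ∀ (g : X) (d : Fin 3 → F), ((g : GL (Fin 3) F) : M₃) = Matrix.diagonal d → d 0 * d 0 = d 1 * d 2 := by
      intro g d hg
      obtain ⟨m', hm'⟩ : ∃ m' : X, m' = g * (⟨negSwap, c.hh⟩ * g * ⟨negSwap, c.hh⟩) := ⟨_, rfl⟩
      have hval : ((m' : GL (Fin 3) F) : M₃) = Matrix.diagonal ![d 0 * d 0, d 1 * d 2, d 1 * d 2] := by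
        rw [hm']
        simp only [Subgroup.coe_mul, Units.val_mul, hg, coe_negSwap, ← mul_assoc]
        ext i j
        fin_cases i <;> fin_cases j <;> simp [Matrix.mul_apply, Matrix.vecMul_diagonal, Fin.sum_univ_three] <;> ring
      have hmh : Commute (mkX X m') c.bh := Subtype.ext (by
        show pr (m' : GL (Fin 3) F) * pr negSwap = pr negSwap * pr (m' : GL (Fin 3) F)
        rw [← map_mul, ← map_mul]
        refine congrArg pr (Units.ext ?_)
        simp only [Units.val_mul, hval, coe_negSwap]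
        ext i j
        fin_cases i <;> fin_cases j <;> simp [Matrix.mul_apply, Fin.sum_univ_three])
      have hmA : Commute (mkX X m') c.bA := Subtype.ext (by
        show pr (m' : GL (Fin 3) F) * pr (dia (A w)) = pr (dia (A w)) * pr (m' : GL (Fin 3) F)
        rw [← map_mul, ← map_mul]
        refine congrArg pr (Units.ext ?_)
        simp only [Units.val_mul, hval, coe_dia, Matrix.diagonal_mul_diagonal]
        congr 1
        funext i
        ring)
      by_contra hne
      have hm1 : mkX X m' ≠ 1 := fun e => hne (by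
        obtain ⟨t, ht⟩ := pr_eq_one.1 (congrArg Subtype.val e)
        rw [hval] at ht
        have e0 := congrFun (congrFun ht 0) 0
        have e1 := congrFun (congrFun ht 1) 1
        simp at e0 e1
        rw [e0, e1])
      by_cases hmm : mkX X m' * mkX X m' = 1
      · exact hfree c.bA _ (c.bR_cube c.bA_mem) c.bA_ne hmm hm1 hmA.symm
      · have hv : c.bA * c.bh * c.bA⁻¹ * (c.bA * c.bh * c.bA⁻¹) = 1 := by
          rw [show c.bA * c.bh * c.bA⁻¹ * (c.bA * c.bh * c.bA⁻¹) = c.bA * (c.bh * c.bh) * c.bA⁻¹ by group, c.bh_sq]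
          group
        have hmv : Commute (mkX X m') (c.bA * c.bh * c.bA⁻¹) := (hmA.mul_right hmh).mul_right hmA.inv_right
        have h1 := hown _ _ hmh hmm hv hmv
        have e : c.bh * (c.bA * c.bh * c.bA⁻¹) = c.bA := by
          rw [← mul_assoc, ← mul_assoc, c.bR_inv c.bA_mem, ← _root_.mul_inv_rev, inv_eq_of_mul_eq_one_right]
          rw [← pow_two, ← pow_succ, c.bR_cube c.bA_mem]
        have h2 : c.bA * c.bA = 1 := by
          calc c.bA * c.bA = c.bh * (c.bA * c.bh * c.bA⁻¹) * (c.bh * (c.bA * c.bh * c.bA⁻¹)) := by rw [e]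
            _ = c.bh * c.bh * (c.bA * c.bh * c.bA⁻¹ * (c.bA * c.bh * c.bA⁻¹)) := h1.mul_mul_mul_comm _ _
            _ = 1 := by rw [c.bh_sq, hv, one_mul]
        refine c.bA_ne ?_
        have h5 := c.bR_cube c.bA_mem
        rwa [pow_succ, pow_two, h2, one_mul] at h5
    obtain ⟨d, hd'⟩ : ∃ d : Fin 3 → F, ((u : GL (Fin 3) F) : M₃) = Matrix.diagonal d := ⟨fun i => ((u : GL (Fin 3) F) : M₃) i i, by
      ext i j
      rcases eq_or_ne i j with rfl | hij
      · rw [Matrix.diagonal_apply_eq]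
      · rw [Matrix.diagonal_apply_ne _ hij, hud i j hij]⟩
    have hrot : ∀ (g : X) (d : Fin 3 → F), ((g : GL (Fin 3) F) : M₃) = Matrix.diagonal d →
        (((⟨cyc, c.hc⟩ * g * ⟨cyc, c.hc⟩⁻¹ : X) : GL (Fin 3) F) : M₃) = Matrix.diagonal ![d 2, d 0, d 1] := by
      intro g d hg
      simp only [Subgroup.coe_mul, Subgroup.coe_inv, Units.val_mul, hg]
      show !![0, 0, 1; 1, 0, 0; 0, 1, 0] * _ * !![0, 1, 0; 0, 0, 1; 1, 0, 0] = _
      ext i j
      fin_cases i <;> fin_cases j <;> simp [Matrix.mul_apply, Matrix.vecMul_diagonal, Fin.sum_univ_three]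
    have e0 := claim u d hd'
    have e1 := claim _ _ (hrot u d hd')
    have e2 := claim _ _ (hrot _ _ (hrot u d hd'))
    simp at e1 e2
    have hne : ∀ i, d i ≠ 0 := fun i e => (u : GL (Fin 3) F).det_ne_zero (by
      rw [hd', Matrix.det_diagonal]
      exact Finset.prod_eq_zero (Finset.mem_univ i) e)
    obtain ⟨a, -, ha⟩ := cases_cube c.hw c.hw1 (t := Units.mk0 (d 1 / d 0) (div_ne_zero (hne 1) (hne 0)))
      (Units.ext (by
        simp only [Units.val_pow_eq_pow_val, Units.val_mk0, Units.val_one, div_pow]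
        rw [div_eq_one_iff_eq (pow_ne_zero 3 (hne 0))]
        linear_combination d 1 * e2 - d 0 * e0))
    have ha' : d 1 = (w : F) ^ a * d 0 := by
      have := congrArg Units.val ha
      simp only [Units.val_mk0, Units.val_pow_eq_pow_val] at this
      rw [← this, div_mul_cancel₀ _ (hne 0)]
    have hd2 : d 2 = (w : F) ^ (2 * a) * d 0 := by
      refine mul_left_cancel₀ (hne 1) ?_
      rw [← e0, ha']
      have h3 : ((w : F) ^ a) ^ 3 = 1 := by
        rw [← pow_mul, mul_comm, pow_mul, (sum_pow c.hw c.hw1).1, one_pow]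
      rw [show (w : F) ^ (2 * a) = ((w : F) ^ a) ^ 2 by rw [← pow_mul, mul_comm]]
      linear_combination (-(d 0 * d 0)) * h3
    rw [c.mem_bR]
    refine ⟨dia (A w) ^ a * (cyc ^ k)⁻¹, mul_mem (pow_mem (dia_A_mem w) a) (inv_mem (pow_mem (cyc_mem w) k)), ?_⟩
    have hmu : (m : GL (Fin 3) F) = (u : GL (Fin 3) F) * ((cyc : GL (Fin 3) F) ^ k)⁻¹ := by
      rw [hu, Subgroup.coe_mul, SubmonoidClass.coe_pow, mul_inv_cancel_right]
    rw [coe_mkX, hmu, map_mul, map_mul, mul_left_inj, eq_comm, pr_eq_pr]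
    refine ⟨d 0, ?_⟩
    rw [hd', ← map_pow, coe_dia, ← Matrix.diagonal_smul]
    congr 1
    funext i
    fin_cases i
    · simp [A]
    · simp [A, ha']; ring
    · simp [A, hd2, ← pow_mul]; ring
  have hcent : ∀ r ∈ c.bR, r ≠ 1 → ∀ x, Commute x r → x ∈ c.bR := by
    intro r hr hr1 x hx
    obtain ⟨g, hg, hgN⟩ := c.isConj_bA hr hr1
    have h1 := hCA (g⁻¹ * x * g) (by
      have h2 := commute_conj g⁻¹ hx
      rw [← hg] at h2
      simpa [mul_assoc] using h2)
    simpa [mul_assoc] using hgN _ h1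
  have hconj3 : ∀ x : PX X, orderOf x = 3 → ∀ r ∈ c.bR, r ≠ 1 → IsConj r x := by
    intro x hx r hr hr1
    obtain ⟨P, hP⟩ := (IsPGroup.of_card (n := 2) (p := 3) (G := c.bR) (by rw [c.card_bR]; rfl)).exists_le_sylow
    obtain ⟨Q, hQ⟩ := (IsPGroup.of_card (n := 1) (p := 3) (G := Subgroup.zpowers x)
      (by rw [Nat.card_zpowers, hx, pow_one])).exists_le_sylow
    obtain ⟨g, hg⟩ := MulAction.exists_smul_eq (PX X) Q P
    have hxP : g * x * g⁻¹ ∈ (P : Subgroup (PX X)) := by
      rw [← hg, Sylow.coe_subgroup_smul]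
      exact Subgroup.smul_mem_pointwise_smul _ (MulAut.conj g) _ (hQ (Subgroup.mem_zpowers x))
    haveI : Nontrivial (P : Subgroup (PX X)) :=
      ⟨⟨⟨_, hP c.bA_mem⟩, 1, fun e => c.bA_ne (congrArg Subtype.val e)⟩⟩
    haveI := P.isPGroup'.center_nontrivial
    obtain ⟨z, hz1⟩ := exists_ne (1 : Subgroup.center (P : Subgroup (PX X)))
    have hzc : ∀ q (hq : q ∈ (P : Subgroup (PX X))), Commute ((z : (P : Subgroup (PX X))) : PX X) q := fun q hq =>
      (congrArg Subtype.val (Subgroup.mem_center_iff.1 z.2 ⟨q, hq⟩)).symm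
    have hz1' : ((z : (P : Subgroup (PX X))) : PX X) ≠ 1 := fun e => hz1 (Subtype.ext (Subtype.ext e))
    have hzR := hCA _ (hzc _ (hP c.bA_mem))
    have hxR := hcent _ hzR hz1' _ (hzc _ hxP).symm
    have hx1 : g * x * g⁻¹ ≠ 1 := fun e => by
      rw [conj_eq_one_iff] at e; rw [e, orderOf_one] at hx; norm_num at hx
    obtain ⟨g₁, hg₁, -⟩ := c.isConj_bA hr hr1
    obtain ⟨g₂, hg₂, -⟩ := c.isConj_bA hxR hx1
    exact ((isConj_iff.2 ⟨g₁, hg₁⟩).symm.trans (isConj_iff.2 ⟨g₂, hg₂⟩)).trans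
      (isConj_iff.2 ⟨g⁻¹, by group⟩)
  have hcop : ¬ p ∣ 4 * n := fun hd => by
    rw [← hcard] at hd
    obtain ⟨y, hy⟩ := exists_prime_orderOf_dvd_card' p hd
    have h1 : orderOf (π y) = 1 := by
      rcases (Nat.dvd_prime c.prime).1 (hy ▸ orderOf_map_dvd π y) with e | e
      · exact e
      · exact absurd (e ▸ orderOf_dvd_natCard (π y)) hpM
    have h2 : orderOf y ∣ 2 := orderOf_dvd_of_pow_eq_one (Subtype.ext (by
      rw [SubmonoidClass.coe_pow, Subgroup.coe_one, pow_two]
      rcases (cov.ker y).1 (orderOf_eq_one_iff.1 h1) with e | e <;> rw [e]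
      · rw [one_mul]
      · exact c.bh_sq))
    rw [hy] at h2
    exact c.p_ne_two ((Nat.prime_dvd_prime_iff_eq c.prime Nat.prime_two).1 h2)
  have hown' : ∀ z : PX X, z * z = 1 → z ≠ 1 → ∀ x : PX X, Commute x c.bh → x * x ≠ 1 → Commute x z → z = c.bh := by
    intro v hv2 hv1 x hxh hxx hxv
    have hvh := hown x v hxh hxx hv2 hxv
    by_contra hne
    rcases htwo v x hv2 hv1 hne hvh hxh hxv with e | e | e | e
    · exact hxx (by rw [e, one_mul])
    · exact hxx (by rw [e, c.bh_sq])
    · exact hxx (by rw [e, hv2])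
    · refine hxx ?_
      rw [e, mul_assoc, ← mul_assoc v, hvh.eq, mul_assoc c.bh, hv2, mul_one, c.bh_sq]
  -- the configuration
  refine (show Config (PX X) c.bh n p c.bR from ?_).false_of h11
  refine ⟨(hinv2 _).2 ⟨c.bh_sq, c.bh_ne⟩, fun x hx => hconj x ((hinv2 x).1 hx).1 ((hinv2 x).1 hx).2, hcard, h4, h3n,
    ?_, fun v x hv => htwo v x ((hinv2 v).1 hv).1 ((hinv2 v).1 hv).2, ?_, c.card_bR, fun r hr => c.bR_cube hr,
    fun r hr => c.bR_inv hr, hcent, hconj3, c.prime, by omega, c.mod, hcop,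
    fun x b hb hb1 hxb => c.pow_eq_one_of_commute hb hb1 hxb,
    fun x b hb hb1 hxb => c.mem_zpowers_of_commute hb hb1 hxb,
    fun x y z hx hyx hy2 hzy => c.fix_normal hx hyx hy2 hzy,
    fun y hy hy4 => card_centralizer_big cov c.not_three hcard hown' hy hy4, ?_⟩
  · rw [← hS]
    exact Nat.card_congr (Equiv.subtypeEquivRight fun v => by rw [hinv2])
  · intro x v hxh hxx hv hxv
    exact hown' v ((hinv2 v).1 hv).1 ((hinv2 v).1 hv).2 x hxh hxx hxv
  · intro x hfx hx3 hxp hix
    obtain ⟨g₀, rfl⟩ := mkX_surjective x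
    -- an exact inversion
    have hpr0 : pr (negSwap * (g₀ : GL (Fin 3) F) * negSwap) = pr ((g₀ : GL (Fin 3) F)⁻¹) := by
      have := congrArg Subtype.val hix
      rw [Subgroup.coe_mul, Subgroup.coe_mul, Subgroup.coe_inv, c.coe_bh, coe_mkX] at this
      rw [map_mul, map_mul, map_inv]
      exact this
    obtain ⟨z, hz⟩ := pr_eq_pr.1 hpr0
    have hz3 : z ^ 3 = 1 := by
      have h := congrArg Matrix.det hz
      rw [Units.val_mul, Units.val_mul, Matrix.det_mul, Matrix.det_mul, det_negSwap, c.det _ g₀.2, Matrix.det_smul,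
        c.det _ (inv_mem g₀.2), Fintype.card_fin] at h
      simpa using h.symm
    have hz0 : z ≠ 0 := fun e => by rw [e] at hz3; simp at hz3
    let s : GL (Fin 3) F := dia fun _ => Units.mk0 z hz0
    have hs : (s : M₃) = z • 1 := by simp [s, coe_dia, Matrix.smul_one_eq_diagonal]
    obtain ⟨g, hgdef⟩ : ∃ g : X, g = (⟨s, c.sc_mem hs hz3⟩ : X) * g₀ := ⟨_, rfl⟩
    have hgx : mkX X g = mkX X g₀ := Subtype.ext (by
      rw [coe_mkX, coe_mkX, hgdef, Subgroup.coe_mul, map_mul, pr_eq_one.2 ⟨z, hs⟩, one_mul])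
    rw [← hgx] at hfx hx3 hxp hix ⊢
    have hinvg : (negSwap : GL (Fin 3) F) * (g : GL (Fin 3) F) * negSwap = (g : GL (Fin 3) F)⁻¹ := by
      refine eq_inv_of_mul_eq_one_left (Units.ext ?_)
      have h4 : (((g₀ : GL (Fin 3) F)⁻¹ : GL (Fin 3) F) : M₃) * ((g₀ : GL (Fin 3) F) : M₃) = 1 := Units.inv_mul _
      rw [hgdef, Subgroup.coe_mul]
      rw [Units.val_mul, Units.val_mul] at hz
      simp only [Units.val_mul, hs, Matrix.smul_mul, Matrix.mul_smul, one_mul, smul_smul, Units.val_one, hz, h4]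
      rw [show z * (z * z) = 1 by linear_combination hz3, one_smul]
    obtain ⟨G₁, hG₁⟩ : ∃ G₁ : M₃, G₁ = ((g : GL (Fin 3) F) : M₃) := ⟨_, rfl⟩
    have hfree' : ¬ Commute (mkX X g) c.bh := hfx _ ((hinv2 _).2 ⟨c.bh_sq, c.bh_ne⟩)
    have hp' : ∀ k : ℕ, ∀ a : F, G₁ ^ k = a • 1 → mkX X g ^ k = 1 := fun k a e => Subtype.ext (by
      rw [SubmonoidClass.coe_pow, coe_mkX, ← map_pow, Subgroup.coe_one, pr_eq_one]
      exact ⟨a, by rw [Units.val_pow_eq_pow_val, ← hG₁, e]⟩)
    -- members of the algebra of a quadratic element commute with the involution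
    have halg : ∀ (y : GL (Fin 3) F) (μ ν : F), μ ≠ ν → ((y : M₃) - μ • 1) * ((y : M₃) - ν • 1) = 0 →
        negSwap * y * negSwap = y⁻¹ → (∀ a : F, (y : M₃) ≠ a • 1) → Commute (negSwap : GL (Fin 3) F) y := by
      intro y μ ν hne hq hy hns
      have hμν : μ * ν ≠ 0 := fun e => by
        have h1 : (y : M₃) * ((y : M₃) - (μ + ν) • 1) = 0 := by
          simp only [sub_mul, mul_sub, Matrix.smul_mul, Matrix.mul_smul, one_mul, mul_one, smul_smul] at hq ⊢
          linear_combination (norm := skip) hq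
          match_scalars <;> first | ring1 | linear_combination e | linear_combination -e
        have h2 := congrArg (fun m => ((y⁻¹ : GL (Fin 3) F) : M₃) * m) h1
        simp only [← mul_assoc, Units.inv_mul, one_mul, mul_zero] at h2
        exact hns _ (sub_eq_zero.1 h2)
      have hinvy : ((y⁻¹ : GL (Fin 3) F) : M₃) = ((μ + ν) / (μ * ν)) • 1 + (-(μ * ν)⁻¹) • (y : M₃) := by
        have h1 : (y : M₃) * (((μ + ν) / (μ * ν)) • 1 + (-(μ * ν)⁻¹) • (y : M₃)) = 1 := by
          simp only [sub_mul, mul_sub, Matrix.smul_mul, Matrix.mul_smul, one_mul, mul_one, smul_smul] at hq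
          rw [mul_add, Matrix.mul_smul, Matrix.mul_smul, mul_one]
          obtain ⟨hμ0, hν0⟩ := mul_ne_zero_iff.1 hμν
          linear_combination (norm := skip) (-(μ * ν)⁻¹) • hq
          match_scalars <;> field_simp <;> ring
        exact (left_inv_eq_right_inv (Units.inv_mul y) h1)
      have h1 := commute_of_algebra c.two_ne hne hq (a := negSwap) (α := (μ + ν) / (μ * ν)) (β := -(μ * ν)⁻¹) (by
        rw [← hinvy, inv_eq_of_mul_eq_one_right negSwap_mul_self, ← Units.val_mul, ← Units.val_mul, hy])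
      exact Units.ext h1.eq
    have hcm : CommCent G₁ := by
      refine (quad_or_commCent c.two_ne G₁).resolve_left ?_
      rintro ⟨μ, ν, hq⟩
      rcases eq_or_ne μ ν with rfl | hne
      · refine hxp (hp' p (μ ^ p) ?_)
        have h0 : (G₁ - μ • 1) ^ p = 0 := by
          rw [show p = 2 + (p - 2) by have := c.prime.two_le; omega, pow_add, pow_two, hq, zero_mul]
        rw [sub_pow_char_of_commute p ((Commute.one_right _).smul_right _), sub_eq_zero, smul_pow, one_pow] at h0
        exact h0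
      · refine hfree' (Subtype.ext ?_)
        show pr (g : GL (Fin 3) F) * pr negSwap = pr negSwap * pr (g : GL (Fin 3) F)
        rw [← map_mul, ← map_mul, (halg _ μ ν hne (hG₁ ▸ hq) hinvg fun a e => hx3 (by
          rw [show mkX X g = 1 from Subtype.ext (by rw [coe_mkX, Subgroup.coe_one, pr_eq_one]; exact ⟨a, e⟩),
            one_pow])).eq]
    have hexact : ∀ a : X, Commute (mkX X a) (mkX X g) → (a : GL (Fin 3) F) * g = g * a := by
      intro a ha
      obtain ⟨ζ, hζ⟩ := commute_pr.1 (ha.map (PX X).subtype : Commute (pr (a : GL (Fin 3) F)) (pr (g : GL (Fin 3) F)))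
      by_cases h1 : ζ = 1
      · rw [h1, one_smul] at hζ; exact Units.ext hζ
      · refine absurd (hp' 3 G₁.det ?_) hx3
        rw [pow_succ, pow_two]
        exact cube_scalar c.two_ne (cube_of_comm hζ) h1 (hG₁ ▸ hζ)
    have hcomG : ∀ a : X, Commute (mkX X a) (mkX X g) → Commute ((a : GL (Fin 3) F) : M₃) G₁ := fun a ha => by
      rw [hG₁]
      show _ = _
      rw [← Units.val_mul, ← Units.val_mul, hexact a ha]
    refine ⟨fun a b ha hb => ?_, ?_⟩
    · obtain ⟨a, rfl⟩ := mkX_surjective a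
      obtain ⟨b, rfl⟩ := mkX_surjective b
      have h1 := hcm _ _ (hcomG a ha) (hcomG b hb)
      refine (show Commute a b from Subtype.ext (Units.ext ?_)).map (mkX X)
      exact h1.eq
    -- three eigenlines
    rcases split_or_repeated (g : GL (Fin 3) F) with ⟨E, _, f, P, r, hr, hP⟩ | ⟨μ, ν, hrep⟩
    swap
    · exfalso
      rw [← hG₁] at hrep
      obtain ⟨y, hy⟩ : ∃ y : GL (Fin 3) F, y = (g : GL (Fin 3) F) ^ p := ⟨_, rfl⟩
      have hyq : ((y : M₃) - μ ^ p • 1) * ((y : M₃) - ν ^ p • 1) = 0 := by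
        have e : ∀ t : F, (y : M₃) - t ^ p • 1 = (G₁ - t • 1) ^ p := fun t => by
          rw [sub_pow_char_of_commute p ((Commute.one_right _).smul_right _), smul_pow, one_pow,
            hy, Units.val_pow_eq_pow_val, hG₁]
        rw [e, e]
        obtain ⟨q, hq⟩ : ∃ q, p = q + 2 := ⟨p - 2, by have := c.prime.two_le; omega⟩
        have hcq : Commute (G₁ - μ • 1) (G₁ - ν • 1) :=
          ((Commute.refl _).sub_right ((Commute.one_right _).smul_right _)).sub_left
            ((Commute.one_left _).smul_left _)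
        calc (G₁ - μ • 1) ^ p * (G₁ - ν • 1) ^ p
            = (G₁ - μ • 1) ^ q * ((G₁ - μ • 1) * (G₁ - μ • 1) * (G₁ - ν • 1)) * (G₁ - ν • 1) ^ (q + 1) := by
              rw [hq, pow_add, pow_two, show q + 2 = 1 + (q + 1) by omega, pow_add, pow_one]
              simp only [mul_assoc]
          _ = 0 := by rw [hrep, mul_zero, zero_mul]
      have hyinv : negSwap * y * negSwap = y⁻¹ := by
        have h1 := (conj_pow (a := (negSwap : GL (Fin 3) F)) (b := (g : GL (Fin 3) F)) (i := p)).symm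
        rw [inv_eq_of_mul_eq_one_right negSwap_mul_self, hinvg, inv_pow] at h1
        rw [hy]
        exact h1
      rcases eq_or_ne μ ν with rfl | hne
      · have h0 : ((y : M₃) - μ ^ p • 1) ^ p = 0 := pow_eq_zero_of_le c.prime.two_le (by rw [pow_two, hyq])
        rw [sub_pow_char_of_commute p ((Commute.one_right _).smul_right _), sub_eq_zero, smul_pow, one_pow,
          hy, Units.val_pow_eq_pow_val, ← pow_mul, ← hG₁] at h0
        exact hxp (c.pow_eq_one_of_commute (b := mkX X g ^ p) (by rw [← pow_mul]; exact hp' _ _ h0) hxp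
          (Commute.pow_right (Commute.refl _) p))
      · have hy1 : ∀ a : F, (y : M₃) ≠ a • 1 := fun a e => hxp (hp' p a (by
          rw [hG₁, ← Units.val_pow_eq_pow_val, ← hy, e]))
        have h1 := halg y (μ ^ p) (ν ^ p) (fun e => hne (c.frob_inj e)) hyq hyinv hy1
        have hyy : y * y = 1 := by
          rw [h1.eq, mul_assoc, negSwap_mul_self, mul_one] at hyinv
          conv_lhs => arg 1; rw [hyinv]
          exact inv_mul_cancel y
        refine hfx (mkX X g ^ p) ((hinv2 _).2 ⟨Subtype.ext ?_, hxp⟩) (Commute.pow_right (Commute.refl _) p)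
        rw [Subgroup.coe_mul, SubmonoidClass.coe_pow, coe_mkX, ← map_pow, ← hy, ← map_mul, hyy, map_one,
          Subgroup.coe_one]
    · obtain ⟨Nn, hNn⟩ : ∃ Nn, Nn = Subgroup.normalizer (Subgroup.centralizer {mkX X g} : Set (PX X)) := ⟨_, rfl⟩
      rw [← hNn]
      obtain ⟨H, hH⟩ : ∃ H : Subgroup (GL (Fin 3) F), H = (Nn.comap (mkX X)).map X.subtype := ⟨_, rfl⟩
      have hHc : ∀ k ∈ H, Commute (k * (g : GL (Fin 3) F) * k⁻¹) (g : GL (Fin 3) F) := by
        rw [hH]
        rintro _ ⟨k, hk, rfl⟩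
        rw [hNn] at hk
        have h1 : mkX X (k * g * k⁻¹) ∈ Subgroup.centralizer {mkX X g} := by
          rw [map_mul, map_mul, map_inv]
          exact ((Subgroup.mem_normalizer_iff.1 hk) _).1 (Subgroup.mem_centralizer_singleton_iff.2 rfl)
        exact hexact _ (Subgroup.mem_centralizer_singleton_iff.1 h1)
      obtain ⟨φ, hφ⟩ := exists_perm_hom f hr hP H hHc
      choose K hK using fun k : Nn => mkX_surjective (k : PX X)
      have hKH : ∀ k, (K k : GL (Fin 3) F) ∈ H := fun k => by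
        rw [hH]
        exact ⟨K k, show mkX X (K k) ∈ Nn by rw [hK]; exact k.2, rfl⟩
      refine ⟨MonoidHom.mk' (fun k => φ ⟨K k, hKH k⟩) fun a b => ?_, fun k => ?_⟩
      · rw [← map_mul, ← mul_inv_eq_one, ← map_inv, ← map_mul, hφ]
        have h1 : mkX X (K (a * b) * (K a * K b)⁻¹) = 1 := by
          rw [map_mul, map_inv, map_mul, hK, hK, hK, ← Subgroup.coe_mul, mul_inv_cancel]
        exact hexact _ (by rw [h1]; exact Commute.one_left _)
      · rw [MonoidHom.mk'_apply, hφ]
        constructor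
        · intro h1
          rw [← hK k]
          exact (show Commute (K k) g from Subtype.ext h1.eq).map (mkX X)
        · intro h1
          exact hexact (K k) (by rw [hK]; exact h1)

end Std

end Cfsg.Agent.Classical.SUThree.Hess
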