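import Cfsg.Agent.Lib.Classical.SUThree.HessBlock
import Cfsg.Agent.Lib.Classical.SLThree.HessianBlock
import Cfsg.Agent.Lib.Classical.SLThree.HessianFrame
import Cfsg.Agent.Lib.Invol.ZStar
import Cfsg.Agent.S0205

/-!
A subgroup of `SL(3, p)` without transvections above the standard group of order 27 and its quaternion group:
the projective group has no abelian normal subgroup, and the centraliser of the involution is a cover.
-/

set_option autoImplicit false
set_option linter.unusedSectionVars false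
set_option maxHeartbeats 1000000

namespace Cfsg.Agent.Classical.SUThree.Hess

open Matrix MaxTv HeisenbergThree SLThree SLThree.Hessian
open scoped commutatorElement

universe u

variable {F : Type u} [Field F]

local notation "M₃" => Matrix (Fin 3) (Fin 3) F

/-- A group above the standard group. -/
structure Std (X : Subgroup (GL (Fin 3) F)) (w : Fˣ) (p : ℕ) [Fintype F] : Prop where
  hw : w ^ 3 = 1
  hw1 : w ≠ 1
  prime : p.Prime
  card : Fintype.card F = p ^ 2
  mod : p % 3 = 2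
  p_ne_two : p ≠ 2
  iso : ∀ g ∈ X, ∀ x y : Fin 3 → F, (∑ i, ((g : Matrix (Fin 3) (Fin 3) F) *ᵥ x) i *
    (((g : Matrix (Fin 3) (Fin 3) F) *ᵥ y) i) ^ p) = ∑ i, x i * (y i) ^ p
  det : ∀ g ∈ X, (g : Matrix (Fin 3) (Fin 3) F).det = 1
  noTv : NoTv X
  hA : dia (A w) ∈ X
  hc : cyc ∈ X
  hh : (negSwap : GL (Fin 3) F) ∈ X
  hf : four hw hw1 ∈ X
  hf' : four' hw hw1 ∈ X
  /-- the group does not normalise the standard group -/
  out : ∃ g ∈ X, g ∉ Subgroup.normalizer (std w : Set (GL (Fin 3) F))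

variable {X : Subgroup (GL (Fin 3) F)} {w : Fˣ} {p : ℕ} [Fintype F]

/-- The projective group. -/
abbrev PX (X : Subgroup (GL (Fin 3) F)) : Subgroup (Matrix.ProjGenLinGroup (Fin 3) F) := X.map pr

/-- The image of a member. -/
def mkX (X : Subgroup (GL (Fin 3) F)) : X →* PX X := pr.subgroupMap X

theorem coe_mkX (g : X) : ((mkX X g : PX X) : Matrix.ProjGenLinGroup (Fin 3) F) = pr (g : GL (Fin 3) F) := rfl

theorem mkX_surjective : Function.Surjective (mkX X) := pr.subgroupMap_surjective X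

theorem scalar_comm {g : GL (Fin 3) F} (h : Sc g) (k : GL (Fin 3) F) : g * k = k * g := by
  obtain ⟨z, hz⟩ := h
  exact Units.ext (by simp [hz])

theorem commute_of_sq {a v : GL (Fin 3) F} (hv : v * v = 1) (h : Commute (pr a) (pr v)) : a * v = v * a := by
  obtain ⟨z, hz⟩ := commute_pr.1 h
  have h3 := cube_of_comm hz
  have e : (a : M₃) * v * ((a⁻¹ : GL (Fin 3) F) : M₃) = z • (v : M₃) := by
    rw [hz, Matrix.smul_mul, mul_assoc, Units.mul_inv, mul_one]
  have hv' : (v : M₃) * v = 1 := by rw [← Units.val_mul, hv, Units.val_one]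
  have h2 : (z * z) • (1 : M₃) = 1 := by
    calc (z * z) • (1 : M₃) = (z • (v : M₃)) * (z • (v : M₃)) := by
          rw [Matrix.smul_mul, Matrix.mul_smul, smul_smul, hv']
      _ = (a : M₃) * ((v : M₃) * v) * ((a⁻¹ : GL (Fin 3) F) : M₃) := by rw [← e]; simp [mul_assoc]
      _ = 1 := by rw [hv', mul_one, Units.mul_inv]
  have h4 : z * z = 1 := by simpa using congrFun (congrFun h2 0) 0
  have hz1 : z = 1 := by linear_combination h3 - z * h4
  rw [hz1, one_smul] at hz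
  exact Units.ext (by rw [Units.val_mul, Units.val_mul, hz])

namespace Std

variable (c : Std X w p)
include c

theorem charP : CharP F p := by
  haveI : Fact p.Prime := ⟨c.prime⟩
  exact charP_of_card_sq c.card

theorem two_ne : (2 : F) ≠ 0 := fun e => by
  haveI := c.charP
  have h2 : p ∣ 2 := (CharP.cast_eq_zero_iff F p 2).1 (by exact_mod_cast e)
  exact c.p_ne_two ((Nat.prime_dvd_prime_iff_eq c.prime Nat.prime_two).1 h2)

theorem three_ne : (3 : F) ≠ 0 := fun e => by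
  haveI := c.charP
  have h2 : p ∣ 3 := (CharP.cast_eq_zero_iff F p 3).1 (by exact_mod_cast e)
  have h3 := c.mod
  obtain rfl := (Nat.prime_dvd_prime_iff_eq c.prime Nat.prime_three).1 h2
  norm_num at h3

theorem std_le : std w ≤ X := (Subgroup.closure_le X).2 (by
  rintro x (rfl | rfl)
  exacts [c.hA, c.hc])

theorem sc_mem {g : GL (Fin 3) F} {z : F} (hg : (g : M₃) = z • 1) (hz : z ^ 3 = 1) : g ∈ X := by
  have hz0 : z ≠ 0 := fun e => by rw [e] at hz; simp at hz
  obtain ⟨k, -, hk⟩ := cases_cube c.hw c.hw1 (t := Units.mk0 z hz0) (Units.ext (by simpa using hz))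
  have hk' : z = (w : F) ^ k := by simpa using congrArg Units.val hk
  have e : g = dia (fun _ => w) ^ k := Units.ext (by
    rw [hg, hk', ← map_pow, coe_dia, Matrix.smul_one_eq_diagonal]; simp)
  rw [e]
  exact c.std_le (pow_mem (const_mem c.hw) k)

/-- A member with projective square one is the image of an involution. -/
theorem exists_invol {x : PX X} (hx : x * x = 1) : ∃ g : X, mkX X g = x ∧ (g : GL (Fin 3) F) * (g : GL (Fin 3) F) = 1 := by
  obtain ⟨g, rfl⟩ := mkX_surjective x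
  obtain ⟨z, hz⟩ := pr_eq_one.1 (show pr ((g : GL (Fin 3) F) * (g : GL (Fin 3) F)) = 1 by
    rw [map_mul]; exact congrArg Subtype.val hx)
  have hz3 : z ^ 3 = 1 := by
    have h := congrArg Matrix.det hz
    rw [Units.val_mul, Matrix.det_mul, c.det g g.2, Matrix.det_smul, Matrix.det_one, Fintype.card_fin] at h
    simpa using h.symm
  have hz0 : z ≠ 0 := fun e => by rw [e] at hz3; simp at hz3
  let s : GL (Fin 3) F := dia fun _ => Units.mk0 z hz0
  have hs : (s : M₃) = z • 1 := by simp [s, coe_dia, Matrix.smul_one_eq_diagonal]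
  refine ⟨⟨s, c.sc_mem hs hz3⟩ * g, ?_, Units.ext ?_⟩
  · refine Subtype.ext ?_
    rw [coe_mkX, Subgroup.coe_mul, map_mul, pr_eq_one.2 ⟨z, hs⟩, one_mul]
    rfl
  · rw [Subgroup.coe_mul, Units.val_mul, Units.val_mul, Units.val_one, hs, Matrix.smul_mul, one_mul,
      Matrix.smul_mul, Matrix.mul_smul, smul_smul, ← Units.val_mul, hz, smul_smul,
      show z * z * z = 1 by linear_combination hz3, one_smul]

/-- The projective involution. -/
def bh : PX X := mkX X ⟨negSwap, c.hh⟩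

omit c in
/-- The projective image of the standard group. -/
def bR (_c : Std X w p) : Subgroup (PX X) := ((std w).subgroupOf X).map (mkX X)

omit c in
theorem coe_bh (c : Std X w p) : ((c.bh : PX X) : Matrix.ProjGenLinGroup (Fin 3) F) = pr negSwap := rfl

theorem mem_bR {x : PX X} : x ∈ c.bR ↔ ∃ r ∈ std w, pr r = (x : Matrix.ProjGenLinGroup (Fin 3) F) := by
  constructor
  · rintro ⟨g, hg, rfl⟩
    exact ⟨g, Subgroup.mem_subgroupOf.1 hg, rfl⟩
  · rintro ⟨r, hr, hrx⟩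
    exact ⟨⟨r, c.std_le hr⟩, Subgroup.mem_subgroupOf.2 hr, Subtype.ext hrx⟩

theorem bh_sq : c.bh * c.bh = 1 := by
  refine Subtype.ext ?_
  rw [Subgroup.coe_mul, c.coe_bh, ← map_mul, negSwap_mul_self, map_one, Subgroup.coe_one]

theorem exists_form' {x : PX X} (hx : x ∈ c.bR) : ∃ i j : ℕ, i < 3 ∧ j < 3 ∧
    (x : Matrix.ProjGenLinGroup (Fin 3) F) = pr (dia (A w)) ^ i * pr cyc ^ j := by
  obtain ⟨r, hr, hrx⟩ := c.mem_bR.1 hx
  rw [← hrx]
  exact exists_form c.hw c.hw1 hr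

/-- The first generator. -/
def bA : PX X := mkX X ⟨dia (A w), c.hA⟩

theorem bA_mem : c.bA ∈ c.bR := c.mem_bR.2 ⟨_, dia_A_mem w, rfl⟩

theorem bA_ne : c.bA ≠ 1 := fun e => by
  have h := pr_form_eq_one c.hw c.hw1 (i := 1) (j := 0) (by norm_num) (by norm_num)
    (by rw [pow_one, pow_zero, mul_one]; exact congrArg Subtype.val e)
  omega

theorem bR_cube {x : PX X} (hx : x ∈ c.bR) : x ^ 3 = 1 := by
  obtain ⟨i, j, -, -, e⟩ := c.exists_form' hx
  obtain ⟨ha, hb⟩ := pr_pow_three c.hw c.hw1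
  refine Subtype.ext ?_
  have hcm : Commute (pr (cyc : GL (Fin 3) F)) (pr (dia (A w))) := pr_cyc_mul c.hw c.hw1
  rw [SubmonoidClass.coe_pow, e, (hcm.symm.pow_pow i j).mul_pow, ← pow_mul, ← pow_mul, mul_comm i, mul_comm j,
    pow_mul, pow_mul, ha, hb, one_pow, one_pow, one_mul, Subgroup.coe_one]

theorem bR_inv {x : PX X} (hx : x ∈ c.bR) : c.bh * x * c.bh = x⁻¹ := by
  obtain ⟨i, j, -, -, e⟩ := c.exists_form' hx
  obtain ⟨hna, hnb⟩ := neg_conj c.hw c.hw1
  obtain ⟨ha, hb⟩ := pr_pow_three c.hw c.hw1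
  have hcm : Commute (pr (cyc : GL (Fin 3) F)) (pr (dia (A w))) := pr_cyc_mul c.hw c.hw1
  have hinv : (pr negSwap : Matrix.ProjGenLinGroup (Fin 3) F)⁻¹ = pr negSwap := by
    rw [← map_inv, inv_eq_of_mul_eq_one_right negSwap_mul_self]
  refine eq_inv_of_mul_eq_one_left (Subtype.ext ?_)
  simp only [Subgroup.coe_mul, c.coe_bh, e, Subgroup.coe_one]
  have e1 : pr negSwap * (pr (dia (A w)) ^ i * pr cyc ^ j) * pr negSwap =
      pr (dia (A w) : GL (Fin 3) F) ^ (2 * i) * pr cyc ^ (2 * j) := by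
    conv_lhs => arg 2; rw [← hinv]
    rw [show pr negSwap * (pr (dia (A w)) ^ i * pr cyc ^ j) * (pr negSwap)⁻¹ =
      (pr negSwap * pr (dia (A w)) ^ i * (pr negSwap)⁻¹) * (pr negSwap * pr cyc ^ j * (pr negSwap)⁻¹) by group,
      ← conj_pow, ← conj_pow, hna, hnb, ← pow_mul, ← pow_mul]
  rw [e1, mul_assoc, ← mul_assoc (pr cyc ^ (2 * j)), (hcm.pow_pow (2 * j) i).eq, mul_assoc, ← pow_add, ← mul_assoc,
    ← pow_add, show 2 * i + i = 3 * i by ring, show 2 * j + j = 3 * j by ring, pow_mul, pow_mul, ha, hb, one_pow,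
    one_pow, one_mul]

theorem card_bR : Nat.card c.bR = 9 := by
  classical
  have hcm : Commute (pr (cyc : GL (Fin 3) F)) (pr (dia (A w))) := pr_cyc_mul c.hw c.hw1
  obtain ⟨ha, hb⟩ := pr_pow_three c.hw c.hw1
  let φ : Fin 3 × Fin 3 → c.bR := fun ij => ⟨mkX X (⟨dia (A w), c.hA⟩ ^ (ij.1 : ℕ) * ⟨cyc, c.hc⟩ ^ (ij.2 : ℕ)),
    c.mem_bR.2 ⟨dia (A w) ^ (ij.1 : ℕ) * cyc ^ (ij.2 : ℕ),
      mul_mem (pow_mem (dia_A_mem w) _) (pow_mem (cyc_mem w) _), rfl⟩⟩
  have hφ : ∀ ij, ((φ ij : PX X) : Matrix.ProjGenLinGroup (Fin 3) F) =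
      pr (dia (A w)) ^ (ij.1 : ℕ) * pr cyc ^ (ij.2 : ℕ) := fun ij => by
    show pr (dia (A w) ^ (ij.1 : ℕ) * cyc ^ (ij.2 : ℕ)) = _
    rw [map_mul, map_pow, map_pow]
  rw [← Nat.card_eq_of_bijective φ ⟨?_, ?_⟩, Nat.card_prod, Nat.card_fin]
  · rintro ⟨i, j⟩ ⟨k, l⟩ h
    have h1 : pr (dia (A w)) ^ (i : ℕ) * pr cyc ^ (j : ℕ) = pr (dia (A w)) ^ (k : ℕ) * pr (cyc : GL (Fin 3) F) ^ (l : ℕ) := by
      rw [← hφ (i, j), h, hφ]
    have h2 : pr (dia (A w) : GL (Fin 3) F) ^ (((i : ℕ) + (3 - k)) % 3) * pr cyc ^ (((j : ℕ) + (3 - l)) % 3) = 1 := by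
      rw [← pow_eq_pow_mod _ ha, ← pow_eq_pow_mod _ hb, pow_add, pow_add,
        mul_assoc, ← mul_assoc (pr (dia (A w)) ^ (3 - (k : ℕ))), ← (hcm.pow_pow (j : ℕ) (3 - (k : ℕ))).eq,
        mul_assoc, ← mul_assoc, h1, mul_assoc, ← mul_assoc (pr cyc ^ (l : ℕ)), (hcm.pow_pow (l : ℕ) (3 - (k : ℕ))).eq,
        mul_assoc, ← pow_add, ← mul_assoc, ← pow_add, Nat.add_sub_cancel' k.2.le, Nat.add_sub_cancel' l.2.le, ha, hb,
        one_mul]
    obtain ⟨e1, e2⟩ := pr_form_eq_one c.hw c.hw1 (Nat.mod_lt _ (by norm_num)) (Nat.mod_lt _ (by norm_num)) h2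
    have hik : (i : ℕ) = k := by have := i.2; have := k.2; omega
    have hjl : (j : ℕ) = l := by have := j.2; have := l.2; omega
    exact Prod.ext (Fin.ext hik) (Fin.ext hjl)
  · rintro ⟨x, hx⟩
    obtain ⟨i, j, hi, hj, e⟩ := c.exists_form' hx
    exact ⟨(⟨i, hi⟩, ⟨j, hj⟩), Subtype.ext (Subtype.ext (by rw [hφ, e]))⟩

theorem mem_bR_of_commute {x : PX X} (h : ∀ r ∈ c.bR, Commute x r) : x ∈ c.bR := by
  obtain ⟨g, rfl⟩ := mkX_surjective x
  obtain ⟨r, hr, e⟩ := mem_bar_of_commute c.hw c.hw1 (g := (g : GL (Fin 3) F))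
    ((h _ c.bA_mem).map (PX X).subtype)
    ((h (mkX X ⟨cyc, c.hc⟩) (c.mem_bR.2 ⟨_, cyc_mem w, rfl⟩)).map (PX X).subtype)
  exact c.mem_bR.2 ⟨r, hr, e.symm⟩

/-- Non-trivial members of the standard image are conjugate to the first generator. -/
theorem isConj_bA {r : PX X} (hr : r ∈ c.bR) (hr1 : r ≠ 1) :
    ∃ g : PX X, g * c.bA * g⁻¹ = r ∧ (∀ s ∈ c.bR, g * s * g⁻¹ ∈ c.bR) := by
  obtain ⟨s, hs, hsr⟩ := c.mem_bR.1 hr
  haveI : Finite (GL (Fin 3) F) := Finite.of_injective _ Units.val_injective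
  obtain ⟨g, ⟨hg, hgN⟩, e⟩ := exists_conj_A c.hw c.hw1 hs
    (fun e => hr1 (Subtype.ext (by rw [← hsr, e, Subgroup.coe_one])))
    (N := X ⊓ Subgroup.normalizer (std w : Set (GL (Fin 3) F)))
    ⟨c.hh, negSwap_mem_normalizer c.hw⟩ ⟨c.hf, four_mem_normalizer c.hw c.hw1⟩
    ⟨c.hf', four'_mem_normalizer c.hw c.hw1⟩
  refine ⟨mkX X ⟨g, hg⟩, Subtype.ext (e.trans hsr), fun t ht => ?_⟩
  obtain ⟨u, hu, hut⟩ := c.mem_bR.1 ht
  refine c.mem_bR.2 ⟨g * u * g⁻¹, ((Subgroup.mem_normalizer_iff.1 hgN) u).1 hu, ?_⟩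
  rw [map_mul, map_mul, map_inv, hut]
  rfl

/-- The image of the standard group is not normal. -/
theorem not_normal : ¬ c.bR.Normal := fun hN => by
  obtain ⟨g, hg, hgn⟩ := c.out
  haveI : Finite (GL (Fin 3) F) := Finite.of_injective _ Units.val_injective
  refine hgn (mem_normalizer_of_gen (S := {dia (A w), cyc}) rfl fun s hs => ?_)
  have hsR : s ∈ std w := by
    rcases hs with rfl | rfl
    exacts [dia_A_mem w, cyc_mem w]
  have hs3 : s ^ 3 = 1 := by
    rcases hs with rfl | rfl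
    · rw [← map_pow, show A w ^ 3 = 1 from funext fun i => by
        rw [Pi.pow_apply, A, ← pow_mul, mul_comm, pow_mul, c.hw, one_pow, Pi.one_apply], map_one]
    · refine Units.ext ?_
      rw [Units.val_pow_eq_pow_val, coe_cyc, Units.val_one, _root_.pow_three]
      ext i j
      fin_cases i <;> fin_cases j <;> simp [Matrix.mul_apply, Fin.sum_univ_three]
  obtain ⟨r, hr, e⟩ := c.mem_bR.1
    (hN.conj_mem (mkX X ⟨s, c.std_le hsR⟩) (c.mem_bR.2 ⟨s, hsR, rfl⟩) (mkX X ⟨g, hg⟩))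
  have e' : pr (g * s * g⁻¹) = pr r := by rw [e, map_mul, map_mul, map_inv]; rfl
  obtain ⟨z, hz⟩ := pr_eq_pr.1 e'
  have hz3 : z ^ 3 = 1 := by
    have h := congrArg Matrix.det hz
    rw [Units.val_mul, Units.val_mul, Matrix.det_units_conj, c.det s (c.std_le hsR), Matrix.det_smul,
      c.det r (c.std_le hr), Fintype.card_fin, mul_one] at h
    exact h.symm
  have hz0 : z ≠ 0 := fun e => by rw [e] at hz3; simp at hz3
  obtain ⟨k, -, hk⟩ := cases_cube c.hw c.hw1 (t := Units.mk0 z hz0) (Units.ext (by simpa using hz3))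
  have hk' : z = (w : F) ^ k := by simpa using congrArg Units.val hk
  have e2 : g * s * g⁻¹ = dia (fun _ => w) ^ k * r := Units.ext (by
    rw [hz, Units.val_mul, ← map_pow, coe_dia, hk']
    ext i j
    simp [Matrix.diagonal_mul])
  rw [e2]
  exact mul_mem (pow_mem (const_mem c.hw) k) hr

/-- No abelian normal subgroup. -/
theorem no_abelian (E : Subgroup (PX X)) (hE : E.Normal) (hab : ∀ a ∈ E, ∀ b ∈ E, a * b = b * a) : E = ⊥ := by
  classical
  haveI : Finite (GL (Fin 3) F) := Finite.of_injective _ Units.val_injective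
  haveI : Finite (Matrix.ProjGenLinGroup (Fin 3) F) := Finite.of_surjective _ Matrix.ProjGenLinGroup.mk_surjective
  by_contra hne
  have hER : ∀ x ∈ E, x ∈ c.bR → x = 1 := by
    intro x hxE hxR
    by_contra hx1
    obtain ⟨g, hg, -⟩ := c.isConj_bA hxR hx1
    have hA : c.bA ∈ E := by
      rw [show c.bA = g⁻¹ * x * g by rw [← hg]; group]
      simpa using hE.conj_mem x hxE g⁻¹
    have hRE : c.bR ≤ E := fun r hr => by
      rcases eq_or_ne r 1 with rfl | hr1
      · exact one_mem E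
      · obtain ⟨g', hg', -⟩ := c.isConj_bA hr hr1
        exact hg' ▸ hE.conj_mem _ hA g'
    refine c.not_normal ?_
    rwa [le_antisymm hRE fun e he => c.mem_bR_of_commute fun r hr => hab e he r (hRE hr)]
  -- elements whose cube is one
  have h3 : ∀ x ∈ E, x ^ 3 = 1 → x = 1 := by
    intro x hx hx3
    by_contra hx1
    haveI : Fact (Nat.Prime 3) := ⟨Nat.prime_three⟩
    let E3 : Subgroup (PX X) :=
      { carrier := {y | y ∈ E ∧ y ^ 3 = 1}
        mul_mem' := fun {a b} ha hb => ⟨mul_mem ha.1 hb.1, by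
          rw [(show Commute a b from hab a ha.1 b hb.1).mul_pow, ha.2, hb.2, one_mul]⟩
        one_mem' := ⟨one_mem E, one_pow 3⟩
        inv_mem' := fun {a} ha => ⟨inv_mem ha.1, by rw [inv_pow, ha.2, inv_one]⟩ }
    letI : MulAction c.bR E3 :=
      { smul := fun r y => ⟨(r : PX X) * y * (r : PX X)⁻¹, hE.conj_mem _ y.2.1 _, by
          rw [conj_pow, y.2.2, mul_one, mul_inv_cancel]⟩
        one_smul := fun y => Subtype.ext (show ((1 : c.bR) : PX X) * y * ((1 : c.bR) : PX X)⁻¹ = y by simp)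
        mul_smul := fun r s y => Subtype.ext (show ((r * s : c.bR) : PX X) * y * ((r * s : c.bR) : PX X)⁻¹ =
          (r : PX X) * ((s : PX X) * y * (s : PX X)⁻¹) * (r : PX X)⁻¹ by rw [Subgroup.coe_mul]; group) }
    have hdiv : 3 ∣ Nat.card E3 := by
      have h4 := Subgroup.orderOf_dvd_natCard E3 (x := x) ⟨hx, hx3⟩
      rwa [orderOf_eq_prime hx3 hx1] at h4
    have hP : IsPGroup 3 c.bR := IsPGroup.of_card (n := 2) (by rw [c.card_bR]; rfl)
    obtain ⟨y, hyfix, hy1⟩ := hP.exists_fixed_point_of_prime_dvd_card_of_fixed_point E3 hdiv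
      (a := (1 : E3)) fun r => Subtype.ext (show (r : PX X) * ((1 : E3) : PX X) * (r : PX X)⁻¹ = 1 by simp)
    refine hy1 (Subtype.ext (hER y y.2.1 (c.mem_bR_of_commute fun r hr => ?_)).symm)
    have e := congrArg Subtype.val (hyfix ⟨r, hr⟩)
    exact (mul_inv_eq_iff_eq_mul.1 e).symm
  obtain ⟨f, hfE, hf1⟩ : ∃ f ∈ E, f ≠ 1 := by
    by_contra hc
    push Not at hc
    exact hne ((Subgroup.eq_bot_iff_forall E).2 hc)
  obtain ⟨a, ha⟩ : ∃ a, a = c.bA := ⟨_, rfl⟩
  obtain ⟨b, hb⟩ : ∃ b : PX X, b = mkX X ⟨cyc, c.hc⟩ := ⟨_, rfl⟩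
  have haR : a ∈ c.bR := ha ▸ c.bA_mem
  have hbR : b ∈ c.bR := hb ▸ c.mem_bR.2 ⟨cyc, cyc_mem w, rfl⟩
  have hba : Commute b a := by
    rw [ha, hb]
    exact Subtype.ext (pr_cyc_mul c.hw c.hw1)
  -- the product over the orbit of an element of order three
  obtain ⟨N, hN⟩ : ∃ N : PX X → PX X → PX X, ∀ r z, N r z = z * (r * z * r⁻¹) * (r ^ 2 * z * (r ^ 2)⁻¹) :=
    ⟨fun r z => z * (r * z * r⁻¹) * (r ^ 2 * z * (r ^ 2)⁻¹), fun r z => rfl⟩
  have hNE : ∀ r, ∀ z ∈ E, N r z ∈ E := fun r z hz => by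
    rw [hN]; exact mul_mem (mul_mem hz (hE.conj_mem z hz r)) (hE.conj_mem z hz _)
  have hNfix : ∀ r ∈ c.bR, ∀ z ∈ E, r * N r z * r⁻¹ = N r z := fun r hr z hz => by
    have hr3 := c.bR_cube hr
    have e1 : r * N r z * r⁻¹ = (r * z * r⁻¹) * (r ^ 2 * z * (r ^ 2)⁻¹) * (r ^ 3 * z * (r ^ 3)⁻¹) := by
      rw [hN]; group
    rw [e1, hr3, one_mul, inv_one, mul_one, hN, hab _ (mul_mem (hE.conj_mem z hz r) (hE.conj_mem z hz _)) z hz]
    simp only [mul_assoc]
  obtain ⟨r, hrR, hr1, z, hzE, hz1, hzfix⟩ :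
      ∃ r ∈ c.bR, r ≠ 1 ∧ ∃ z ∈ E, z ≠ 1 ∧ r * z * r⁻¹ = z := by
    by_contra hc
    push Not at hc
    have hall : ∀ r ∈ c.bR, r ≠ 1 → ∀ z ∈ E, N r z = 1 := fun r hr hr1 z hz =>
      by_contra fun h => hc r hr hr1 _ (hNE r z hz) h (hNfix r hr z hz)
    obtain ⟨T, hT⟩ : ∃ T : ℕ → ℕ → Additive E,
        ∀ i j, T i j = Additive.ofMul ⟨a ^ i * b ^ j * f * (a ^ i * b ^ j)⁻¹, hE.conj_mem f hfE _⟩ :=
      ⟨fun i j => Additive.ofMul ⟨a ^ i * b ^ j * f * (a ^ i * b ^ j)⁻¹, hE.conj_mem f hfE _⟩, fun i j => rfl⟩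
    letI : AddCommGroup (Additive E) :=
      { (inferInstance : AddGroup (Additive E)) with
        add_comm := fun u v => Additive.toMul.injective
          (Subtype.ext (hab _ (Additive.toMul u).2 _ (Additive.toMul v).2)) }
    have key : ∀ k l i j : ℕ, k < 3 → l < 3 → ¬ (k = 0 ∧ l = 0) →
        T i j + T (i + k) (j + l) + T (i + 2 * k) (j + 2 * l) = 0 := by
      intro k l i j hk hl hkl
      have hm : a ^ k * b ^ l ∈ c.bR := mul_mem (pow_mem haR k) (pow_mem hbR l)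
      have hne1 : a ^ k * b ^ l ≠ 1 := fun e => hkl (pr_form_eq_one c.hw c.hw1 hk hl (by
        have h5 := congrArg (Subtype.val) e
        rw [ha, hb, Subgroup.coe_mul, SubmonoidClass.coe_pow, SubmonoidClass.coe_pow] at h5
        exact h5))
      have h5 := hall _ hm hne1 (a ^ i * b ^ j * f * (a ^ i * b ^ j)⁻¹) (hE.conj_mem f hfE _)
      rw [hN] at h5
      have e1 : ∀ k l i j : ℕ, a ^ k * b ^ l * (a ^ i * b ^ j) = a ^ (i + k) * b ^ (j + l) := fun k l i j => by
        rw [mul_assoc, ← mul_assoc (b ^ l), (hba.pow_pow l i).eq, mul_assoc, ← pow_add, ← mul_assoc, ← pow_add,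
          add_comm k, add_comm l]
      rw [hT, hT, hT, ← ofMul_mul, ← ofMul_mul]
      refine congrArg Additive.ofMul (Subtype.ext ?_)
      rw [Subgroup.coe_mul, Subgroup.coe_mul, Subgroup.coe_one]
      show a ^ i * b ^ j * f * (a ^ i * b ^ j)⁻¹ * (a ^ (i + k) * b ^ (j + l) * f * (a ^ (i + k) * b ^ (j + l))⁻¹) *
        (a ^ (i + 2 * k) * b ^ (j + 2 * l) * f * (a ^ (i + 2 * k) * b ^ (j + 2 * l))⁻¹) = 1
      rw [← e1 k l i j, ← e1 (2 * k) (2 * l) i j,
        show a ^ (2 * k) * b ^ (2 * l) = (a ^ k * b ^ l) ^ 2 by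
          rw [(hba.symm.pow_pow k l).mul_pow, ← pow_mul, ← pow_mul, mul_comm k, mul_comm l]]
      rw [← h5]
      group
    have hTmod : ∀ i j, T i j = T (i % 3) (j % 3) := fun i j => by
      rw [hT, hT]
      simp only [← pow_eq_pow_mod i (c.bR_cube haR), ← pow_eq_pow_mod j (c.bR_cube hbR)]
    have K1 := key 1 0 0 0 (by norm_num) (by norm_num) (by simp)
    have K2 := key 0 1 0 0 (by norm_num) (by norm_num) (by simp)
    have K3 := key 1 1 0 0 (by norm_num) (by norm_num) (by simp)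
    have K4 := key 1 2 0 0 (by norm_num) (by norm_num) (by simp)
    have K5 := key 1 0 0 1 (by norm_num) (by norm_num) (by simp)
    have K6 := key 1 0 0 2 (by norm_num) (by norm_num) (by simp)
    simp only [hTmod _ 3, hTmod _ 4, hTmod 3 _, hTmod 4 _] at K1 K2 K3 K4 K5 K6
    norm_num at K1 K2 K3 K4 K5 K6
    have h30 : T 0 0 + T 0 0 + T 0 0 = 0 := by
      have := congrArg₂ (· + ·) (congrArg₂ (· + ·) K1 K2) (congrArg₂ (· + ·) K3 K4)
      have h9 := congrArg₂ (· + ·) (congrArg₂ (· + ·) K1 K5) K6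
      simp only [add_zero] at this h9
      have := sub_eq_zero.2 (this.trans h9.symm)
      rw [← this]
      abel
    refine hf1 (h3 f hfE ?_)
    rw [hT, ← ofMul_mul, ← ofMul_mul] at h30
    have h6 := congrArg (fun u => ((Additive.toMul u : E) : PX X)) h30
    simpa [_root_.pow_three, mul_assoc] using h6
  -- move to the first generator
  obtain ⟨g, hg, -⟩ := c.isConj_bA hrR hr1
  obtain ⟨y, hy⟩ : ∃ y, y = g⁻¹ * z * g := ⟨_, rfl⟩
  have hyE : y ∈ E := by rw [hy]; simpa using hE.conj_mem z hzE g⁻¹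
  have hy1 : y ≠ 1 := fun e => hz1 (by rw [show z = g * y * g⁻¹ by rw [hy]; group, e]; group)
  have hy3 : y ^ 3 ≠ 1 := fun e => hy1 (h3 y hyE e)
  have hya : Commute y c.bA := by
    show y * c.bA = c.bA * y
    rw [hy, show c.bA = g⁻¹ * r * g by rw [← hg]; group]
    have hzr : z * r = r * z := by conv_lhs => rw [← hzfix, inv_mul_cancel_right]
    calc g⁻¹ * z * g * (g⁻¹ * r * g) = g⁻¹ * (z * r) * g := by group
      _ = g⁻¹ * (r * z) * g := by rw [hzr]
      _ = _ := by group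
  obtain ⟨m, hm⟩ := mkX_surjective y
  obtain ⟨k, hk3, hd⟩ := exists_diag c.hw c.hw1 (g := (m : GL (Fin 3) F)) (by
    rw [← coe_mkX, hm]; exact hya.map (PX X).subtype)
  -- the cube is diagonal
  obtain ⟨u, hu⟩ : ∃ u : X, u = m * (⟨cyc, c.hc⟩ : X) ^ k := ⟨_, rfl⟩
  have hud : ∀ i j : Fin 3, i ≠ j → ((u : GL (Fin 3) F) : M₃) i j = 0 := by rw [hu]; exact hd
  by_cases hk : k = 0
  · subst hk
    rw [pow_zero, mul_one] at hu
    subst hu
    obtain ⟨f', hf'⟩ : ∃ f' : PX X, f' = mkX X ⟨four c.hw c.hw1, c.hf⟩ := ⟨_, rfl⟩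
    have hcm := (hab y hyE _ (hE.conj_mem y hyE f'))
    obtain ⟨ζ, hζ⟩ := (commute_pr (a := (u : GL (Fin 3) F))
      (b := four c.hw c.hw1 * (u : GL (Fin 3) F) * (four c.hw c.hw1)⁻¹)).1 (by
        have e := congrArg Subtype.val hcm
        rw [← hm, hf'] at e
        show pr _ * pr _ = pr _ * pr _
        rw [map_mul, map_mul, map_inv]
        exact e)
    have hζ3 := cube_of_comm hζ
    obtain ⟨K, hK⟩ : ∃ K : M₃, K = ((four c.hw c.hw1 * (u : GL (Fin 3) F) * (four c.hw c.hw1)⁻¹ : GL (Fin 3) F) : M₃) :=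
      ⟨_, rfl⟩
    rw [← hK] at hζ
    obtain ⟨d, hd'⟩ : ∃ d : Fin 3 → F, ∀ i, d i = ((u : GL (Fin 3) F) : M₃) i i := ⟨_, fun i => rfl⟩
    have hud' : ((u : GL (Fin 3) F) : M₃) = Matrix.diagonal d := by
      ext i j
      rcases eq_or_ne i j with rfl | hij
      · rw [Matrix.diagonal_apply_eq, hd']
      · rw [Matrix.diagonal_apply_ne _ hij, hud i j hij]
    obtain ⟨hs2, hs0⟩ := delta c.hw c.hw1
    obtain ⟨h3w, hsw⟩ := sum_pow c.hw c.hw1
    have hd00 : K 0 0 = -(d 0 + d 1 + d 2) / ((w : F) - (w : F) ^ 2) ^ 2 := by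
      rw [hK, Units.val_mul, Units.val_mul, hud', show (((four c.hw c.hw1)⁻¹ : GL (Fin 3) F) : M₃) =
        ((w : F) - (w : F) ^ 2)⁻¹ • !![-1, -1, -1; -1, -(w : F) ^ 2, -(w : F); -1, -(w : F), -(w : F) ^ 2] from rfl,
        four]
      simp [Matrix.mul_apply, Matrix.vecMul_diagonal, Fin.sum_univ_three]
      field_simp
      ring
    have hK01 : K 0 1 = -(d 0 + (w : F) ^ 2 * d 1 + (w : F) * d 2) / ((w : F) - (w : F) ^ 2) ^ 2 := by
      rw [hK, Units.val_mul, Units.val_mul, hud', show (((four c.hw c.hw1)⁻¹ : GL (Fin 3) F) : M₃) =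
        ((w : F) - (w : F) ^ 2)⁻¹ • !![-1, -1, -1; -1, -(w : F) ^ 2, -(w : F); -1, -(w : F), -(w : F) ^ 2] from rfl,
        four]
      simp [Matrix.mul_apply, Matrix.vecMul_diagonal, Fin.sum_univ_three]
      field_simp
      ring
    have hK02 : K 0 2 = -(d 0 + (w : F) * d 1 + (w : F) ^ 2 * d 2) / ((w : F) - (w : F) ^ 2) ^ 2 := by
      rw [hK, Units.val_mul, Units.val_mul, hud', show (((four c.hw c.hw1)⁻¹ : GL (Fin 3) F) : M₃) =
        ((w : F) - (w : F) ^ 2)⁻¹ • !![-1, -1, -1; -1, -(w : F) ^ 2, -(w : F); -1, -(w : F), -(w : F) ^ 2] from rfl,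
        four]
      simp [Matrix.mul_apply, Matrix.vecMul_diagonal, Fin.sum_univ_three]
      field_simp
      ring
    rw [hud'] at hζ
    have e := fun i j => congrFun (congrFun hζ i) j
    simp only [Matrix.diagonal_mul, Matrix.smul_apply, Matrix.mul_diagonal, smul_eq_mul] at e
    by_cases hz : ζ = 1
    · subst hz
      have e01 : K 0 1 * (d 0 - d 1) = 0 := by linear_combination e 0 1
      have e02 : K 0 2 * (d 0 - d 2) = 0 := by linear_combination e 0 2
      have hcyclic : ∀ i : Fin 3, K i (i + 1) = K 0 1 ∧ K i (i + 2) = K 0 2 := by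
        intro i
        rw [hK, Units.val_mul, Units.val_mul, hud', show (((four c.hw c.hw1)⁻¹ : GL (Fin 3) F) : M₃) =
          ((w : F) - (w : F) ^ 2)⁻¹ • !![-1, -1, -1; -1, -(w : F) ^ 2, -(w : F); -1, -(w : F), -(w : F) ^ 2] from rfl,
          four]
        fin_cases i <;> simp [Matrix.mul_apply, Matrix.vecMul_diagonal, Fin.sum_univ_three] <;> field_simp <;>
          constructor <;>
          (first
            | trivial
            | (obtain ⟨α, hα⟩ : ∃ α, α = (w : F) := ⟨_, rfl⟩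
               rw [← hα] at h3w ⊢
               grind))
      have hsc : d 0 = d 1 ∧ d 0 = d 2 := by
        by_cases hK1 : K 0 1 = 0
        · by_cases hK2 : K 0 2 = 0
          · rw [hK01, div_eq_zero_iff, or_iff_left (pow_ne_zero 2 hs0), neg_eq_zero] at hK1
            rw [hK02, div_eq_zero_iff, or_iff_left (pow_ne_zero 2 hs0), neg_eq_zero] at hK2
            have h12 : d 1 = d 2 := by
              refine mul_left_cancel₀ hs0 ?_
              linear_combination hK2 - hK1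
            rw [← h12] at hK2
            have h01 : d 0 = d 1 := by linear_combination hK2 - d 1 * hsw
            exact ⟨h01, h01.trans h12⟩
          · have h20 : d 0 = d 2 := sub_eq_zero.1 ((mul_eq_zero.1 e02).resolve_left hK2)
            refine ⟨?_, h20⟩
            have h10 : K 1 0 * (d 1 - d 0) = 0 := by linear_combination e 1 0
            rw [show K 1 0 = K 0 2 from (hcyclic 1).2] at h10
            exact (sub_eq_zero.1 ((mul_eq_zero.1 h10).resolve_left hK2)).symm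
        · have h10 : d 0 = d 1 := sub_eq_zero.1 ((mul_eq_zero.1 e01).resolve_left hK1)
          refine ⟨h10, h10.trans ?_⟩
          have h12 : K 1 2 * (d 1 - d 2) = 0 := by linear_combination e 1 2
          rw [show K 1 2 = K 0 1 from (hcyclic 1).1] at h12
          exact sub_eq_zero.1 ((mul_eq_zero.1 h12).resolve_left hK1)
      refine hy1 (Subtype.ext ?_)
      rw [← hm, coe_mkX, Subgroup.coe_one, pr_eq_one]
      refine ⟨d 0, ?_⟩
      rw [hud', Matrix.smul_one_eq_diagonal]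
      congr 1
      funext i
      fin_cases i <;> simp [hsc.1.symm, hsc.2.symm]
    · -- the cube would be scalar
      have h00 : (1 - ζ) * (d 0 * K 0 0) = 0 := by linear_combination e 0 0
      have hK00 : K 0 0 = 0 := ((mul_eq_zero.1 h00).resolve_left (sub_ne_zero.2 (Ne.symm hz))) |> fun h1 =>
        (mul_eq_zero.1 h1).resolve_left fun e0 => (u : GL (Fin 3) F).det_ne_zero (by
          rw [hud', Matrix.det_diagonal, Fin.prod_univ_three, e0]; simp)
      rw [hd00, div_eq_zero_iff, or_iff_left (pow_ne_zero 2 hs0), neg_eq_zero] at hK00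
      refine hy3 ?_
      have hcube := cube_scalar (c.two_ne) (x := ((u : GL (Fin 3) F) : M₃))
        (a := four c.hw c.hw1 * (u : GL (Fin 3) F) * (four c.hw c.hw1)⁻¹) (ζ := ζ⁻¹) (by rw [inv_pow, hζ3, inv_one])
        (by rwa [Ne, inv_eq_one]) (by
          rw [← hK, hud', hζ, smul_smul, inv_mul_cancel₀ (fun e0 => by rw [e0] at hζ3; simp at hζ3), one_smul])
      refine Subtype.ext ?_
      rw [← hm, SubmonoidClass.coe_pow, coe_mkX, ← map_pow, Subgroup.coe_one, pr_eq_one]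
      exact ⟨_, by rw [Units.val_pow_eq_pow_val, _root_.pow_three, ← mul_assoc]; exact hcube⟩
  · -- a monomial element with scalar cube
    refine hy3 (Subtype.ext ?_)
    rw [← hm, SubmonoidClass.coe_pow, coe_mkX, ← map_pow, Subgroup.coe_one, pr_eq_one]
    refine ⟨((u : GL (Fin 3) F) : M₃) 0 0 * ((u : GL (Fin 3) F) : M₃) 1 1 * ((u : GL (Fin 3) F) : M₃) 2 2, ?_⟩
    have hmu : (m : GL (Fin 3) F) = (u : GL (Fin 3) F) * ((cyc : GL (Fin 3) F) ^ k)⁻¹ := by
      rw [hu, Subgroup.coe_mul, SubmonoidClass.coe_pow, mul_inv_cancel_right]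
    rw [Units.val_pow_eq_pow_val, hmu, Units.val_mul, _root_.pow_three, ← inv_pow, Units.val_pow_eq_pow_val]
    show _ * !![0, 1, 0; 0, 0, 1; 1, 0, 0] ^ k * (_ * !![0, 1, 0; 0, 0, 1; 1, 0, 0] ^ k *
      (_ * !![0, 1, 0; 0, 0, 1; 1, 0, 0] ^ k)) = _
    obtain ⟨D, hD⟩ : ∃ D : M₃, D = ((u : GL (Fin 3) F) : M₃) := ⟨_, rfl⟩
    rw [← hD] at hud ⊢
    obtain rfl | rfl : k = 1 ∨ k = 2 := by omega
    · ext i j
      fin_cases i <;> fin_cases j <;> simp [Matrix.mul_apply, Fin.sum_univ_three, hud] <;> ring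
    · ext i j
      fin_cases i <;> fin_cases j <;> simp [pow_two, Matrix.mul_apply, Fin.sum_univ_three, hud] <;> ring

/-- An involution other than `h` commutes with it and is conjugate to it. -/
theorem exists_other : ∃ v : PX X, v * v = 1 ∧ v ≠ 1 ∧ v ≠ c.bh ∧ Commute v c.bh ∧ IsConj c.bh v := by
  classical
  haveI : Finite (GL (Fin 3) F) := Finite.of_injective _ Units.val_injective
  haveI : Finite (Matrix.ProjGenLinGroup (Fin 3) F) := Finite.of_surjective _ Matrix.ProjGenLinGroup.mk_surjective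
  have hb1 : c.bh ≠ 1 := fun e => by
    have h1 := c.bR_inv c.bA_mem
    rw [e, one_mul, mul_one] at h1
    have h2 := c.bR_cube c.bA_mem
    rw [pow_succ, pow_two, eq_inv_iff_mul_eq_one.1 h1, one_mul] at h2
    exact c.bA_ne h2
  by_contra hc
  push Not at hc
  have hiso : Cfsg.IsIsolatedInvolution c.bh := by
    refine ⟨orderOf_eq_prime (by rw [pow_two, c.bh_sq]) hb1, fun g hg => ?_⟩
    by_contra hne
    refine hc (g * c.bh * g⁻¹) ?_ (by rwa [Ne, conj_eq_one_iff]) hne hg.symm (isConj_iff.2 ⟨g, rfl⟩)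
    rw [show g * c.bh * g⁻¹ * (g * c.bh * g⁻¹) = g * (c.bh * c.bh) * g⁻¹ by group, c.bh_sq]; group
  obtain ⟨N, hN, hodd, hcomm⟩ := ZStar.exists_odd_normal hiso
  haveI := hN
  have hNbot : N = ⊥ := by
    by_contra hne
    haveI : Nontrivial N := (Subgroup.nontrivial_iff_ne_bot N).2 hne
    haveI : Group.IsSolvable N := Cfsg.Agent.S0205.result hodd
    obtain ⟨d, hd⟩ := Group.IsSolvable.solvable (G := N)
    obtain ⟨k, hk, hk1⟩ : ∃ k, derivedSeries N k ≠ ⊥ ∧ derivedSeries N (k + 1) = ⊥ := by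
      by_contra hcon
      push Not at hcon
      have hall : ∀ k, derivedSeries N k ≠ ⊥ := fun k => by
        induction k with
        | zero => rw [derivedSeries_zero]; exact top_ne_bot
        | succ k ih => exact hcon k ih
      exact hall d hd
    refine hk ((Subgroup.map_eq_bot_iff_of_injective _ N.subtype_injective).1
      (c.no_abelian ((derivedSeries N k).map N.subtype) inferInstance ?_))
    rintro _ ⟨a, ha, rfl⟩ _ ⟨b, hb, rfl⟩
    have h1 : ⁅a, b⁆ ∈ derivedSeries N (k + 1) := by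
      rw [derivedSeries_succ]; exact Subgroup.commutator_mem_commutator ha hb
    rw [hk1, Subgroup.mem_bot, commutatorElement_eq_one_iff_mul_comm] at h1
    exact congrArg (fun z : N => (z : PX X)) h1
  have hcen : ∀ g, c.bh * g = g * c.bh := fun g => by
    have h1 := hcomm g
    rw [hNbot, Subgroup.mem_bot, mul_inv_eq_one, mul_inv_eq_iff_eq_mul] at h1
    exact h1
  have h1 := c.bR_inv c.bA_mem
  rw [hcen, mul_assoc, c.bh_sq, mul_one] at h1
  have h2 := c.bR_cube c.bA_mem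
  rw [pow_succ, pow_two, eq_inv_iff_mul_eq_one.1 h1, one_mul] at h2
  exact c.bA_ne h2

end Std

end Cfsg.Agent.Classical.SUThree.Hess
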