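import Cfsg.Agent.Lib.Classical.SUThree.HessConfig
import Cfsg.Agent.Lib.Classical.SUThree.Full
import Cfsg.Agent.Lib.Classical.LinNine.Dich

/-!
Degree three over the field with `p²` elements, `p` congruent to two modulo three: a group of isometries above the
standard group of order 27 and its quaternion group normalises it, contains the special unitary group, or is the
exceptional configuration in characteristic five.  The normaliser of an extraspecial group of order 27 is maximal in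
the special unitary group for `p` at least eleven.
-/

set_option autoImplicit false
set_option linter.unusedSectionVars false
set_option maxHeartbeats 1000000

namespace Cfsg.Agent.Classical.SUThree.Hess

open Matrix MaxTv HeisenbergThree SLThree SLThree.Hessian LinNine

universe u

variable {F : Type u} [Field F] [Fintype F] {p : ℕ} {w : Fˣ}

local notation "G3" => GL (Fin 3) F
local notation "M3" => Matrix (Fin 3) (Fin 3) F
local notation "V" => Fin 3 → F
local notation "S2" => Matrix (Fin 2) (Fin 2) (ZMod 3)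

theorem herm_eq_frm (p : ℕ) (x y : V) : hermForm 3 F p x y = frm p x y := rfl

theorem charP_of (hp : p.Prime) (hF : Fintype.card F = p ^ 2) : CharP F p :=
  haveI : Fact p.Prime := ⟨hp⟩
  charP_of_card_sq hF

theorem three_ne_of (hp : p.Prime) (hF : Fintype.card F = p ^ 2) (hp3 : p % 3 = 2) : (3 : F) ≠ 0 := fun e => by
  haveI := charP_of hp hF
  have h := (Nat.prime_dvd_prime_iff_eq hp Nat.prime_three).1
    ((CharP.cast_eq_zero_iff F p 3).1 (by exact_mod_cast e))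
  rw [h] at hp3
  norm_num at hp3

theorem exists_cubic (hp : p.Prime) (hF : Fintype.card F = p ^ 2) (hp3 : p % 3 = 2) :
    ∃ w : Fˣ, w ^ 3 = 1 ∧ w ≠ 1 := by
  haveI : Fact (Nat.Prime 3) := ⟨Nat.prime_three⟩
  have hcu : Nat.card Fˣ = p ^ 2 - 1 := by rw [Nat.card_units, Nat.card_eq_fintype_card, hF]
  have h : 3 ∣ p ^ 2 - 1 := by
    have h1 : p ^ 2 % 3 = 1 := by rw [Nat.pow_mod, hp3]
    omega
  obtain ⟨w, hw⟩ := exists_prime_orderOf_dvd_card' (G := Fˣ) 3 (by rw [hcu]; exact h)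
  exact ⟨w, hw ▸ pow_orderOf_eq_one w, fun h => by rw [h, orderOf_one] at hw; norm_num at hw⟩

/-- The centre of a transvection in a group of isometries has the full root group. -/
theorem upt_of_inT (hp : p.Prime) (hF : Fintype.card F = p ^ 2) {M : Subgroup G3}
    (hiso : ∀ g ∈ M, ∀ x y : V, frm p ((g : M3) *ᵥ x) ((g : M3) *ᵥ y) = frm p x y)
    {v φ : V} (hv : v ≠ 0) (hφ : φ ≠ 0) (hvφ : φ ⬝ᵥ v = 0) (hT : MaxTv.InT M v φ) :
    UPt (qEquiv hF) (hermForm 3 F p) M v ∧ hermForm 3 F p v v = 0 := by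
  classical
  haveI : Fact p.Prime := ⟨hp⟩
  haveI := charP_of hp hF
  obtain ⟨t, htM, ht⟩ := hT
  have hb : ∀ x y, (φ ⬝ᵥ x) * frm p v y + (φ ⬝ᵥ y) ^ p * frm p x v +
      (φ ⬝ᵥ x) * ((φ ⬝ᵥ y) ^ p * frm p v v) = 0 := fun x y => by
    have h1 := hiso t htM x y
    rw [ht, ht, frm_add_left, frm_add_right, frm_add_right, frm_smul_left, frm_smul_left, frm_smul_right,
      frm_smul_right] at h1
    linear_combination h1
  obtain ⟨i, hi⟩ : ∃ i, φ i ≠ 0 := Function.ne_iff.1 hφ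
  obtain ⟨x0, hx0⟩ : ∃ x0 : V, φ ⬝ᵥ x0 = 1 :=
    ⟨(φ i)⁻¹ • Pi.single i 1, by rw [dotProduct_smul, dotProduct_single, mul_one, smul_eq_mul, inv_mul_cancel₀ hi]⟩
  have hker : ∀ y, φ ⬝ᵥ y = 0 → frm p v y = 0 := fun y hy => by
    have h1 := hb x0 y
    rw [hx0, hy, zero_pow hp.ne_zero, zero_mul, zero_mul, mul_zero, add_zero, add_zero, one_mul] at h1
    exact h1
  have hvv : frm p v v = 0 := hker v hvφ
  obtain ⟨k0, hk0⟩ : ∃ k0, k0 = frm p v x0 := ⟨_, rfl⟩
  have hx : ∀ x, (φ ⬝ᵥ x) * k0 = -frm p x v := fun x => by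
    have h1 := hb x x0
    rw [hx0, one_pow, hvv, ← hk0] at h1
    linear_combination h1
  have hk : k0 ≠ 0 := fun e => hv (eq_zero_of_frm (p := p) fun x => by
    have h1 := hx x
    rw [e, mul_zero] at h1
    linear_combination h1)
  have hk' : k0 ^ p = -k0 := by
    have h1 := hx x0
    rw [hx0, one_mul] at h1
    have h2 : k0 ^ p = frm p x0 v := by
      have h3 := (herm_hermForm (n := 3) hF).herm x0 v
      rw [qEquiv_apply, herm_eq_frm, herm_eq_frm, ← hk0] at h3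
      exact h3.symm
    rw [h2]
    linear_combination h1
  obtain ⟨κ, hκ⟩ : ∃ κ, κ = -k0⁻¹ := ⟨_, rfl⟩
  have htv : ∀ x, (t : M3) *ᵥ x = x + (κ * frm p x v) • v := fun x => by
    rw [ht, hκ, show φ ⬝ᵥ x = -k0⁻¹ * frm p x v by
      refine mul_right_cancel₀ hk ?_
      rw [hx x, mul_comm (-k0⁻¹) (frm p x v), mul_assoc, neg_mul, inv_mul_cancel₀ hk, mul_neg, mul_one]]
  have hpow : ∀ k : ℕ, ∀ x, ((t ^ k : G3) : M3) *ᵥ x = x + ((k : F) * κ * frm p x v) • v := fun k => by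
    induction k with
    | zero => intro x; simp
    | succ k ih =>
      intro x
      rw [pow_succ, Units.val_mul, ← Matrix.mulVec_mulVec, htv, ih, frm_add_left, frm_smul_left, hvv, mul_zero,
        add_zero]
      push_cast
      module
  refine ⟨fun c hc => ?_, hvv⟩
  rw [qEquiv_apply] at hc
  have hκ' : κ ^ p = -κ := by
    rcases neg_one_pow_eq_or F p with e | e
    · rw [hκ, neg_pow, e, one_mul, inv_pow, hk', inv_neg, neg_neg]
      have h2 : (-1 : F) ^ p = -1 := by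
        rw [← frobenius_def, map_neg, map_one]
      have h11 : (1 : F) = -1 := e.symm.trans h2
      linear_combination -k0⁻¹ * h11
    · rw [hκ, neg_pow, e, inv_pow, hk', inv_neg, mul_neg, neg_mul, one_mul]
  have hκ0 : κ ≠ 0 := hκ ▸ neg_ne_zero.2 (inv_ne_zero hk)
  obtain ⟨k, hk2⟩ := exists_cast (p := p) (t := c / κ) (by
    rw [div_pow, hκ', show c ^ p = -c by linear_combination hc, neg_div_neg_eq])
  refine ⟨t ^ k, pow_mem htM k, fun x => ?_⟩
  rw [hpow, herm_eq_frm, ← hk2, div_mul_cancel₀ _ hκ0]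

theorem dia_iso {f : Fin 3 → Fˣ} (hf : ∀ i, (f i : F) * (f i : F) ^ p = 1) (x y : V) :
    frm p (((dia f : G3) : M3) *ᵥ x) (((dia f : G3) : M3) *ᵥ y) = frm p x y := by
  refine Finset.sum_congr rfl fun i _ => ?_
  rw [coe_dia, Matrix.mulVec_diagonal, Matrix.mulVec_diagonal, mul_pow]
  linear_combination x i * y i ^ p * hf i

theorem pow_p_cube (hp3 : p % 3 = 2) (hw : w ^ 3 = 1) (hw1 : w ≠ 1) : (w : F) ^ p = (w : F) ^ 2 := by
  obtain ⟨h3, -⟩ := sum_pow hw hw1
  rw [← Nat.mod_add_div p 3, hp3, pow_add, pow_mul, h3, one_pow, mul_one]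

/-- The standard generators are isometries. -/
theorem dd_iso (hp3 : p % 3 = 2) (hw : w ^ 3 = 1) (hw1 : w ≠ 1) (x y : V) :
    frm p (((dd w : G3) : M3) *ᵥ x) (((dd w : G3) : M3) *ᵥ y) = frm p x y := by
  obtain ⟨h3, -⟩ := sum_pow hw hw1
  refine dia_iso (fun i => ?_) x y
  fin_cases i <;> simp [pow_p_cube hp3 hw hw1] <;> linear_combination h3

theorem four_iso (hp : p.Prime) (hF : Fintype.card F = p ^ 2) (hp3 : p % 3 = 2) (hw : w ^ 3 = 1) (hw1 : w ≠ 1)
    (x y : V) : frm p ((four hw hw1 : M3) *ᵥ x) ((four hw hw1 : M3) *ᵥ y) = frm p x y := by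
  haveI : Fact p.Prime := ⟨hp⟩
  haveI := charP_of hp hF
  obtain ⟨hd, hd0⟩ := delta hw hw1
  obtain ⟨h3, hs⟩ := sum_pow hw hw1
  have hwp := pow_p_cube (F := F) hp3 hw hw1
  obtain ⟨c, hc⟩ : ∃ c : F, c = ((w : F) - (w : F) ^ 2)⁻¹ := ⟨_, rfl⟩
  have hcp : c ^ p = -c := by
    rw [hc, inv_pow, sub_pow_char, hwp, ← pow_mul, mul_comm, pow_mul, hwp, ← inv_neg, neg_sub]
    congr 1
    linear_combination -(w : F) * h3
  have hcc : c * c * -3 = 1 := by
    rw [hc, ← hd, ← mul_inv, ← pow_two, inv_mul_cancel₀ (pow_ne_zero 2 hd0)]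
  simp only [frm, Fin.sum_univ_three, four, ← hc, Matrix.mulVec, dotProduct, Matrix.smul_apply, smul_eq_mul]
  simp only [Matrix.of_apply, Matrix.cons_val', Matrix.cons_val_zero, Matrix.cons_val_one, Matrix.cons_val,
    Matrix.cons_val_fin_one, Matrix.empty_val', mul_one, one_mul, mul_pow, add_pow_char, hcp, hwp, ← pow_mul]
  rw [show (w : F) ^ (2 * p) = w by rw [mul_comm, pow_mul, hwp]; linear_combination (w : F) * h3]
  grind

theorem negSwap_iso (hp2 : Odd p) (x y : V) :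
    frm p (((negSwap : G3) : M3) *ᵥ x) (((negSwap : G3) : M3) *ᵥ y) = frm p x y := by
  simp [frm, Fin.sum_univ_three, coe_negSwap, Matrix.mulVec, dotProduct, hp2.neg_pow]
  ring

theorem cyc_iso (x y : V) : frm p (((cyc : G3) : M3) *ᵥ x) (((cyc : G3) : M3) *ᵥ y) = frm p x y := by
  simp [frm, Fin.sum_univ_three, coe_cyc, Matrix.mulVec, dotProduct]
  ring

theorem four'_iso (hp : p.Prime) (hF : Fintype.card F = p ^ 2) (hp3 : p % 3 = 2) (hw : w ^ 3 = 1) (hw1 : w ≠ 1)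
    (x y : V) : frm p ((four' hw hw1 : M3) *ᵥ x) ((four' hw hw1 : M3) *ᵥ y) = frm p x y := by
  have hi : ∀ a b : V, frm p ((((dd w : G3)⁻¹ : G3) : M3) *ᵥ a) ((((dd w : G3)⁻¹ : G3) : M3) *ᵥ b) = frm p a b :=
    fun a b => by
      rw [← dd_iso (p := p) hp3 hw hw1, Matrix.mulVec_mulVec, Matrix.mulVec_mulVec, Units.mul_inv, Matrix.one_mulVec,
        Matrix.one_mulVec]
  rw [four', Units.val_mul, Units.val_mul, ← Matrix.mulVec_mulVec, ← Matrix.mulVec_mulVec, ← Matrix.mulVec_mulVec,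
    ← Matrix.mulVec_mulVec, dd_iso hp3 hw hw1, four_iso hp hF hp3 hw hw1, hi]

theorem A_iso (hp3 : p % 3 = 2) (hw : w ^ 3 = 1) (hw1 : w ≠ 1) (x y : V) :
    frm p (((dia (A w) : G3) : M3) *ᵥ x) (((dia (A w) : G3) : M3) *ᵥ y) = frm p x y := by
  obtain ⟨h3, -⟩ := sum_pow hw hw1
  refine dia_iso (fun i => ?_) x y
  simp only [A, Units.val_pow_eq_pow_val]
  rw [← pow_mul, mul_comm (i : ℕ), pow_mul, pow_p_cube hp3 hw hw1, ← mul_pow,
    show (w : F) * (w : F) ^ 2 = 1 by linear_combination h3, one_pow]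

theorem std_isometries (hp : p.Prime) (hF : Fintype.card F = p ^ 2) (hp3 : p % 3 = 2) (hw : w ^ 3 = 1) (hw1 : w ≠ 1)
    (hp2 : p ≠ 2) :
    (∀ x y : V, frm p (((dia (A w) : G3) : M3) *ᵥ x) (((dia (A w) : G3) : M3) *ᵥ y) = frm p x y) ∧
    (∀ x y : V, frm p (((cyc : G3) : M3) *ᵥ x) (((cyc : G3) : M3) *ᵥ y) = frm p x y) ∧
    (∀ x y : V, frm p (((negSwap : G3) : M3) *ᵥ x) (((negSwap : G3) : M3) *ᵥ y) = frm p x y) ∧
    (∀ x y : V, frm p ((four hw hw1 : M3) *ᵥ x) ((four hw hw1 : M3) *ᵥ y) = frm p x y) ∧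
    ∀ x y : V, frm p ((four' hw hw1 : M3) *ᵥ x) ((four' hw hw1 : M3) *ᵥ y) = frm p x y :=
  ⟨A_iso hp3 hw hw1, cyc_iso, negSwap_iso (hp.odd_of_ne_two hp2), four_iso hp hF hp3 hw hw1,
    four'_iso hp hF hp3 hw hw1⟩

/-- Normalisation, everything, or the exceptional configuration. -/
theorem acts_or (hp : p.Prime) (hF : Fintype.card F = p ^ 2) (hp3 : p % 3 = 2) (hp2 : p ≠ 2) (hw : w ^ 3 = 1)
    (hw1 : w ≠ 1) {Γ : Subgroup G3}
    (hiso : ∀ g ∈ Γ, ∀ x y : V, frm p ((g : M3) *ᵥ x) ((g : M3) *ᵥ y) = frm p x y)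
    (mA : dia (A w) ∈ Γ) (mC : cyc ∈ Γ) (mJ : (negSwap : G3) ∈ Γ) (mf : four hw hw1 ∈ Γ) (mf' : four' hw hw1 ∈ Γ) :
    (∀ g ∈ Γ, ∃ M : S2, Acts w g M) ∨ GU 3 F p ⊓ Geo.specialLinear (Fin 3) F ≤ Γ ∨
      (p = 5 ∧ Std (Γ ⊓ Geo.specialLinear (Fin 3) F) w p) := by
  classical
  haveI : Finite (GL (Fin 3) F) := Finite.of_injective _ Units.val_injective
  haveI : Fact p.Prime := ⟨hp⟩
  haveI := charP_of hp hF
  have h3 := three_ne_of hp hF hp3
  obtain ⟨X, hX⟩ : ∃ X, X = Γ ⊓ Geo.specialLinear (Fin 3) F := ⟨_, rfl⟩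
  have hmem : ∀ {s : G3}, s ∈ Γ → (s : M3).det = 1 → s ∈ X := fun hs hd => hX ▸ ⟨hs, (mem_sl _).2 hd⟩
  by_cases hN : X ≤ Subgroup.normalizer (std w : Set G3)
  · refine Or.inl fun g hg => exists_acts hw hw1 (mem_normalizer_of_gen (S := {dia (A w), cyc}) rfl ?_)
    have key : ∀ s : G3, s ∈ Γ → (s : M3).det = 1 → pr s ^ 3 = 1 →
        pr negSwap * pr s * (pr negSwap)⁻¹ = pr s ^ 2 → g * s * g⁻¹ ∈ std w := by
      intro s hs hsd hs3 hJs
      have hc : ∀ {x : G3}, x ∈ Γ → (x : M3).det = 1 → ∃ M : S2, Acts w (g * x * g⁻¹) M := fun hx hxd =>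
        exists_acts hw hw1 (hN (hmem (mul_mem (mul_mem hg hx) (inv_mem hg))
          (by rw [Units.val_mul, Units.val_mul, Matrix.det_units_conj, hxd])))
      obtain ⟨a, ha⟩ := hc hs hsd
      obtain ⟨h, hh⟩ := hc mJ det_negSwap
      have one : Acts w (1 : G3) (1 : S2) := acts_of_pr hw hw1 (v := 0) (by rw [mv_zero])
      have hh2 : h * h = 1 := (hh.mul hw hw1 hh).unique hw hw1 (one.of_pr_eq hw hw1 (by
        rw [conj_mul, negSwap_mul_self, mul_one, mul_inv_cancel]))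
      have ha3 : a * a * a = 1 := ((ha.mul hw hw1 ha).mul hw hw1 ha).unique hw hw1 (one.of_pr_eq hw hw1 (by
        rw [conj_mul, conj_mul, map_mul, map_mul, map_mul, map_mul, ← pow_two, ← pow_succ, hs3, mul_one, map_inv,
          mul_inv_cancel, map_one]))
      have hrel : h * a = a * a * h := (hh.mul hw hw1 ha).unique hw hw1
        (((ha.mul hw hw1 ha).mul hw hw1 hh).of_pr_eq hw hw1 (by
          rw [mul_inv_eq_iff_eq_mul] at hJs
          simp only [map_mul, map_inv]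
          rw [conj_mul, conj_mul, conj_mul, ← pow_two, hJs]))
      have hsq : a = a * a := by
        rcases (show ∀ h : S2, h.det = 1 → h * h = 1 → h = 1 ∨ h = -1 by decide +kernel) h (hh.det hw hw1) hh2 with
          rfl | rfl
        · simpa using hrel
        · simpa using hrel
      rw [← hsq, ← hsq] at ha3
      rw [ha3] at ha
      obtain ⟨v, hv⟩ := exists_mv_of_acts_one hw hw1 ha
      exact mem_std_of_pr hw hw1 (by rw [Units.val_mul, Units.val_mul, Matrix.det_units_conj, hsd]) hv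
    obtain ⟨ha3, hb3⟩ := pr_pow_three (F := F) hw hw1
    obtain ⟨hna, hnb⟩ := neg_conj (F := F) hw hw1
    rintro s (rfl | rfl)
    exacts [key _ mA (det_dia_A hw hw1) ha3 hna, key _ mC det_cyc hb3 hnb]
  have hXΓ : X ≤ Γ := hX ▸ inf_le_left
  refine Or.inr ?_
  by_cases htv : ∃ v φ : V, v ≠ 0 ∧ φ ≠ 0 ∧ φ ⬝ᵥ v = 0 ∧ MaxTv.InT X v φ
  · obtain ⟨v, φ, hv, hφ, hvφ, hT⟩ := htv
    obtain ⟨hU, hvv⟩ := upt_of_inT hp hF (fun g hg => hiso g (hXΓ hg)) hv hφ hvφ hT
    refine Or.inl (le_trans (guSL_le_of_irr hF (by have := hp.two_le; omega) (fun g hg => hiso g (hXΓ hg))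
      (irr_of_gen h3 hw hw1 (hmem mA (det_dia_A hw hw1)) (hmem mC det_cyc)) hv hvv hU) hXΓ)
  push Not at htv
  have S : Std X w p := by
    refine ⟨hw, hw1, hp, hF, hp3, hp2, fun g hg => hiso g (hXΓ hg), fun s hs => ?_,
      fun v φ hv hφ hvφ hT => htv v φ hv hφ hvφ hT, hmem mA (det_dia_A hw hw1), hmem mC det_cyc,
      hmem mJ det_negSwap, hmem mf (det_four hw hw1), hmem mf' (det_four' hw hw1), ?_⟩
    · rw [hX] at hs
      exact (mem_sl _).1 hs.2
    · rw [SetLike.not_le_iff_exists] at hN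
      exact hN
  by_cases h11 : 11 ≤ p
  · exact (S.false h11).elim
  refine Or.inr ⟨?_, hX ▸ S⟩
  have := hp.two_le
  interval_cases p <;> first | rfl | omega | (exfalso; revert hp; norm_num)

/-- An isometry of the special unitary group outside the normaliser of the standard group. -/
theorem exists_outside (hp : p.Prime) (hF : Fintype.card F = p ^ 2) (hp2 : 3 ≤ p) (hw : w ^ 3 = 1) (hw1 : w ≠ 1) :
    ∃ d : G3, (∀ x y : V, frm p ((d : M3) *ᵥ x) ((d : M3) *ᵥ y) = frm p x y) ∧ (d : M3).det = 1 ∧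
      d ∉ Subgroup.normalizer (std w : Set G3) := by
  classical
  haveI : Finite (GL (Fin 3) F) := Finite.of_injective _ Units.val_injective
  obtain ⟨g, hg⟩ := IsCyclic.exists_ofOrder_eq_natCard (α := Fˣ)
  rw [Nat.card_units, Nat.card_eq_fintype_card, hF] at hg
  obtain ⟨s, hs⟩ : ∃ s, s = g ^ (p - 1) := ⟨_, rfl⟩
  have hsp : s ^ (p + 1) = 1 := by
    rw [hs, ← pow_mul, show (p - 1) * (p + 1) = p ^ 2 - 1 by
      have := hp.two_le
      obtain ⟨k, rfl⟩ : ∃ k, p = k + 1 := ⟨p - 1, by omega⟩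
      rw [Nat.add_sub_cancel]; ring_nf; omega, ← hg, pow_orderOf_eq_one]
  have hs3 : s ^ 3 ≠ 1 := fun e => by
    rw [hs, ← pow_mul] at e
    have h1 := orderOf_dvd_of_pow_eq_one e
    rw [hg] at h1
    have h2 := Nat.le_of_dvd (by omega) h1
    obtain ⟨k, rfl⟩ : ∃ k, p = k + 3 := ⟨p - 3, by omega⟩
    have h4 : (k + 3) ^ 2 = k * k + 6 * k + 9 := by ring
    have h5 : k + 3 - 1 = k + 2 := by omega
    rw [h4, h5] at h2
    nlinarith [Nat.sub_add_cancel (show 1 ≤ k * k + 6 * k + 9 by omega)]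
  obtain ⟨f, hf⟩ : ∃ f : Fin 3 → Fˣ, f = ![s, s⁻¹, 1] := ⟨_, rfl⟩
  have hfp : ∀ i, f i ^ (p + 1) = 1 := fun i => by
    rw [hf]; fin_cases i <;> simp [hsp, inv_pow]
  refine ⟨dia f, fun x y => ?_, ?_, fun hn => hs3 ?_⟩
  · refine Finset.sum_congr rfl fun i _ => ?_
    rw [coe_dia, Matrix.mulVec_diagonal, Matrix.mulVec_diagonal, mul_pow]
    have h1 : (f i : F) * (f i : F) ^ p = 1 := by
      rw [← pow_succ', ← Units.val_pow_eq_pow_val, hfp, Units.val_one]
    linear_combination x i * y i ^ p * h1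
  · rw [coe_dia, Matrix.det_diagonal, Fin.prod_univ_three, hf]; simp
  · have h1 := (Subgroup.mem_normalizer_iff.1 hn cyc).1 (cyc_mem w)
    have h2 := mul_mem h1 (inv_mem (cyc_mem w))
    have e : dia f * cyc * (dia f)⁻¹ * (cyc : G3)⁻¹ = dia (f * (prev f)⁻¹) := by
      have e1 : (cyc : G3) * dia f⁻¹ = dia (prev f⁻¹) * cyc := cyc_mul_dia _
      rw [← map_inv, mul_assoc (dia f) cyc, e1, ← mul_assoc, ← map_mul, mul_inv_cancel_right]
      congr 1
      funext i
      fin_cases i <;> simp [prev]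
    rw [e] at h2
    have h3 := congrArg Units.val (Ov.no_one_t.std_pow_three hw hw1 h2)
    rw [Units.val_pow_eq_pow_val, coe_dia, Matrix.diagonal_pow, Units.val_one] at h3
    have h4 := congrFun (congrFun h3 2) 2
    simp [hf, prev] at h4
    exact Units.ext (by simpa using h4)

/-- A unitary frame for an absolutely irreducible extraspecial group of similarities. -/
theorem exists_frame_unitary (hp : p.Prime) (hF : Fintype.card F = p ^ 2) (hp3 : p % 3 = 2) (R : Subgroup G3)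
    (hsy : Geo.IsSymplecticTypeGroup 3 R) (hsim : R ≤ Geo.similarityGroup (hermForm 3 F p))
    (hcard : Nat.card R = 27) (hz : Nat.card (Subgroup.center R) = 3) :
    ∃ (P : G3) (w : Fˣ), w ^ 3 = 1 ∧ w ≠ 1 ∧ R = (std w).map (MulAut.conj P).toMonoidHom ∧
      ∀ x y : V, frm p ((P : M3) *ᵥ x) ((P : M3) *ᵥ y) = frm p x y := by
  classical
  haveI : Fact p.Prime := ⟨hp⟩
  haveI := charP_of hp hF
  have h3 := three_ne_of hp hF hp3
  have hexp : Monoid.exponent R = 3 := hsy.exponent_eq.trans (by norm_num)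
  have hna : ¬ IsMulCommutative R := fun hc => by
    have htop : Subgroup.center R = ⊤ := eq_top_iff.2 fun x _ => Subgroup.mem_center_iff.2 fun y =>
      (hc.is_comm.comm y x)
    rw [htop, Subgroup.card_top] at hz
    omega
  obtain ⟨P, w, hw, hw1, hRP⟩ := HeisenbergThree.exists_frame h3 (exists_cubic hp hF hp3) R hcard hexp hna
  have hH := herm_hermForm (n := 3) hF
  obtain ⟨B, hB⟩ : ∃ B, B = fun x y : V => frm p ((P : M3) *ᵥ x) ((P : M3) *ᵥ y) := ⟨_, rfl⟩
  -- the elements of the group are isometries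
  have hinv : ∀ s ∈ std w, ∀ x y, B ((s : M3) *ᵥ x) ((s : M3) *ᵥ y) = B x y := by
    intro s hs x y
    have hr : P * s * P⁻¹ ∈ R := hRP ▸ ⟨s, hs, rfl⟩
    obtain ⟨c, hc⟩ := hsim hr
    have hr3 : (P * s * P⁻¹) ^ 3 = 1 := by
      rw [conj_pow, Ov.no_one_t.std_pow_three hw hw1 hs, mul_one, mul_inv_cancel]
    obtain ⟨a, b, hab⟩ : ∃ a b : V, frm p a b ≠ 0 := by
      by_contra hcon
      push Not at hcon
      have h1 := eq_zero_of_frm (F := F) (p := p) (u := Pi.single 0 1) fun x => hcon x _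
      exact one_ne_zero (α := F) (Pi.single_eq_zero_iff.1 h1)
    obtain ⟨T, hT⟩ : ∃ T : M3, T = ((P * s * P⁻¹ : G3) : M3) := ⟨_, rfl⟩
    rw [← hT] at hc
    have hT3 : ∀ x, T *ᵥ (T *ᵥ (T *ᵥ x)) = x := fun x => by
      rw [Matrix.mulVec_mulVec, Matrix.mulVec_mulVec, mul_assoc, ← _root_.pow_three, hT, ← Units.val_pow_eq_pow_val,
        hr3, Units.val_one, Matrix.one_mulVec]
    have hc3 : (c : F) ^ 3 = 1 := by
      have h1 : hermForm 3 F p a b = (c : F) ^ 3 * hermForm 3 F p a b := by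
        conv_lhs => rw [← hT3 a, ← hT3 b, hc, hc, hc]
        ring
      exact (mul_eq_right₀ hab).1 h1.symm
    have hcp : (c : F) ^ p = c := by
      have h1 := hH.herm (T *ᵥ b) (T *ᵥ a)
      rw [hc, hc, map_mul, ← hH.herm, qEquiv_apply] at h1
      exact (mul_right_cancel₀ (b := hermForm 3 F p b a) (fun e => hab (by
        have := hH.herm a b
        rw [e, map_zero] at this
        exact this)) h1).symm
    have hc1 := one_of_cube hp3 hc3 hcp
    rw [hB]
    show frm p _ _ = frm p _ _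
    have e : ∀ z : V, (P : M3) *ᵥ ((s : M3) *ᵥ z) = T *ᵥ ((P : M3) *ᵥ z) := fun z => by
      rw [hT, Matrix.mulVec_mulVec, Matrix.mulVec_mulVec, ← Units.val_mul, ← Units.val_mul, inv_mul_cancel_right]
    rw [e, e, ← herm_eq_frm, hc, hc1, one_mul, herm_eq_frm]
  -- the pulled back form
  have hB2 : ∀ i j : Fin 3, B (Pi.single i 1) (Pi.single j 1) =
      if i = j then B (Pi.single 0 1) (Pi.single 0 1) else 0 := by
    have hA : ∀ i : Fin 3, ((dia (A w) : G3) : M3) *ᵥ Pi.single i 1 = ((A w i : Fˣ) : F) • (Pi.single i 1 : V) := fun i => by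
      rw [coe_dia, Matrix.diagonal_mulVec_single, mul_one, ← Pi.single_smul, smul_eq_mul, mul_one]
    have hC : ∀ i : Fin 3, ((cyc : G3) : M3) *ᵥ Pi.single i 1 = (Pi.single (i + 1) 1 : V) := fun i => by
      funext a
      rw [Matrix.mulVec_single_one, Matrix.col_apply, cyc_apply, Pi.single_apply]
    have hd : ∀ i : Fin 3, B (Pi.single (i + 1) 1) (Pi.single (i + 1) 1) = B (Pi.single i 1) (Pi.single i 1) := fun i => by
      rw [← hC, hinv _ (cyc_mem w)]
    intro i j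
    rcases eq_or_ne i j with rfl | hij
    · rw [if_pos rfl]
      have e0 := hd 0
      have e1 := hd 1
      fin_cases i
      · rfl
      · exact e0
      · exact e1.trans e0
    · rw [if_neg hij]
      have h1 := hinv _ (dia_A_mem w) (Pi.single i 1) (Pi.single j 1)
      rw [hA, hA] at h1
      simp only [hB, Matrix.mulVec_smul, frm_smul_left, frm_smul_right] at h1 ⊢
      obtain ⟨hw3, -⟩ := sum_pow hw hw1
      have hne : (A w i : F) * (A w j : F) ^ p ≠ 1 := fun e => hij (by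
        simp only [A, Units.val_pow_eq_pow_val] at e
        rw [← pow_mul, ← pow_add] at e
        have h2 : 3 ∣ (i : ℕ) + (j : ℕ) * p := by
          have ho : orderOf w = 3 := orderOf_eq_prime hw hw1
          have h5 := orderOf_dvd_of_pow_eq_one (x := w) (n := (i : ℕ) + (j : ℕ) * p)
            (Units.ext (by rw [Units.val_pow_eq_pow_val, e, Units.val_one]))
          rwa [ho] at h5
        have h3 : ((i : ℕ) + (j : ℕ) * p) % 3 = ((i : ℕ) + (j : ℕ) * 2) % 3 := by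
          rw [Nat.add_mod, Nat.mul_mod, hp3, ← Nat.mul_mod_mod, ← Nat.add_mod_mod]
          omega
        have := i.2
        have := j.2
        exact Fin.ext (by omega))
      exact (mul_eq_zero.1 (show ((A w i : F) * (A w j : F) ^ p - 1) *
        frm p ((P : M3) *ᵥ Pi.single i 1) ((P : M3) *ᵥ Pi.single j 1) = 0 by linear_combination h1)).resolve_left
        (sub_ne_zero.2 hne)
  obtain ⟨l, hl⟩ : ∃ l, l = B (Pi.single 0 1) (Pi.single 0 1) := ⟨_, rfl⟩
  have hBf : ∀ x y, B x y = l * frm p x y := fun x y => by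
    conv_lhs => rw [pi_eq_sum_univ' x, pi_eq_sum_univ' y]
    simp only [Fin.sum_univ_three, hB, Matrix.mulVec_add, Matrix.mulVec_smul, frm_add_left, frm_add_right,
      frm_smul_left, frm_smul_right]
    have hl' := hl
    simp only [hB] at hB2 hl'
    have hB3 : ∀ i j : Fin 3, frm p ((P : M3) *ᵥ Pi.single i 1) ((P : M3) *ᵥ Pi.single j 1) =
        if i = j then l else 0 := fun i j => by rw [hB2, ← hl']
    simp only [hB3, if_true, Fin.reduceEq, if_false]
    simp only [frm, Fin.sum_univ_three]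
    ring
  have hl0 : l ≠ 0 := fun e => one_ne_zero (α := F) (Pi.single_eq_zero_iff.1
    (gl_mulVec_injective P (a₁ := Pi.single (0 : Fin 3) (1 : F)) (a₂ := 0) (by
      show (P : M3) *ᵥ Pi.single 0 1 = (P : M3) *ᵥ 0
      rw [Matrix.mulVec_zero]
      refine eq_zero_of_frm (p := p) fun x => ?_
      obtain ⟨x', rfl⟩ : ∃ x', x = (P : M3) *ᵥ x' :=
        ⟨((P⁻¹ : G3) : M3) *ᵥ x, by rw [Matrix.mulVec_mulVec, Units.mul_inv, Matrix.one_mulVec]⟩
      have h1 := hBf x' (Pi.single 0 1)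
      rw [e, zero_mul, hB] at h1
      exact h1)))
  have hlp : qEquiv hF l⁻¹ = l⁻¹ := by
    rw [map_inv₀, hl, hB]
    simp only [← herm_eq_frm]
    rw [← hH.herm]
  obtain ⟨t, ht⟩ := hH.exists_norm hlp
  have ht0 : t ≠ 0 := fun e => inv_ne_zero hl0 (by rw [← ht, e, zero_mul])
  let S : G3 := dia fun _ => Units.mk0 t ht0
  have hS : (S : M3) = t • 1 := by simp [S, coe_dia, Matrix.smul_one_eq_diagonal]
  refine ⟨P * S, w, hw, hw1, ?_, fun x y => ?_⟩
  · rw [hRP]
    congr 1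
    ext g : 1
    have hcm : S * g = g * S := Units.ext (by
      rw [Units.val_mul, Units.val_mul, hS, Matrix.smul_mul, Matrix.mul_smul, one_mul, mul_one])
    show P * g * P⁻¹ = P * S * g * (P * S)⁻¹
    rw [mul_assoc P S g, hcm]; group
  · rw [Units.val_mul, hS, Matrix.mul_smul, mul_one, Matrix.smul_mulVec, Matrix.smul_mulVec, frm_smul_left,
      frm_smul_right, show frm p ((P : M3) *ᵥ x) ((P : M3) *ᵥ y) = l * frm p x y from by rw [← hBf, hB]]
    rw [qEquiv_apply] at ht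
    linear_combination (l * frm p x y) * ht + frm p x y * mul_inv_cancel₀ hl0

/-- The normaliser of an extraspecial group of order 27 is maximal. -/
theorem hessian_maximal {q : ℕ} (hF : Fintype.card F = q ^ 2) : ∀ (p : ℕ) (R : Subgroup (GL (Fin 3) F)),
    p.Prime → q = p → p % 3 = 2 → 11 ≤ p → Geo.IsSymplecticTypeGroup 3 R →
    Geo.ActsAbsolutelyIrreducibly (Geo.matrixSet R) → R ≤ Geo.similarityGroup (hermForm 3 F q) →
    Nat.card R = 27 → Nat.card (Subgroup.center R) = 3 →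
    Geo.IsMaximalIn (GU 3 F q ⊓ Geo.specialLinear (Fin 3) F)
      (Geo.subgroupNormalizer R ⊓ (GU 3 F q ⊓ Geo.specialLinear (Fin 3) F)) := by
  classical
  intro p R hp hqp hp3 hp11 hsy hirr hsim hcard hz
  subst hqp
  haveI : Finite (GL (Fin 3) F) := Finite.of_injective _ Units.val_injective
  obtain ⟨P, w, hw, hw1, hRP, hP⟩ := exists_frame_unitary hp hF hp3 R hsy hsim hcard hz
  have hdetP : ∀ s : G3, ((P * s * P⁻¹ : G3) : M3).det = (s : M3).det := fun s => by
    rw [Units.val_mul, Units.val_mul, Matrix.det_units_conj]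
  have hisoP : ∀ s : G3, P * s * P⁻¹ ∈ GU 3 F q ↔
      ∀ x y : V, frm q ((s : M3) *ᵥ x) ((s : M3) *ᵥ y) = frm q x y := by
    intro s
    have e : ∀ z : V, ((P * s * P⁻¹ : G3) : M3) *ᵥ ((P : M3) *ᵥ z) = (P : M3) *ᵥ ((s : M3) *ᵥ z) := fun z => by
      rw [Matrix.mulVec_mulVec, Matrix.mulVec_mulVec, ← Units.val_mul, ← Units.val_mul, inv_mul_cancel_right]
    rw [mem_GU]
    constructor
    · intro h x y
      have h1 := h ((P : M3) *ᵥ x) ((P : M3) *ᵥ y)
      rwa [e, e, herm_eq_frm, herm_eq_frm, hP, hP] at h1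
    · intro h x y
      obtain ⟨x', rfl⟩ : ∃ x', x = (P : M3) *ᵥ x' :=
        ⟨((P⁻¹ : G3) : M3) *ᵥ x, by rw [Matrix.mulVec_mulVec, Units.mul_inv, Matrix.one_mulVec]⟩
      obtain ⟨y', rfl⟩ : ∃ y', y = (P : M3) *ᵥ y' :=
        ⟨((P⁻¹ : G3) : M3) *ᵥ y, by rw [Matrix.mulVec_mulVec, Units.mul_inv, Matrix.one_mulVec]⟩
      rw [e, e, herm_eq_frm, herm_eq_frm, hP, hP, h]
  have hnorm : ∀ x : G3, x ∈ Subgroup.normalizer (std w : Set G3) ↔ P * x * P⁻¹ ∈ Geo.subgroupNormalizer R := by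
    intro x
    rw [Geo.subgroupNormalizer, Subgroup.mem_normalizer_iff, Subgroup.mem_normalizer_iff, hRP]
    have hm : ∀ t, P * t * P⁻¹ ∈ (std w).map (MulAut.conj P).toMonoidHom ↔ t ∈ std w := fun t =>
      ⟨fun ⟨s, hs, e⟩ => by
        have : s = t := by simpa using e
        exact this ▸ hs, fun h => ⟨t, h, rfl⟩⟩
    constructor
    · intro hx t
      obtain ⟨s, rfl⟩ : ∃ s, t = P * s * P⁻¹ := ⟨P⁻¹ * t * P, by group⟩
      rw [show P * x * P⁻¹ * (P * s * P⁻¹) * (P * x * P⁻¹)⁻¹ = P * (x * s * x⁻¹) * P⁻¹ by group, hm, hm]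
      exact hx s
    · intro hx s
      have h1 := hx (P * s * P⁻¹)
      rwa [show P * x * P⁻¹ * (P * s * P⁻¹) * (P * x * P⁻¹)⁻¹ = P * (x * s * x⁻¹) * P⁻¹ by group, hm, hm] at h1
  refine isMaximalIn_intro inf_le_right (fun hle => ?_) fun M hHM hMK g hgM hgH => ?_
  · obtain ⟨d, hdi, hdd, hdn⟩ := exists_outside hp hF (by omega) hw hw1
    exact hdn ((hnorm d).2 (hle ⟨(hisoP d).2 hdi, (mem_sl _).2 (by rw [hdetP, hdd])⟩).1)
  obtain ⟨Γ, hΓ⟩ : ∃ Γ, Γ = M.comap (MulAut.conj P).toMonoidHom := ⟨_, rfl⟩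
  have hΓm : ∀ s, s ∈ Γ ↔ P * s * P⁻¹ ∈ M := fun s => hΓ ▸ Iff.rfl
  have hin : ∀ s : G3, s ∈ Subgroup.normalizer (std w : Set G3) → (s : M3).det = 1 →
      (∀ x y : V, frm q ((s : M3) *ᵥ x) ((s : M3) *ᵥ y) = frm q x y) → s ∈ Γ := fun s hs hd hi =>
    (hΓm s).2 (hHM ⟨(hnorm s).1 hs, (hisoP s).2 hi, (mem_sl _).2 (by rw [hdetP, hd])⟩)
  obtain ⟨iA, iC, iJ, iF, iF'⟩ := std_isometries hp hF hp3 hw hw1 (by omega)
  rcases acts_or hp hF hp3 (by omega) hw hw1 (Γ := Γ)
      (fun s hs => (hisoP s).1 (hMK ((hΓm s).1 hs)).1)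
      (hin _ (Subgroup.le_normalizer (dia_A_mem w)) (det_dia_A hw hw1) iA)
      (hin _ (Subgroup.le_normalizer (cyc_mem w)) det_cyc iC)
      (hin _ (negSwap_mem_normalizer hw) det_negSwap iJ)
      (hin _ (four_mem_normalizer hw hw1) (det_four hw hw1) iF)
      (hin _ (four'_mem_normalizer hw hw1) (det_four' hw hw1) iF') with h | h | ⟨h, -⟩
  · exfalso
    obtain ⟨A, hA⟩ := h (P⁻¹ * g * P) ((hΓm _).2 (by rwa [show P * (P⁻¹ * g * P) * P⁻¹ = g by group]))
    have h1 := (hnorm _).1 (hA.mem_normalizer hw hw1)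
    rw [show P * (P⁻¹ * g * P) * P⁻¹ = g by group] at h1
    exact hgH ⟨h1, hMK hgM⟩
  · intro x hx
    have h1 := (hΓm (P⁻¹ * x * P)).1 (h ⟨?_, (mem_sl _).2 ?_⟩)
    · rwa [show P * (P⁻¹ * x * P) * P⁻¹ = x by group] at h1
    · refine mem_GU.2 fun a b => (hisoP _).1 ?_ a b
      rw [show P * (P⁻¹ * x * P) * P⁻¹ = x by group]
      exact hx.1
    · rw [← hdetP, show P * (P⁻¹ * x * P) * P⁻¹ = x by group]
      exact (mem_sl _).1 hx.2
  · omega

end Cfsg.Agent.Classical.SUThree.Hess
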