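import Cfsg.Agent.Lib.Classical.SUThree.HessGroup

/-!
Elements of order `p` in a group of isometries of a hermitian form of rank three without transvections: they are
regular unipotent, their centralisers are cyclic of order `p`, and what commutes with a regular element normalising
one of them normalises it.
-/

set_option autoImplicit false
set_option linter.unusedSectionVars false
set_option maxHeartbeats 1000000

namespace Cfsg.Agent.Classical.SUThree.Hess

open Matrix MaxTv HeisenbergThree SLThree SLThree.Hessian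

universe u

variable {F : Type u} [Field F]

local notation "M₃" => Matrix (Fin 3) (Fin 3) F
local notation "V" => Fin 3 → F

/-- A fixed point of the Frobenius map lies in the prime field. -/
theorem exists_cast {p : ℕ} [Fact p.Prime] [CharP F p] {t : F} (ht : t ^ p = t) : ∃ k : ℕ, t = (k : F) := by
  classical
  by_contra hc
  push Not at hc
  have hp := (Fact.out : p.Prime)
  obtain ⟨Q, hQ⟩ : ∃ Q : Polynomial F, Q = Polynomial.X ^ p - Polynomial.X := ⟨_, rfl⟩
  have hQ0 : Q ≠ 0 := hQ ▸ FiniteField.X_pow_card_sub_X_ne_zero F hp.one_lt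
  have hdeg : Q.natDegree = p := hQ ▸ FiniteField.X_pow_card_sub_X_natDegree_eq F hp.one_lt
  have h1 := Polynomial.card_le_degree_of_subset_roots (p := Q)
    (Z := insert t ((Finset.range p).image (Nat.cast : ℕ → F))) (fun a ha => by
      rw [Polynomial.mem_roots hQ0, Polynomial.IsRoot.def, hQ]
      simp only [Polynomial.eval_sub, Polynomial.eval_pow, Polynomial.eval_X, sub_eq_zero]
      simp only [Finset.mem_val, Finset.mem_insert, Finset.mem_image] at ha
      rcases ha with rfl | ⟨k, -, rfl⟩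
      · exact ht
      · rw [← frobenius_def, map_natCast])
  rw [hdeg, Finset.card_insert_of_notMem, Finset.card_image_of_injOn, Finset.card_range] at h1
  · omega
  · intro a ha b hb e
    exact Nat.ModEq.eq_of_lt_of_lt ((CharP.natCast_eq_natCast F p).1 e) (Finset.mem_range.1 ha) (Finset.mem_range.1 hb)
  · simp only [Finset.mem_image, not_exists, not_and]
    exact fun k _ e => hc k e.symm

/-- Only one is a cube root of unity in a prime field of characteristic congruent to two modulo three. -/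
theorem one_of_cube {p : ℕ} (hp : p % 3 = 2) {t : F} (h3 : t ^ 3 = 1) (ht : t ^ p = t) : t = 1 := by
  rw [← Nat.mod_add_div p 3, hp, pow_add, pow_mul, h3, one_pow, mul_one] at ht
  have h0 : t ≠ 0 := fun e => by rw [e] at h3; simp at h3
  exact (mul_eq_left₀ h0).1 (by rw [← pow_two]; exact ht)

/-- A nilpotent matrix of nonzero square: a cyclic basis and the commutant. -/
theorem nilpotent_data {p : ℕ} (h2 : (2 : F) ≠ 0) (hp : p ≠ 0) {N : M₃} (hN : N ^ p = 0) (hNN : N * N ≠ 0) :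
    N * N * N = 0 ∧ (∃ v : V, LinearIndependent F ![v, N *ᵥ v, N *ᵥ (N *ᵥ v)]) ∧
      ∀ x : M₃, Commute x N → ∃ a b c : F, x = a • 1 + b • N + c • (N * N) := by
  have ht : N.trace = 0 := isNilpotent_iff_eq_zero.1 (Matrix.isNilpotent_trace_of_isNilpotent ⟨p, hN⟩)
  have ht2 : (N * N).trace = 0 := isNilpotent_iff_eq_zero.1 (Matrix.isNilpotent_trace_of_isNilpotent
    ⟨p, by rw [(Commute.refl N).mul_pow, hN, zero_mul]⟩)
  have hd : N.det = 0 := by
    have := congrArg Matrix.det hN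
    rw [Matrix.det_pow, Matrix.det_zero] at this
    exact pow_eq_zero_iff hp |>.1 this
  have h3 : N * N * N = 0 := by
    have := cayley_three N
    rw [ht, ht2, hd] at this
    simp only [mul_zero, zero_smul, sub_zero, add_zero] at this
    exact (smul_eq_zero.1 this).resolve_left h2
  obtain ⟨v, hv⟩ : ∃ v, (N * N) *ᵥ v ≠ 0 := by
    by_contra hc
    push Not at hc
    exact hNN (Matrix.ext_iff_mulVec.2 fun v => by rw [hc, Matrix.zero_mulVec])
  rw [← Matrix.mulVec_mulVec] at hv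
  have h3v : ∀ z, N *ᵥ (N *ᵥ (N *ᵥ z)) = 0 := fun z => by
    rw [Matrix.mulVec_mulVec, Matrix.mulVec_mulVec, h3, Matrix.zero_mulVec]
  have hli : LinearIndependent F ![v, N *ᵥ v, N *ᵥ (N *ᵥ v)] := by
    refine Fintype.linearIndependent_iff.2 fun c hc => ?_
    rw [Fin.sum_univ_three] at hc
    change c 0 • v + c 1 • (N *ᵥ v) + c 2 • (N *ᵥ (N *ᵥ v)) = 0 at hc
    have h1 := congrArg (fun z => N *ᵥ (N *ᵥ z)) hc
    simp only [Matrix.mulVec_add, Matrix.mulVec_smul, h3v, Matrix.mulVec_zero, smul_zero, add_zero] at h1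
    have c0 := (smul_eq_zero.1 h1).resolve_right hv
    rw [c0, zero_smul, zero_add] at hc
    have h2 := congrArg (fun z => N *ᵥ z) hc
    simp only [Matrix.mulVec_add, Matrix.mulVec_smul, h3v, Matrix.mulVec_zero, smul_zero, add_zero] at h2
    have c1 := (smul_eq_zero.1 h2).resolve_right hv
    rw [c1, zero_smul, zero_add] at hc
    have c2 := (smul_eq_zero.1 hc).resolve_right hv
    intro i; fin_cases i <;> assumption
  refine ⟨h3, ⟨v, hli⟩, fun x hx => ?_⟩
  have hspan := hli.span_eq_top_of_card_eq_finrank (by simp)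
  have hm : x *ᵥ v ∈ Submodule.span F (Set.range ![v, N *ᵥ v, N *ᵥ (N *ᵥ v)]) := hspan ▸ Submodule.mem_top
  obtain ⟨c, hc⟩ := (Submodule.mem_span_range_iff_exists_fun F).1 hm
  refine ⟨c 0, c 1, c 2, ?_⟩
  obtain ⟨D, hD⟩ : ∃ D, D = x - (c 0 • 1 + c 1 • N + c 2 • (N * N)) := ⟨_, rfl⟩
  have hcom : Commute D N := by
    rw [hD]
    exact hx.sub_left ((((Commute.one_left N).smul_left _).add_left ((Commute.refl N).smul_left _)).add_left
      (((Commute.refl N).mul_left (Commute.refl N)).smul_left _))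
  have hv0 : D *ᵥ v = 0 := by
    rw [hD, Matrix.sub_mulVec, ← hc, Fin.sum_univ_three, sub_eq_zero]
    simp [Matrix.add_mulVec, Matrix.smul_mulVec, ← Matrix.mulVec_mulVec]
  have hmv : ∀ z, D *ᵥ (N *ᵥ z) = N *ᵥ (D *ᵥ z) := fun z => by
    rw [Matrix.mulVec_mulVec, Matrix.mulVec_mulVec, hcom.eq]
  rw [← sub_eq_zero, ← hD]
  refine Matrix.ext_iff_mulVec.2 fun z => ?_
  rw [Matrix.zero_mulVec]
  have hz : z ∈ Submodule.span F (Set.range ![v, N *ᵥ v, N *ᵥ (N *ᵥ v)]) := hspan ▸ Submodule.mem_top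
  induction hz using Submodule.span_induction with
  | mem y hy =>
    obtain ⟨i, rfl⟩ := hy
    fin_cases i
    · exact hv0
    · show D *ᵥ (N *ᵥ v) = 0; rw [hmv, hv0, Matrix.mulVec_zero]
    · show D *ᵥ (N *ᵥ (N *ᵥ v)) = 0; rw [hmv, hmv, hv0, Matrix.mulVec_zero, Matrix.mulVec_zero]
  | zero => rw [Matrix.mulVec_zero]
  | add u u' _ _ hu hu' => rw [Matrix.mulVec_add, hu, hu', add_zero]
  | smul t u _ hu => rw [Matrix.mulVec_smul, hu, smul_zero]

/-- Powers of `1 + N`. -/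
theorem pow_one_add {N : M₃} (h3 : N * N * N = 0) (k : ℕ) :
    ∃ β : F, (1 + N) ^ k = 1 + (k : F) • N + β • (N * N) := by
  induction k with
  | zero => exact ⟨0, by simp⟩
  | succ k ih =>
    obtain ⟨β, hβ⟩ := ih
    refine ⟨β + k, ?_⟩
    rw [pow_succ, hβ]
    simp only [add_mul, mul_add, one_mul, mul_one, Matrix.smul_mul, h3, smul_zero, add_zero]
    push_cast
    module

/-- The hermitian form. -/
def frm (p : ℕ) (x y : V) : F := ∑ i, x i * y i ^ p

theorem frm_add_left (p : ℕ) (x x' y : V) : frm p (x + x') y = frm p x y + frm p x' y := by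
  simp [frm, add_mul, Finset.sum_add_distrib]

theorem frm_smul_left (p : ℕ) (t : F) (x y : V) : frm p (t • x) y = t * frm p x y := by
  simp [frm, Finset.mul_sum, mul_assoc]

theorem frm_add_right {p : ℕ} [Fact p.Prime] [CharP F p] (x y y' : V) : frm p x (y + y') = frm p x y + frm p x y' := by
  simp [frm, add_pow_char, mul_add, Finset.sum_add_distrib]

theorem frm_smul_right (p : ℕ) (t : F) (x y : V) : frm p x (t • y) = t ^ p * frm p x y := by
  simp [frm, Finset.mul_sum, mul_pow, mul_left_comm]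

theorem frm_zero_left (p : ℕ) (y : V) : frm p 0 y = 0 := by simp [frm]

theorem frm_zero_right {p : ℕ} (hp : p ≠ 0) (x : V) : frm p x 0 = 0 := by simp [frm, zero_pow hp]

theorem eq_zero_of_frm {p : ℕ} {u : V} (h : ∀ x, frm p x u = 0) : u = 0 := by
  funext i
  have h1 := h (Pi.single i 1)
  simp [frm, Pi.single_apply] at h1
  exact h1.1

variable {X : Subgroup (GL (Fin 3) F)} {w : Fˣ} {p : ℕ} [Fintype F]

namespace Std

variable (c : Std X w p)
include c

theorem frob_inj {a b : F} (h : a ^ p = b ^ p) : a = b := by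
  haveI : Fact p.Prime := ⟨c.prime⟩
  haveI := c.charP
  exact frobenius_inj F p h

theorem isom {g : GL (Fin 3) F} (hg : g ∈ X) (x y : V) :
    frm p ((g : M₃) *ᵥ x) ((g : M₃) *ᵥ y) = frm p x y := c.iso g hg x y

/-- A member `1 + D` with `D` of square zero is trivial. -/
theorem tv_free {g : GL (Fin 3) F} (hg : g ∈ X) {D : M₃} (hD : (g : M₃) = 1 + D) (hsq : D * D = 0) : D = 0 := by
  by_contra hne
  obtain ⟨v, φ, hvφ, hform⟩ := exists_rankOne_of_sq hsq
  refine c.noTv v φ (fun e => hne (Matrix.ext_iff_mulVec.2 fun y => by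
      rw [hform, e, smul_zero, Matrix.zero_mulVec]))
    (fun e => hne (Matrix.ext_iff_mulVec.2 fun y => by
      rw [hform, e, zero_dotProduct, zero_smul, Matrix.zero_mulVec]))
    hvφ ⟨g, hg, fun y => ?_⟩
  rw [hD, Matrix.add_mulVec, Matrix.one_mulVec, hform]

/-- An element of order `p` has a lift of order `p`. -/
theorem exists_lift_p {b : PX X} (hb : b ^ p = 1) :
    ∃ g : X, mkX X g = b ∧ ((g : GL (Fin 3) F) : M₃) ^ p = 1 := by
  obtain ⟨g, rfl⟩ := mkX_surjective b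
  obtain ⟨z, hz⟩ := pr_eq_one.1 (show pr ((g : GL (Fin 3) F) ^ p) = 1 by
    rw [map_pow]; exact congrArg Subtype.val hb)
  have hz3 : z ^ 3 = 1 := by
    have h := congrArg Matrix.det hz
    rw [Units.val_pow_eq_pow_val, Matrix.det_pow, c.det g g.2, Matrix.det_smul, Matrix.det_one, Fintype.card_fin,
      one_pow] at h
    simpa using h.symm
  have hz0 : z ≠ 0 := fun e => by rw [e] at hz3; simp at hz3
  let s : GL (Fin 3) F := dia fun _ => Units.mk0 z hz0
  have hs : (s : M₃) = z • 1 := by simp [s, coe_dia, Matrix.smul_one_eq_diagonal]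
  refine ⟨⟨s, c.sc_mem hs hz3⟩ * g, Subtype.ext ?_, ?_⟩
  · rw [coe_mkX, Subgroup.coe_mul, map_mul, pr_eq_one.2 ⟨z, hs⟩, one_mul]
    rfl
  · rw [Subgroup.coe_mul, Units.val_mul, hs, Matrix.smul_mul, one_mul, smul_pow, ← Units.val_pow_eq_pow_val, hz,
      smul_smul, ← Nat.mod_add_div p 3, c.mod, pow_add, pow_mul, hz3, one_pow, mul_one,
      show z ^ 2 * z = 1 by rw [← pow_succ]; exact hz3, one_smul]

/-- The nilpotent part of a member of order `p`, with the values of the form on its cyclic basis. -/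
theorem unip {g : GL (Fin 3) F} (hg : g ∈ X) (hgp : (g : M₃) ^ p = 1) (hne : (g : M₃) ≠ 1) :
    ∃ (N : M₃) (v : V), (g : M₃) = 1 + N ∧ N * N * N = 0 ∧ N * N ≠ 0 ∧
      (∀ x : M₃, Commute x N → ∃ a b d : F, x = a • 1 + b • N + d • (N * N)) ∧
      LinearIndependent F ![v, N *ᵥ v, N *ᵥ (N *ᵥ v)] ∧
      frm p (N *ᵥ (N *ᵥ v)) (N *ᵥ v) = 0 ∧ frm p (N *ᵥ v) (N *ᵥ (N *ᵥ v)) = 0 ∧
      frm p (N *ᵥ (N *ᵥ v)) (N *ᵥ (N *ᵥ v)) = 0 ∧ frm p v (N *ᵥ (N *ᵥ v)) = -frm p (N *ᵥ v) (N *ᵥ v) ∧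
      frm p (N *ᵥ v) (N *ᵥ v) ≠ 0 := by
  haveI : Fact p.Prime := ⟨c.prime⟩
  haveI := c.charP
  obtain ⟨N, hN⟩ : ∃ N : M₃, N = (g : M₃) - 1 := ⟨_, rfl⟩
  have hgN : (g : M₃) = 1 + N := by rw [hN, add_sub_cancel]
  have hNp : N ^ p = 0 := by
    rw [hN, sub_pow_char_of_commute p (Commute.one_right _), one_pow, hgp, sub_self]
  have hN0 : N ≠ 0 := fun e => hne (by rw [hgN, e, add_zero])
  have hNN : N * N ≠ 0 := fun e => hN0 (c.tv_free hg hgN e)
  obtain ⟨h3, ⟨v, hli⟩, hcomm⟩ := nilpotent_data c.two_ne c.prime.ne_zero hNp hNN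
  obtain ⟨u, hu⟩ : ∃ u, u = N *ᵥ (N *ᵥ v) := ⟨_, rfl⟩
  have hNu : N *ᵥ u = 0 := by
    rw [hu, Matrix.mulVec_mulVec, Matrix.mulVec_mulVec, h3, Matrix.zero_mulVec]
  have hb : ∀ x y, frm p (N *ᵥ x) y + frm p x (N *ᵥ y) + frm p (N *ᵥ x) (N *ᵥ y) = 0 := fun x y => by
    have h1 := c.isom hg x y
    rw [hgN, Matrix.add_mulVec, Matrix.add_mulVec, Matrix.one_mulVec, Matrix.one_mulVec, frm_add_left, frm_add_right,
      frm_add_right] at h1
    linear_combination h1
  have hu1 : ∀ y, frm p u (N *ᵥ y) = 0 := fun y => by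
    have h1 := hb u y
    rwa [hNu, frm_zero_left, frm_zero_left, zero_add, add_zero] at h1
  have e1 : frm p u (N *ᵥ v) = 0 := hu1 v
  have e2 : frm p u u = 0 := by
    have h1 := hu1 (N *ᵥ v)
    rwa [← hu] at h1
  have e3 : frm p (N *ᵥ v) u = 0 := by
    have h1 := hb (N *ᵥ v) (N *ᵥ v)
    rw [← hu, e1, e2] at h1
    linear_combination h1
  have e4 : frm p v u = -frm p (N *ᵥ v) (N *ᵥ v) := by
    have h1 := hb v (N *ᵥ v)
    rw [← hu, e3] at h1
    linear_combination h1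
  refine ⟨N, v, hgN, h3, hNN, hcomm, hli, hu ▸ e1, hu ▸ e3, hu ▸ e2, hu ▸ e4, fun e5 => ?_⟩
  refine hli.ne_zero 2 ?_
  show N *ᵥ (N *ᵥ v) = 0
  rw [← hu]
  refine eq_zero_of_frm (p := p) fun x => ?_
  have hx : x ∈ Submodule.span F (Set.range ![v, N *ᵥ v, N *ᵥ (N *ᵥ v)]) :=
    (hli.span_eq_top_of_card_eq_finrank (by simp)) ▸ Submodule.mem_top
  induction hx using Submodule.span_induction with
  | mem y hy =>
    obtain ⟨i, rfl⟩ := hy
    fin_cases i
    · show frm p v u = 0; rw [e4, e5, neg_zero]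
    · exact e3
    · show frm p (N *ᵥ (N *ᵥ v)) u = 0; rw [← hu]; exact e2
  | zero => exact frm_zero_left p u
  | add a b _ _ ha hb => rw [frm_add_left, ha, hb, add_zero]
  | smul t a _ ha => rw [frm_smul_left, ha, mul_zero]

/-- The centraliser of an element of order `p` is generated by it. -/
theorem mem_zpowers_of_commute {x b : PX X} (hb : b ^ p = 1) (hb1 : b ≠ 1) (hxb : Commute x b) :
    x ∈ Subgroup.zpowers b := by
  haveI : Fact p.Prime := ⟨c.prime⟩
  haveI := c.charP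
  obtain ⟨gb, rfl, hgb⟩ := c.exists_lift_p hb
  obtain ⟨gx, rfl⟩ := mkX_surjective x
  have hne : ((gb : GL (Fin 3) F) : M₃) ≠ 1 := fun e => hb1 (Subtype.ext (by
    rw [coe_mkX, Subgroup.coe_one, pr_eq_one]; exact ⟨1, by rw [e, one_smul]⟩))
  obtain ⟨N, v, hgN, h3, hNN, hcomm, hli, e1, e3, e2, e4, hc0⟩ := c.unip gb.2 hgb hne
  have h3' : N * (N * N) = 0 := by rw [← mul_assoc]; exact h3
  have htr : ((gb : GL (Fin 3) F) : M₃).trace ≠ 0 := by
    have ht : N.trace = 0 := isNilpotent_iff_eq_zero.1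
      (Matrix.isNilpotent_trace_of_isNilpotent ⟨3, by rw [pow_succ, pow_two]; exact h3⟩)
    rw [hgN, Matrix.trace_add, ht, add_zero, Matrix.trace_one, Fintype.card_fin]
    exact_mod_cast c.three_ne
  obtain ⟨ζ, hζ⟩ := commute_pr.1 (hxb.map (PX X).subtype : Commute (pr (gx : GL (Fin 3) F)) (pr (gb : GL (Fin 3) F)))
  have hxN : Commute ((gx : GL (Fin 3) F) : M₃) N := by
    have h1 := congrArg Units.val (commute_of_trace hζ htr)
    rw [Units.val_mul, Units.val_mul, hgN, mul_add, add_mul, mul_one, one_mul] at h1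
    exact add_left_cancel h1
  obtain ⟨a, α, β, hx⟩ := hcomm _ hxN
  -- the scalar part
  obtain ⟨D, hD⟩ : ∃ D, D = α • N + β • (N * N) := ⟨_, rfl⟩
  have hD3 : D ^ 3 = 0 := by
    rw [hD, pow_succ, pow_two]
    simp only [add_mul, mul_add, Matrix.smul_mul, Matrix.mul_smul, h3, h3', smul_smul, mul_assoc, smul_zero, add_zero,
      mul_zero]
  have hDp : D ^ p = 0 := pow_eq_zero_of_le (by have := c.prime.two_le; have := c.p_ne_two; omega) hD3
  have hx' : ((gx : GL (Fin 3) F) : M₃) = a • 1 + D := by rw [hx, hD, add_assoc]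
  have ha3 : a ^ 3 = 1 := by
    refine c.frob_inj ?_
    have h1 := congrArg Matrix.det (show ((gx : GL (Fin 3) F) : M₃) ^ p = a ^ p • 1 by
      rw [hx', add_pow_char_of_commute p ((Commute.one_left _).smul_left _), smul_pow, one_pow, hDp, add_zero])
    rw [Matrix.det_pow, c.det _ gx.2, one_pow, Matrix.det_smul, Matrix.det_one, Fintype.card_fin, mul_one] at h1
    rw [one_pow, ← pow_mul, mul_comm, pow_mul, ← h1]
  have ha0 : a ≠ 0 := fun e => by rw [e] at ha3; simp at ha3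
  let s : GL (Fin 3) F := dia fun _ => Units.mk0 (a ^ 2) (pow_ne_zero 2 ha0)
  have hs : (s : M₃) = (a ^ 2) • 1 := by simp [s, coe_dia, Matrix.smul_one_eq_diagonal]
  obtain ⟨g, hg⟩ : ∃ g : X, g = ⟨s, c.sc_mem hs (by rw [← pow_mul, mul_comm, pow_mul, ha3, one_pow])⟩ * gx := ⟨_, rfl⟩
  have hgx : mkX X g = mkX X gx := Subtype.ext (by
    rw [coe_mkX, coe_mkX, hg, Subgroup.coe_mul, map_mul, pr_eq_one.2 ⟨a ^ 2, hs⟩, one_mul])
  have hgv : ((g : GL (Fin 3) F) : M₃) = 1 + (a ^ 2 * α) • N + (a ^ 2 * β) • (N * N) := by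
    rw [hg, Subgroup.coe_mul, Units.val_mul, hs, Matrix.smul_mul, one_mul, hx, smul_add, smul_add, smul_smul,
      smul_smul, smul_smul, ← pow_succ, ha3, one_smul]
  obtain ⟨A, hA⟩ : ∃ A, A = a ^ 2 * α := ⟨_, rfl⟩
  obtain ⟨B, hB⟩ : ∃ B, B = a ^ 2 * β := ⟨_, rfl⟩
  rw [← hA, ← hB] at hgv
  -- the parameter lies in the prime field
  obtain ⟨k, hk⟩ : ∃ k : ℕ, A = (k : F) := by
    refine exists_cast (p := p) ?_
    have h1 := c.isom g.2 v (N *ᵥ v)
    rw [hgv] at h1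
    simp only [Matrix.add_mulVec, Matrix.one_mulVec, Matrix.smul_mulVec, ← Matrix.mulVec_mulVec, frm_add_left,
      frm_add_right, frm_smul_left, frm_smul_right, e1, e2, e3, e4] at h1
    rw [show N *ᵥ (N *ᵥ (N *ᵥ v)) = 0 by rw [Matrix.mulVec_mulVec, Matrix.mulVec_mulVec, h3, Matrix.zero_mulVec],
      frm_zero_right c.prime.ne_zero, frm_zero_right c.prime.ne_zero, frm_zero_right c.prime.ne_zero] at h1
    exact mul_right_cancel₀ hc0 (by linear_combination -h1)
  obtain ⟨β', hβ'⟩ := pow_one_add h3 k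
  have hpow : (((gb ^ k : X) : GL (Fin 3) F) : M₃) = 1 + A • N + β' • (N * N) := by
    rw [SubmonoidClass.coe_pow, Units.val_pow_eq_pow_val, hgN, hβ', hk]
  have hfix : N * N * (((gb ^ k : X) : GL (Fin 3) F) : M₃) = N * N := by
    rw [hpow]
    simp only [mul_add, mul_one, Matrix.mul_smul, ← mul_assoc, h3, zero_mul, smul_zero, add_zero]
  have hq : (((g * (gb ^ k)⁻¹ : X) : GL (Fin 3) F) : M₃) = 1 + (B - β') • (N * N) := by
    rw [Subgroup.coe_mul, Subgroup.coe_inv, Units.val_mul, Units.mul_inv_eq_iff_eq_mul, add_mul, one_mul,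
      Matrix.smul_mul, hfix, hpow, hgv, sub_smul]
    abel
  have h0 := c.tv_free (g * (gb ^ k)⁻¹).2 hq (by
    rw [Matrix.smul_mul, Matrix.mul_smul, show N * N * (N * N) = 0 by rw [← mul_assoc, h3, zero_mul], smul_zero,
      smul_zero])
  rw [h0, add_zero] at hq
  refine Subgroup.mem_zpowers_iff.2 ⟨k, ?_⟩
  rw [zpow_natCast, ← map_pow, ← hgx]
  exact congrArg (mkX X) (mul_inv_eq_one.1 (Subtype.ext (Units.ext hq))).symm

theorem pow_eq_one_of_commute {x b : PX X} (hb : b ^ p = 1) (hb1 : b ≠ 1) (hxb : Commute x b) : x ^ p = 1 := by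
  obtain ⟨i, rfl⟩ := Subgroup.mem_zpowers_iff.1 (c.mem_zpowers_of_commute hb hb1 hxb)
  rw [← zpow_natCast (b ^ i), ← _root_.zpow_mul, mul_comm, _root_.zpow_mul, zpow_natCast, hb, _root_.one_zpow]

/-- What commutes with an element inducing a regular automorphism of a group of order `p` normalises it. -/
theorem fix_normal {x y z : PX X} (hx : orderOf x = p) (hyx : y * x * y⁻¹ ∈ Subgroup.zpowers x)
    (hy2 : ¬ Commute (y * y) x) (hzy : Commute z y) : z * x * z⁻¹ ∈ Subgroup.zpowers x := by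
  classical
  haveI : Fact p.Prime := ⟨c.prime⟩
  haveI := c.charP
  haveI : Finite (GL (Fin 3) F) := Finite.of_injective _ Units.val_injective
  haveI : Finite (Matrix.ProjGenLinGroup (Fin 3) F) := Finite.of_surjective _ Matrix.ProjGenLinGroup.mk_surjective
  have hx1 : x ≠ 1 := fun e => c.prime.one_lt.ne (by rw [← hx, e, orderOf_one])
  have hxp : x ^ p = 1 := hx ▸ pow_orderOf_eq_one x
  obtain ⟨k, hk⟩ := mem_powers_iff_mem_zpowers.2 hyx
  dsimp only at hk
  have hk2 : (k : F) * k ≠ 1 := fun e => hy2 (by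
    have h1 : x ^ (k * k) = x ^ 1 := pow_eq_pow_iff_modEq.2 (by
      rw [hx, ← CharP.natCast_eq_natCast F p]; push_cast; exact e)
    rw [pow_one, pow_mul] at h1
    have h2 : y * (x ^ k) * y⁻¹ = x ^ (k * k) := by rw [← conj_pow, ← hk, pow_mul]
    rw [pow_mul, h1] at h2
    refine mul_inv_eq_iff_eq_mul.1 ?_
    calc y * y * x * (y * y)⁻¹ = y * (y * x * y⁻¹) * y⁻¹ := by group
      _ = x := by rw [← hk, h2])
  have hkp : (k : F) ^ p = k := by rw [← frobenius_def, map_natCast]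
  obtain ⟨gx, rfl, hgx⟩ := c.exists_lift_p hxp
  obtain ⟨gy, rfl⟩ := mkX_surjective y
  obtain ⟨gz, rfl⟩ := mkX_surjective z
  have hne : ((gx : GL (Fin 3) F) : M₃) ≠ 1 := fun e => hx1 (Subtype.ext (by
    rw [coe_mkX, Subgroup.coe_one, pr_eq_one]; exact ⟨1, by rw [e, one_smul]⟩))
  obtain ⟨N, v, hgN, h3, hNN, -, hli, e1, e3, e2, e4, hc0⟩ := c.unip gx.2 hgx hne
  obtain ⟨β, hβ⟩ := pow_one_add h3 k
  have hrel : ((gy : GL (Fin 3) F) : M₃) * N = ((k : F) • N + β • (N * N)) * ((gy : GL (Fin 3) F) : M₃) := by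
    obtain ⟨ξ, hξ⟩ := pr_eq_pr.1 (show pr ((gy * gx * gy⁻¹ : X) : GL (Fin 3) F) = pr ((gx ^ k : X) : GL (Fin 3) F) by
      rw [← coe_mkX, ← coe_mkX, map_mul, map_mul, map_inv, map_pow, hk])
    have hp1 : (((gy * gx * gy⁻¹ : X) : GL (Fin 3) F) : M₃) ^ p = 1 := by
      rw [← Units.val_pow_eq_pow_val, ← SubmonoidClass.coe_pow, conj_pow,
        show gx ^ p = 1 from Subtype.ext (Units.ext (by rw [SubmonoidClass.coe_pow, Units.val_pow_eq_pow_val, hgx]; rfl))]
      simp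
    have hξ1 : ξ = 1 := by
      refine c.frob_inj ?_
      rw [hξ, smul_pow, SubmonoidClass.coe_pow, Units.val_pow_eq_pow_val, ← pow_mul, mul_comm, pow_mul, hgx,
        one_pow] at hp1
      simpa using congrFun (congrFun hp1 0) 0
    rw [hξ1, one_smul, Subgroup.coe_mul, Subgroup.coe_mul, Subgroup.coe_inv, Units.val_mul, Units.val_mul,
      Units.mul_inv_eq_iff_eq_mul, SubmonoidClass.coe_pow, Units.val_pow_eq_pow_val, hgN, hβ, mul_add, mul_one,
      add_assoc (1 : M₃), add_mul, one_mul] at hξ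
    exact add_left_cancel hξ
  -- in the cyclic basis
  obtain ⟨m, hm⟩ : ∃ m, m = N *ᵥ v := ⟨_, rfl⟩
  obtain ⟨u, hu⟩ : ∃ u, u = N *ᵥ m := ⟨_, rfl⟩
  rw [← hm, ← hu] at hli e1 e2 e3 e4
  rw [← hm] at hc0
  have hNu : N *ᵥ u = 0 := by rw [hu, hm, Matrix.mulVec_mulVec, Matrix.mulVec_mulVec, h3, Matrix.zero_mulVec]
  have hspan := hli.span_eq_top_of_card_eq_finrank (by simp)
  have hdec : ∀ e : V, ∃ a b d : F, e = a • v + b • m + d • u := fun e => by
    obtain ⟨f, hf⟩ := (Submodule.mem_span_range_iff_exists_fun F).1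
      (show e ∈ Submodule.span F (Set.range ![v, m, u]) from hspan ▸ Submodule.mem_top)
    exact ⟨f 0, f 1, f 2, by rw [← hf, Fin.sum_univ_three]; rfl⟩
  have hzero : ∀ a b d : F, a • v + b • m + d • u = 0 → a = 0 ∧ b = 0 ∧ d = 0 := fun a b d e => by
    have h1 := Fintype.linearIndependent_iff.1 hli ![a, b, d] (by rw [Fin.sum_univ_three]; exact e)
    exact ⟨h1 0, h1 1, h1 2⟩
  obtain ⟨Y, hY⟩ : ∃ Y : M₃, Y = ((gy : GL (Fin 3) F) : M₃) := ⟨_, rfl⟩
  rw [← hY] at hrel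
  obtain ⟨a, b, d, hYv⟩ := hdec (Y *ᵥ v)
  have hYm : Y *ᵥ m = ((k : F) * a) • m + ((k : F) * b + β * a) • u := by
    rw [hm, Matrix.mulVec_mulVec, hrel, ← Matrix.mulVec_mulVec, hYv]
    simp only [Matrix.add_mulVec, Matrix.smul_mulVec, ← Matrix.mulVec_mulVec, Matrix.mulVec_add, Matrix.mulVec_smul,
      ← hm, ← hu, hNu, Matrix.mulVec_zero, smul_zero, add_zero]
    module
  have hYu : Y *ᵥ u = ((k : F) * k * a) • u := by
    rw [hu, Matrix.mulVec_mulVec, hrel, ← Matrix.mulVec_mulVec, hYm]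
    simp only [Matrix.add_mulVec, Matrix.smul_mulVec, ← Matrix.mulVec_mulVec, Matrix.mulVec_add, Matrix.mulVec_smul,
      ← hm, ← hu, hNu, Matrix.mulVec_zero, smul_zero, add_zero]
    module
  have hu0 : u ≠ 0 := hli.ne_zero 2
  have hlam : (k : F) * k * a ≠ 0 := fun e => hu0 (by
    have h1 := congrArg (fun q => (((gy : GL (Fin 3) F)⁻¹ : GL (Fin 3) F) : M₃) *ᵥ q) hYu
    simp only [e, zero_smul, Matrix.mulVec_zero, hY, Matrix.mulVec_mulVec, Units.inv_mul, Matrix.one_mulVec] at h1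
    exact h1)
  have ha : a ≠ 0 := fun e => hlam (by rw [e, mul_zero])
  have heig : ∀ (ν : F) (t : F) (e : V), t ^ 3 = 1 → ν = t * ((k : F) * k * a) → Y *ᵥ e = ν • e →
      ∃ μ : F, e = μ • u := by
    intro ν t e ht hν he
    obtain ⟨f0, f1, f2, rfl⟩ := hdec e
    rw [Matrix.mulVec_add, Matrix.mulVec_add, Matrix.mulVec_smul, Matrix.mulVec_smul, Matrix.mulVec_smul, hYv, hYm,
      hYu] at he
    obtain ⟨h0, h1, -⟩ := hzero (f0 * (a - ν)) (f0 * b + f1 * ((k : F) * a - ν))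
      (f0 * d + f1 * ((k : F) * b + β * a) + f2 * ((k : F) * k * a - ν)) (by
        rw [← sub_eq_zero] at he
        linear_combination (norm := module) he)
    have hf0 : f0 = 0 := (mul_eq_zero.1 h0).resolve_right fun e0 => hk2 (one_of_cube c.mod (by
        have h5 : t * ((k : F) * k) = 1 := mul_right_cancel₀ ha (by linear_combination -hν - e0)
        calc ((k : F) * k) ^ 3 = (t * ((k : F) * k)) ^ 3 := by rw [mul_pow t, ht, one_mul]
          _ = 1 := by rw [h5, one_pow]) (by rw [mul_pow, hkp]))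
    have hf1 : f1 = 0 := by
      rw [hf0, zero_mul, zero_add] at h1
      refine (mul_eq_zero.1 h1).resolve_right fun e0 => hk2 ?_
      have h5 : t * (k : F) = 1 := by
        refine mul_right_cancel₀ (mul_ne_zero (left_ne_zero_of_mul (left_ne_zero_of_mul hlam)) ha) ?_
        linear_combination -hν - e0
      rw [one_of_cube c.mod (by
        calc (k : F) ^ 3 = (t * (k : F)) ^ 3 := by rw [mul_pow, ht, one_mul]
          _ = 1 := by rw [h5, one_pow]) hkp, one_mul]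
    exact ⟨f2, by rw [hf0, hf1, zero_smul, zero_smul, zero_add, zero_add]⟩
  obtain ⟨ζ, hζ⟩ := commute_pr.1 (hzy.map (PX X).subtype : Commute (pr (gz : GL (Fin 3) F)) (pr (gy : GL (Fin 3) F)))
  have hζ3 := cube_of_comm hζ
  rw [← hY] at hζ
  obtain ⟨μ, hμ⟩ := heig (ζ ^ 2 * ((k : F) * k * a)) (ζ ^ 2) (((gz : GL (Fin 3) F) : M₃) *ᵥ u)
    (by rw [← pow_mul, mul_comm, pow_mul, hζ3, one_pow]) rfl (by
      have h1 := congrArg (fun q => ζ ^ 2 • (q *ᵥ u)) hζ
      simp only [Matrix.smul_mulVec, ← Matrix.mulVec_mulVec, smul_smul, ← pow_succ, hζ3, one_smul, hYu,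
        Matrix.mulVec_smul] at h1
      exact h1.symm)
  -- the conjugate
  obtain ⟨Z, hZ⟩ : ∃ Z : M₃, Z = ((gz : GL (Fin 3) F) : M₃) := ⟨_, rfl⟩
  obtain ⟨Zi, hZi⟩ : ∃ Zi : M₃, Zi = (((gz : GL (Fin 3) F)⁻¹ : GL (Fin 3) F) : M₃) := ⟨_, rfl⟩
  have hZZi : Z * Zi = 1 := by rw [hZ, hZi, Units.mul_inv]
  have hZiZ : Zi * Z = 1 := by rw [hZ, hZi, Units.inv_mul]
  rw [← hZ] at hμ
  obtain ⟨N', hN'⟩ : ∃ N' : M₃, N' = Z * N * Zi := ⟨_, rfl⟩
  have hg' : (((gz * gx * gz⁻¹ : X) : GL (Fin 3) F) : M₃) = 1 + N' := by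
    simp only [Subgroup.coe_mul, Subgroup.coe_inv, Units.val_mul, hgN, ← hZ, ← hZi, hN', mul_add, add_mul, mul_one,
      hZZi]
  have hN'3 : N' * N' * N' = 0 := by
    rw [hN']
    calc Z * N * Zi * (Z * N * Zi) * (Z * N * Zi) = Z * (N * (Zi * Z) * N * (Zi * Z) * N) * Zi := by
          simp only [mul_assoc]
      _ = 0 := by rw [hZiZ, mul_one, mul_one, h3, mul_zero, zero_mul]
  have hμ0 : μ ≠ 0 := fun e => hu0 (by
    have h1 := congrArg (fun q => Zi *ᵥ q) hμ
    simp only [e, zero_smul, Matrix.mulVec_zero, Matrix.mulVec_mulVec, hZiZ, Matrix.one_mulVec] at h1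
    exact h1)
  have hZiu : Zi *ᵥ u = μ⁻¹ • u := by
    have h1 := congrArg (fun q => μ⁻¹ • (Zi *ᵥ q)) hμ
    simp only [Matrix.mulVec_mulVec, hZiZ, Matrix.one_mulVec, Matrix.mulVec_smul, smul_smul, inv_mul_cancel₀ hμ0,
      one_smul] at h1
    exact h1.symm
  have hN'u : N' *ᵥ u = 0 := by
    rw [hN', ← Matrix.mulVec_mulVec, ← Matrix.mulVec_mulVec, hZiu, Matrix.mulVec_smul, hNu, smul_zero,
      Matrix.mulVec_zero]
  have hperp : ∀ e, ∃ δ s : F, N' *ᵥ e = δ • m + s • u := fun e => by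
    have h1 := c.isom (gz * gx * gz⁻¹).2 e u
    rw [hg', Matrix.add_mulVec, Matrix.one_mulVec, Matrix.add_mulVec, Matrix.one_mulVec, hN'u, add_zero,
      frm_add_left] at h1
    obtain ⟨f0, f1, f2, hf⟩ := hdec (N' *ᵥ e)
    rw [hf, frm_add_left, frm_add_left, frm_smul_left, frm_smul_left, frm_smul_left, e2, e3, e4] at h1
    have hf0 : f0 = 0 := (mul_eq_zero.1 (show f0 * frm p m m = 0 by linear_combination -h1)).resolve_right hc0
    exact ⟨f1, f2, by rw [hf, hf0, zero_smul, zero_add]⟩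
  obtain ⟨δ, s, hN'm⟩ := hperp m
  obtain ⟨t, r, hN'v⟩ := hperp v
  have hδ : δ = 0 := by
    have h1 : N' *ᵥ (N' *ᵥ (N' *ᵥ m)) = 0 := by
      rw [Matrix.mulVec_mulVec, Matrix.mulVec_mulVec, hN'3, Matrix.zero_mulVec]
    simp only [hN'm, Matrix.mulVec_add, Matrix.mulVec_smul, hN'u, smul_zero, add_zero, smul_add, smul_smul] at h1
    obtain ⟨-, h2, -⟩ := hzero 0 (δ * δ * δ) (δ * δ * s) (by rw [zero_smul, zero_add]; exact h1)
    simpa using h2
  rw [hδ, zero_smul, zero_add] at hN'm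
  have hext : ∀ A B : M₃, A *ᵥ v = B *ᵥ v → A *ᵥ m = B *ᵥ m → A *ᵥ u = B *ᵥ u → A = B := fun A B h0 h1 h2 =>
    Matrix.ext_iff_mulVec.2 fun e => by
      obtain ⟨f0, f1, f2, rfl⟩ := hdec e
      simp only [Matrix.mulVec_add, Matrix.mulVec_smul, h0, h1, h2]
  have hDv : ∀ {q : V}, (N * N' - N' * N) *ᵥ q = N *ᵥ (N' *ᵥ q) - N' *ᵥ (N *ᵥ q) := fun {q} => by
    rw [Matrix.sub_mulVec, Matrix.mulVec_mulVec, Matrix.mulVec_mulVec]
  have hDu : (N * N' - N' * N) *ᵥ u = 0 := by rw [hDv, hN'u, hNu, Matrix.mulVec_zero, Matrix.mulVec_zero, sub_zero]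
  have hDm : (N * N' - N' * N) *ᵥ m = 0 := by
    rw [hDv, hN'm, ← hu, hN'u, Matrix.mulVec_smul, hNu, smul_zero, sub_zero]
  have hDv' : (N * N' - N' * N) *ᵥ v = (t - s) • u := by
    rw [hDv, hN'v, ← hm, hN'm, Matrix.mulVec_add, Matrix.mulVec_smul, Matrix.mulVec_smul, ← hu, hNu, smul_zero,
      add_zero, sub_smul]
  obtain ⟨D, hD⟩ : ∃ D, D = N * N' - N' * N := ⟨_, rfl⟩
  rw [← hD] at hDu hDm hDv'
  have hDN : D * N = 0 := hext _ _ (by rw [← Matrix.mulVec_mulVec, ← hm, hDm, Matrix.zero_mulVec])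
    (by rw [← Matrix.mulVec_mulVec, ← hu, hDu, Matrix.zero_mulVec])
    (by rw [← Matrix.mulVec_mulVec, hNu, Matrix.mulVec_zero, Matrix.zero_mulVec])
  have hDN' : D * N' = 0 := hext _ _
    (by rw [← Matrix.mulVec_mulVec, hN'v, Matrix.mulVec_add, Matrix.mulVec_smul, Matrix.mulVec_smul, hDm, hDu,
      smul_zero, smul_zero, add_zero, Matrix.zero_mulVec])
    (by rw [← Matrix.mulVec_mulVec, hN'm, Matrix.mulVec_smul, hDu, smul_zero, Matrix.zero_mulVec])
    (by rw [← Matrix.mulVec_mulVec, hN'u, Matrix.mulVec_zero, Matrix.zero_mulVec])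
  have hDD : D * D = 0 := hext _ _
    (by rw [← Matrix.mulVec_mulVec, hDv', Matrix.mulVec_smul, hDu, smul_zero, Matrix.zero_mulVec])
    (by rw [← Matrix.mulVec_mulVec, hDm, Matrix.mulVec_zero, Matrix.zero_mulVec])
    (by rw [← Matrix.mulVec_mulVec, hDu, Matrix.mulVec_zero, Matrix.zero_mulVec])
  obtain ⟨gw, hgw⟩ : ∃ gw : X, gw = gz * gx * gz⁻¹ := ⟨_, rfl⟩
  rw [← hgw] at hg'
  have hc : (((gx * gw * (gw * gx)⁻¹ : X) : GL (Fin 3) F) : M₃) = 1 + D := by
    rw [Subgroup.coe_mul, Subgroup.coe_inv, Units.val_mul, Units.mul_inv_eq_iff_eq_mul, Subgroup.coe_mul, Subgroup.coe_mul,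
      Units.val_mul, Units.val_mul, hgN, hg']
    simp only [add_mul, one_mul, mul_add, mul_one, ← mul_assoc, hDN, hDN', zero_mul, add_zero]
    rw [hD]
    abel
  have hD0 := c.tv_free (gx * gw * (gw * gx)⁻¹).2 hc hDD
  rw [hD0, add_zero] at hc
  have hcom : Commute gw gx := (mul_inv_eq_one.1 (Subtype.ext (Units.ext hc))).symm
  have h1 := c.mem_zpowers_of_commute hxp hx1 (hcom.map (mkX X))
  rw [hgw, map_mul, map_mul, map_inv] at h1
  exact h1

end Std

end Cfsg.Agent.Classical.SUThree.Hess
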