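import Mathlib

/-!
A subgroup `S` meeting its conjugates only in a central subgroup `Z`, with an involution `T` central in `S`: the
products of two conjugates of `T` commute modulo `Z`.
-/

set_option autoImplicit false

namespace Cfsg.Agent.Classical.SUThree

variable {G : Type*} [Group G] [Finite G] {S Z : Subgroup G} {T : G}

/-- The hypotheses. -/
structure TIPair (S Z : Subgroup G) (T : G) : Prop where
  le : Z ≤ S
  central : ∀ z ∈ Z, ∀ g : G, g * z = z * g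
  mem : T ∈ S
  notMem : T ∉ Z
  sq : T * T = 1
  comm : ∀ s ∈ S, s * T = T * s
  ti : ∀ g : G, ∀ x ∈ S, x ∉ Z → g * x * g⁻¹ ∈ S → g ∈ S

variable (hd : TIPair S Z T)
include hd

omit [Finite G] in
theorem TIPair.conj_Z {z : G} (hz : z ∈ Z) (g : G) : g * z * g⁻¹ = z := by
  rw [hd.central z hz g, mul_inv_cancel_right]

omit [Finite G] in
theorem TIPair.pair_mem {k g : G} (hg : g * (T * (k * T * k⁻¹)) * g⁻¹ ∈ S) : T * (k * T * k⁻¹) ∈ Z := by
  by_contra hy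
  set y := T * (k * T * k⁻¹) with hy'
  have hTi : T⁻¹ = T := inv_eq_of_mul_eq_one_right hd.sq
  have hinv : y⁻¹ = T * y * T := by
    rw [hy', mul_inv_rev, mul_inv_rev, mul_inv_rev, hTi, inv_inv, ← mul_assoc T T, hd.sq, one_mul]
    simp only [mul_assoc]
  have hs : g * y * g⁻¹ ∉ Z := fun h => hy (by
    have := hd.conj_Z h g⁻¹
    rw [inv_inv, show g⁻¹ * (g * y * g⁻¹) * g = y by group] at this
    rw [this]; exact h)
  have hgT : g * T * g⁻¹ ∈ S := hd.ti _ _ hg hs (by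
    have h1 := inv_mem hg
    rwa [show (g * y * g⁻¹)⁻¹ = g * T * g⁻¹ * (g * y * g⁻¹) * (g * T * g⁻¹)⁻¹ by
      rw [mul_inv_rev (g * y), mul_inv_rev g y, inv_inv, hinv, mul_inv_rev (g * T), mul_inv_rev g T, inv_inv, hTi]
      group] at h1)
  have hgS : g ∈ S := hd.ti _ _ hd.mem hd.notMem hgT
  have hyS : y ∈ S := by
    have := mul_mem (mul_mem (inv_mem hgS) hg) hgS
    rwa [show g⁻¹ * (g * y * g⁻¹) * g = y by group] at this
  have hk : k ∈ S := hd.ti _ _ hd.mem hd.notMem (by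
    have := mul_mem hd.mem hyS
    rwa [hy', ← mul_assoc, hd.sq, one_mul] at this)
  refine hy ?_
  rw [hy', hd.comm k hk, mul_inv_cancel_right, hd.sq]
  exact one_mem Z

omit [Finite G] in
theorem TIPair.pair_mem' {a b g : G} (hg : g * (a * T * a⁻¹ * (b * T * b⁻¹)) * g⁻¹ ∈ S) :
    a * T * a⁻¹ * (b * T * b⁻¹) ∈ Z := by
  have e : a * T * a⁻¹ * (b * T * b⁻¹) = a * (T * (a⁻¹ * b * T * (a⁻¹ * b)⁻¹)) * a⁻¹ := by group
  rw [e] at hg ⊢
  rw [hd.conj_Z (hd.pair_mem (k := a⁻¹ * b) (g := g * a) ?_) a]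
  · exact hd.pair_mem (k := a⁻¹ * b) (g := g * a) (by convert hg using 1; group)
  · convert hg using 1; group

/-- Every conjugate of `T` inverts, modulo `Z`, the product of two conjugates. -/
theorem TIPair.inverts (a b c : G) : ∃ z ∈ Z, c * T * c⁻¹ * (a * T * a⁻¹ * (b * T * b⁻¹)) * (c * T * c⁻¹)⁻¹ =
    (a * T * a⁻¹ * (b * T * b⁻¹))⁻¹ * z := by
  classical
  haveI := Fintype.ofFinite G
  -- the elements with no conjugate in `S ∖ Z`
  obtain ⟨N, hN⟩ : ∃ N : Set G, N = {x | ∀ g, g * x * g⁻¹ ∈ S → x ∈ Z} := ⟨_, rfl⟩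
  let v := c * T * c⁻¹
  have hTi : T⁻¹ = T := inv_eq_of_mul_eq_one_right hd.sq
  have hv : v⁻¹ = v := by
    show (c * T * c⁻¹)⁻¹ = c * T * c⁻¹
    rw [mul_inv_rev, mul_inv_rev, inv_inv, hTi, mul_assoc]
  have hout : ∀ g : G, ∃ s ∈ S, (QuotientGroup.mk g : G ⧸ S).out = g * s := fun g => by
    obtain ⟨s, hs⟩ := QuotientGroup.mk_out_eq_mul S g
    exact ⟨s, s.2, hs⟩
  let F : (G ⧸ S) × Z → N := fun p => ⟨v * (p.1.out * T * p.1.out⁻¹) * p.2, by
    rw [hN]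
    intro g hg
    refine Z.mul_mem (hd.pair_mem' (g := g) ?_) p.2.2
    have h1 := mul_mem hg (hd.le (Z.inv_mem p.2.2))
    rw [show g * (v * (p.1.out * T * p.1.out⁻¹) * (p.2 : G)) * g⁻¹ * (p.2 : G)⁻¹ =
      g * (v * (p.1.out * T * p.1.out⁻¹)) * g⁻¹ * ((g * (p.2 : G) * g⁻¹) * (p.2 : G)⁻¹) by group,
      hd.conj_Z p.2.2, mul_inv_cancel, mul_one] at h1
    exact h1⟩
  have hFinj : Function.Injective F := by
    rintro ⟨p, z⟩ ⟨p', z'⟩ he
    have h1 : v * (p.out * T * p.out⁻¹) * (z : G) = v * (p'.out * T * p'.out⁻¹) * (z' : G) :=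
      congrArg Subtype.val he
    rw [mul_assoc v, mul_assoc v] at h1
    have h2 := mul_left_cancel h1
    have hz : (z' : G) * (z : G)⁻¹ ∈ Z := Z.mul_mem z'.2 (Z.inv_mem z.2)
    have h3 : p'.out⁻¹ * p.out * T * (p'.out⁻¹ * p.out)⁻¹ = T * ((z' : G) * (z : G)⁻¹) := by
      have : p.out * T * p.out⁻¹ = p'.out * T * p'.out⁻¹ * ((z' : G) * (z : G)⁻¹) := by
        rw [← mul_assoc, ← h2, mul_inv_cancel_right]
      calc p'.out⁻¹ * p.out * T * (p'.out⁻¹ * p.out)⁻¹ = p'.out⁻¹ * (p.out * T * p.out⁻¹) * p'.out := by group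
        _ = p'.out⁻¹ * (p'.out * T * p'.out⁻¹ * ((z' : G) * (z : G)⁻¹)) * p'.out := by rw [this]
        _ = T * (p'.out⁻¹ * ((z' : G) * (z : G)⁻¹) * p'.out) := by group
        _ = T * ((z' : G) * (z : G)⁻¹) := by
            have := hd.conj_Z hz p'.out⁻¹
            rw [inv_inv] at this
            rw [this]
    have hS : p'.out⁻¹ * p.out ∈ S :=
      hd.ti _ _ hd.mem hd.notMem (h3 ▸ S.mul_mem hd.mem (hd.le hz))
    have hpp : p = p' := by
      have := QuotientGroup.eq.2 hS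
      rw [QuotientGroup.out_eq', QuotientGroup.out_eq'] at this
      exact this.symm
    subst hpp
    exact Prod.ext rfl (Subtype.ext (mul_left_cancel h2))
  -- counting the complement
  let D := {x : G // x ∉ N}
  let E : (G ⧸ S) × {s : S // (s : G) ∉ Z} → D := fun p => ⟨p.1.out * (p.2.1 : G) * p.1.out⁻¹, by
    rw [hN]
    intro hx
    have h1 := hx p.1.out⁻¹ (by simpa [mul_assoc] using p.2.1.2)
    refine p.2.2 ?_
    have h2 := hd.conj_Z h1 p.1.out⁻¹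
    rw [inv_inv, show p.1.out⁻¹ * (p.1.out * (p.2.1 : G) * p.1.out⁻¹) * p.1.out = (p.2.1 : G) by group] at h2
    rw [h2]; exact h1⟩
  have hE : Function.Bijective E := by
    refine ⟨?_, ?_⟩
    · rintro ⟨p, s⟩ ⟨p', s'⟩ he
      have h1 : p.out * (s.1 : G) * p.out⁻¹ = p'.out * (s'.1 : G) * p'.out⁻¹ := congrArg Subtype.val he
      have h2 : p'.out⁻¹ * p.out * (s.1 : G) * (p'.out⁻¹ * p.out)⁻¹ = (s'.1 : G) := by
        calc p'.out⁻¹ * p.out * (s.1 : G) * (p'.out⁻¹ * p.out)⁻¹ = p'.out⁻¹ * (p.out * s.1 * p.out⁻¹) * p'.out := by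
              group
          _ = _ := by rw [h1]; group
      have hS := hd.ti _ _ s.1.2 s.2 (h2 ▸ s'.1.2)
      have hpp : p = p' := by
        have := QuotientGroup.eq.2 hS
        rw [QuotientGroup.out_eq', QuotientGroup.out_eq'] at this
        exact this.symm
      subst hpp
      exact Prod.ext rfl (Subtype.ext (Subtype.ext (mul_left_cancel (mul_right_cancel h1))))
    · rintro ⟨x, hx⟩
      rw [hN] at hx
      simp only [Set.mem_ofPred_eq, not_forall] at hx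
      obtain ⟨g, hg, hxZ⟩ := hx
      obtain ⟨s, hs, hp⟩ := hout g⁻¹
      refine ⟨⟨QuotientGroup.mk g⁻¹, ⟨s⁻¹ * (g * x * g⁻¹) * s, mul_mem (mul_mem (inv_mem hs) hg) hs⟩, fun h => hxZ ?_⟩,
        Subtype.ext ?_⟩
      · have h2 := hd.conj_Z (show s⁻¹ * (g * x * g⁻¹) * s ∈ Z from h) (g⁻¹ * s)
        rw [show g⁻¹ * s * (s⁻¹ * (g * x * g⁻¹) * s) * (g⁻¹ * s)⁻¹ = x by group] at h2
        rw [h2]; exact h
      · show (QuotientGroup.mk g⁻¹ : G ⧸ S).out * (s⁻¹ * (g * x * g⁻¹) * s) * _⁻¹ = x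
        rw [hp]; group
  have hcard : Nat.card N ≤ Nat.card ((G ⧸ S) × Z) := by
    have e1 : Nat.card N + Nat.card D = Nat.card G := by
      rw [← Nat.card_sum]
      exact Nat.card_congr (Equiv.Set.sumCompl N)
    have e2 : Nat.card {s : S // (s : G) ∉ Z} + Nat.card Z = Nat.card S := by
      rw [add_comm, ← Nat.card_congr (Subgroup.subgroupOfEquivOfLe hd.le).toEquiv, ← Nat.card_sum]
      exact Nat.card_congr (Equiv.Set.sumCompl ((Z.subgroupOf S : Subgroup S) : Set S))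
    rw [← Nat.card_congr (Equiv.ofBijective E hE), Nat.card_prod] at e1
    rw [← S.card_mul_index, ← e2, ← Subgroup.index_eq_card, add_mul] at e1
    rw [Nat.card_prod, ← Subgroup.index_eq_card, mul_comm S.index]
    rw [mul_comm S.index] at e1
    omega
  have hbij : Function.Bijective F :=
    (Nat.bijective_iff_injective_and_card F).2 ⟨hFinj, le_antisymm (Nat.card_le_card_of_injective F hFinj) hcard⟩
  obtain ⟨⟨p, z⟩, hp⟩ := hbij.2 ⟨a * T * a⁻¹ * (b * T * b⁻¹), by rw [hN]; exact fun g hg => hd.pair_mem' hg⟩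
  have h1 : v * (p.out * T * p.out⁻¹) * (z : G) = a * T * a⁻¹ * (b * T * b⁻¹) := congrArg Subtype.val hp
  refine ⟨(z : G) * z, Z.mul_mem z.2 z.2, ?_⟩
  show v * _ * v⁻¹ = _
  rw [← h1]
  have hw : (p.out * T * p.out⁻¹)⁻¹ = p.out * T * p.out⁻¹ := by
    rw [mul_inv_rev, mul_inv_rev, inv_inv, hTi, mul_assoc]
  have hvv : v * v = 1 := by rw [← mul_inv_cancel v, hv]
  rw [hv, mul_inv_rev, mul_inv_rev, hv, hw, ← mul_assoc v (v * _), ← mul_assoc v v, hvv, one_mul,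
    mul_assoc, ← hd.central _ z.2 v]
  calc p.out * T * p.out⁻¹ * (v * (z : G)) = p.out * T * p.out⁻¹ * v * (z : G) := by simp only [mul_assoc]
    _ = (z : G)⁻¹ * (p.out * T * p.out⁻¹ * v) * ((z : G) * z) := by
      rw [← hd.central _ (Z.inv_mem z.2)]
      group
    _ = _ := by simp only [mul_assoc]

/-- Products of two conjugates of `T` commute modulo `Z`. -/
theorem TIPair.commute_mod (a b c d : G) :
    ∃ z ∈ Z, (c * T * c⁻¹ * (d * T * d⁻¹)) * (a * T * a⁻¹ * (b * T * b⁻¹)) =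
      (a * T * a⁻¹ * (b * T * b⁻¹)) * (c * T * c⁻¹ * (d * T * d⁻¹)) * z := by
  obtain ⟨z₁, hz₁, h1⟩ := hd.inverts a b d
  obtain ⟨z₂, hz₂, h2⟩ := hd.inverts a b c
  generalize a * T * a⁻¹ * (b * T * b⁻¹) = x at h1 h2 ⊢
  generalize c * T * c⁻¹ = u at h2 ⊢
  generalize d * T * d⁻¹ = w at h1 ⊢
  refine ⟨z₂⁻¹ * z₁, Z.mul_mem (Z.inv_mem hz₂) hz₁, ?_⟩
  have h3 : u * x⁻¹ * u⁻¹ = x * z₂⁻¹ := by
    have := congrArg (·⁻¹) h2
    simp only [mul_inv_rev, inv_inv] at this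
    rw [← mul_assoc] at this
    rw [this, hd.central _ (Z.inv_mem hz₂)]
  rw [mul_inv_eq_iff_eq_mul] at h1
  calc u * w * x = u * (w * x) := mul_assoc _ _ _
    _ = u * (x⁻¹ * z₁ * w) := by rw [h1]
    _ = u * x⁻¹ * u⁻¹ * (u * (z₁ * w)) := by group
    _ = x * z₂⁻¹ * (u * (z₁ * w)) := by rw [h3]
    _ = x * (z₂⁻¹ * (u * (z₁ * w))) := mul_assoc _ _ _
    _ = x * (u * w * (z₂⁻¹ * z₁)) := by
      rw [← hd.central z₁ hz₁ w, ← mul_assoc u w z₁, ← mul_assoc z₂⁻¹ (u * w) z₁,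
        ← hd.central _ (Z.inv_mem hz₂) (u * w), mul_assoc (u * w)]
    _ = _ := (mul_assoc _ _ _).symm

end Cfsg.Agent.Classical.SUThree
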