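import Cfsg.Agent.Lib.Classical.SUThree.SLTwoTop
import Cfsg.Agent.Lib.Classical.MaxUnitSubfieldData

/-!
A transvection and a group of transvections on a secant give a full root group.
-/

set_option autoImplicit false
set_option linter.unusedSectionVars false

namespace Cfsg.Agent.Classical.SUThree

open Matrix Module MaxTv Cfsg.Agent.Grp.SL2

variable {F : Type*} [Field F] [Fintype F] {ι : Type} [Fintype ι] [DecidableEq ι]

local notation "V" => (ι → F)
local notation "Mn" => Matrix ι ι F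

/-- The fixed field of an automorphism. -/
def fixSub (σ : F ≃+* F) : Subfield F where
  carrier := {x | σ x = x}
  mul_mem' {a b} ha hb := by simp only [Set.mem_setOf_eq] at *; rw [map_mul, ha, hb]
  one_mem' := map_one σ
  add_mem' {a b} ha hb := by simp only [Set.mem_setOf_eq] at *; rw [map_add, ha, hb]
  zero_mem' := map_zero σ
  neg_mem' {a} ha := by simp only [Set.mem_setOf_eq] at *; rw [map_neg, ha]
  inv_mem' a ha := by simp only [Set.mem_setOf_eq] at *; rw [map_inv₀, ha]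

theorem mem_fixSub {σ : F ≃+* F} {x : F} : x ∈ fixSub σ ↔ σ x = x := Iff.rfl

variable {σ : F ≃+* F} {f : (ι → F) → (ι → F) → F} {M : Subgroup (GL ι F)}

theorem upt_of_pair (hs : Herm σ f) {a b : V} (ha : f a a = 0) (hb : f b b = 0) (hab : f a b ≠ 0) {κ : F}
    (hκ0 : κ ≠ 0) (hκ : κ + σ κ = 0) (hbM : InN M (qDisp f b κ))
    (hgen : ∀ K₁ : Subfield F, (∀ c, c + σ c = 0 → InN M (qDisp f a c) → c * κ * (f a b * σ (f a b)) ∈ K₁) →
      ∀ x, σ x = x → x ∈ K₁)
    (h3 : 3 ≤ Nat.card {c : F // c + σ c = 0 ∧ InN M (qDisp f a c)})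
    (hex : 4 ≤ Nat.card {c : F // c + σ c = 0 ∧ InN M (qDisp f a c)} ∨
      ∀ c, c + σ c = 0 → InN M (qDisp f a c) →
        c * κ * (f a b * σ (f a b)) * (c * κ * (f a b * σ (f a b))) ≠ -1) :
    UPt σ f M a := by
  classical
  obtain ⟨β, hβ⟩ : ∃ β, β = f a b := ⟨_, rfl⟩
  rw [← hβ] at hgen hex hab
  obtain ⟨N, hN⟩ : ∃ N, N = β * σ β := ⟨_, rfl⟩
  rw [← hN] at hgen hex
  have hσβ : σ β ≠ 0 := σ.map_ne_zero_iff.2 hab
  have hN0 : N ≠ 0 := hN ▸ mul_ne_zero hab hσβ
  have hσN : σ N = N := by rw [hN, map_mul, hs.invol, mul_comm]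
  have hσκ : σ κ = -κ := by linear_combination hκ
  obtain ⟨μ, hμ⟩ : ∃ μ, μ = κ * N := ⟨_, rfl⟩
  have hμ0 : μ ≠ 0 := hμ ▸ mul_ne_zero hκ0 hN0
  have hσμ : σ μ = -μ := by rw [hμ, map_mul, hσκ, hσN, neg_mul]
  obtain ⟨e', he'⟩ : ∃ e', e' = (σ β)⁻¹ • b := ⟨_, rfl⟩
  have he'e' : f e' e' = 0 := by rw [he', hs.smul_left, hs.smul_right, hb, mul_zero, mul_zero]
  have hee' : f a e' = 1 := by rw [he', hs.smul_right, map_inv₀, hs.invol, ← hβ, inv_mul_cancel₀ hab]
  have he'e : f e' a = 1 := by rw [hs.herm, hee', map_one]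
  have : Fintype (fixSub σ) := Fintype.ofFinite _
  let L : Matrix.SpecialLinearGroup (Fin 2) (fixSub σ) → V → V := fun A z =>
    z + ((((A.1 0 0 : fixSub σ) : F) - 1) * f z e' + (A.1 0 1 : F) / μ * f z a) • a +
      ((A.1 1 0 : F) * μ * f z e' + (((A.1 1 1 : fixSub σ) : F) - 1) * f z a) • e'
  have hL : ∀ A z, L A z = z + ((((A.1 0 0 : fixSub σ) : F) - 1) * f z e' + (A.1 0 1 : F) / μ * f z a) • a +
      ((A.1 1 0 : F) * μ * f z e' + (((A.1 1 1 : fixSub σ) : F) - 1) * f z a) • e' := fun _ _ => rfl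
  have hLmul : ∀ A B z, L A (L B z) = L (A * B) z := fun A B z => by
    have e00 : ((A * B).1 0 0 : F) = A.1 0 0 * B.1 0 0 + A.1 0 1 * B.1 1 0 := by
      simp [Matrix.mul_apply, Fin.sum_univ_two]
    have e01 : ((A * B).1 0 1 : F) = A.1 0 0 * B.1 0 1 + A.1 0 1 * B.1 1 1 := by
      simp [Matrix.mul_apply, Fin.sum_univ_two]
    have e10 : ((A * B).1 1 0 : F) = A.1 1 0 * B.1 0 0 + A.1 1 1 * B.1 1 0 := by
      simp [Matrix.mul_apply, Fin.sum_univ_two]
    have e11 : ((A * B).1 1 1 : F) = A.1 1 0 * B.1 0 1 + A.1 1 1 * B.1 1 1 := by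
      simp [Matrix.mul_apply, Fin.sum_univ_two]
    simp only [hL, e00, e01, e10, e11, hs.add_left, hs.smul_left, ha, he'e', hee', he'e, mul_zero, mul_one,
      add_zero, zero_add]
    match_scalars <;> field_simp <;> ring
  have hL1 : ∀ z, L 1 z = z := fun z => by simp [hL]
  have hup : ∀ (t : fixSub σ) z, L (up t) z = z + ((t : F) / μ * f z a) • a := fun t z => by rw [hL]; simp [up]
  let G : Subgroup (Matrix.SpecialLinearGroup (Fin 2) (fixSub σ)) :=
    { carrier := {A | ∃ T ∈ M, ∀ z, (T : Mn) *ᵥ z = L A z}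
      one_mem' := ⟨1, one_mem M, fun z => by rw [hL1, Units.val_one, Matrix.one_mulVec]⟩
      mul_mem' := fun {A B} hA hB => by
        obtain ⟨T, hT, hTx⟩ := hA
        obtain ⟨S, hS, hSx⟩ := hB
        exact ⟨T * S, mul_mem hT hS, fun z => by rw [Units.val_mul, ← Matrix.mulVec_mulVec, hSx, hTx, hLmul]⟩
      inv_mem' := fun {A} hA => by
        obtain ⟨T, hT, hTx⟩ := hA
        refine ⟨T⁻¹, inv_mem hT, fun z => ?_⟩
        conv_rhs => rw [← mulVec_inv_cancel T z, hTx, hLmul, inv_mul_cancel, hL1] }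
  have hlow : low 1 ∈ G := by
    obtain ⟨T, hT, hTx⟩ := hbM
    refine ⟨T, hT, fun z => ?_⟩
    rw [hTx, hL]
    simp [low, qDisp]
    rw [he', hs.smul_right, smul_smul, map_inv₀, hs.invol, hμ, hN]
    congr 1
    field_simp
  have hfix : ∀ c, c + σ c = 0 → c * κ * N ∈ fixSub σ := fun c hc => by
    rw [mem_fixSub, map_mul, map_mul, hσκ, hσN, show σ c = -c by linear_combination hc]; ring
  have hin : ∀ c (hc : c + σ c = 0), InN M (qDisp f a c) → (⟨c * κ * N, hfix c hc⟩ : fixSub σ) ∈ upPar G := by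
    intro c hc h
    obtain ⟨T, hT, hTx⟩ := h
    refine ⟨T, hT, fun z => ?_⟩
    rw [hTx, hup]
    simp only [qDisp, hμ]
    congr 2
    field_simp
  have hout : ∀ t ∈ upPar G, ∃ c, c + σ c = 0 ∧ InN M (qDisp f a c) ∧ c * κ * N = (t : F) := by
    rintro t ⟨T, hT, hTx⟩
    refine ⟨(t : F) / μ, ?_, ⟨T, hT, fun z => ?_⟩, by rw [hμ]; field_simp⟩
    · rw [map_div₀, mem_fixSub.1 t.2, hσμ, div_neg, add_neg_cancel]
    · rw [hTx, hup, qDisp]
  have hcard : Nat.card {c : F // c + σ c = 0 ∧ InN M (qDisp f a c)} ≤ Nat.card (upPar G) :=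
    Nat.card_le_card_of_injective (fun c => ⟨_, hin c.1 c.2.1 c.2.2⟩) fun c d e => by
      have e' := congrArg (fun z : upPar G => ((z : fixSub σ) : F)) e
      simp only at e'
      exact Subtype.ext (mul_right_cancel₀ hκ0 (mul_right_cancel₀ hN0 e'))
  have hall := up_all hlow (h3.trans hcard) (fun K₁ hK₁ => eq_top_iff.2 fun x _ => by
      have h1 := hgen (K₁.map (fixSub σ).subtype) (fun c hc h => ⟨_, hK₁ _ (hin c hc h), rfl⟩) x x.2
      obtain ⟨y, hy, hyx⟩ := Subfield.mem_map.1 h1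
      rwa [← Subtype.ext (show (y : F) = x from hyx)])
    (hex.imp (fun h => h.trans hcard) fun h t ht e => by
      obtain ⟨c, hc, hcM, hct⟩ := hout t ht
      refine h c hc hcM ?_
      rw [hct]
      simpa using congrArg (fun z : fixSub σ => (z : F)) e)
  intro c hc
  obtain ⟨T, hT, hTx⟩ := hall ⟨c * κ * N, hfix c hc⟩
  refine ⟨T, hT, fun z => ?_⟩
  rw [hTx, hup, hμ]
  congr 2
  field_simp

/-- The parameters of the transvections at a point. -/
def tvPar (hs : Herm σ f) (M : Subgroup (GL ι F)) {a : ι → F} (ha : f a a = 0) : AddSubgroup F where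
  carrier := {c | c + σ c = 0 ∧ InN M (qDisp f a c)}
  zero_mem' := ⟨by simp, ⟨1, one_mem M, fun x => by simp [qDisp]⟩⟩
  add_mem' {c d} hc hd := ⟨by rw [map_add]; linear_combination hc.1 + hd.1, (InN.add hc.2 hd.2 fun x => by
      simp only [qDisp, hs.add_left, hs.smul_left, ha, mul_zero, add_zero]).congr fun x => by
      simp only [qDisp]; rw [← add_smul, ← add_mul]⟩
  neg_mem' {c} hc := ⟨by rw [map_neg]; linear_combination -hc.1, (InN.neg hc.2 fun x => by
      simp only [qDisp, hs.toSesq.sub_left, hs.smul_left, ha, mul_zero, sub_zero]).congr fun x => by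
      simp only [qDisp]; rw [← neg_smul, neg_mul]⟩

theorem card_tvPar (hs : Herm σ f) {a : ι → F} (ha : f a a = 0) :
    Nat.card (tvPar hs M ha) = Nat.card {c : F // c + σ c = 0 ∧ InN M (qDisp f a c)} := rfl

end Cfsg.Agent.Classical.SUThree
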