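import Cfsg.Agent.Lib.Classical.MaxUnitMonBase
import Cfsg.Agent.Lib.Classical.MaxRational
import Cfsg.Agent.Lib.Classical.MaxUnitSubfieldData
import Cfsg.Agent.Lib.Classical.SUThree.RootPair

/-!
The monomial group of a three-dimensional special unitary group: the context and its elements.
-/

set_option autoImplicit false
set_option linter.unusedSectionVars false

namespace Cfsg.Agent.Classical.SUThree.Mon

open Matrix Module MaxTv MaxUnitMon
open MaxMon (IsMon)

variable {F : Type*} [Field F] [Fintype F] [DecidableEq F]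

local notation "M₃" => Matrix (Fin 3) (Fin 3) F

/-- `M` contains the monomial isometries of determinant one and consists of isometries. -/
structure Ctx (σ : F ≃+* F) (q : ℕ) (M : Subgroup (GL (Fin 3) F)) : Prop where
  circ : Circ σ q
  herm : Herm σ (dot (ι := Fin 3) σ)
  mon : ∀ m : GL (Fin 3) F, IsMon (m : M₃) →
    (∀ x y, dot σ ((m : M₃) *ᵥ x) ((m : M₃) *ᵥ y) = dot σ x y) → (m : M₃).det = 1 → m ∈ M
  iso : ∀ g ∈ M, ∀ x y, dot σ ((g : M₃) *ᵥ x) ((g : M₃) *ᵥ y) = dot σ x y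
  three : 3 ≤ q

namespace Ctx

variable {σ : F ≃+* F} {q : ℕ} {M : Subgroup (GL (Fin 3) F)} (X : Ctx σ q M)
include X

theorem exists_mon_mem (π : Equiv.Perm (Fin 3)) (x : Fin 3 → F) (hx : ∀ j, x j ∈ mu σ)
    (hdet : ((Equiv.Perm.sign π : ℤ) : F) * ∏ j, x j = 1) :
    ∃ m ∈ M, (∀ j, (m : M₃) *ᵥ Pi.single j 1 = Pi.single (π j) (x j)) ∧
      ∀ (z : Fin 3 → F) j, ((m : M₃) *ᵥ z) (π j) = x j * z j := by
  obtain ⟨g, hg, hgm, hgd⟩ := MaxMon.exists_mon π x fun j => mu_ne (hx j)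
  have hz := fun z j => MaxMon.mon_apply hg z j
  refine ⟨g, X.mon g hgm (fun a b => ?_) (by rw [hgd]; exact_mod_cast hdet), hg, hz⟩
  simp only [dot]
  rw [← Equiv.sum_comp π]
  refine Finset.sum_congr rfl fun j _ => ?_
  rw [hz, hz, map_mul]
  linear_combination (a j * σ (b j)) * mem_mu.1 (hx j)

theorem norm_fix (a : F) : σ (a * σ a) = a * σ a := by rw [map_mul, X.herm.invol, mul_comm]

theorem norm_ne {a : F} (ha : a ≠ 0) : a * σ a ≠ 0 :=
  mul_ne_zero ha fun e => ha (σ.map_eq_zero_iff.1 e)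

theorem conj_Q {T : GL (Fin 3) F} (hT : T ∈ M) {v : Fin 3 → F} {c : F} (h : InN M (qDisp (dot σ) v c)) :
    InN M (qDisp (dot σ) ((T : M₃) *ᵥ v) c) := by
  obtain ⟨S, hS, hSx⟩ := h
  refine ⟨T * S * T⁻¹, mul_mem (mul_mem hT hS) (inv_mem hT), fun x => ?_⟩
  rw [Units.val_mul, Units.val_mul, ← Matrix.mulVec_mulVec, ← Matrix.mulVec_mulVec, hSx, Matrix.mulVec_add,
    mulVec_inv_cancel, qDisp, qDisp, Matrix.mulVec_smul]
  rw [← X.iso T hT (((T⁻¹ : GL (Fin 3) F) : M₃) *ᵥ x) v, mulVec_inv_cancel]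

omit X in
/-- The element with the eigenvalue `l⁻²` at `u` and `l` orthogonally to it. -/
def Rot (σ : F ≃+* F) (M : Subgroup (GL (Fin 3) F)) (u : Fin 3 → F) (l : F) : Prop :=
  ∃ T ∈ M, ∀ z, (T : M₃) *ᵥ z = l • z + (((l * l)⁻¹ - l) * dot σ z u) • u

theorem rot_axis (c : Fin 3) {l : F} (hl : l ∈ mu σ) : Rot σ M (Pi.single c 1) l := by
  classical
  obtain ⟨m, hm, -, hz⟩ := X.exists_mon_mem 1 (Function.update (fun _ => l) c (l * l)⁻¹) (fun j => by
    by_cases h : j = c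
    · subst h; simpa using inv_mem_mu (mul_mem_mu hl hl)
    · simpa [h] using hl) (by
    have h1 : (Finset.univ.erase c).card = 2 := by simp
    rw [Finset.prod_update_of_mem (Finset.mem_univ c), ← Finset.erase_eq, Finset.prod_const, h1, map_one,
      Units.val_one, Int.cast_one, one_mul]
    field_simp [mu_ne hl])
  refine ⟨m, hm, fun z => funext fun j => ?_⟩
  have h := hz z j
  rw [Equiv.Perm.one_apply] at h
  rw [h, dot_single_right, map_one, mul_one, Pi.add_apply, Pi.smul_apply, Pi.smul_apply, smul_eq_mul, smul_eq_mul]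
  by_cases hj : j = c
  · subst hj; simp; ring
  · simp [hj]

theorem rot_map {u : Fin 3 → F} {l : F} (h : Rot σ M u l) {g : GL (Fin 3) F} (hg : g ∈ M) :
    Rot σ M ((g : M₃) *ᵥ u) l := by
  obtain ⟨T, hT, hTz⟩ := h
  refine ⟨g * T * g⁻¹, mul_mem (mul_mem hg hT) (inv_mem hg), fun z => ?_⟩
  rw [Units.val_mul, Units.val_mul, ← Matrix.mulVec_mulVec, ← Matrix.mulVec_mulVec, hTz, Matrix.mulVec_add,
    Matrix.mulVec_smul, Matrix.mulVec_smul, mulVec_inv_cancel, ← X.iso g hg (((g⁻¹ : GL (Fin 3) F) : M₃) *ᵥ z) u,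
    mulVec_inv_cancel]

/-- The vector `v` with its coordinate at `c` turned by `z`. -/
theorem conj_twist {v : Fin 3 → F} {d : F} (h : InN M (qDisp (dot σ) v d)) (c : Fin 3) {l : F} (hl : l ∈ mu σ) :
    InN M (qDisp (dot σ) (v + (((l * l * l)⁻¹ - 1) * v c) • Pi.single c 1) d) := by
  obtain ⟨T, hT, hTz⟩ := X.rot_axis c hl
  have h1 := X.conj_Q hT h
  rw [hTz, dot_single_right, map_one, mul_one] at h1
  refine h1.congr fun x => ?_
  have e : l • v + (((l * l)⁻¹ - l) * v c) • (Pi.single c 1 : Fin 3 → F) =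
      l • (v + (((l * l * l)⁻¹ - 1) * v c) • Pi.single c 1) := by
    have := mu_ne hl
    rw [smul_add, smul_smul]
    congr 2
    field_simp
  simp only [qDisp, e, X.herm.smul_right, smul_smul]
  congr 1
  linear_combination (d * dot σ x (v + (((l * l * l)⁻¹ - 1) * v c) • Pi.single c 1)) * mem_mu.1 hl

theorem irreducible {g : GL (Fin 3) F} (hg : g ∈ M) (hmon : ¬ IsMon (g : M₃)) :
    Geo.ActsIrreducibly (Geo.matrixSet M) := by
  classical
  intro W hW
  have hmem : ∀ m ∈ M, ∀ z ∈ W, (m : M₃) *ᵥ z ∈ W := fun m hm z hz =>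
    hW _ ⟨m, hm, rfl⟩ (Submodule.mem_map_of_mem (f := Matrix.toLin' _) hz)
  rcases eq_or_ne W ⊥ with h | h
  · exact Or.inl h
  refine Or.inr ?_
  -- a non-zero element of the circle whose cube is not one
  obtain ⟨l, hl, hl3⟩ : ∃ l ∈ mu σ, l * l * l ≠ 1 := by
    obtain ⟨l, hl, -, h3⟩ := X.circ.exists_generic X.three
    exact ⟨l, hl, fun e => h3 (by linear_combination e)⟩
  have hsingle : ∀ z ∈ W, ∀ c, Pi.single c (z c) ∈ W := fun z hz c => by
    obtain ⟨T, hT, hTz⟩ := X.rot_axis c hl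
    have h1 := W.sub_mem (hmem T hT z hz) (W.smul_mem l hz)
    rw [hTz, add_sub_cancel_left, dot_single_right, map_one, mul_one, mul_smul] at h1
    have hne : (l * l)⁻¹ - l ≠ 0 := fun e => hl3 (by
      have := mu_ne hl
      field_simp at e
      linear_combination -e)
    have h2 := W.smul_mem ((l * l)⁻¹ - l)⁻¹ h1
    rwa [smul_smul, inv_mul_cancel₀ hne, one_smul, ← Pi.single_smul, smul_eq_mul, mul_one] at h2
  obtain ⟨z, hz, hz0⟩ := Submodule.exists_mem_ne_zero_of_ne_bot h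
  obtain ⟨a, ha⟩ := Function.ne_iff.1 hz0
  have hea : Pi.single a (1 : F) ∈ W := by
    have := W.smul_mem (z a)⁻¹ (hsingle z hz a)
    rwa [← Pi.single_smul, smul_eq_mul, inv_mul_cancel₀ ha] at this
  have hall : ∀ b, Pi.single b (1 : F) ∈ W := fun b => by
    obtain ⟨π, hπ⟩ : ∃ π, π = Equiv.swap a b := ⟨_, rfl⟩
    obtain ⟨ε, hε⟩ : ∃ ε : F, ε = ((Equiv.Perm.sign π : ℤ) : F) := ⟨_, rfl⟩
    have hεε : ε * ε = 1 := by rcases Int.units_eq_one_or (Equiv.Perm.sign π) with h | h <;> simp [hε, h]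
    obtain ⟨m, hm, hme, -⟩ := X.exists_mon_mem π (Function.update 1 a ε) (fun j => by
      by_cases hj : j = a
      · subst hj; rw [Function.update_self, mem_mu, hε, map_intCast, ← hε]; exact hεε
      · simp [hj, one_mem_mu]) (by
      rw [Finset.prod_update_of_mem (Finset.mem_univ a), ← hε]; simpa using hεε)
    have h1 := hmem m hm _ hea
    rw [hme, Function.update_self, hπ, Equiv.swap_apply_left] at h1
    have h2 := W.smul_mem ε h1
    rwa [← Pi.single_smul, smul_eq_mul, hεε] at h2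
  refine eq_top_iff.2 fun y _ => ?_
  rw [← Finset.univ_sum_single y]
  refine Submodule.sum_mem _ fun i _ => ?_
  have := W.smul_mem (y i) (hall i)
  rwa [← Pi.single_smul, smul_eq_mul, mul_one] at this

end Ctx

end Cfsg.Agent.Classical.SUThree.Mon
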