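import Cfsg.Agent.Lib.Classical.SUThree.MonBase
import Cfsg.Agent.Lib.Classical.SUThree.Generator

/-!
Even `q`: a group of isometries in dimension three with the monomial ones and another element has all
transvections at some point. A transvection `T` at an image `v` of `e_p + ρ e_r` with a coordinate `c` of norm
`κ ∉ {0, 1}` moves the points `pt v c u` of the line of `e_c` and `v` by the involution `tau κ` of the circle,
the rotations at `e_c` multiply `u` by the cubes; this gives a second parameter at `v`.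
-/

set_option autoImplicit false
set_option linter.unusedSectionVars false

namespace Cfsg.Agent.Classical.SUThree.Mon

open Matrix Module MaxTv MaxUnitMon
open MaxMon (IsMon)

variable {F : Type*} [Field F] [Fintype F] [DecidableEq F]

local notation "M₃" => Matrix (Fin 3) (Fin 3) F

/-- The cubes on the circle. -/
def cubes (σ : F ≃+* F) : Finset F := (mu σ).image fun l => (l * l * l)⁻¹

/-- The multiplier of the transvection at the point `u`. -/
def den (κ u : F) : F := 1 + κ + κ * u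

/-- The involution of the circle. -/
def tau (σ : F ≃+* F) (κ u : F) : F := u * σ (den κ u) / den κ u

/-- The points of the line. -/
def pt (v : Fin 3 → F) (c : Fin 3) (u : F) : Fin 3 → F := v + ((u - 1) * v c) • Pi.single c 1

theorem pt_one (v : Fin 3 → F) (c : Fin 3) : pt v c 1 = v := by simp [pt]

theorem pt_apply (v : Fin 3 → F) (c : Fin 3) (u : F) : pt v c u c = u * v c := by simp [pt]; ring

theorem two_mul_sum_lt {f : ℕ} (hf : 4 ≤ f) :
    (Even f → 2 * ∑ j ∈ Finset.range (f / 2 + 1), (2 ^ j - 1) < 2 ^ f) ∧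
    (Odd f → 6 * ∑ j ∈ Finset.range (f / 2 + 1), (2 ^ j - 1) < 2 ^ f - 2) := by
  have hs : ∀ m, ∑ j ∈ Finset.range (m + 1), (2 ^ j - 1) + m + 2 = 2 ^ (m + 1) := fun m => by
    induction m with
    | zero => rfl
    | succ m ih =>
      rw [Finset.sum_range_succ]
      have : 1 ≤ 2 ^ (m + 1) := Nat.one_le_two_pow
      rw [pow_succ 2 (m + 1)]
      omega
  obtain ⟨m, hm⟩ : ∃ m, m = f / 2 := ⟨_, rfl⟩
  rw [← hm]
  have h1 := hs m
  obtain ⟨a, ha⟩ : ∃ a, a = 2 ^ m := ⟨_, rfl⟩
  rw [pow_succ, ← ha] at h1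
  have ha4 : 4 ≤ a := ha ▸ Nat.pow_le_pow_right two_pos (show 2 ≤ m by omega)
  have haa : 4 * a ≤ a * a := Nat.mul_le_mul_right a ha4
  constructor
  · rintro ⟨k, hk⟩
    rw [show f = m + m by omega, pow_add, ← ha]
    omega
  · rintro ⟨k, hk⟩
    rw [show f = m + m + 1 by omega, pow_succ, pow_add, ← ha]
    rcases Nat.lt_or_ge m 3 with h | h
    · obtain rfl : m = 2 := by omega
      subst ha
      omega
    · have : 8 * a ≤ a * a := Nat.mul_le_mul_right a (ha ▸ Nat.pow_le_pow_right two_pos h)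
      omega

namespace Ctx

variable {σ : F ≃+* F} {q : ℕ} {M : Subgroup (GL (Fin 3) F)} (X : Ctx σ q M) (h2 : (2 : F) = 0)
include X

theorem cubes_mem_mu {L : F} (hL : L ∈ cubes σ) : L ∈ mu σ := by
  obtain ⟨l, hl, rfl⟩ := Finset.mem_image.1 hL
  exact inv_mem_mu (mul_mem_mu (mul_mem_mu hl hl) hl)

theorem cubes_inv {L : F} (hL : L ∈ cubes σ) : L⁻¹ ∈ cubes σ := by
  obtain ⟨l, hl, rfl⟩ := Finset.mem_image.1 hL
  exact Finset.mem_image.2 ⟨l⁻¹, inv_mem_mu hl, by simp only [mul_inv]⟩

theorem cubes_conj {L : F} (hL : L ∈ cubes σ) : σ L ∈ cubes σ := by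
  rw [mu_inv (X.cubes_mem_mu hL)]; exact X.cubes_inv hL

theorem one_mem_cubes : (1 : F) ∈ cubes σ := Finset.mem_image.2 ⟨1, one_mem_mu, by simp⟩

theorem card_cubes : q + 1 ≤ 3 * (cubes σ).card := by
  rw [← X.circ.card_mu]
  refine Finset.card_le_mul_card_image (mu σ) 3 fun K _ => ?_
  refine le_trans (Finset.card_le_card (t := (Polynomial.nthRoots 3 K⁻¹).toFinset) fun z hz => ?_)
    ((Multiset.toFinset_card_le _).trans (Polynomial.card_nthRoots 3 _))
  rw [Finset.mem_filter] at hz
  rw [Multiset.mem_toFinset, Polynomial.mem_nthRoots (by norm_num), ← hz.2, inv_inv]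
  ring

/-- Without a third root of one every element of the circle is a cube. -/
theorem cubes_eq (h3 : ¬ 3 ∣ q + 1) : cubes σ = mu σ := by
  refine Finset.eq_of_subset_of_card_le (fun L hL => X.cubes_mem_mu hL) (le_of_eq ?_)
  refine (Finset.card_image_of_injOn fun a ha b hb e => ?_).symm
  simp only [_root_.inv_inj] at e
  have h1 : (a / b) ^ 3 = 1 := by
    rw [div_pow, div_eq_one_iff_eq (pow_ne_zero 3 (mu_ne hb))]
    linear_combination e
  have h4 : (a / b) ^ (q + 1) = 1 := by
    rw [div_pow, X.circ.pow_mu ha, X.circ.pow_mu hb, div_one]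
  have h5 := pow_gcd_eq_one.2 ⟨h1, h4⟩
  rw [(Nat.prime_three.coprime_iff_not_dvd.2 h3).gcd_eq_one, pow_one] at h5
  exact (div_eq_one_iff_eq (mu_ne hb)).1 h5

/-- With a third root of one the cubes are the kernel of a power map. -/
theorem mem_cubes_iff {m : ℕ} (hm : q + 1 = 3 * m) {u : F} (hu : u ∈ mu σ) : u ∈ cubes σ ↔ u ^ m = 1 := by
  have hsub : cubes σ ⊆ (Polynomial.nthRoots m (1 : F)).toFinset := fun L hL => by
    obtain ⟨l, hl, rfl⟩ := Finset.mem_image.1 hL
    rw [Multiset.mem_toFinset, Polynomial.mem_nthRoots (by omega), inv_pow, inv_eq_one,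
      show l * l * l = l ^ 3 by ring, ← pow_mul, ← hm]
    exact X.circ.pow_mu hl
  have heq := Finset.eq_of_subset_of_card_le hsub (by
    refine le_trans ((Multiset.toFinset_card_le _).trans (Polynomial.card_nthRoots m _)) ?_
    have := X.card_cubes
    omega)
  rw [heq, Multiset.mem_toFinset, Polynomial.mem_nthRoots (by omega)]

theorem cube_cover {u w : F} (hu : u ∈ mu σ) (huC : u ∉ cubes σ) (hw : w ∈ mu σ) :
    w ∈ cubes σ ∨ w / u ∈ cubes σ ∨ w / σ u ∈ cubes σ := by
  by_cases h3 : 3 ∣ q + 1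
  swap
  · exact absurd ((X.cubes_eq h3).symm ▸ hu) huC
  obtain ⟨m, hm⟩ := h3
  have hu0 := mu_ne hu
  have ha1 : u ^ m ≠ 1 := fun e => huC ((X.mem_cubes_iff hm hu).2 e)
  have hcube : ∀ x ∈ mu σ, (x ^ m) ^ 3 = 1 := fun x hx => by
    rw [← pow_mul, mul_comm, ← hm]; exact X.circ.pow_mu hx
  have ha := hcube u hu
  have hb := hcube w hw
  rw [X.mem_cubes_iff hm hw, X.mem_cubes_iff hm (div_eq_mul_inv w u ▸ mul_mem_mu hw (inv_mem_mu hu)),
    mu_inv hu, div_inv_eq_mul, X.mem_cubes_iff hm (mul_mem_mu hw hu), div_pow, mul_pow,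
    div_eq_one_iff_eq (pow_ne_zero _ hu0)]
  generalize u ^ m = a at *
  generalize w ^ m = b at *
  have h1 : a * a + a + 1 = 0 :=
    (mul_eq_zero.1 (show (a - 1) * (a * a + a + 1) = 0 by linear_combination ha)).resolve_left (sub_ne_zero.2 ha1)
  have h4 : (b - 1) * ((b - a) * (b - a * a)) = 0 := by linear_combination hb - ha + (a * b - b * b) * h1
  rcases mul_eq_zero.1 h4 with e | e
  · exact Or.inl (sub_eq_zero.1 e)
  rcases mul_eq_zero.1 e with e | e
  · exact Or.inr (Or.inl (sub_eq_zero.1 e))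
  · refine Or.inr (Or.inr ?_)
    rw [sub_eq_zero.1 e]
    linear_combination ha

include h2

theorem add_self (a : F) : a + a = 0 := by linear_combination a * h2

theorem sub_eq (a b : F) : a - b = a + b := by linear_combination -b * h2

theorem real_iff {d : F} : d + σ d = 0 ↔ σ d = d :=
  ⟨fun e => by linear_combination e - d * h2, fun e => by linear_combination e + d * h2⟩

variable {v : Fin 3 → F} {c : Fin 3}

section plane

variable (hv : dot σ v v = 0) (hκ0 : v c * σ (v c) ≠ 0) (hκ1 : v c * σ (v c) ≠ 1)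
  (hT : InN M (qDisp (dot σ) v 1))

local notation "κ" => v c * σ (v c)

omit X h2 in
theorem den_conj (hs : Herm σ (dot (ι := Fin 3) σ)) (u : F) : σ (den κ u) = den κ (σ u) := by
  simp only [den, map_add, map_mul, map_one, hs.invol]; ring

theorem norm_den {u : F} (hu : u ∈ mu σ) :
    den κ u * σ (den κ u) = 1 + κ * (1 + κ) * (u + σ u) := by
  rw [den_conj (hs := X.herm)]
  simp only [den]
  linear_combination (κ * κ) * mem_mu.1 hu + (κ + κ * κ) * h2

omit hv hT in
include hκ0 hκ1 in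
theorem den_ne {u : F} (hu : u ∈ mu σ) : den κ u ≠ 0 := by
  intro e
  have hu1 : σ u = u := by
    have e' := congrArg σ e
    rw [den_conj (hs := X.herm), map_zero] at e'
    refine mul_left_cancel₀ hκ0 ?_
    simp only [den] at e e'
    linear_combination e' - e
  have : u = 1 := by
    have h1 := mem_mu.1 hu
    rw [hu1] at h1
    have h3 : (u - 1) * (u - 1) = 0 := by linear_combination h1 + (1 - u) * h2
    exact sub_eq_zero.1 (mul_self_eq_zero.1 h3)
  rw [this] at e
  simp only [den] at e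
  exact one_ne_zero (show (1 : F) = 0 by linear_combination e - κ * h2)

include hκ0 hκ1

theorem tau_mem {u : F} (hu : u ∈ mu σ) : tau σ κ u ∈ mu σ := by
  have h0 := X.den_ne h2 hκ0 hκ1 hu
  have h0' : σ (den κ u) ≠ 0 := σ.map_ne_zero_iff.2 h0
  rw [mem_mu, tau, map_div₀, map_mul, X.herm.invol]
  field_simp
  linear_combination mem_mu.1 hu

omit hκ0 hκ1 in
theorem tau_conj (u : F) : σ (tau σ κ u) = tau σ κ (σ u) := by
  simp only [tau, map_div₀, map_mul, den_conj (hs := X.herm), X.herm.invol]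

theorem den_tau {u : F} (hu : u ∈ mu σ) : den κ (tau σ κ u) * den κ u = 1 := by
  have h0 := X.den_ne h2 hκ0 hκ1 hu
  have e : den κ (tau σ κ u) * den κ u = (1 + κ) * den κ u + κ * (u * σ (den κ u)) := by
    simp only [tau]
    rw [den]
    field_simp
  rw [e, den_conj (hs := X.herm)]
  simp only [den]
  linear_combination (κ * κ) * mem_mu.1 hu + (κ + κ * κ) * (1 + u) * h2

theorem tau_tau {u : F} (hu : u ∈ mu σ) : tau σ κ (tau σ κ u) = u := by
  have h0 := X.den_ne h2 hκ0 hκ1 hu
  have h0' : σ (den κ u) ≠ 0 := σ.map_ne_zero_iff.2 h0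
  have h1 : den κ (tau σ κ u) = (den κ u)⁻¹ := eq_inv_of_mul_eq_one_left (X.den_tau h2 hκ0 hκ1 hu)
  conv_lhs => rw [tau, h1, map_inv₀]
  rw [tau]
  field_simp

include hv hT

theorem step {u R : F} (hu : u ∈ mu σ) (h : InN M (qDisp (dot σ) (pt v c u) R)) :
    InN M (qDisp (dot σ) (pt v c (tau σ κ u)) (R * (den κ u * σ (den κ u)))) := by
  obtain ⟨T, hTM, hTx⟩ := hT
  have h1 := X.conj_Q hTM h
  have hd : dot σ (pt v c u) v = (u - 1) * κ := by
    rw [pt, X.herm.add_left, X.herm.smul_left, hv, dot_single_left]; ring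
  have hD := X.den_ne h2 hκ0 hκ1 hu
  have e : (T : M₃) *ᵥ pt v c u = den κ u • pt v c (tau σ κ u) := by
    have h3 : den κ u * (tau σ κ u - 1) = u - 1 := by
      rw [mul_sub, tau, mul_div_cancel₀ _ hD, den_conj (hs := X.herm)]
      simp only [den]
      linear_combination κ * mem_mu.1 hu
    have h4 : den κ u = 1 + (u - 1) * κ := by rw [den]; linear_combination κ * h2
    rw [hTx, qDisp, hd, one_mul]
    simp only [pt, smul_add, smul_smul]
    rw [show den κ u * ((tau σ κ u - 1) * v c) = (u - 1) * v c by rw [← mul_assoc, h3]]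
    nth_rw 1 [h4]
    module
  rw [e] at h1
  refine h1.congr fun z => ?_
  simp only [qDisp, X.herm.smul_right, smul_smul]
  congr 1
  ring

omit hv hκ0 hκ1 hT in
theorem twist {u R L : F} (hL : L ∈ cubes σ) (h : InN M (qDisp (dot σ) (pt v c u) R)) :
    InN M (qDisp (dot σ) (pt v c (L * u)) R) := by
  obtain ⟨l, hl, rfl⟩ := Finset.mem_image.1 hL
  have h1 := X.conj_twist h c hl
  rw [pt_apply] at h1
  convert h1 using 3
  simp only [pt]
  module

variable (hA : ∀ d, d + σ d = 0 → InN M (qDisp (dot σ) v d) → d = 0 ∨ d = 1)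
include hA

/-- The parameter at an image of a cube. -/
theorem back {z R : F} (hz : z ∈ cubes σ) (hR : σ R = R) (hR0 : R ≠ 0)
    (h : InN M (qDisp (dot σ) (pt v c (tau σ κ z)) R)) : R = den κ z * σ (den κ z) := by
  have hzm := X.cubes_mem_mu hz
  have h1 := X.step h2 hv hκ0 hκ1 hT (X.tau_mem h2 hκ0 hκ1 hzm) h
  rw [X.tau_tau h2 hκ0 hκ1 hzm] at h1
  have h3 := X.twist h2 (X.cubes_inv hz) h1
  rw [inv_mul_cancel₀ (mu_ne hzm), pt_one] at h3
  have hi : den κ (tau σ κ z) = (den κ z)⁻¹ := eq_inv_of_mul_eq_one_left (X.den_tau h2 hκ0 hκ1 hzm)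
  rw [hi, map_inv₀] at h3
  have h0 := X.den_ne h2 hκ0 hκ1 hzm
  have h0' : σ (den κ z) ≠ 0 := σ.map_ne_zero_iff.2 h0
  rcases hA _ ((X.real_iff h2).2 (by simp only [map_mul, map_inv₀, X.herm.invol, hR]; ring)) h3 with e | e
  · simp [hR0, h0, h0'] at e
  · field_simp at e
    linear_combination e

/-- There is a second parameter. -/
theorem single_false : False := by
  have hs := X.herm
  have hq := X.three
  have hq2 : q % 2 = 0 := by
    by_contra hne
    have h1 := X.circ.cast_q
    rw [show q = 2 * (q / 2) + 1 by omega, Nat.cast_add, Nat.cast_mul, Nat.cast_ofNat, h2, zero_mul, zero_add,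
      Nat.cast_one] at h1
    exact one_ne_zero h1
  obtain ⟨z, hz, hz1⟩ := Finset.exists_mem_ne (show 1 < (cubes σ).card by have := X.card_cubes; omega) 1
  have hN : ∀ y ∈ cubes σ, σ (den κ y * σ (den κ y)) = den κ y * σ (den κ y) ∧ den κ y * σ (den κ y) ≠ 0 :=
    fun y hy => ⟨by rw [map_mul, hs.invol, mul_comm], X.norm_ne (X.den_ne h2 hκ0 hκ1 (X.cubes_mem_mu hy))⟩
  have hP : ∀ y ∈ cubes σ, InN M (qDisp (dot σ) (pt v c (tau σ κ y)) (den κ y * σ (den κ y))) := fun y hy => by
    have h1 : InN M (qDisp (dot σ) (pt v c y) 1) := by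
      have := X.twist h2 (v := v) (c := c) hy (u := 1) (R := 1) (by rw [pt_one]; exact hT)
      rwa [mul_one] at this
    have h3 := X.step h2 hv hκ0 hκ1 hT (X.cubes_mem_mu hy) h1
    rwa [one_mul] at h3
  have hne1 : ∀ y ∈ cubes σ, y ≠ 1 → den κ y * σ (den κ y) ≠ 1 := fun y hy hy1 e => by
    have hym := X.cubes_mem_mu hy
    rw [X.norm_den h2 hym] at e
    have h5 : y + σ y = 0 := by
      refine (mul_eq_zero.1 (show κ * (1 + κ) * (y + σ y) = 0 by linear_combination e)).resolve_left
        (mul_ne_zero hκ0 fun e0 => hκ1 (by linear_combination e0 - h2))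
    refine hy1 (sub_eq_zero.1 (mul_self_eq_zero.1 (show (y - 1) * (y - 1) = 0 by
      linear_combination y * h5 - mem_mu.1 hym - y * h2)))
  have hout : ∀ y ∈ cubes σ, y ≠ 1 → tau σ κ y ∉ cubes σ := fun y hy hy1 hm => by
    have h1 := X.twist h2 (X.cubes_inv hm) (hP y hy)
    rw [inv_mul_cancel₀ (mu_ne (X.cubes_mem_mu hm)), pt_one] at h1
    rcases hA _ ((X.real_iff h2).2 (hN y hy).1) h1 with e | e
    · exact (hN y hy).2 e
    · exact hne1 y hy hy1 e
  have hzm := X.cubes_mem_mu hz
  have hsame : den κ (σ z) * σ (den κ (σ z)) = den κ z * σ (den κ z) := by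
    rw [← den_conj (hs := hs), hs.invol, mul_comm]
  -- the parameter at any point outside the cubes
  have hpar : ∀ w R, w ∈ mu σ → w ∉ cubes σ → σ R = R → R ≠ 0 → InN M (qDisp (dot σ) (pt v c w) R) →
      R = den κ z * σ (den κ z) := by
    intro w R hw hwC hR hR0 hwR
    have hu := X.tau_mem h2 hκ0 hκ1 hzm
    rcases X.cube_cover hu (hout z hz hz1) hw with e | e | e
    · exact absurd e hwC
    · have h1 := X.twist h2 (X.cubes_inv e) hwR
      rw [inv_div, div_mul_cancel₀ _ (mu_ne hw)] at h1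
      exact X.back h2 hv hκ0 hκ1 hT hA hz hR hR0 h1
    · have h1 := X.twist h2 (X.cubes_inv e) hwR
      rw [inv_div, div_mul_cancel₀ _ (mu_ne hw), X.tau_conj h2] at h1
      rw [X.back h2 hv hκ0 hκ1 hT hA (X.cubes_conj hz) hR hR0 h1, hsame]
  have hsub : cubes σ ⊆ {1, z, σ z} := by
    intro y hy
    simp only [Finset.mem_insert, Finset.mem_singleton]
    by_cases hy1 : y = 1
    · exact Or.inl hy1
    have hym := X.cubes_mem_mu hy
    have h1 := hpar _ _ (X.tau_mem h2 hκ0 hκ1 hym) (hout y hy hy1) (hN y hy).1 (hN y hy).2 (hP y hy)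
    rw [X.norm_den h2 hym, X.norm_den h2 hzm] at h1
    have h3 : y + σ y = z + σ z := mul_left_cancel₀
      (mul_ne_zero hκ0 fun e0 => hκ1 (show κ = 1 by linear_combination e0 - h2)) (add_left_cancel h1)
    have h4 : (y - z) * (y - σ z) = 0 := by
      linear_combination y * h3 - mem_mu.1 hym + mem_mu.1 hzm
    rcases mul_eq_zero.1 h4 with e | e
    · exact Or.inr (Or.inl (sub_eq_zero.1 e))
    · exact Or.inr (Or.inr (sub_eq_zero.1 e))
  have hcard : (cubes σ).card ≤ 3 := (Finset.card_le_card hsub).trans Finset.card_le_three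
  have h3 : 3 ∣ q + 1 := by
    by_contra h
    rw [X.cubes_eq h, X.circ.card_mu] at hcard
    omega
  have hq8 : q = 8 := by have := X.card_cubes; omega
  have hzz : z * z = z + 1 := by
    have h5 := (X.mem_cubes_iff (m := 3) (by omega) hzm).1 hz
    have h6 : z * z + z + 1 = 0 :=
      (mul_eq_zero.1 (show (z - 1) * (z * z + z + 1) = 0 by linear_combination h5)).resolve_left (sub_ne_zero.2 hz1)
    linear_combination h6 - (z + 1) * h2
  have hσz : σ z = z + 1 := by
    refine mul_left_cancel₀ (mu_ne hzm) ?_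
    linear_combination mem_mu.1 hzm - hzz - z * h2
  -- the next point
  have hu1 := X.tau_mem h2 hκ0 hκ1 hzm
  have hP1 := X.twist h2 hz (hP z hz)
  have hm2 := mul_mem_mu hzm hu1
  have hP2 := X.step h2 hv hκ0 hκ1 hT hm2 hP1
  obtain ⟨E, hE⟩ : ∃ E, E = 1 + κ + κ * κ * z := ⟨_, rfl⟩
  have hκc : σ κ = κ := by rw [map_mul, hs.invol, mul_comm]
  have hDE : den κ z * den κ (z * tau σ κ z) = E := by
    have h0 := X.den_ne h2 hκ0 hκ1 hzm
    have e : den κ z * den κ (z * tau σ κ z) = (1 + κ) * den κ z + κ * (z * (z * σ (den κ z))) := by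
      simp only [tau]
      generalize den κ z = D at h0 ⊢
      simp only [den]
      field_simp
    rw [e, den_conj (hs := hs), hσz, hE]
    simp only [den]
    linear_combination (κ + κ * κ * z + 3 * κ * κ) * hzz + (κ * z + κ + 2 * κ * κ * z + 2 * κ * κ) * h2
  have hR2 : den κ z * σ (den κ z) * (den κ (z * tau σ κ z) * σ (den κ (z * tau σ κ z))) =
      1 + κ * κ * κ + κ * κ * κ * κ := by
    have : σ E = 1 + κ + κ * κ * (z + 1) := by rw [hE]; simp only [map_add, map_one, map_mul, hκc, hσz]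
    calc _ = E * σ E := by rw [← hDE, map_mul]; ring
      _ = _ := by
        rw [this, hE]
        linear_combination (κ * κ * (κ * κ)) * hzz +
          (κ + κ * κ + z * κ * κ + z * κ * κ * κ + z * κ * κ * κ * κ) * h2
  have hR1 : den κ z * σ (den κ z) = 1 + κ + κ * κ := by
    rw [X.norm_den h2 hzm, hσz]; linear_combination (z * (κ + κ * κ)) * h2
  rw [hR2] at hP2
  have hu2 := X.tau_mem h2 hκ0 hκ1 hm2
  have hreal : σ (1 + κ * κ * κ + κ * κ * κ * κ) = 1 + κ * κ * κ + κ * κ * κ * κ := by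
    simp only [map_add, map_one, map_mul, hs.invol]; ring
  have hne : 1 + κ * κ * κ + κ * κ * κ * κ ≠ 0 :=
    hR2 ▸ mul_ne_zero (hN z hz).2 (X.norm_ne (X.den_ne h2 hκ0 hκ1 hm2))
  have h1κ : 1 + κ ≠ 0 := fun e0 => hκ1 (by linear_combination e0 - h2)
  by_cases hC : tau σ κ (z * tau σ κ z) ∈ cubes σ
  · have h1 := X.twist h2 (X.cubes_inv hC) hP2
    rw [inv_mul_cancel₀ (mu_ne (X.cubes_mem_mu hC)), pt_one] at h1
    rcases hA _ ((X.real_iff h2).2 hreal) h1 with e | e
    · exact hne e
    · exact mul_ne_zero (mul_ne_zero (mul_ne_zero hκ0 hκ0) hκ0) h1κ (by linear_combination e)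
  · have e := hpar _ _ hu2 hC hreal hne hP2
    rw [hR1] at e
    exact mul_ne_zero hκ0 (mul_ne_zero (mul_ne_zero h1κ h1κ) h1κ)
      (show κ * ((1 + κ) * (1 + κ) * (1 + κ)) = 0 by
        linear_combination e + (κ + 2 * κ * κ + κ * κ * κ) * h2)

end plane

/-- An image of a monomial transvection centre with a general coordinate. -/
theorem exists_centre {g : GL (Fin 3) F} (hg : g ∈ M) (hmon : ¬ IsMon (g : M₃)) :
    ∃ (v : Fin 3 → F) (c : Fin 3), dot σ v v = 0 ∧ v c * σ (v c) ≠ 0 ∧ v c * σ (v c) ≠ 1 ∧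
      InN M (qDisp (dot σ) v 1) := by
  classical
  -- a row with two entries
  obtain ⟨i, p, r, hpr, hp, hr⟩ : ∃ i p r, p ≠ r ∧ (g : M₃) i p ≠ 0 ∧ (g : M₃) i r ≠ 0 := by
    by_contra hc
    push Not at hc
    refine hmon fun j => ?_
    by_contra hj
    push Not at hj
    obtain ⟨i₁, -, hi₁⟩ := hj 0
    obtain ⟨i₂, hne, hi₂⟩ := hj i₁
    have hrow : ∀ i, (g : M₃) i j ≠ 0 → ∀ k, k ≠ j → (g : M₃) i k = 0 := fun i hi k hk => hc i j k (Ne.symm hk) hi
    have hdet : (g : M₃).det = 0 := by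
      refine Matrix.exists_vecMul_eq_zero_iff.1
        ⟨Pi.single i₂ ((g : M₃) i₁ j) - Pi.single i₁ ((g : M₃) i₂ j), fun e0 => hi₁ ?_, funext fun k => ?_⟩
      · have := congrFun e0 i₂
        simpa [Pi.single_eq_of_ne hne] using this
      · rw [Matrix.sub_vecMul, Pi.sub_apply, Matrix.single_vecMul, Matrix.single_vecMul]
        by_cases hk : k = j
        · subst hk; simp [Matrix.row]; ring
        · simp [Matrix.row, hrow i₁ hi₁ k hk, hrow i₂ hi₂ k hk]
    exact ((Matrix.isUnit_iff_isUnit_det _).1 g.isUnit).ne_zero hdet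
  obtain ⟨a, ha⟩ : ∃ a, a = (g : M₃) i p := ⟨_, rfl⟩
  obtain ⟨b, hb⟩ : ∃ b, b = (g : M₃) i r := ⟨_, rfl⟩
  have hβ : σ a * b ≠ 0 := mul_ne_zero (σ.map_ne_zero_iff.2 (ha ▸ hp)) (hb ▸ hr)
  obtain ⟨ρ, hρ, h0, h1⟩ : ∃ ρ ∈ mu σ, (a + ρ * b) * σ (a + ρ * b) ≠ 0 ∧ (a + ρ * b) * σ (a + ρ * b) ≠ 1 := by
    by_contra hc
    push Not at hc
    have hsub : mu σ ⊆ ((mu σ).filter fun x => σ a * b * x + σ (σ a * b * x) = -(a * σ a + b * σ b)) ∪
        ((mu σ).filter fun x => σ a * b * x + σ (σ a * b * x) = 1 - (a * σ a + b * σ b)) := by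
      intro x hx
      have e : (a + x * b) * σ (a + x * b) = a * σ a + b * σ b + (σ a * b * x + σ (σ a * b * x)) := by
        simp only [map_add, map_mul, X.herm.invol]
        linear_combination (b * σ b) * mem_mu.1 hx
      rcases em ((a + x * b) * σ (a + x * b) = 0) with e' | e'
      · exact Finset.mem_union_left _ (Finset.mem_filter.2 ⟨hx, by linear_combination e' - e⟩)
      · exact Finset.mem_union_right _ (Finset.mem_filter.2 ⟨hx, by linear_combination hc x hx e' - e⟩)
    have h1 := (Finset.card_le_card hsub).trans (Finset.card_union_le _ _)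
    rw [X.circ.card_mu] at h1
    have h3 := line_fiber (σ := σ) hβ (-(a * σ a + b * σ b))
    have h4 := line_fiber (σ := σ) hβ (1 - (a * σ a + b * σ b))
    have h5 : q ≠ 3 := fun e => by
      have h6 := X.circ.cast_q
      rw [e, Nat.cast_ofNat] at h6
      exact one_ne_zero (show (1 : F) = 0 by linear_combination h6 - h2)
    have := X.three
    omega
  obtain ⟨w, hw⟩ : ∃ w : Fin 3 → F, w = Pi.single p 1 + Pi.single r ρ := ⟨_, rfl⟩
  refine ⟨(g : M₃) *ᵥ w, i, ?_, ?_, ?_, ?_⟩
  · rw [X.iso g hg, hw]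
    simp only [X.herm.add_left, X.herm.add_right, dot_single_right, Pi.single_eq_same, Pi.single_eq_of_ne hpr,
      Pi.single_eq_of_ne hpr.symm, map_one]
    linear_combination mem_mu.1 hρ + h2
  · convert h0 using 1
    simp [hw, Matrix.mulVec_add, Matrix.mulVec_single, ha, hb, mul_comm]
  · convert h1 using 1
    simp [hw, Matrix.mulVec_add, Matrix.mulVec_single, ha, hb, mul_comm]
  refine X.conj_Q hg ?_
  obtain ⟨x, hx⟩ : ∃ x : Fin 3 → F, x = fun j => if j = p then ρ else if j = r then σ ρ else 1 := ⟨_, rfl⟩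
  obtain ⟨m, hm, -, hmz⟩ := X.exists_mon_mem (Equiv.swap p r) x (fun j => by
    rw [hx]; dsimp only; split_ifs
    · exact hρ
    · rw [mu_inv hρ]; exact inv_mem_mu hρ
    · exact one_mem_mu) (by
    rw [Equiv.Perm.sign_swap hpr, Finset.prod_eq_mul p r hpr (fun j _ hj => by simp [hx, hj.1, hj.2])
      (by simp) (by simp)]
    simp only [hx, if_true, if_neg hpr.symm, Units.val_neg, Units.val_one, Int.cast_neg, Int.cast_one]
    linear_combination -mem_mu.1 hρ - h2)
  refine ⟨m, hm, fun z => funext fun j => ?_⟩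
  have hd : dot σ z w = z p + z r * σ ρ := by
    rw [hw, X.herm.add_right, dot_single_right, dot_single_right, map_one, mul_one]
  have hj := hmz z (Equiv.swap p r j)
  rw [Equiv.swap_apply_self] at hj
  rw [hj, Pi.add_apply, qDisp, Pi.smul_apply, smul_eq_mul, one_mul, hd, hw, Pi.add_apply]
  by_cases e1 : j = p
  · subst e1
    rw [Equiv.swap_apply_left, Pi.single_eq_same, Pi.single_eq_of_ne hpr, hx]
    simp only [if_neg hpr.symm, if_true]
    linear_combination -z j * h2
  by_cases e2 : j = r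
  · subst e2
    rw [Equiv.swap_apply_right, Pi.single_eq_same, Pi.single_eq_of_ne e1, hx]
    simp only [if_true]
    linear_combination -z j * mem_mu.1 hρ - z j * h2
  · rw [Equiv.swap_apply_of_ne_of_ne e1 e2, Pi.single_eq_of_ne e1, Pi.single_eq_of_ne e2, hx]
    simp [e1, e2]

/-- All transvections at some point. -/
theorem upt_even {g : GL (Fin 3) F} (hg : g ∈ M) (hmon : ¬ IsMon (g : M₃)) :
    ∃ w, w ≠ 0 ∧ dot σ w w = 0 ∧ UPt σ (dot σ) M w := by
  classical
  obtain ⟨v, c, hv, hκ0, hκ1, hT⟩ := X.exists_centre h2 hg hmon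
  refine ⟨v, fun e0 => hκ0 (by simp [e0]), hv, ?_⟩
  have hs := X.herm
  obtain ⟨d, hd, hdM, hd0, hd1⟩ : ∃ d, d + σ d = 0 ∧ InN M (qDisp (dot σ) v d) ∧ d ≠ 0 ∧ d ≠ 1 := by
    by_contra hc
    push Not at hc
    exact X.single_false h2 hv hκ0 hκ1 hT fun d hd hdM => or_iff_not_imp_left.2 (hc d hd hdM)
  have h1s : (1 : F) + σ 1 = 0 := by rw [map_one]; linear_combination h2
  have hmem : (1 : F) ∈ tvPar hs M hv ∧ d ∈ tvPar hs M hv := ⟨⟨h1s, hT⟩, hd, hdM⟩
  have h4 : 4 ≤ Nat.card {e : F // e + σ e = 0 ∧ InN M (qDisp (dot σ) v e)} := by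
    rw [← card_tvPar hs hv]
    have hle := Nat.card_le_card_of_injective
      (fun x : ({0, 1, d, 1 + d} : Finset F) => (⟨x.1, by
        have hx := x.2
        simp only [Finset.mem_insert, Finset.mem_singleton] at hx
        rcases hx with e | e | e | e <;> rw [e]
        exacts [zero_mem _, hmem.1, hmem.2, add_mem hmem.1 hmem.2]⟩ : tvPar hs M hv))
      fun x y e => Subtype.ext (congrArg Subtype.val e :)
    rw [Nat.card_eq_fintype_card (α := ({0, 1, d, 1 + d} : Finset F)), Fintype.card_coe] at hle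
    refine le_trans (le_of_eq ?_) hle
    rw [Finset.card_insert_of_notMem, Finset.card_insert_of_notMem, Finset.card_insert_of_notMem,
      Finset.card_singleton]
    · simpa using fun e : d = 1 + d => one_ne_zero (show (1 : F) = 0 by linear_combination -e)
    · simp only [Finset.mem_insert, Finset.mem_singleton, not_or]
      exact ⟨hd1.symm, fun e => hd0 (by linear_combination -e)⟩
    · simp only [Finset.mem_insert, Finset.mem_singleton, not_or]
      exact ⟨zero_ne_one, hd0.symm, fun e => hd1 (by linear_combination -e - h2)⟩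
  haveI : Fintype (fixSub σ) := Fintype.ofFinite _
  have hK : Fintype.card (fixSub σ) = q := by
    rw [← X.circ.card_fix, ← Nat.card_eq_fintype_card, ← Fintype.card_coe (fix σ), ← Nat.card_eq_fintype_card]
    exact Nat.card_congr (Equiv.subtypeEquivRight fun x => mem_fix.symm)
  haveI : CharP (fixSub σ) 2 := CharTwo.of_one_ne_zero_of_two_eq_zero one_ne_zero (Subtype.ext h2)
  obtain ⟨⟨f, hf0⟩, -, hf⟩ := FiniteField.card (fixSub σ) 2
  rw [hK] at hf
  simp only [PNat.mk_coe] at hf
  have hκc : σ (v c * σ (v c)) = v c * σ (v c) := by rw [map_mul, hs.invol, mul_comm]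
  have hval : ∀ y ∈ mu σ, dot σ v (pt v c y) * σ (dot σ v (pt v c y)) =
      v c * σ (v c) * (v c * σ (v c)) * (y + σ y) := fun y hy => by
    rw [pt, hs.add_right, hs.smul_right, hv, dot_single_right, map_one, mul_one, zero_add]
    simp only [map_mul, map_sub, map_one, hs.invol]
    linear_combination (v c * σ (v c) * (v c * σ (v c))) * mem_mu.1 hy +
      (v c * σ (v c) * (v c * σ (v c))) * (1 - y - σ y) * h2
  have hy0 : ∀ y ∈ cubes σ, y ≠ 1 → y + σ y ≠ 0 := fun y hy hy1 e =>
    hy1 (sub_eq_zero.1 (mul_self_eq_zero.1 (show (y - 1) * (y - 1) = 0 by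
      linear_combination y * e - mem_mu.1 (X.cubes_mem_mu hy) - y * h2)))
  have hTr : ∀ y ∈ mu σ, σ (v c * σ (v c) * (v c * σ (v c)) * (y + σ y)) =
      v c * σ (v c) * (v c * σ (v c)) * (y + σ y) := fun y _ => by
    simp only [map_mul, map_add, hs.invol]; ring
  obtain ⟨z, hz, hz1, x, hgenx, hxK⟩ : ∃ z ∈ cubes σ, z ≠ 1 ∧ ∃ x : fixSub σ,
      Subfield.closure ({x} : Set (fixSub σ)) = ⊤ ∧ ∀ K₁ : Subfield F,
        (∀ e, e ∈ tvPar hs M hv → e * 1 * (dot σ v (pt v c z) * σ (dot σ v (pt v c z))) ∈ K₁) → (x : F) ∈ K₁ := by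
    by_cases hf4 : f ≤ 3
    · obtain ⟨z, hz, hz1⟩ := Finset.exists_mem_ne (show 1 < (cubes σ).card by
        have := X.card_cubes
        have := X.three
        omega) 1
      refine ⟨z, hz, hz1, ?_⟩
      obtain ⟨S, hS⟩ : ∃ S : Finset (fixSub σ), S = {⟨d, (X.real_iff h2).1 hd⟩,
          ⟨1 + d, by rw [mem_fixSub, map_add, map_one, (X.real_iff h2).1 hd]⟩} := ⟨_, rfl⟩
      obtain ⟨x, hx, hgen⟩ := exists_gen Nat.prime_two (hK.trans hf) S (by
          rw [hS, Finset.mem_insert, Finset.mem_singleton]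
          rintro (e | e)
          · exact hd0 (congrArg Subtype.val e).symm
          · exact hd1 (show d = 1 by
              have e' : (0 : F) = 1 + d := congrArg Subtype.val e
              linear_combination -e' - h2))
        (by
          rw [hS, Finset.card_pair (fun e => one_ne_zero (show (1 : F) = 0 by
            have e' : d = 1 + d := congrArg Subtype.val e
            linear_combination -e'))]
          have : 1 ≤ f := hf0
          interval_cases f <;> decide)
      refine ⟨x, hgen, fun K₁ hK₁ => ?_⟩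
      have hN0 : dot σ v (pt v c z) * σ (dot σ v (pt v c z)) ≠ 0 := by
        rw [hval z (X.cubes_mem_mu hz)]
        exact mul_ne_zero (mul_ne_zero hκ0 hκ0) (hy0 z hz hz1)
      have hxA : (x : F) ∈ tvPar hs M hv := by
        rw [hS, Finset.mem_insert, Finset.mem_singleton] at hx
        rcases hx with rfl | rfl
        exacts [hmem.2, add_mem hmem.1 hmem.2]
      have := div_mem (hK₁ _ hxA) (hK₁ _ hmem.1)
      rwa [mul_div_mul_right _ _ hN0, mul_one, mul_one, div_one] at this
    · push Not at hf4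
      obtain ⟨S, hS⟩ : ∃ S : Finset (fixSub σ), S = ((cubes σ).erase 1).attach.image fun y =>
          (⟨_, hTr y.1 (X.cubes_mem_mu (Finset.mem_of_mem_erase y.2))⟩ : fixSub σ) := ⟨_, rfl⟩
      have hScard : (cubes σ).card - 1 ≤ 2 * S.card := by
        rw [← Finset.card_erase_of_mem X.one_mem_cubes, ← Finset.card_attach, hS]
        refine Finset.card_le_mul_card_image _ 2 fun K _ => ?_
        refine le_trans (Finset.card_le_card_of_injOn (fun y => y.1) (fun y hy => ?_) (Subtype.val_injective.injOn))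
          (line_fiber (σ := σ) (β := v c * σ (v c) * (v c * σ (v c))) (mul_ne_zero hκ0 hκ0) (K : F))
        rw [Finset.mem_coe, Finset.mem_filter] at hy
        rw [Finset.mem_coe, Finset.mem_filter]
        refine ⟨X.cubes_mem_mu (Finset.mem_of_mem_erase y.2), ?_⟩
        have := congrArg (fun k : fixSub σ => (k : F)) hy.2
        simp only [map_mul, hs.invol] at this ⊢
        linear_combination this
      obtain ⟨x, hx, hgen⟩ := exists_gen Nat.prime_two (hK.trans hf) S (by
          rw [hS, Finset.mem_image]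
          rintro ⟨⟨y, hy⟩, -, e⟩
          obtain ⟨hy1, hyC⟩ := Finset.mem_erase.1 hy
          exact mul_ne_zero (mul_ne_zero hκ0 hκ0) (hy0 y hyC hy1) (congrArg Subtype.val e))
        (by
          have hc := X.card_cubes
          obtain ⟨he, ho⟩ := two_mul_sum_lt (f := f) (by omega)
          rcases Nat.even_or_odd f with ⟨k, hk⟩ | h
          · have h3 : ¬ 3 ∣ q + 1 := by
              rw [hf, hk, ← two_mul, pow_mul, Nat.dvd_iff_mod_eq_zero, Nat.add_mod, Nat.pow_mod]
              norm_num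
            rw [X.cubes_eq h3, X.circ.card_mu] at hScard
            have := he ⟨k, hk⟩
            omega
          · have := ho h
            omega)
      rw [hS, Finset.mem_image] at hx
      obtain ⟨⟨z, hz⟩, -, rfl⟩ := hx
      obtain ⟨hz1, hzC⟩ := Finset.mem_erase.1 hz
      refine ⟨z, hzC, hz1, _, hgen, fun K₁ hK₁ => ?_⟩
      have := hK₁ 1 hmem.1
      rwa [one_mul, one_mul, hval z (X.cubes_mem_mu hzC)] at this
  have hzm := X.cubes_mem_mu hz
  have hb : InN M (qDisp (dot σ) (pt v c z) 1) := by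
    have := X.twist h2 (v := v) (c := c) hz (u := 1) (R := 1) (by rw [pt_one]; exact hT)
    rwa [mul_one] at this
  have hbb : dot σ (pt v c z) (pt v c z) = 0 := by
    simp only [pt, hs.add_left, hs.add_right, hs.smul_left, hs.smul_right, hv, dot_single_left, dot_single_right,
      Pi.single_eq_same, map_mul, map_sub, map_one]
    linear_combination (v c * σ (v c)) * mem_mu.1 hzm
  have hab : dot σ v (pt v c z) ≠ 0 := fun e0 => by
    have := hval z hzm
    rw [e0, zero_mul, eq_comm] at this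
    exact mul_ne_zero (mul_ne_zero hκ0 hκ0) (hy0 z hz hz1) this
  refine upt_of_pair hs hv hbb hab one_ne_zero h1s hb (fun K₁ hK₁ y hy => ?_) (le_trans (by norm_num) h4) (Or.inl h4)
  have hx : (x : F) ∈ K₁ := hxK K₁ fun e he => hK₁ e he.1 he.2
  have hle : Subfield.closure ({x} : Set (fixSub σ)) ≤ K₁.comap (fixSub σ).subtype :=
    Subfield.closure_le.2 (Set.singleton_subset_iff.2 hx)
  rw [hgenx] at hle
  exact hle (Subfield.mem_top (⟨y, hy⟩ : fixSub σ))

end Ctx

end Cfsg.Agent.Classical.SUThree.Mon
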