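import Cfsg.Agent.Lib.Classical.SUThree.SOThreeBase
import Cfsg.Agent.Lib.Classical.SUThree.Generator

/-!
A transvection over the orthogonal group gives a full root group.
-/

set_option autoImplicit false
set_option linter.unusedSectionVars false

namespace Cfsg.Agent.Classical.SUThree.SO3

open Matrix Module MaxTv

variable {F : Type*} [Field F] [Fintype F] {σ : F ≃+* F} {q : ℕ} {M : Subgroup (GL (Fin 3) F)}

local notation "M₃" => Matrix (Fin 3) (Fin 3) F

namespace Ctx

variable (hc : Ctx σ q M)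
include hc

theorem conj_Q {T : GL (Fin 3) F} (hT : T ∈ M) {v : Fin 3 → F} {c : F} (h : InN M (qDisp (B σ) v c)) :
    InN M (qDisp (B σ) ((T : M₃) *ᵥ v) c) := by
  obtain ⟨S, hS, hSx⟩ := h
  refine ⟨T * S * T⁻¹, mul_mem (mul_mem hT hS) (inv_mem hT), fun x => ?_⟩
  rw [Units.val_mul, Units.val_mul, ← Matrix.mulVec_mulVec, ← Matrix.mulVec_mulVec, hSx, Matrix.mulVec_add,
    mulVec_inv_cancel, qDisp, qDisp, Matrix.mulVec_smul]
  rw [← hc.iso T hT (((T⁻¹ : GL (Fin 3) F) : M₃) *ᵥ x) v, mulVec_inv_cancel]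

theorem exists_prime_pow : ∃ p f : ℕ, p.Prime ∧ p ≠ 2 ∧ q = p ^ f ∧ CharP F p := by
  obtain ⟨p, hp⟩ := CharP.exists F
  obtain ⟨m, hpp, hm⟩ := FiniteField.card F p
  have h : q ^ 2 = p ^ (m : ℕ) := hc.card.symm.trans hm
  obtain ⟨f, -, hf⟩ := (Nat.dvd_prime_pow hpp).1 (h ▸ dvd_pow_self q two_ne_zero : q ∣ p ^ (m : ℕ))
  exact ⟨p, f, hpp, fun e => hc.two (by subst e; exact_mod_cast CharP.cast_eq_zero F 2), hf, hp⟩

theorem card_fixF [Fintype (fixSub σ)] : Fintype.card (fixSub σ) = q := by
  rw [← Nat.card_eq_fintype_card]; exact hc.fixed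

theorem upt_of_tv' {v : Fin 3 → F} (hv : v 2 ≠ 0) (hvv : B σ v v = 0) {c : F} (hc0 : c ≠ 0) (hcs : c + σ c = 0)
    (ht : InN M (qDisp (B σ) v c)) : UPt σ (B σ) M v := by
  classical
  have : Fintype (fixSub σ) := Fintype.ofFinite _
  have hs := hc.herm
  have hσc : σ c = -c := by linear_combination hcs
  have h2 := hc.two
  obtain ⟨A, hA⟩ : ∃ A, A = v 2 * σ (v 2) / 2 := ⟨_, rfl⟩
  obtain ⟨S, hS⟩ : ∃ S, S = v 1 * σ (v 2) - v 2 * σ (v 1) := ⟨_, rfl⟩
  have hA0 : A ≠ 0 := hA ▸ div_ne_zero (mul_ne_zero hv (σ.map_ne_zero_iff.2 hv)) h2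
  have hσA : σ A = A := by rw [hA, map_div₀, map_mul, hc.invol, hc.two_fix]; ring
  have hσS : σ S = -S := by rw [hS, map_sub, map_mul, map_mul, hc.invol, hc.invol]; ring
  have hfixΦ : ∀ α, σ α = α → c * c * (α * α * (A * A * (α * α) - S * S)) ∈ fixSub σ := fun α hα => by
    rw [mem_fixSub]; simp only [map_mul, map_sub, hα, hσA, hσS, hσc]; ring
  have hpair : ∀ α, σ α = α → α ≠ 0 → A * A * (α * α) - S * S ≠ 0 := fun α hα hα0 e => by
    have h1 : (A * α - S) * (A * α + S) = 0 := by linear_combination e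
    rcases mul_eq_zero.1 h1 with h | h <;>
    · have h' := congrArg σ h
      simp only [map_sub, map_add, map_mul, hσA, hα, hσS, map_zero] at h'
      exact mul_ne_zero (mul_ne_zero h2 hA0) hα0 (by linear_combination h + h')
  have hbeta : ∀ α, σ α = α → B σ v (eMat α *ᵥ v) * σ (B σ v (eMat α *ᵥ v)) =
      α * α * (A * A * (α * α) - S * S) := fun α hα => by
    have e : B σ v (eMat α *ᵥ v) = α * S - α * α * A := by
      have h1 : v 0 * σ (v 2) + v 1 * σ (v 1) + v 2 * σ (v 0) = 0 := hvv
      rw [eMat_mulVec, B_eval]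
      simp [hα, hA, hS, hc.two_fix]
      field_simp
      linear_combination 2 * h1
    rw [e]; simp only [map_sub, map_mul, hα, hσA, hσS]; ring
  suffices hmain : ∀ α, σ α = α → α ≠ 0 →
      (∀ K₁ : Subfield F, c * c * (α * α * (A * A * (α * α) - S * S)) ∈ K₁ → ∀ x, σ x = x → x ∈ K₁) →
      (4 ≤ Nat.card {d : F // d + σ d = 0 ∧ InN M (qDisp (B σ) v d)} ∨
        c * c * (α * α * (A * A * (α * α) - S * S)) * (c * c * (α * α * (A * A * (α * α) - S * S))) ≠ -1) →
      UPt σ (B σ) M v by
    obtain ⟨p, f, hp, hp2, hqf, hcp⟩ := hc.exists_prime_pow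
    by_cases h9 : q = 9
    · -- the field with nine elements
      have hF81 : Fintype.card F = 81 := by rw [hc.card, h9]; norm_num
      have h3 : (3 : F) = 0 := by
        have := FiniteField.cast_card_eq_zero (K := F)
        rw [hF81] at this
        exact pow_eq_zero_iff (four_ne_zero) |>.1 (show (3 : F) ^ 4 = 0 by norm_num; exact this)
      have h9' : ∀ x, σ x = x → x ≠ 0 → x ^ 8 = 1 := fun x hx hx0 => by
        have h := FiniteField.pow_card_sub_one_eq_one (⟨x, hx⟩ : fixSub σ) fun e => hx0 (congrArg Subtype.val e)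
        rw [hc.card_fixF, h9] at h
        exact congrArg Subtype.val h
      have hskew : ∀ x, σ x = -x → x ≠ 0 → x ^ 8 = -1 := fun x hx hx0 => by
        rw [hc.frob, h9] at hx
        exact mul_right_cancel₀ hx0 (by linear_combination hx)
      obtain ⟨α, hα, hα0, hα4⟩ : ∃ α, σ α = α ∧ α ≠ 0 ∧ (A * A * (α * α) - S * S) ^ 4 = 1 := by
        obtain ⟨i, hi⟩ : IsSquare (-1 : fixSub σ) := FiniteField.isSquare_neg_one_iff.2 (by rw [hc.card_fixF, h9]; decide)
        have hi' : (i : F) * i = -1 := by simpa using (congrArg Subtype.val hi).symm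
        have hi0 : (i : F) ≠ 0 := fun e => by simp [e] at hi'
        by_contra hcon
        push Not at hcon
        have hsq : ∀ α, σ α = α → α ≠ 0 → (A * A * (α * α) - S * S) ^ 4 = -1 := fun α hα hα0 => by
          have h := h9' _ (show σ (A * A * (α * α) - S * S) = _ by
            simp only [map_mul, map_sub, hα, hσA, hσS]; ring) (hpair α hα hα0)
          rcases mul_eq_zero.1 (show ((A * A * (α * α) - S * S) ^ 4 - 1) * ((A * A * (α * α) - S * S) ^ 4 + 1) = 0 by
            linear_combination h) with h' | h'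
          · exact absurd (sub_eq_zero.1 h') (hcon α hα hα0)
          · linear_combination h'
        have hA8 := h9' A hσA hA0
        have e1 := hsq 1 (map_one σ) one_ne_zero
        have e2 := hsq (i : F) i.2 hi0
        rcases eq_or_ne S 0 with rfl | hS0
        · exact h2 (by linear_combination e1 - hA8)
        have hS8 := hskew S hσS hS0
        rw [hi'] at e2
        obtain ⟨a, ha⟩ : ∃ a, a = A * A := ⟨_, rfl⟩
        obtain ⟨z, hz⟩ : ∃ z, z = S * S := ⟨_, rfl⟩
        rw [← ha, ← hz] at e1 e2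
        have ha4 : a ^ 4 = 1 := by rw [← hA8, ha]; ring
        have hz4 : z ^ 4 = -1 := by rw [← hS8, hz]; ring
        have k1 : (a * 1 - z) ^ 4 = -(a ^ 3 * z + a * z ^ 3) := by
          linear_combination ha4 + hz4 + (-(a ^ 3 * z) + 2 * a ^ 2 * z ^ 2 - a * z ^ 3) * h3
        have k2 : (a * -1 - z) ^ 4 = a ^ 3 * z + a * z ^ 3 := by
          linear_combination ha4 + hz4 + (a ^ 3 * z + 2 * a ^ 2 * z ^ 2 + a * z ^ 3) * h3
        refine h2 ?_
        rw [show (1 : F) * 1 = 1 from one_mul 1] at e1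
        linear_combination e1 + e2 - k1 - k2
      obtain ⟨lam, hlam⟩ : ∃ lam, lam = c * c * (α * α * (A * A * (α * α) - S * S)) := ⟨_, rfl⟩
      have hl4 : lam ^ 4 = -1 := by
        rw [hlam, show (c * c * (α * α * (A * A * (α * α) - S * S))) ^ 4 = c ^ 8 * α ^ 8 * (A * A * (α * α) - S * S) ^ 4
          by ring, hskew c hσc hc0, h9' α hα hα0, hα4]
        ring
      refine hmain α hα hα0 (fun K₁ hK x hx => ?_) (Or.inr fun e => ?_)
      · rw [← hlam] at hK
        have hlf : σ lam = lam := hlam ▸ hfixΦ α hα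
        have h1 : lam ∈ K₁ ⊓ fixSub σ := ⟨hK, hlf⟩
        obtain ⟨L, hL⟩ : ∃ L : Subfield (fixSub σ), L = (K₁ ⊓ fixSub σ).comap (fixSub σ).subtype := ⟨_, rfl⟩
        have hlL : (⟨lam, hlf⟩ : fixSub σ) ∈ L := hL ▸ h1
        have : Fintype L := Fintype.ofFinite _
        suffices L = ⊤ by
          have hm : (⟨x, hx⟩ : fixSub σ) ∈ L := this ▸ Subfield.mem_top _
          rw [hL] at hm
          exact hm.1
        refine eq_top_iff.2 fun y _ => ?_
        by_contra hy
        have hlt : Fintype.card L < Fintype.card (fixSub σ) :=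
          Fintype.card_lt_of_injective_of_notMem (fun z : L => (z : fixSub σ)) Subtype.val_injective (b := y)
            (by rintro ⟨z, rfl⟩; exact hy z.2)
        have hd : Nat.card (fixSub σ) = Nat.card L ^ Module.finrank L (fixSub σ) := Module.natCard_eq_pow_finrank
        rw [Nat.card_eq_fintype_card, Nat.card_eq_fintype_card, hc.card_fixF, h9] at hd
        rw [hc.card_fixF, h9] at hlt
        have hdvd : Fintype.card L ∣ 3 ^ 2 := by
          rw [show (3 : ℕ) ^ 2 = 9 by norm_num]; exact hd ▸ dvd_pow_self _ Module.finrank_pos.ne'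
        obtain ⟨j, hj, hj'⟩ := (Nat.dvd_prime_pow Nat.prime_three).1 hdvd
        have hone := Fintype.one_lt_card (α := L)
        interval_cases j
        · omega
        · have h3' := FiniteField.pow_card_sub_one_eq_one (⟨⟨lam, hlf⟩, hlL⟩ : L) fun e => by
            have : lam = 0 := congrArg (fun z : L => ((z : fixSub σ) : F)) e
            rw [this] at hl4
            norm_num at hl4
          rw [hj'] at h3'
          have h4 : lam ^ 2 = 1 := congrArg (fun z : L => ((z : fixSub σ) : F)) h3'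
          exact h2 (by linear_combination hl4 - (lam ^ 2 + 1) * h4)
        · omega
      · rw [← hlam] at e
        exact h2 (by linear_combination hl4 - (lam * lam - 1) * e)
    · have hq7 := hc.seven
      obtain ⟨Φ, hΦ⟩ : ∃ Φ : fixSub σ → fixSub σ,
          Φ = fun α => ⟨c * c * ((α : F) * α * (A * A * ((α : F) * α) - S * S)), hfixΦ _ α.2⟩ := ⟨_, rfl⟩
      obtain ⟨D, hD⟩ : ∃ D : Finset (fixSub σ), D = Finset.univ.erase 0 := ⟨_, rfl⟩
      have hfib : D.card ≤ 4 * (D.image Φ).card := by
        refine Finset.card_le_mul_card_image D 4 fun b _ => ?_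
        obtain ⟨P, hP⟩ : ∃ P : Polynomial F, P = Polynomial.C (c * c * (A * A)) * Polynomial.X ^ 4 +
            Polynomial.C (-(c * c * (S * S))) * Polynomial.X ^ 2 + Polynomial.C (-(b : F)) := ⟨_, rfl⟩
        have hcc : c * c * (A * A) ≠ 0 := mul_ne_zero (mul_ne_zero hc0 hc0) (mul_ne_zero hA0 hA0)
        have hdeg : P.natDegree ≤ 4 := by rw [hP]; compute_degree
        have h4 : P.coeff 4 = c * c * (A * A) := by
          rw [hP]; simp only [Polynomial.coeff_add, Polynomial.coeff_C_mul_X_pow, Polynomial.coeff_C]; norm_num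
        have hP0 : P ≠ 0 := fun e => hcc (by rw [← h4, e, Polynomial.coeff_zero])
        refine le_trans (Finset.card_le_card_of_injOn (fun α : fixSub σ => (α : F)) (t := P.roots.toFinset) ?_
          (fun a _ b _ e => Subtype.ext e)) ((Multiset.toFinset_card_le _).trans ((Polynomial.card_roots' _).trans hdeg))
        intro α hα
        simp only [Finset.coe_filter, Set.mem_setOf_eq] at hα
        have h1 := congrArg Subtype.val hα.2
        rw [hΦ] at h1
        simp only [Finset.mem_coe, Multiset.mem_toFinset, Polynomial.mem_roots hP0, Polynomial.IsRoot]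
        rw [hP]
        simp only [Polynomial.eval_add, Polynomial.eval_mul, Polynomial.eval_C, Polynomial.eval_pow, Polynomial.eval_X]
        linear_combination h1
      have hDc : D.card = q - 1 := by
        rw [hD, Finset.card_erase_of_mem (Finset.mem_univ _), Finset.card_univ, hc.card_fixF]
      have hsum := four_mul_sum_lt hp hp2 (hqf ▸ hq7) (hqf ▸ h9)
      obtain ⟨lam, hlam, hgen⟩ := exists_gen hp (hc.card_fixF.trans hqf) (D.image Φ) (fun h0 => by
        obtain ⟨α, hα, hα'⟩ := Finset.mem_image.1 h0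
        rw [hD] at hα
        have hα0 : (α : F) ≠ 0 := fun e => (Finset.mem_erase.1 hα).1 (Subtype.ext e)
        rw [hΦ] at hα'
        have h1 := congrArg Subtype.val hα'
        exact mul_ne_zero (mul_ne_zero hc0 hc0) (mul_ne_zero (mul_ne_zero hα0 hα0) (hpair _ α.2 hα0)) h1)
        (by rw [← hqf] at hsum; omega)
      obtain ⟨α, hα, rfl⟩ := Finset.mem_image.1 hlam
      rw [hD] at hα
      have hα0 : (α : F) ≠ 0 := fun e => (Finset.mem_erase.1 hα).1 (Subtype.ext e)
      refine hmain α α.2 hα0 (fun K₁ hK x hx => ?_) ?_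
      · have hle : Subfield.closure ({Φ α} : Set (fixSub σ)) ≤ K₁.comap (fixSub σ).subtype :=
          Subfield.closure_le.2 (Set.singleton_subset_iff.2 (by rw [hΦ]; exact hK))
        rw [hgen] at hle
        exact hle (Subfield.mem_top ⟨x, hx⟩)
      · haveI := hcp
        haveI : Fact p.Prime := ⟨hp⟩
        by_cases hp3 : p = 3
        · refine Or.inr fun e => h9 ?_
          subst hp3
          have he : Φ α * Φ α = -1 := Subtype.ext (by rw [hΦ]; simpa using e)
          haveI : CharP (fixSub σ) 3 := inferInstance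
          have := Dickson.Gen.card_eq_nine hgen he
          rw [hc.card_fixF] at this
          exact this
        · refine Or.inl ?_
          have hp5 : 4 ≤ p := by
            have := hp.two_le
            rcases Nat.lt_or_ge p 4 with h | h
            · interval_cases p <;> simp_all
            · exact h
          refine hp5.trans ?_
          rw [← card_tvPar hs hvv]
          refine le_trans ?_ (Nat.le_of_dvd Nat.card_pos (addOrderOf_dvd_natCard
            (⟨c, hcs, ht⟩ : tvPar hs M hvv)))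
          rw [← AddSubgroup.addOrderOf_coe, addOrderOf_eq_prime (p := p) ?_ hc0]
          rw [nsmul_eq_mul, CharP.cast_eq_zero, zero_mul]
  intro α hα hα0 hgen hex
  obtain ⟨T, hT, hTv⟩ : ∃ T ∈ M, (T : M₃) = eMat α := ⟨_, hc.eMat_mem hα, coe_gl3 _ _⟩
  have hb : InN M (qDisp (B σ) (eMat α *ᵥ v) c) := hTv ▸ hc.conj_Q hT ht
  have hbb : B σ (eMat α *ᵥ v) (eMat α *ᵥ v) = 0 := by rw [hc.eMat_iso hα, hvv]
  have hN := hbeta α hα
  have hne : B σ v (eMat α *ᵥ v) ≠ 0 := fun e => by
    rw [e, zero_mul] at hN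
    exact mul_ne_zero (mul_ne_zero hα0 hα0) (hpair α hα hα0) hN.symm
  refine upt_of_pair hs hvv hbb hne hc0 hcs hb (fun K₁ hK x hx => hgen K₁ (hN ▸ hK c hcs ht) x hx) ?_ ?_
  · let g : Fin 3 → {d : F // d + σ d = 0 ∧ InN M (qDisp (B σ) v d)} :=
      ![⟨0, (tvPar hs M hvv).zero_mem⟩, ⟨c, hcs, ht⟩, ⟨-c, (tvPar hs M hvv).neg_mem ⟨hcs, ht⟩⟩]
    have hg : Function.Injective g := by
      intro i j e
      have e' := congrArg Subtype.val e
      have h20 : c ≠ -c := fun e1 => hc0 (mul_left_cancel₀ h2 (by linear_combination e1))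
      fin_cases i <;> fin_cases j <;> simp [g] at e' ⊢
      · exact hc0 e'.symm
      · exact hc0 e'
      · exact hc0 e'
      · exact h20 e'
      · exact hc0 e'
      · exact h20 e'.symm
    have := Nat.card_le_card_of_injective g hg
    rwa [Nat.card_fin] at this
  · rcases hex with h | h
    · exact Or.inl h
    by_cases h4 : 4 ≤ Nat.card {d : F // d + σ d = 0 ∧ InN M (qDisp (B σ) v d)}
    · exact Or.inl h4
    refine Or.inr fun d hd hdM e => h ?_
    -- the parameters are `0`, `c` and `-c`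
    have hd' : d = 0 ∨ d = c ∨ d = -c := by
      by_contra hcon
      push Not at hcon
      refine h4 ?_
      let g : Fin 4 → {d : F // d + σ d = 0 ∧ InN M (qDisp (B σ) v d)} :=
        ![⟨0, (tvPar hs M hvv).zero_mem⟩, ⟨c, hcs, ht⟩, ⟨-c, (tvPar hs M hvv).neg_mem ⟨hcs, ht⟩⟩, ⟨d, hd, hdM⟩]
      have hg : Function.Injective g := by
        intro i j e
        have e' := congrArg Subtype.val e
        have h20 : c ≠ -c := fun e1 => hc0 (mul_left_cancel₀ h2 (by linear_combination e1))
        fin_cases i <;> fin_cases j <;> simp [g] at e' ⊢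
        · exact hc0 e'.symm
        · exact hc0 e'
        · exact hcon.1 e'.symm
        · exact hc0 e'
        · exact h20 e'
        · exact hcon.2.1 e'.symm
        · exact hc0 e'
        · exact h20 e'.symm
        · exact hcon.2.2 e'.symm
        · exact hcon.1 e'
        · exact hcon.2.1 e'
        · exact hcon.2.2 e'
      have := Nat.card_le_card_of_injective g hg
      rwa [Nat.card_fin] at this
    rw [← hN]
    rcases hd' with rfl | rfl | rfl
    · simp at e
    · exact e
    · linear_combination e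

theorem upt_of_tv {v : Fin 3 → F} (hv : v ≠ 0) (hvv : B σ v v = 0) {c : F} (hc0 : c ≠ 0) (hcs : c + σ c = 0)
    (ht : InN M (qDisp (B σ) v c)) : ∃ w, w ≠ 0 ∧ B σ w w = 0 ∧ UPt σ (B σ) M w := by
  by_cases h2 : v 2 = 0
  · have h1 : v 1 = 0 := by
      have h := hvv
      rw [B_eval, h2, map_zero, mul_zero, zero_mul, zero_add, add_zero, mul_eq_zero] at h
      exact h.elim id (σ.map_eq_zero_iff.1)
    have h0 : v 0 ≠ 0 := fun h0 => hv (funext fun i => by fin_cases i <;> assumption)
    obtain ⟨T, hT, hTv⟩ : ∃ T ∈ M, (T : M₃) = wMat := ⟨_, hc.wMat_mem, coe_gl3 _ _⟩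
    obtain ⟨w, hw⟩ : ∃ w, w = wMat *ᵥ v := ⟨_, rfl⟩
    have hw2 : w 2 = v 0 := by rw [hw, wMat_mulVec]; rfl
    have hww : B σ w w = 0 := by rw [hw, ← hTv, hc.iso T hT, hvv]
    exact ⟨w, fun e => h0 (by rw [← hw2, e]; rfl), hww,
      hc.upt_of_tv' (hw2 ▸ h0) hww hc0 hcs (hw ▸ hTv ▸ hc.conj_Q hT ht)⟩
  · exact ⟨v, hv, hvv, hc.upt_of_tv' h2 hvv hc0 hcs ht⟩

end Ctx

end Cfsg.Agent.Classical.SUThree.SO3
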