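import Cfsg.Agent.Lib.Classical.SUThree.MonPlane
import Cfsg.Agent.Lib.Classical.SUThree.Generator
import Cfsg.Agent.Lib.Classical.SUThree.SOThreeTv

/-!
A monomial overgroup in odd characteristic: a full root group.
-/

set_option autoImplicit false
set_option linter.unusedSectionVars false

namespace Cfsg.Agent.Classical.SUThree.Mon

open Matrix Module MaxTv MaxUnitMon
open MaxMon (IsMon)

variable {F : Type*} [Field F] [Fintype F] [DecidableEq F] {σ : F ≃+* F} {q : ℕ} {M : Subgroup (GL (Fin 3) F)}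

local notation "M₃" => Matrix (Fin 3) (Fin 3) F

theorem exists_perm_of_pairs : ∀ c b j k : Fin 3, c ≠ b → j ≠ k →
    ∃ π : Equiv.Perm (Fin 3), π c = j ∧ π b = k := by decide +kernel

theorem exists_third' : ∀ c b : Fin 3, c ≠ b → ∃ a, a ≠ c ∧ a ≠ b := by decide +kernel

theorem univ_three : ∀ a b c : Fin 3, a ≠ c → a ≠ b → b ≠ c → (Finset.univ : Finset (Fin 3)) = {a, b, c} := by
  decide +kernel

theorem prod_distinct {A : Type*} [CommMonoid A] {a b c : Fin 3} (h1 : a ≠ c) (h2 : a ≠ b) (h3 : b ≠ c)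
    (φ : Fin 3 → A) : ∏ i, φ i = φ c * φ b * φ a := by
  rw [univ_three a b c h1 h2 h3, Finset.prod_insert (by simp [h1, h2]), Finset.prod_pair h3, mul_comm, mul_comm (φ b)]

/-- Small subfields against half the circle. -/
theorem two_mul_sum_le {p : ℕ} (h3 : 3 ≤ p) :
    ∀ k, 2 * ∑ j ∈ Finset.range (k + 1), (p ^ j - 1) ≤ 3 * (p ^ k - 1)
  | 0 => by simp
  | k + 1 => by
    have ih := two_mul_sum_le h3 k
    rw [Finset.sum_range_succ, mul_add]
    have h1 : 3 * p ^ k ≤ p ^ (k + 1) := by rw [pow_succ']; exact Nat.mul_le_mul_right _ h3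
    omega

namespace Ctx

variable (X : Ctx σ q M)
include X

theorem card_fixSub [Fintype (fixSub σ)] : Fintype.card (fixSub σ) = q := by
  rw [← X.circ.card_fix, ← Nat.card_eq_fintype_card,
    show Nat.card (fixSub σ) = Nat.card {x : F // x ∈ fix σ} from
      Nat.card_congr (Equiv.subtypeEquivRight fun x => by rw [mem_fixSub, mem_fix]),
    Nat.card_eq_fintype_card, Fintype.card_coe]

/-- A transvection gives all transvections with its centre. -/
theorem upt_of_tv (h2 : (2 : F) ≠ 0) {v : Fin 3 → F} (hv : v ≠ 0) (hvv : dot σ v v = 0) {d : F} (hd0 : d ≠ 0)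
    (hd : d + σ d = 0) (ht : InN M (qDisp (dot σ) v d)) : UPt σ (dot σ) M v := by
  classical
  have hs := X.herm
  obtain ⟨c, hc⟩ := Function.ne_iff.1 hv
  rw [Pi.zero_apply] at hc
  obtain ⟨N, hN⟩ : ∃ N, N = v c * σ (v c) := ⟨_, rfl⟩
  have hN0 : N ≠ 0 := hN ▸ X.norm_ne hc
  have hσN : σ N = N := hN ▸ X.norm_fix _
  have hσd : σ d = -d := by linear_combination hd
  have : Fintype (fixSub σ) := Fintype.ofFinite _
  -- field data
  obtain ⟨p, hpF⟩ := CharP.exists F
  obtain ⟨m, hpp, hm⟩ := FiniteField.card F p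
  obtain ⟨f, -, hqf⟩ := (Nat.dvd_prime_pow hpp).1
    ((X.circ.hF.symm.trans hm) ▸ dvd_pow_self q two_ne_zero : q ∣ p ^ (m : ℕ))
  have hp3 : 3 ≤ p := by
    have := hpp.two_le
    rcases Nat.lt_or_ge 2 p with h | h
    · omega
    · obtain rfl : p = 2 := by omega
      exact absurd (by exact_mod_cast CharP.cast_eq_zero F 2) h2
  -- the values
  obtain ⟨Z, hZ⟩ : ∃ Z, Z = ((mu σ).image fun l => (l * l * l)⁻¹).erase 1 := ⟨_, rfl⟩
  have hZmem : ∀ z ∈ Z, z ≠ 1 ∧ z ∈ mu σ ∧ ∃ l ∈ mu σ, z = (l * l * l)⁻¹ := fun z hz => by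
    rw [hZ, Finset.mem_erase, Finset.mem_image] at hz
    obtain ⟨hz1, l, hl, rfl⟩ := hz
    exact ⟨hz1, inv_mem_mu (mul_mem_mu (mul_mem_mu hl hl) hl), l, hl, rfl⟩
  obtain ⟨val, hval⟩ : ∃ val : F → F, val = fun z => d * d * (N * N) * (2 - (z + σ z)) := ⟨_, rfl⟩
  have hvalfix : ∀ z ∈ mu σ, σ (val z) = val z := fun z hz => by
    rw [hval]
    simp only [map_mul, map_sub, map_add, map_ofNat, hσd, hσN, X.herm.invol]
    ring
  have hval0 : ∀ z ∈ Z, val z ≠ 0 := fun z hz e => by
    obtain ⟨hz1, hzm, -⟩ := hZmem z hz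
    rw [hval] at e
    have e' := (mul_eq_zero.1 e).resolve_left (mul_ne_zero (mul_ne_zero hd0 hd0) (mul_ne_zero hN0 hN0))
    rw [mu_inv hzm] at e'
    have hz0 := mu_ne hzm
    field_simp at e'
    refine hz1 (sub_eq_zero.1 (mul_self_eq_zero.1 ?_))
    linear_combination -e'
  let Φ : {z // z ∈ Z} → fixSub σ := fun z => ⟨val z, hvalfix _ (hZmem _ z.2).2.1⟩
  obtain ⟨S, hS⟩ : ∃ S, S = Z.attach.image Φ := ⟨_, rfl⟩
  have hfib : Z.card ≤ 2 * S.card := by
    rw [hS]
    refine le_trans (le_of_eq Z.card_attach.symm) (Finset.card_le_mul_card_image Z.attach 2 fun k _ => ?_)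
    have hline := line_fiber (σ := σ) (one_ne_zero (α := F)) (2 - (k : F) / (d * d * (N * N)))
    refine le_trans (Finset.card_le_card_of_injOn (fun z : {z // z ∈ Z} => (z : F)) ?_
      (fun a _ b _ e => Subtype.ext e)) hline
    intro z hz
    simp only [Finset.coe_filter, Set.mem_setOf_eq] at hz
    have hk := congrArg Subtype.val hz.2
    simp only [Φ, hval] at hk
    simp only [Finset.coe_filter, Set.mem_setOf_eq, one_mul]
    refine ⟨(hZmem _ z.2).2.1, ?_⟩
    have hne : d * d * (N * N) ≠ 0 := mul_ne_zero (mul_ne_zero hd0 hd0) (mul_ne_zero hN0 hN0)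
    rw [← hk, mul_div_cancel_left₀ _ hne]
    ring
  -- the number of cubes
  have hmu : q + 1 ≤ 3 * (Z.card + 1) ∧ (¬ 3 ∣ q + 1 → q + 1 ≤ Z.card + 1) := by
    have hle : ((mu σ).image fun l => (l * l * l)⁻¹).card ≤ Z.card + 1 := by
      rw [hZ, Finset.card_erase_eq_ite]
      split_ifs <;> omega
    constructor
    · rw [← X.circ.card_mu]
      refine le_trans (Finset.card_le_mul_card_image (f := fun l => (l * l * l)⁻¹) (mu σ) 3 fun k _ => ?_)
        (Nat.mul_le_mul_left 3 hle)
      refine le_trans (Finset.card_le_card (t := (Polynomial.nthRoots 3 k⁻¹).toFinset) fun l hl => ?_)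
        ((Multiset.toFinset_card_le _).trans (Polynomial.card_nthRoots 3 _))
      rw [Finset.mem_filter] at hl
      rw [Multiset.mem_toFinset, Polynomial.mem_nthRoots (by norm_num), ← hl.2, inv_inv]
      ring
    · intro h3
      refine le_of_eq_of_le (X.circ.card_mu.symm.trans (Finset.card_image_of_injOn fun a ha b hb e => ?_).symm) hle
      have ha' := X.circ.mem_mu_iff.1 (Finset.mem_coe.1 ha)
      have hb' := X.circ.mem_mu_iff.1 (Finset.mem_coe.1 hb)
      have e' : a * a * a = b * b * b := inv_injective e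
      have hb0 := mu_ne (Finset.mem_coe.1 hb)
      have h1 : (a / b) ^ 3 = 1 := by rw [div_pow]; field_simp; linear_combination e'
      have h2' : (a / b) ^ (q + 1) = 1 := by rw [div_pow, ha', hb', div_one]
      have hcop : Nat.gcd 3 (q + 1) = 1 := (Nat.prime_three.coprime_iff_not_dvd.2 h3)
      have h4 := pow_gcd_eq_one.2 ⟨h1, h2'⟩
      rw [hcop, pow_one, div_eq_one_iff_eq hb0] at h4
      exact h4
  have hq3 := X.three
  -- subfields are few
  have hsum : ∑ j ∈ Finset.range (f / 2 + 1), (p ^ j - 1) < S.card := by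
    obtain ⟨a, ha⟩ : ∃ a, a = p ^ (f / 2) := ⟨_, rfl⟩
    have hs2 := two_mul_sum_le hp3 (f / 2)
    rw [← ha] at hs2
    have ha1 : 1 ≤ a := ha ▸ Nat.one_le_pow _ _ hpp.pos
    by_cases h3 : 3 ∣ q + 1
    · -- then `q` is `2` modulo `3`
      have hf1 : f % 2 = 1 := by
        by_contra hc'
        obtain ⟨k, rfl⟩ : 2 ∣ f := by omega
        have : q = p ^ k * p ^ k := by rw [hqf, two_mul, pow_add]
        obtain ⟨r, hr⟩ : ∃ r, r = p ^ k := ⟨_, rfl⟩
        rw [← hr] at this
        have hm3 := Nat.mul_mod r r 3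
        rcases (show r % 3 = 0 ∨ r % 3 = 1 ∨ r % 3 = 2 by omega) with e | e | e <;>
          rw [e, ← this] at hm3 <;> omega
      have hp5 : 5 ≤ p := by
        by_contra hc'
        have hp4 : p = 3 ∨ p = 4 := by omega
        rcases hp4 with rfl | rfl
        · have hq0 : 3 ∣ q := hqf ▸ dvd_pow_self 3 (by omega)
          omega
        · norm_num at hpp
      have hq5 : 5 * (a * a) ≤ q := by
        rw [hqf, ha, ← pow_add, show f = f / 2 + f / 2 + 1 by omega, pow_succ', show
          (f / 2 + f / 2 + 1) / 2 = f / 2 by omega]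
        exact Nat.mul_le_mul_right _ hp5
      have := hmu.1
      rcases Nat.lt_or_ge a 2 with h | h
      · omega
      · have : 2 * a ≤ a * a := Nat.mul_le_mul_right a h
        omega
    · have := hmu.2 h3
      have hq1 : a * a ≤ q := by
        rw [hqf, ha, ← pow_add]; exact Nat.pow_le_pow_right hpp.pos (by omega)
      rcases Nat.lt_or_ge a 3 with h | h
      · omega
      · have : 3 * a ≤ a * a := Nat.mul_le_mul_right a h
        omega
  obtain ⟨S', hS'⟩ : ∃ S', S' = if q = 9 then S.filter (fun x => x * x ≠ -1) else S := ⟨_, rfl⟩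
  have hsum' : ∑ j ∈ Finset.range (f / 2 + 1), (p ^ j - 1) < S'.card := by
    rw [hS']
    split_ifs with h9
    · have hpf : p = 3 ∧ f = 2 := by
        have hd9 : p ∣ 3 := hpp.dvd_of_dvd_pow (show p ∣ 3 ^ 2 by
          rw [show 3 ^ 2 = p ^ f by rw [← hqf, h9]; norm_num]
          refine dvd_pow_self p fun e => ?_
          rw [e, pow_zero] at hqf; omega)
        have hp' := (Nat.prime_dvd_prime_iff_eq hpp Nat.prime_three).1 hd9
        subst hp'
        refine ⟨rfl, Nat.pow_right_injective (show 2 ≤ 3 by norm_num) (show 3 ^ f = 3 ^ 2 by rw [← hqf, h9])⟩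
      obtain ⟨rfl, rfl⟩ := hpf
      have h4 := hmu.2 (by rw [h9]; decide)
      have hbad : (S.filter fun x => ¬ (x * x ≠ -1)).card ≤ 2 := by
        refine le_trans (Finset.card_le_card (t := (Polynomial.nthRoots 2 (-1 : fixSub σ)).toFinset) fun x hx => ?_)
          ((Multiset.toFinset_card_le _).trans (Polynomial.card_nthRoots 2 _))
        rw [Finset.mem_filter, not_not] at hx
        rw [Multiset.mem_toFinset, Polynomial.mem_nthRoots two_pos, pow_two]
        exact hx.2
      have hpart := Finset.card_filter_add_card_filter_not (s := S) (fun x => x * x ≠ -1)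
      have hval2 : ∑ j ∈ Finset.range (2 / 2 + 1), ((3 : ℕ) ^ j - 1) = 2 := rfl
      omega
    · exact hsum
  have hsubS : S' ⊆ S := by
    rw [hS']; split_ifs
    · exact Finset.filter_subset _ _
    · exact Finset.Subset.refl _
  obtain ⟨lam, hlam, hgen⟩ := exists_gen hpp (X.card_fixSub.trans hqf) S' (fun h0 => by
    have h0' := hsubS h0
    rw [hS] at h0'
    obtain ⟨z, -, hz⟩ := Finset.mem_image.1 h0'
    exact hval0 _ z.2 (congrArg Subtype.val hz)) hsum'
  have hlamS := hsubS hlam
  rw [hS] at hlamS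
  obtain ⟨z, -, hz⟩ := Finset.mem_image.1 hlamS
  obtain ⟨hz1, hzm, l, hl, hzl⟩ := hZmem _ z.2
  -- the partner
  obtain ⟨b, hb⟩ : ∃ b, b = v + (((z : F) - 1) * v c) • (Pi.single c 1 : Fin 3 → F) := ⟨_, rfl⟩
  have hbM : InN M (qDisp (dot σ) b d) := by rw [hb, hzl]; exact X.conj_twist ht c hl
  have hvb : dot σ v b = N * (σ (z : F) - 1) := by
    rw [hb, hs.add_right, hs.smul_right, hvv, dot_single_right, map_one, map_mul, map_sub, map_one, hN]
    ring
  have hbb : dot σ b b = 0 := by
    rw [hb, hs.add_left, hs.add_right, hs.add_right, hs.smul_left, hs.smul_left, hs.smul_right, hs.smul_right, hvv,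
      dot_single_right, dot_single_left, dot_single_right, Pi.single_eq_same, map_one, map_mul, map_sub, map_one]
    linear_combination (v c * σ (v c)) * mem_mu.1 hzm
  have hnorm : dot σ v b * σ (dot σ v b) = N * N * (2 - ((z : F) + σ z)) := by
    rw [hvb, map_mul, map_sub, map_one, hσN, hs.invol]
    linear_combination (N * N) * mem_mu.1 hzm
  have hlval : (lam : F) = d * d * (dot σ v b * σ (dot σ v b)) := by
    rw [← hz, hnorm]
    show val z = _
    rw [hval]; ring
  have hne : dot σ v b ≠ 0 := by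
    rw [hvb]
    refine mul_ne_zero hN0 (sub_ne_zero.2 fun e => hz1 ?_)
    have := congrArg σ e
    rwa [hs.invol, map_one] at this
  refine upt_of_pair hs hvv hbb hne hd0 hd hbM (fun K₁ hK x hx => ?_) ?_ ?_
  · have hle : Subfield.closure ({lam} : Set (fixSub σ)) ≤ K₁.comap (fixSub σ).subtype :=
      Subfield.closure_le.2 (Set.singleton_subset_iff.2 (by
        show (lam : F) ∈ K₁
        rw [hlval]; exact hK d hd ht))
    rw [hgen] at hle
    exact hle (Subfield.mem_top ⟨x, hx⟩)
  · let g : Fin 3 → {e : F // e + σ e = 0 ∧ InN M (qDisp (dot σ) v e)} :=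
      ![⟨0, (tvPar hs M hvv).zero_mem⟩, ⟨d, hd, ht⟩, ⟨-d, (tvPar hs M hvv).neg_mem ⟨hd, ht⟩⟩]
    have hg : Function.Injective g := by
      intro i j e
      have e' := congrArg Subtype.val e
      have h20 : d ≠ -d := fun e1 => hd0 (mul_left_cancel₀ h2 (by linear_combination e1))
      fin_cases i <;> fin_cases j <;> simp [g] at e' ⊢
      all_goals first
        | exact hd0 e'
        | exact hd0 e'.symm
        | exact h20 e'
        | exact h20 e'.symm
    have := Nat.card_le_card_of_injective g hg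
    rwa [Nat.card_fin] at this
  · -- the exceptional pair
    haveI := Fact.mk hpp
    haveI : CharP F p := hpF
    obtain ⟨A, hA⟩ : ∃ A, A = tvPar hs M hvv := ⟨_, rfl⟩
    have hdA : d ∈ A := hA ▸ (⟨hd, ht⟩ : d + σ d = 0 ∧ InN M (qDisp (dot σ) v d))
    have hcard : Nat.card A = Nat.card {c : F // c + σ c = 0 ∧ InN M (qDisp (dot σ) v c)} := hA ▸ card_tvPar hs hvv
    have hpA : p ∣ Nat.card A := by
      have h1 := addOrderOf_dvd_natCard (⟨d, hdA⟩ : A)
      rwa [← AddSubgroup.addOrderOf_coe, addOrderOf_eq_prime (p := p)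
        (by rw [nsmul_eq_mul, CharP.cast_eq_zero, zero_mul]) hd0] at h1
    by_cases h4 : 4 ≤ Nat.card A
    · exact Or.inl (hcard ▸ h4)
    -- three parameters only
    have hp' : p = 3 := by have := Nat.le_of_dvd Nat.card_pos hpA; omega
    subst hp'
    refine Or.inr fun e he heM h => ?_
    haveI : CharP (fixSub σ) 3 := inferInstance
    have he' : e = 0 ∨ e = d ∨ e = -d := by
      by_contra hcon
      push Not at hcon
      refine h4 ?_
      have hsub : ({0, d, -d, e} : Finset F) ⊆ Finset.univ.filter (· ∈ A) := by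
        intro x hx
        simp only [Finset.mem_insert, Finset.mem_singleton] at hx
        refine Finset.mem_filter.2 ⟨Finset.mem_univ _, ?_⟩
        rcases hx with rfl | rfl | rfl | rfl
        · exact A.zero_mem
        · exact hdA
        · exact A.neg_mem hdA
        · exact hA ▸ (⟨he, heM⟩ : x + σ x = 0 ∧ InN M (qDisp (dot σ) v x))
      have h20 : d ≠ -d := fun e1 => hd0 (mul_left_cancel₀ h2 (by linear_combination e1))
      have hc4 : ({0, d, -d, e} : Finset F).card = 4 := by
        rw [Finset.card_insert_of_notMem (by simp [Ne.symm hd0, hd0, Ne.symm hcon.1]),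
          Finset.card_insert_of_notMem (by simp [h20, Ne.symm hcon.2.1]),
          Finset.card_pair (Ne.symm hcon.2.2)]
      have := Finset.card_le_card hsub
      rw [hc4] at this
      rwa [Nat.card_eq_fintype_card, Fintype.card_subtype]
    have hll : (lam : F) * lam = -1 := by
      rcases he' with rfl | rfl | rfl
      · simp at h
      · rw [hlval]; exact h
      · rw [hlval]; linear_combination h
    have hll' : lam * lam = -1 := Subtype.ext (by simpa using hll)
    have h9 : q = 9 := X.card_fixSub.symm.trans (Dickson.Gen.card_eq_nine hgen hll')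
    rw [hS', if_pos h9, Finset.mem_filter] at hlam
    exact hlam.2 hll'

/-- A coordinate of norm neither zero nor one, and not a half over eleven elements. -/
theorem exists_coord (h2 : (2 : F) ≠ 0) {g : GL (Fin 3) F} (hg : g ∈ M) (hmon : ¬ IsMon (g : M₃)) :
    ∃ h ∈ M, ∃ j c, (h : M₃) c j * σ ((h : M₃) c j) ≠ 0 ∧ (h : M₃) c j * σ ((h : M₃) c j) ≠ 1 ∧
      (q = 11 → (h : M₃) c j * σ ((h : M₃) c j) * 2 ≠ 1) := by
  classical
  have hs := X.herm
  have hcol : ∀ h ∈ M, ∀ j, ∑ i, (h : M₃) i j * σ ((h : M₃) i j) = 1 := fun h hh j => by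
    have h1 := X.iso h hh (Pi.single j 1) (Pi.single j 1)
    rw [dot_single_left (Pi.single j 1) j, Pi.single_eq_same, map_one, mul_one] at h1
    rw [← h1, dot]
    simp only [MaxMon.col_apply]
  -- some coordinate has norm other than zero and one
  obtain ⟨j, c, hc0, hc1⟩ : ∃ j c, (g : M₃) c j * σ ((g : M₃) c j) ≠ 0 ∧ (g : M₃) c j * σ ((g : M₃) c j) ≠ 1 := by
    by_contra hcon
    push Not at hcon
    refine hmon fun j => ?_
    have h := hcol g hg j
    rw [Fin.sum_univ_three] at h
    have h01 : ∀ i, (g : M₃) i j = 0 ∨ (g : M₃) i j * σ ((g : M₃) i j) = 1 := fun i => by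
      rcases eq_or_ne ((g : M₃) i j) 0 with e | e
      · exact Or.inl e
      · exact Or.inr (hcon j i (X.norm_ne e))
    rcases h01 0 with e0 | e0 <;> rcases h01 1 with e1 | e1 <;> rcases h01 2 with e2 | e2
    · simp [e0, e1, e2] at h
    · exact ⟨2, fun i hi => by fin_cases i <;> first | exact e0 | exact e1 | exact absurd rfl hi⟩
    · exact ⟨1, fun i hi => by fin_cases i <;> first | exact e0 | exact e2 | exact absurd rfl hi⟩
    · rw [e0, e1, e2] at h; exact absurd (by linear_combination h) (one_ne_zero (α := F))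
    · exact ⟨0, fun i hi => by fin_cases i <;> first | exact e1 | exact e2 | exact absurd rfl hi⟩
    · rw [e0, e1, e2] at h; exact absurd (by linear_combination h) (one_ne_zero (α := F))
    · rw [e0, e1, e2] at h; exact absurd (by linear_combination h) (one_ne_zero (α := F))
    · rw [e0, e1, e2] at h; exact absurd (by linear_combination h) h2
  by_cases hbad : q = 11 ∧ (g : M₃) c j * σ ((g : M₃) c j) * 2 = 1
  swap
  · exact ⟨g, hg, j, c, hc0, hc1, fun hq e => hbad ⟨hq, e⟩⟩
  obtain ⟨hq, hhalf⟩ := hbad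
  by_contra hcon
  push Not at hcon
  -- every norm is zero, one or a half
  have h11 : (11 : F) = 0 := by
    have := X.circ.cast_q
    rw [hq] at this
    exact_mod_cast this
  obtain ⟨η, hη⟩ : ∃ η : F, η = (2 : F)⁻¹ := ⟨_, rfl⟩
  have hη2 : η * 2 = 1 := by rw [hη]; exact inv_mul_cancel₀ h2
  have hval : ∀ h ∈ M, ∀ i k, (h : M₃) i k * σ ((h : M₃) i k) = 0 ∨ (h : M₃) i k * σ ((h : M₃) i k) = 1 ∨
      (h : M₃) i k * σ ((h : M₃) i k) = η := fun h hh i k => by
    by_contra hc'
    push Not at hc'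
    have := (hcon h hh k i hc'.1 hc'.2.1).2
    exact hc'.2.2 (mul_right_cancel₀ h2 (this.trans hη2.symm))
  have hhalf' : (g : M₃) c j * σ ((g : M₃) c j) = η := mul_right_cancel₀ h2 (hhalf.trans hη2.symm)
  have n3 : (3 : F) ≠ 0 := fun e => one_ne_zero (α := F) (by linear_combination 4 * e - h11)
  have n5 : (5 : F) ≠ 0 := fun e => one_ne_zero (α := F) (by linear_combination h11 - 2 * e)
  -- if one entry of a line is a half, exactly one other is not zero
  have hline : ∀ e : Fin 3 → F, (∑ i, e i = 1) → (∀ i, e i = 0 ∨ e i = 1 ∨ e i = η) → ∀ k, e k = η →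
      ∃ b, b ≠ k ∧ e b = η ∧ ∀ i, i ≠ k → i ≠ b → e i = 0 := by
    intro e he hv k hk
    rw [sum_rot k, hk] at he
    have hd1 : k + 1 ≠ k := by fin_cases k <;> decide
    have hd2 : k + 2 ≠ k := by fin_cases k <;> decide
    have hall : ∀ i, i ≠ k → i = k + 1 ∨ i = k + 2 := by
      intro i hi; fin_cases k <;> fin_cases i <;> first | decide | exact absurd rfl hi
    rcases hv (k + 1) with a | a | a <;> rcases hv (k + 2) with b | b | b <;> rw [a, b] at he
    · exact absurd (show (1 : F) = 0 by linear_combination 2 * (-1 : F) * he + hη2) one_ne_zero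
    · exact absurd (show (1 : F) = 0 by linear_combination 2 * he - hη2) one_ne_zero
    · exact ⟨k + 2, hd2, b, fun i hi hib => by rcases hall i hi with rfl | rfl <;> [exact a; exact absurd rfl hib]⟩
    · exact absurd (show (1 : F) = 0 by linear_combination 2 * he - hη2) one_ne_zero
    · exact absurd (show (3 : F) = 0 by linear_combination 2 * he - hη2) n3
    · exact absurd (show (2 : F) = 0 by linear_combination 2 * he - 2 * hη2) h2
    · exact ⟨k + 1, hd1, a, fun i hi hib => by rcases hall i hi with rfl | rfl <;> [exact absurd rfl hib; exact b]⟩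
    · exact absurd (show (2 : F) = 0 by linear_combination 2 * he - 2 * hη2) h2
    · exact absurd (show (1 : F) = 0 by linear_combination 2 * he - 3 * hη2) one_ne_zero
  obtain ⟨b, hbc, hb, hbz⟩ := hline (fun i => (g : M₃) i j * σ ((g : M₃) i j)) (hcol g hg j)
    (fun i => hval g hg i j) c hhalf'
  have hinv : ∀ i k, ((g⁻¹ : GL (Fin 3) F) : M₃) i k = σ ((g : M₃) k i) := fun i k => by
    have h := X.iso g hg (((g⁻¹ : GL (Fin 3) F) : M₃) *ᵥ Pi.single k 1) (Pi.single i 1)
    rw [mulVec_inv_cancel, dot_single_left, dot_single_right, MaxMon.col_apply, MaxMon.col_apply, map_one, one_mul,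
      mul_one] at h
    exact h.symm
  obtain ⟨k, hkj, hk, hkz⟩ := hline (fun i => (g : M₃) c i * σ ((g : M₃) c i)) (by
      rw [← hcol g⁻¹ (inv_mem hg) c]
      refine Finset.sum_congr rfl fun i _ => ?_
      rw [hinv, hs.invol, mul_comm]) (fun i => hval g hg c i) j hhalf'
  beta_reduce at hb hk hbz hkz
  have hzero : ∀ {a : F}, a * σ a = 0 → a = 0 := fun {a} e => by_contra fun h => X.norm_ne h e
  obtain ⟨π, hπc, hπb⟩ := exists_perm_of_pairs c b j k hbc.symm hkj.symm
  obtain ⟨ε, hε⟩ : ∃ ε : F, ε = ((Equiv.Perm.sign π : ℤ) : F) := ⟨_, rfl⟩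
  have hεm : ε ∈ mu σ := by
    rw [mem_mu, hε, map_intCast]
    rcases Int.units_eq_one_or (Equiv.Perm.sign π) with h | h <;> simp [h]
  obtain ⟨P, hP⟩ : ∃ P, P = (g : M₃) c j * (g : M₃) c j := ⟨_, rfl⟩
  obtain ⟨Q, hQ⟩ : ∃ Q, Q = (g : M₃) c k * (g : M₃) b j := ⟨_, rfl⟩
  have hN : ∀ z ∈ mu σ, ∃ h ∈ M, (h : M₃) c j = P * z + Q := fun z hz => by
    obtain ⟨a, hac, hab⟩ := exists_third' c b hbc.symm
    obtain ⟨m, hm, hme, -⟩ := X.exists_mon_mem π (Function.update (Function.update (fun _ => z) b 1) a (ε * z)⁻¹)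
      (fun i => by
        by_cases h1 : i = a
        · subst h1; rw [Function.update_self]; exact inv_mem_mu (mul_mem_mu hεm hz)
        by_cases h3 : i = b
        · subst h3; simp [h1, one_mem_mu]
        · simp [h1, h3, hz]) (by
      rw [← hε, prod_distinct hac hab hbc, Function.update_of_ne hac.symm, Function.update_of_ne hbc.symm,
        Function.update_of_ne hab.symm, Function.update_self, Function.update_self]
      have := mu_ne hz
      have := mu_ne hεm
      field_simp)
    refine ⟨g * m * g, mul_mem (mul_mem hg hm) hg, ?_⟩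
    rw [← MaxMon.col_apply ((g * m * g : GL (Fin 3) F) : M₃) c j, Units.val_mul, Units.val_mul,
      ← Matrix.mulVec_mulVec, ← Matrix.mulVec_mulVec]
    have hy : (g : M₃) *ᵥ Pi.single j 1 = (g : M₃) c j • Pi.single c 1 + (g : M₃) b j • Pi.single b 1 := by
      funext i
      rw [MaxMon.col_apply, Pi.add_apply, Pi.smul_apply, Pi.smul_apply, smul_eq_mul, smul_eq_mul]
      by_cases h1 : i = c
      · subst h1; simp [hbc.symm]
      by_cases h3 : i = b
      · subst h3; simp [hbc]
      · simp [h1, h3, hzero (hbz i h1 h3)]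
    rw [hy, Matrix.mulVec_add, Matrix.mulVec_smul, Matrix.mulVec_smul, hme, hme, hπc, hπb, Matrix.mulVec_add,
      Matrix.mulVec_smul, Matrix.mulVec_smul, Function.update_of_ne hac.symm, Function.update_of_ne hbc.symm,
      Function.update_of_ne hab.symm, Function.update_self, ← mul_one z, ← smul_eq_mul, Pi.single_smul,
      Matrix.mulVec_smul, Pi.add_apply, Pi.smul_apply, Pi.smul_apply, Pi.smul_apply, MaxMon.col_apply,
      MaxMon.col_apply, hP, hQ]
    simp only [smul_eq_mul, mul_one]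
    ring
  have hPN : P * σ P = η * η := by rw [hP, map_mul, ← hhalf']; ring
  have hQN : Q * σ Q = η * η := by
    rw [hQ, map_mul]; linear_combination ((g : M₃) b j * σ ((g : M₃) b j)) * hk + η * hb
  have hP0 : P ≠ 0 := fun e => by
    rw [e, zero_mul] at hPN
    exact one_ne_zero (show (1 : F) = 0 by linear_combination (-(1 + η * 2)) * hη2 - 4 * hPN)
  obtain ⟨β, hβ⟩ : ∃ β, β = P * σ Q := ⟨_, rfl⟩
  have hQ0 : Q ≠ 0 := fun e => by
    rw [e, zero_mul] at hQN
    exact one_ne_zero (show (1 : F) = 0 by linear_combination (-(1 + η * 2)) * hη2 - 4 * hQN)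
  have hβ0 : β ≠ 0 := hβ ▸ mul_ne_zero hP0 (σ.map_ne_zero_iff.2 hQ0)
  obtain ⟨B, hB⟩ : ∃ B : Finset F, B = {0 - 2 * (η * η), 1 - 2 * (η * η), η - 2 * (η * η)} := ⟨_, rfl⟩
  have hall : mu σ ⊆ B.biUnion fun K => (mu σ).filter fun z => β * z + σ (β * z) = K := fun z hz => by
    obtain ⟨h, hh, hhz⟩ := hN z hz
    have hn : (h : M₃) c j * σ ((h : M₃) c j) = 2 * (η * η) + (β * z + σ (β * z)) := by
      rw [hhz, hβ, map_add, map_mul, map_mul, map_mul, hs.invol]
      linear_combination (z * σ z) * hPN + hQN + (η * η) * mem_mu.1 hz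
    rw [Finset.mem_biUnion]
    refine ⟨_, ?_, Finset.mem_filter.2 ⟨hz, rfl⟩⟩
    rw [hB, Finset.mem_insert, Finset.mem_insert, Finset.mem_singleton]
    rcases hval h hh c j with e | e | e <;> rw [hn] at e
    · exact Or.inl (by linear_combination e)
    · exact Or.inr (Or.inl (by linear_combination e))
    · exact Or.inr (Or.inr (by linear_combination e))
  have h6 : (mu σ).card ≤ 6 := by
    refine (Finset.card_le_card hall).trans (Finset.card_biUnion_le.trans ?_)
    refine (Finset.sum_le_sum (g := fun _ => 2) fun K _ => line_fiber hβ0 K).trans ?_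
    rw [Finset.sum_const, smul_eq_mul, hB]
    exact Nat.mul_le_mul_right 2 Finset.card_le_three
  rw [X.circ.card_mu, hq] at h6
  omega

theorem upt_odd (h2 : (2 : F) ≠ 0) (hodd : Odd q) (hq5 : q ≠ 5) {g : GL (Fin 3) F} (hg : g ∈ M)
    (hmon : ¬ IsMon (g : M₃)) : ∃ w, w ≠ 0 ∧ dot σ w w = 0 ∧ UPt σ (dot σ) M w := by
  obtain ⟨h, hh, j, c, hc0, hc1, hc2⟩ := X.exists_coord h2 hg hmon
  obtain ⟨y, hy⟩ : ∃ y, y = (h : M₃) *ᵥ Pi.single j 1 := ⟨_, rfl⟩
  have hyc : y c = (h : M₃) c j := by rw [hy, MaxMon.col_apply]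
  have hy1 : dot σ y y = 1 := by
    rw [hy, X.iso h hh, dot_single_left, Pi.single_eq_same, map_one, mul_one]
  obtain ⟨v, d, hv0, hvv, hd0, hd, hdM⟩ := X.exists_tv h2 hodd hq5 c hy1
    (fun l hl => hy ▸ X.rot_map (X.rot_axis j hl) hh) (hyc ▸ hc0) (hyc ▸ hc1) (hyc ▸ hc2)
  exact ⟨v, hv0, hvv, X.upt_of_tv h2 hv0 hvv hd0 hd hdM⟩

end Ctx

end Cfsg.Agent.Classical.SUThree.Mon
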