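import Cfsg.Agent.Lib.Classical.DicksonMain
import Cfsg.Agent.Lib.Classical.DicksonTorusMax

/-!
Two elements of one even order at least four in a subgroup of `PSL(2, F)` of order prime to the characteristic.
-/

set_option autoImplicit false
set_option linter.unusedSectionVars false
set_option maxRecDepth 20000
set_option synthInstance.maxSize 2000

namespace Cfsg.Agent.Classical.SUThree.Mon

open Dickson Cfsg.Agent.Grp.SL2 Cfsg.Agent.PSL2Spec

variable {F : Type*} [Field F] [Fintype F] (p : ℕ) [Fact p.Prime] [CharP F p]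

local notation "PSL₂" => Matrix.ProjectiveSpecialLinearGroup (Fin 2) F
local notation "SL₂" => Matrix.SpecialLinearGroup (Fin 2) F

/-- They commute, or their squares do and the order is four. -/
theorem commute_or {H : Subgroup PSL₂} (hH : ¬ p ∣ Nat.card H) {a b : H} (hab : orderOf a = orderOf b)
    (hm : 4 ≤ orderOf a) (hev : Even (orderOf a)) :
    Commute a b ∨ (orderOf a = 4 ∧ p ≠ 3 ∧ Commute (a ^ 2) (b ^ 2)) := by
  have hp : p.Prime := Fact.out
  obtain ⟨D, hD⟩ : ∃ D, D = (pslData (F := F) p).restrict H := ⟨_, rfl⟩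
  have hne : a ≠ 1 := fun e => by rw [e, orderOf_one] at hm; omega
  have hpow : ∀ x : H, x ≠ 1 → x ^ p = 1 → False := fun x hx hxp =>
    hH (orderOf_eq_prime hxp hx ▸ orderOf_dvd_natCard x)
  rcases D.classify hp with h | ⟨t, ht, htp, h⟩ | ⟨t, ht, htp, -, hN, -⟩ | ⟨t, ht, htp, -⟩ |
    ⟨-, ⟨j⟩, -⟩ | ⟨h24, ⟨j⟩, -⟩ | ⟨-, ⟨j⟩, -⟩ | ⟨t, -, ht, htp, -⟩
  · obtain ⟨hs, -⟩ := Nat.card_eq_one_iff_unique.1 h
    exact absurd (hs.elim a 1) hne
  · exact Or.inl (D.comm ht (h ▸ Subgroup.mem_top a) (h ▸ Subgroup.mem_top b))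
  · have hmem : ∀ x : H, 4 ≤ orderOf x → x ∈ D.T t := fun x hx => by_contra fun hn => by
      have h1 := (D.mem_normalizer_iff ht (g := x)).1 (hN ▸ Subgroup.mem_top x)
      have h2 := (D.semi_flip ht htp h1 hn).1
      have := Nat.le_of_dvd two_pos (orderOf_dvd_of_pow_eq_one ((pow_two x).trans h2))
      omega
    exact Or.inl (D.comm ht (hmem a hm) (hmem b (hab ▸ hm)))
  · exact (hpow t ht htp).elim
  · exfalso
    have ho : orderOf (j a) = orderOf a := MulEquiv.orderOf_eq j a
    rcases orders_alt_four (j a) with e | e <;>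
    · have h1 := Nat.le_of_dvd (by norm_num) (orderOf_dvd_of_pow_eq_one e)
      omega
  · have hp3 : p ≠ 3 := fun e => hH (by rw [h24, e]; norm_num)
    have key : ∀ x : H, 4 ≤ orderOf x → orderOf x = 4 ∧ (j x) ^ 4 = 1 := fun x hx => by
      have ho : orderOf (j x) = orderOf x := MulEquiv.orderOf_eq j x
      rcases orders_perm_four (j x) with e | e
      · have := Nat.le_of_dvd (by norm_num) (orderOf_dvd_of_pow_eq_one e)
        exact ⟨by omega, e⟩
      · have := Nat.le_of_dvd (by norm_num) (orderOf_dvd_of_pow_eq_one e)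
        omega
    obtain ⟨h4, ha⟩ := key a hm
    obtain ⟨-, hb⟩ := key b (hab ▸ hm)
    have k4 : ∀ x y : Equiv.Perm (Fin 4), x ^ 4 = 1 → y ^ 4 = 1 → x ^ 2 * y ^ 2 = y ^ 2 * x ^ 2 := by
      decide +kernel
    exact Or.inr ⟨h4, hp3, j.injective (by simpa using k4 _ _ ha hb)⟩
  · exfalso
    have ho : orderOf (j a) = orderOf a := MulEquiv.orderOf_eq j a
    obtain ⟨k, hk⟩ := hev
    rcases orders_alt_five (j a) with e | e | e <;>
    · have h1 := orderOf_dvd_of_pow_eq_one e
      rw [ho] at h1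
      have h2 := Nat.le_of_dvd (by norm_num) h1
      first
        | omega
        | (rw [show orderOf a = 4 by omega] at h1; norm_num at h1)
  · exact (hpow t ht htp).elim

/-- Commuting images. -/
theorem eq_or_neg_of_commute {x y : SL₂} (h : Commute (proj x) (proj y)) : y * x = x * y ∨ y * x = -(x * y) := by
  have h1 : proj (x * y) = proj (y * x) := by rw [map_mul, map_mul]; exact h
  exact proj_eq_iff.1 h1

end Cfsg.Agent.Classical.SUThree.Mon
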