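import Cfsg.Agent.Lib.Classical.SUThree.MonBase
import Cfsg.Agent.Lib.Classical.SUThree.MonPSL

/-!
The action of a monomial overgroup on the plane of an axis and a unit vector: a transvection.
-/

set_option autoImplicit false
set_option linter.unusedSectionVars false

namespace Cfsg.Agent.Classical.SUThree.Mon

open Matrix Module MaxTv MaxUnitMon
open MaxMon (IsMon)

variable {F : Type*} [Field F]

local notation "SL₂" => Matrix.SpecialLinearGroup (Fin 2) F

theorem sum_rot {A : Type*} [AddCommMonoid A] (c : Fin 3) (φ : Fin 3 → A) :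
    ∑ i, φ i = φ c + φ (c + 1) + φ (c + 2) := by
  rw [Fin.sum_univ_three]
  fin_cases c <;> simp <;> abel

theorem sl_ext {A B : SL₂} (h00 : A.1 0 0 = B.1 0 0) (h01 : A.1 0 1 = B.1 0 1) (h10 : A.1 1 0 = B.1 1 0)
    (h11 : A.1 1 1 = B.1 1 1) : A = B := Subtype.ext (by ext i j; fin_cases i <;> fin_cases j <;> assumption)

/-- A diagonal element. -/
def Am (u : Fˣ) : SL₂ :=
  ⟨!![(u : F), 0; 0, ((u⁻¹ : Fˣ) : F)], by simp [Matrix.det_fin_two]⟩

/-- An element with the same eigenvalues and other axes. -/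
def Bm {y y' ρ : F} (h : y * y' + ρ = 1) (u : Fˣ) : SL₂ :=
  ⟨!![(u : F) * (y * y') + ((u⁻¹ : Fˣ) : F) * ρ, ((u : F) - ((u⁻¹ : Fˣ) : F)) * (y * ρ);
      ((u : F) - ((u⁻¹ : Fˣ) : F)) * y', (u : F) * ρ + ((u⁻¹ : Fˣ) : F) * (y * y')], by
    have hu : (u : F) * ((u⁻¹ : Fˣ) : F) = 1 := u.mul_inv
    simp only [Matrix.det_fin_two, Matrix.of_apply, Matrix.cons_val', Matrix.cons_val_zero, Matrix.cons_val_one,
      Matrix.cons_val_fin_one]
    linear_combination ((y * y' + ρ) * (y * y' + ρ)) * hu + (y * y' + ρ + 1) * h⟩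

theorem Am_val (u : Fˣ) : (Am u).1 = !![(u : F), 0; 0, ((u⁻¹ : Fˣ) : F)] := rfl

theorem Bm_val {y y' ρ : F} (h : y * y' + ρ = 1) (u : Fˣ) : (Bm h u).1 =
    !![(u : F) * (y * y') + ((u⁻¹ : Fˣ) : F) * ρ, ((u : F) - ((u⁻¹ : Fˣ) : F)) * (y * ρ);
      ((u : F) - ((u⁻¹ : Fˣ) : F)) * y', (u : F) * ρ + ((u⁻¹ : Fˣ) : F) * (y * y')] := rfl

theorem Am_mul (u v : Fˣ) : (Am (u * v) : SL₂) = Am u * Am v := by
  apply sl_ext <;> rw [Matrix.SpecialLinearGroup.coe_mul] <;> simp [Am_val, Matrix.mul_apply, Fin.sum_univ_two, mul_comm]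

theorem Bm_mul {y y' ρ : F} (h : y * y' + ρ = 1) (u v : Fˣ) : Bm h (u * v) = Bm h u * Bm h v := by
  apply sl_ext <;> rw [Matrix.SpecialLinearGroup.coe_mul]
  · simp [Bm_val, Matrix.mul_apply, Fin.sum_univ_two]
    linear_combination (-((u : F) * v * (y * y') + (u : F)⁻¹ * (v : F)⁻¹ * ρ)) * h
  · simp [Bm_val, Matrix.mul_apply, Fin.sum_univ_two]
    linear_combination (-(y * ρ) * ((u : F) * v - (u : F)⁻¹ * (v : F)⁻¹)) * h
  · simp [Bm_val, Matrix.mul_apply, Fin.sum_univ_two]
    linear_combination (-y' * ((u : F) * v - (u : F)⁻¹ * (v : F)⁻¹)) * h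
  · simp [Bm_val, Matrix.mul_apply, Fin.sum_univ_two]
    linear_combination (-((u : F) * v * ρ + (u : F)⁻¹ * (v : F)⁻¹ * (y * y'))) * h

theorem Bm_one {y y' ρ : F} (h : y * y' + ρ = 1) : Bm h 1 = 1 := by
  apply sl_ext <;> simp [Bm_val] <;> linear_combination h

variable [Fintype F] [DecidableEq F] {σ : F ≃+* F} {q : ℕ} {M : Subgroup (GL (Fin 3) F)}

local notation "M₃" => Matrix (Fin 3) (Fin 3) F

namespace Ctx

variable (X : Ctx σ q M)
include X

/-- A group element moving one vector by an isotropic one fixed by it, all others along the same line. -/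
theorem tv_of_rankOne {T : GL (Fin 3) F} (hT : T ∈ M) {b v : Fin 3 → F} (hb : (T : M₃) *ᵥ b = b + v) (hv : v ≠ 0)
    (hTv : (T : M₃) *ᵥ v = v) (h1 : ∀ z, ∃ φ : F, (T : M₃) *ᵥ z = z + φ • v) :
    dot σ v v = 0 ∧ ∃ c, c ≠ 0 ∧ c + σ c = 0 ∧ InN M (qDisp (dot σ) v c) := by
  have hs := X.herm
  have hvv : dot σ v v = 0 := by
    have := X.iso T hT b v
    rwa [hb, hTv, hs.add_left, add_eq_left] at this
  have hcoef : ∀ z φ, (T : M₃) *ᵥ z = z + φ • v → φ * dot σ v b + dot σ z v = 0 := fun z φ hz => by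
    have := X.iso T hT z b
    rw [hz, hb, hs.add_left, hs.add_right, hs.add_right, hs.smul_left, hs.smul_left, hvv, mul_zero, add_zero] at this
    linear_combination this
  have hvb : dot σ v b ≠ 0 := fun e => hv (hs.eq_zero v fun x => by
    obtain ⟨φ, hφ⟩ := h1 x
    have := hcoef x φ hφ
    rwa [e, mul_zero, zero_add] at this)
  have hbb : dot σ v b + dot σ b v = 0 := by simpa using hcoef b 1 (by rw [one_smul]; exact hb)
  refine ⟨hvv, -(dot σ v b)⁻¹, neg_ne_zero.2 (inv_ne_zero hvb), ?_, T, hT, fun z => ?_⟩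
  · rw [map_neg, map_inv₀, ← hs.herm, show dot σ b v = -dot σ v b by linear_combination hbb, inv_neg, neg_neg,
      neg_add_cancel]
  · obtain ⟨φ, hφ⟩ := h1 z
    rw [hφ, qDisp]
    congr 2
    have := hcoef z φ hφ
    field_simp
    linear_combination this

/-- A generator of the circle, given by its square root. -/
theorem exists_root (hodd : Odd q) : ∃ r : Fˣ, (r : F) * r ∈ mu σ ∧ orderOf (r * r) = q + 1 := by
  obtain ⟨g, hg⟩ := IsCyclic.exists_generator (α := Fˣ)
  have ho : orderOf g = q * q - 1 := by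
    rw [orderOf_eq_card_of_forall_mem_zpowers hg, Nat.card_units, Nat.card_eq_fintype_card, X.circ.hF, pow_two]
  obtain ⟨k, hk⟩ := hodd
  have hk1 : 1 ≤ k := by have := X.three; omega
  have h2 : orderOf (g ^ k * g ^ k) = q + 1 := by
    have e : q * q - 1 = (k + k) * (q + 1) := by
      rw [hk]
      have : (2 * k + 1) * (2 * k + 1) = (k + k) * (2 * k + 1 + 1) + 1 := by ring
      omega
    rw [← pow_add, orderOf_pow' g (by omega), ho, e, Nat.gcd_mul_right_left, Nat.mul_div_cancel_left _ (by omega)]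
  refine ⟨g ^ k, ?_, h2⟩
  rw [X.circ.mem_mu_iff, ← Units.val_mul, ← Units.val_pow_eq_pow_val, ← h2, pow_orderOf_eq_one, Units.val_one]

/-- The transvection. -/
theorem exists_tv (h2 : (2 : F) ≠ 0) (hodd : Odd q) (hq5 : q ≠ 5) (c : Fin 3) {y : Fin 3 → F}
    (hy1 : dot σ y y = 1) (hy : ∀ l ∈ mu σ, Rot σ M y l) (hN0 : y c * σ (y c) ≠ 0) (hN1 : y c * σ (y c) ≠ 1)
    (hN2 : q = 11 → y c * σ (y c) * 2 ≠ 1) :
    ∃ v d, v ≠ 0 ∧ dot σ v v = 0 ∧ d ≠ 0 ∧ d + σ d = 0 ∧ InN M (qDisp (dot σ) v d) := by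
  classical
  have hs := X.herm
  obtain ⟨p, hpc⟩ := CharP.exists F
  obtain ⟨m, hpp, hm⟩ := FiniteField.card F p
  haveI := Fact.mk hpp
  haveI : CharP F p := hpc
  obtain ⟨e, he⟩ : ∃ e : Fin 3 → F, e = Pi.single c 1 := ⟨_, rfl⟩
  obtain ⟨w, hw⟩ : ∃ w, w = y - y c • e := ⟨_, rfl⟩
  obtain ⟨ρ, hρ⟩ : ∃ ρ, ρ = dot σ w w := ⟨_, rfl⟩
  have hyw : y = y c • e + w := by rw [hw]; abel
  have hwc : w c = 0 := by simp [hw, he]
  have hee : dot σ e e = 1 := by rw [he, dot_single_left, Pi.single_eq_same, map_one, mul_one]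
  have hew : dot σ e w = 0 := by rw [he, dot_single_left, hwc, map_zero, mul_zero]
  have hwe : dot σ w e = 0 := hs.refl _ _ hew
  have hsum : y c * σ (y c) + ρ = 1 := by
    have h := hy1
    rw [hyw, hs.add_left, hs.add_right, hs.add_right, hs.smul_left, hs.smul_left, hs.smul_right, hs.smul_right,
      hee, hew, hwe, ← hρ] at h
    linear_combination h
  have hρ0 : ρ ≠ 0 := fun e0 => hN1 (by rw [e0, add_zero] at hsum; exact hsum)
  have hy0 : y c ≠ 0 := fun e0 => hN0 (by rw [e0, zero_mul])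
  have hσy : σ (y c) ≠ 0 := σ.map_ne_zero_iff.2 hy0
  -- coordinates in the plane
  obtain ⟨pl, hpl⟩ : ∃ pl : F → F → (Fin 3 → F), pl = fun α β => α • e + β • w := ⟨_, rfl⟩
  have plinj : ∀ α β α' β', pl α β = pl α' β' → α = α' ∧ β = β' := fun α β α' β' h => by
    have he' := congrArg (fun z => dot σ z e) h
    have hw' := congrArg (fun z => dot σ z w) h
    simp only [hpl, hs.add_left, hs.smul_left, hee, hwe, hew, ← hρ, mul_zero, add_zero, zero_add, mul_one] at he' hw'
    exact ⟨he', mul_right_cancel₀ hρ0 hw'⟩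
  let OnP : GL (Fin 3) F → F → SL₂ → Prop := fun x s A =>
    (x : M₃) *ᵥ e = s • pl (A.1 0 0) (A.1 1 0) ∧ (x : M₃) *ᵥ w = s • pl (A.1 0 1) (A.1 1 1)
  have hlin : ∀ x s A, OnP x s A → ∀ α β, (x : M₃) *ᵥ pl α β =
      s • pl (A.1 0 0 * α + A.1 0 1 * β) (A.1 1 0 * α + A.1 1 1 * β) := fun x s A h α β => by
    simp only [hpl]
    rw [Matrix.mulVec_add, Matrix.mulVec_smul, Matrix.mulVec_smul, h.1, h.2]
    simp only [hpl]
    module
  have hone : OnP 1 1 1 := by simp [OnP, hpl]
  have hmul : ∀ x s A x' s' A', OnP x s A → OnP x' s' A' → OnP (x * x') (s * s') (A * A') := by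
    intro x s A x' s' A' h h'
    constructor <;> rw [Units.val_mul, ← Matrix.mulVec_mulVec]
    · rw [h'.1, Matrix.mulVec_smul, hlin x s A h, smul_smul, mul_comm s' s]
      simp [Matrix.mul_apply, Fin.sum_univ_two]
    · rw [h'.2, Matrix.mulVec_smul, hlin x s A h, smul_smul, mul_comm s' s]
      simp [Matrix.mul_apply, Fin.sum_univ_two]
  have hpow : ∀ x s A, OnP x s A → ∀ k : ℕ, OnP (x ^ k) (s ^ k) (A ^ k) := fun x s A h k => by
    induction k with
    | zero => simpa using hone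
    | succ k ih => rw [pow_succ, pow_succ, pow_succ]; exact hmul _ _ _ _ _ _ ih h
  have hinv : ∀ x s A, s ≠ 0 → OnP x s A → OnP x⁻¹ s⁻¹ A⁻¹ := fun x s A hs0 h => by
    have hb : ∀ α β, (((x⁻¹ : GL (Fin 3) F)) : M₃) *ᵥ pl (A.1 0 0 * α + A.1 0 1 * β) (A.1 1 0 * α + A.1 1 1 * β) =
        s⁻¹ • pl α β := fun α β => by
      have h1 := congrArg (fun z => ((x⁻¹ : GL (Fin 3) F) : M₃) *ᵥ z) (hlin x s A h α β)
      simp only [inv_mulVec_cancel, Matrix.mulVec_smul] at h1
      rw [h1, smul_smul, inv_mul_cancel₀ hs0, one_smul]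
    have hd : A.1 0 0 * A.1 1 1 - A.1 0 1 * A.1 1 0 = 1 := by rw [← Matrix.det_fin_two]; exact A.2
    constructor
    · have h1 := hb (A⁻¹.1 0 0) (A⁻¹.1 1 0)
      rw [← h1]
      congr 1
      simp only [hpl, Matrix.SpecialLinearGroup.coe_inv, Matrix.adjugate_fin_two]
      simp only [Matrix.of_apply, Matrix.cons_val', Matrix.cons_val_zero, Matrix.cons_val_one, Matrix.cons_val_fin_one]
      rw [show A.1 0 0 * A.1 1 1 + A.1 0 1 * -A.1 1 0 = 1 by linear_combination hd,
        show A.1 1 0 * A.1 1 1 + A.1 1 1 * -A.1 1 0 = 0 by ring, one_smul, zero_smul, add_zero]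
    · have h1 := hb (A⁻¹.1 0 1) (A⁻¹.1 1 1)
      rw [← h1]
      congr 1
      simp only [hpl, Matrix.SpecialLinearGroup.coe_inv, Matrix.adjugate_fin_two]
      simp only [Matrix.of_apply, Matrix.cons_val', Matrix.cons_val_zero, Matrix.cons_val_one, Matrix.cons_val_fin_one]
      rw [show A.1 0 0 * -A.1 0 1 + A.1 0 1 * A.1 0 0 = 0 by ring,
        show A.1 1 0 * -A.1 0 1 + A.1 1 1 * A.1 0 0 = 1 by linear_combination hd, one_smul, zero_smul, zero_add]
  let G : Subgroup SL₂ :=
    { carrier := {A | ∃ x ∈ M, ∃ s : F, s ≠ 0 ∧ OnP x s A}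
      one_mem' := ⟨1, one_mem M, 1, one_ne_zero, hone⟩
      mul_mem' := fun {A A'} hA hA' => by
        obtain ⟨x, hx, s, hs0, h⟩ := hA
        obtain ⟨x', hx', s', hs0', h'⟩ := hA'
        exact ⟨x * x', mul_mem hx hx', s * s', mul_ne_zero hs0 hs0', hmul _ _ _ _ _ _ h h'⟩
      inv_mem' := fun {A} hA => by
        obtain ⟨x, hx, s, hs0, h⟩ := hA
        exact ⟨x⁻¹, inv_mem hx, s⁻¹, inv_ne_zero hs0, hinv _ _ _ hs0 h⟩ }
  -- the two rotations
  obtain ⟨r, hr, hro⟩ := X.exists_root hodd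
  obtain ⟨u, hu⟩ : ∃ u : Fˣ, u = (r * r * r)⁻¹ := ⟨_, rfl⟩
  have hr0 : (r : F) ≠ 0 := r.ne_zero
  have hBh : y c * σ (y c) + ρ = 1 := hsum
  have hAG : Am u ∈ G := by
    obtain ⟨x, hx, hxz⟩ := X.rot_axis c hr
    refine ⟨x, hx, (r : F)⁻¹, inv_ne_zero hr0, ?_, ?_⟩
    · rw [hxz, ← he, hee]
      simp only [Am_val, hu, hpl]
      simp
      match_scalars
      field_simp
      ring
    · rw [hxz, ← he, hwe]
      simp only [Am_val, hu, hpl]
      simp
      match_scalars
      field_simp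
  have hBG : Bm hBh u ∈ G := by
    obtain ⟨x, hx, hxz⟩ := hy _ hr
    have hy' : ∀ k : F, k • y = (k * y c) • e + k • w := fun k => by
      rw [mul_smul, ← smul_add, ← hyw]
    have e1 : dot σ e y = σ (y c) := by rw [he, dot_single_left, one_mul]
    have e2 : dot σ w y = ρ := by rw [hyw, hs.add_right, hs.smul_right, hwe, mul_zero, zero_add, hρ]
    refine ⟨x, hx, (r : F)⁻¹, inv_ne_zero hr0, ?_, ?_⟩
    · rw [hxz, e1, hy']
      simp only [Bm_val, hu, hpl]
      simp
      match_scalars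
      · field_simp
        linear_combination (-(r : F) ^ 6) * hsum
      · field_simp
    · rw [hxz, e2, hy']
      simp only [Bm_val, hu, hpl]
      simp
      match_scalars <;> field_simp <;> linear_combination (-(r : F) ^ 6) * hsum
  by_cases hG : p ∣ Nat.card G
  · -- an element of order `p`
    obtain ⟨⟨A, x, hx, s, hs0, hxA⟩, hAo⟩ := exists_prime_orderOf_dvd_card' p hG
    rw [← Subgroup.orderOf_coe] at hAo
    have hAp : A ^ p = 1 := hAo ▸ pow_orderOf_eq_one A
    have hA1 : A ≠ 1 := fun e1 => hpp.ne_one (by rw [← hAo]; simp [e1])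
    obtain ⟨T, hT⟩ : ∃ T, T = x ^ (Fintype.card F - 1) := ⟨_, rfl⟩
    obtain ⟨B, hB⟩ : ∃ B, B = A ^ (Fintype.card F - 1) := ⟨_, rfl⟩
    have hTM : T ∈ M := hT ▸ pow_mem hx _
    have hTB : OnP T 1 B := by
      have h1 := hpow x s A hxA (Fintype.card F - 1)
      rwa [FiniteField.pow_card_sub_one_eq_one s hs0, ← hT, ← hB] at h1
    have hBA : B * A = 1 := by
      rw [hB, ← pow_succ, Nat.sub_add_cancel Fintype.card_pos, hm]
      exact orderOf_dvd_iff_pow_eq_one.1 (hAo ▸ dvd_pow_self p m.pos.ne')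
    have hB1 : B ≠ 1 := fun e1 => hA1 (by rwa [e1, one_mul] at hBA)
    have hBp : B ^ p = 1 := by rw [hB, ← pow_mul, mul_comm, pow_mul, hAp, one_pow]
    -- `B - 1` is nilpotent
    have htr : B.1 0 0 + B.1 1 1 = 2 := by
      have h1 : (B.1 - 1) ^ p = 0 := by
        rw [sub_pow_char_of_commute p (Commute.one_right _), one_pow, ← Matrix.SpecialLinearGroup.coe_pow, hBp,
          Matrix.SpecialLinearGroup.coe_one, sub_self]
      have h3 := congrArg Matrix.det h1
      rw [Matrix.det_pow, Matrix.det_zero, pow_eq_zero_iff hpp.ne_zero, Matrix.det_fin_two] at h3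
      have hd : B.1 0 0 * B.1 1 1 - B.1 0 1 * B.1 1 0 = 1 := by rw [← Matrix.det_fin_two]; exact B.2
      simp at h3
      linear_combination hd - h3
    obtain ⟨α, hα⟩ : ∃ α, α = B.1 0 0 - 1 := ⟨_, rfl⟩
    obtain ⟨β, hβ⟩ : ∃ β, β = B.1 0 1 := ⟨_, rfl⟩
    obtain ⟨γ, hγ⟩ : ∃ γ, γ = B.1 1 0 := ⟨_, rfl⟩
    have hδ : B.1 1 1 = 1 - α := by rw [hα]; linear_combination htr
    have hdet : β * γ = -(α * α) := by
      have hd : B.1 0 0 * B.1 1 1 - B.1 0 1 * B.1 1 0 = 1 := by rw [← Matrix.det_fin_two]; exact B.2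
      rw [hδ, ← hβ, ← hγ, show B.1 0 0 = 1 + α by rw [hα]; ring] at hd
      linear_combination -hd
    have hTe : (T : M₃) *ᵥ e = e + pl α γ := by rw [hTB.1, ← hγ, hα, hpl]; module
    have hTw : (T : M₃) *ᵥ w = w + pl β (-α) := by rw [hTB.2, ← hβ, hδ, hpl]; module
    have hTpl : ∀ a b, (T : M₃) *ᵥ pl a b = pl a b + pl (α * a + β * b) (γ * a - α * b) := fun a b => by
      have e1 : (T : M₃) *ᵥ pl a b = a • (e + pl α γ) + b • (w + pl β (-α)) := by
        rw [← hTe, ← hTw]; simp only [hpl, Matrix.mulVec_add, Matrix.mulVec_smul]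
      rw [e1]; simp only [hpl]; module
    -- the third direction
    obtain ⟨n, hn⟩ : ∃ n : Fin 3 → F, n = Pi.single (c + 1) (σ (w (c + 2))) + Pi.single (c + 2) (-σ (w (c + 1))) :=
      ⟨_, rfl⟩
    have hc1 : c + 1 ≠ c := by fin_cases c <;> decide
    have hc2 : c + 2 ≠ c := by fin_cases c <;> decide
    have hc12 : c + 1 ≠ c + 2 := by fin_cases c <;> decide
    have hne : dot σ n e = 0 := by
      rw [he, dot_single_right, hn]; simp [hc1.symm, hc2.symm]
    have hnw : dot σ n w = 0 := by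
      rw [hn, hs.add_left, dot_single_left, dot_single_left]; ring
    have hperp : ∀ z, dot σ z e = 0 → dot σ z w = 0 → ∃ t : F, z = t • n := fun z hze hzw => by
      have hzc : z c = 0 := by rwa [he, dot_single_right, map_one, mul_one] at hze
      rw [dot, sum_rot c, hzc, hwc, zero_mul, zero_add] at hzw
      have n0 : n c = 0 := by simp [hn, hc1.symm, hc2.symm]
      have n1 : n (c + 1) = σ (w (c + 2)) := by simp [hn, hc12]
      have n2 : n (c + 2) = -σ (w (c + 1)) := by simp [hn, hc12.symm]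
      have hall : ∀ i, i = c ∨ i = c + 1 ∨ i = c + 2 := by intro i; fin_cases c <;> fin_cases i <;> decide
      by_cases h2' : w (c + 2) = 0
      · have h1' : σ (w (c + 1)) ≠ 0 := fun e1 => hρ0 (by
          rw [hρ, dot, sum_rot c, hwc, h2', σ.map_eq_zero_iff.1 e1]; simp)
        refine ⟨-(z (c + 2)) / σ (w (c + 1)), funext fun i => ?_⟩
        rw [Pi.smul_apply, smul_eq_mul]
        rcases hall i with rfl | rfl | rfl
        · rw [n0, mul_zero, hzc]
        · rw [n1, h2', map_zero, mul_zero]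
          rw [h2', map_zero, mul_zero, add_zero, mul_eq_zero] at hzw
          exact hzw.resolve_right h1'
        · rw [n2]; field_simp
      · have h2'' : σ (w (c + 2)) ≠ 0 := σ.map_ne_zero_iff.2 h2'
        refine ⟨z (c + 1) / σ (w (c + 2)), funext fun i => ?_⟩
        rw [Pi.smul_apply, smul_eq_mul]
        rcases hall i with rfl | rfl | rfl
        · rw [n0, mul_zero, hzc]
        · rw [n1]; field_simp
        · rw [n2]; field_simp; linear_combination hzw
    have hn0 : n ≠ 0 := fun e1 => hρ0 (by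
      have a1 : n (c + 1) = σ (w (c + 2)) := by simp [hn, hc12]
      have a2 : n (c + 2) = -σ (w (c + 1)) := by simp [hn, hc12.symm]
      rw [e1, Pi.zero_apply, eq_comm] at a1 a2
      rw [neg_eq_zero] at a2
      rw [hρ, dot, sum_rot c, hwc, a1, a2]; simp)
    obtain ⟨ν, hν⟩ : ∃ ν, (x : M₃) *ᵥ n = ν • n := by
      have hd : A.1 0 0 * A.1 1 1 - A.1 0 1 * A.1 1 0 = 1 := by rw [← Matrix.det_fin_two]; exact A.2
      have hi : ∀ a b, dot σ ((x : M₃) *ᵥ n) (pl a b) = 0 := fun a b => by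
        have e0 : pl a b = s⁻¹ • ((x : M₃) *ᵥ pl (A.1 1 1 * a - A.1 0 1 * b) (-(A.1 1 0 * a) + A.1 0 0 * b)) := by
          rw [hlin x s A hxA, smul_smul, inv_mul_cancel₀ hs0, one_smul]
          congr 1
          · linear_combination (-a) * hd
          · linear_combination (-b) * hd
        rw [e0, hs.smul_right, X.iso x hx, hpl, hs.add_right, hs.smul_right, hs.smul_right, hne, hnw]
        ring
      have e1 := hi 1 0
      have e2 := hi 0 1
      simp only [hpl, one_smul, zero_smul, add_zero, zero_add] at e1 e2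
      exact hperp _ e1 e2
    have hTn : (T : M₃) *ᵥ n = n := by
      have hk : ∀ k : ℕ, ((x ^ k : GL (Fin 3) F) : M₃) *ᵥ n = ν ^ k • n := fun k => by
        induction k with
        | zero => simp
        | succ k ih =>
          rw [pow_succ', Units.val_mul, ← Matrix.mulVec_mulVec, ih, Matrix.mulVec_smul, hν, smul_smul, pow_succ]
      have hν0 : ν ≠ 0 := fun e1 => hn0 (gl_mulVec_injective x (show (x : M₃) *ᵥ n = (x : M₃) *ᵥ 0 by
        rw [hν, e1, zero_smul, Matrix.mulVec_zero]))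
      rw [hT, hk, FiniteField.pow_card_sub_one_eq_one ν hν0, one_smul]
    have hdec : ∀ z, ∃ a b t, z = pl a b + t • n := fun z => by
      obtain ⟨t, ht⟩ := hperp (z - pl (dot σ z e) (dot σ z w / ρ)) (by
        simp only [hpl, hs.toSesq.sub_left, hs.add_left, hs.smul_left, hee, hwe]; ring) (by
        simp only [hpl, hs.toSesq.sub_left, hs.add_left, hs.smul_left, hew, ← hρ]; field_simp; ring)
      exact ⟨_, _, t, by rw [← ht]; abel⟩
    suffices hfin : ∃ b v, (T : M₃) *ᵥ b = b + v ∧ v ≠ 0 ∧ (T : M₃) *ᵥ v = v ∧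
        ∀ z, ∃ φ : F, (T : M₃) *ᵥ z = z + φ • v by
      obtain ⟨b, v, h1, h2', h3, h4⟩ := hfin
      obtain ⟨hvv, d, hd, hds, hdM⟩ := X.tv_of_rankOne hTM h1 h2' h3 h4
      exact ⟨v, d, h2', hvv, hd, hds, hdM⟩
    have hz0 : ∀ a b, pl a b = 0 → a = 0 ∧ b = 0 := fun a b h =>
      plinj a b 0 0 (h.trans (by simp [hpl]))
    by_cases hγ0 : γ = 0
    · have hα0 : α = 0 := by
        rw [hγ0, mul_zero, eq_comm, neg_eq_zero, mul_self_eq_zero] at hdet
        exact hdet
      refine ⟨w, pl β (-α), hTw, fun e1 => hB1 ?_, ?_, fun z => ?_⟩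
      · obtain ⟨hb0, -⟩ := hz0 _ _ e1
        refine sl_ext ?_ ?_ ?_ ?_
        · rw [show B.1 0 0 = 1 + α by rw [hα]; ring, hα0]; simp
        · rw [← hβ, hb0]; simp
        · rw [← hγ, hγ0]; simp
        · rw [hδ, hα0]; simp
      · rw [hTpl, hγ0, hα0]; simp [hpl]
      · obtain ⟨a, b, t, rfl⟩ := hdec z
        refine ⟨b, ?_⟩
        rw [Matrix.mulVec_add, Matrix.mulVec_smul, hTn, hTpl, hγ0, hα0]
        simp only [hpl]
        module
    · refine ⟨e, pl α γ, hTe, fun e1 => hγ0 (hz0 _ _ e1).2, ?_, fun z => ?_⟩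
      · rw [hTpl]
        have : α * α + β * γ = 0 := by rw [hdet]; ring
        rw [this, show γ * α - α * γ = 0 by ring]
        simp [hpl]
      · obtain ⟨a, b, t, rfl⟩ := hdec z
        refine ⟨(γ * a - α * b) / γ, ?_⟩
        rw [Matrix.mulVec_add, Matrix.mulVec_smul, hTn, hTpl]
        have e1 : (γ * a - α * b) / γ * α = α * a + β * b := by
          field_simp
          linear_combination (-b) * hdet
        simp only [hpl, smul_add, smul_smul, e1, div_mul_cancel₀ _ hγ0]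
        abel
  · -- order prime to `p`
    exfalso
    have hG' : ¬ p ∣ Nat.card (G.map Cfsg.Agent.PSL2Spec.proj) :=
      fun h => hG (h.trans (Subgroup.card_map_dvd G _))
    obtain ⟨a, ha⟩ : ∃ a : G.map Cfsg.Agent.PSL2Spec.proj, (a : Matrix.ProjectiveSpecialLinearGroup (Fin 2) F) =
        Cfsg.Agent.PSL2Spec.proj (Am u) := ⟨⟨_, Subgroup.mem_map_of_mem _ hAG⟩, rfl⟩
    obtain ⟨b, hb⟩ : ∃ b : G.map Cfsg.Agent.PSL2Spec.proj, (b : Matrix.ProjectiveSpecialLinearGroup (Fin 2) F) =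
        Cfsg.Agent.PSL2Spec.proj (Bm hBh u) := ⟨⟨_, Subgroup.mem_map_of_mem _ hBG⟩, rfl⟩
    have hApow : ∀ k : ℕ, (Am u : SL₂) ^ k = Am (u ^ k) := fun k => by
      induction k with
      | zero => rw [pow_zero, pow_zero]; apply sl_ext <;> simp [Am_val]
      | succ k ih => rw [pow_succ, pow_succ, ih, Am_mul]
    have hBpow : ∀ k : ℕ, (Bm hBh u) ^ k = Bm hBh (u ^ k) := fun k => by
      induction k with
      | zero => rw [pow_zero, pow_zero, Bm_one]
      | succ k ih => rw [pow_succ, pow_succ, ih, Bm_mul]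
    have hsq : ∀ v : Fˣ, v ^ 2 = 1 → (v = 1 ∨ v = -1) := fun v hv => by
      rcases mul_self_eq_one_iff.1 (show (v : F) * v = 1 by
        rw [← Units.val_mul, ← pow_two, hv, Units.val_one]) with h | h
      · exact Or.inl (Units.ext (by simpa using h))
      · exact Or.inr (Units.ext (by simpa using h))
    have hdiag : ∀ v : Fˣ, Cfsg.Agent.PSL2Spec.proj (Am v : SL₂) = 1 ↔ v ^ 2 = 1 := fun v => by
      rw [← map_one (Cfsg.Agent.PSL2Spec.proj : SL₂ →* _), Dickson.proj_eq_iff]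
      constructor
      · rintro (h | h) <;>
        · have h0 := congrArg (fun A : SL₂ => A.1 0 0) h
          simp [Am_val, Matrix.SpecialLinearGroup.coe_neg] at h0
          refine Units.ext ?_
          rw [Units.val_pow_eq_pow_val, Units.val_one]
          first
            | linear_combination (-((v : F) + 1)) * h0
            | linear_combination ((v : F) - 1) * h0
      · intro hv
        rcases hsq v hv with rfl | rfl
        · exact Or.inl (by apply sl_ext <;> simp [Am_val, Matrix.SpecialLinearGroup.coe_neg])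
        · exact Or.inr (by apply sl_ext <;> simp [Am_val, Matrix.SpecialLinearGroup.coe_neg])
    have hfull : ∀ v : Fˣ, Cfsg.Agent.PSL2Spec.proj (Bm hBh v) = 1 ↔ v ^ 2 = 1 := fun v => by
      rw [← map_one (Cfsg.Agent.PSL2Spec.proj : SL₂ →* _), Dickson.proj_eq_iff]
      constructor
      · rintro (h | h) <;>
        · have h0 := congrArg (fun A : SL₂ => A.1 1 0) h
          simp [Bm_val, hσy, Matrix.SpecialLinearGroup.coe_neg] at h0
          refine Units.ext ?_
          have e1 : (v : F)⁻¹ = v := by linear_combination -h0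
          rw [Units.val_pow_eq_pow_val, pow_two, Units.val_one]
          nth_rw 2 [← e1]
          exact mul_inv_cancel₀ v.ne_zero
      · intro hv
        rcases hsq v hv with rfl | rfl
        · exact Or.inl (by apply sl_ext <;> simp [Bm_val] <;> linear_combination -hsum)
        · exact Or.inr (by apply sl_ext <;> simp [Bm_val, Matrix.SpecialLinearGroup.coe_neg] <;> first | linear_combination hsum | linear_combination -hsum)
    -- the common order
    obtain ⟨n, hn⟩ : ∃ n, n = orderOf (u ^ 2) := ⟨_, rfl⟩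
    have horder : orderOf a = n ∧ orderOf b = n := by
      constructor <;> rw [hn] <;> refine orderOf_eq_orderOf_iff.2 fun k => ?_
      · rw [← Subtype.coe_inj, SubmonoidClass.coe_pow, OneMemClass.coe_one, ha, ← map_pow, hApow, hdiag, ← pow_mul,
          ← pow_mul, mul_comm]
      · rw [← Subtype.coe_inj, SubmonoidClass.coe_pow, OneMemClass.coe_one, hb, ← map_pow, hBpow, hfull, ← pow_mul,
          ← pow_mul, mul_comm]
    have hnq : n = (q + 1) / Nat.gcd (q + 1) 3 := by
      rw [hn, hu, inv_pow, orderOf_inv, show (r * r * r) ^ 2 = (r * r) ^ 3 by rw [← pow_two r, ← pow_mul]; group,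
        orderOf_pow' _ three_ne_zero, hro]
    have hn4 : 4 ≤ n ∧ Even n ∧ (n = 4 → q = 3 ∨ q = 11) := by
      have hq3 := X.three
      obtain ⟨k, hk⟩ := hodd
      rcases (Nat.dvd_prime Nat.prime_three).1 (Nat.gcd_dvd_right (q + 1) 3) with e1 | e1
      · rw [hnq, e1, Nat.div_one]
        exact ⟨by omega, ⟨k + 1, by omega⟩, by omega⟩
      · have h3 : 3 ∣ q + 1 := e1 ▸ Nat.gcd_dvd_left (q + 1) 3
        rw [hnq, e1]
        exact ⟨by omega, even_iff_two_dvd.2 (by omega), by omega⟩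
    have key : ∀ k : ℕ, k = 1 ∨ k = 2 → Commute (a ^ k) (b ^ k) → (u ^ k) ^ 2 ≠ 1 →
        y c * σ (y c) * 2 = 1 ∧ (u ^ k) ^ 4 = 1 := fun k _ hc' hk => by
      have h1 := eq_or_neg_of_commute (x := Am (u ^ k)) (y := Bm hBh (u ^ k)) (by
        have h2' := congrArg Subtype.val hc'.eq
        rw [MulMemClass.coe_mul, MulMemClass.coe_mul, SubmonoidClass.coe_pow, SubmonoidClass.coe_pow, ha, hb,
          ← map_pow, ← map_pow, hApow, hBpow] at h2'
        exact h2')
      obtain ⟨v, hv⟩ : ∃ v : Fˣ, v = u ^ k := ⟨_, rfl⟩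
      rw [← hv] at h1 hk ⊢
      have hv0 : (v : F) ≠ 0 := v.ne_zero
      have hv2 : (v : F) * v ≠ 1 := fun e1 => hk (Units.ext (by simpa [pow_two] using e1))
      rcases h1 with h | h
      · exfalso
        have h0 := congrArg (fun A : SL₂ => A.1 1 0) h
        simp [Am_val, Bm_val, Matrix.SpecialLinearGroup.coe_mul, Matrix.mul_apply, Fin.sum_univ_two] at h0
        field_simp at h0
        have h0' : ((v : F) * v - 1) * ((v : F) * v - 1) = 0 := by linear_combination h0
        exact mul_ne_zero (sub_ne_zero.2 hv2) (sub_ne_zero.2 hv2) h0'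
      · have h0 := congrArg (fun A : SL₂ => A.1 0 0) h
        have h1' := congrArg (fun A : SL₂ => A.1 1 0) h
        simp [Am_val, Bm_val, Matrix.SpecialLinearGroup.coe_neg, Matrix.SpecialLinearGroup.coe_mul, Matrix.mul_apply, Fin.sum_univ_two] at h0 h1'
        field_simp at h0 h1'
        have hvv : (v : F) * v = -1 := by
          have h' : ((v : F) * v - 1) * ((v : F) * v + 1) = 0 := by linear_combination h1'
          exact eq_neg_of_add_eq_zero_left ((mul_eq_zero.1 h').resolve_left (sub_ne_zero.2 hv2))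
        refine ⟨?_, Units.ext ?_⟩
        · have h3 : (2 : F) * ((v : F) * v * (y c * σ (y c)) + ρ) = 0 := by linear_combination h0
          rw [hvv] at h3
          have h4 := (mul_eq_zero.1 h3).resolve_left h2
          linear_combination hsum - h4
        · rw [Units.val_pow_eq_pow_val, Units.val_one, show (v : F) ^ 4 = ((v : F) * v) * ((v : F) * v) by ring, hvv]
          ring
    have hne1 : ∀ k : ℕ, 1 ≤ k → k < n → (u ^ k) ^ 2 ≠ 1 := fun k hk1 hkn e1 => by
      rw [← pow_mul, mul_comm, pow_mul] at e1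
      have := Nat.le_of_dvd hk1 (hn ▸ orderOf_dvd_of_pow_eq_one e1)
      omega
    rcases commute_or p hG' (horder.1.trans horder.2.symm) (horder.1.symm ▸ hn4.1) (horder.1.symm ▸ hn4.2.1) with
      hc' | ⟨ho, hp3, hc'⟩
    · obtain ⟨-, h4⟩ := key 1 (Or.inl rfl) (by simpa using hc') (hne1 1 le_rfl (by omega))
      rw [pow_one, show (4 : ℕ) = 2 * 2 from rfl, pow_mul] at h4
      have := Nat.le_of_dvd two_pos (hn ▸ orderOf_dvd_of_pow_eq_one h4)
      omega
    · obtain ⟨hhalf, -⟩ := key 2 (Or.inr rfl) hc' (hne1 2 (by omega) (by omega))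
      rcases hn4.2.2 (horder.1 ▸ ho) with hq | hq
      · refine hp3 ?_
        have : p ∣ Fintype.card F := hm ▸ dvd_pow_self p m.pos.ne'
        rw [X.circ.hF, hq] at this
        exact (Nat.prime_dvd_prime_iff_eq hpp Nat.prime_three).1 (hpp.dvd_of_dvd_pow this)
      · exact hN2 hq hhalf

end Ctx

end Cfsg.Agent.Classical.SUThree.Mon
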