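import Cfsg.Agent.Lib.Classical.MaxUnitWreathBlock

/-!
Stabilisers of points are maximal in three-dimensional special unitary groups.
-/

set_option autoImplicit false
set_option linter.unusedSectionVars false

namespace Cfsg.Agent.Classical.SUThree

open Matrix Module MaxTv

section
variable {F : Type*} [Field F] [Fintype F] {ι : Type} [Fintype ι] [DecidableEq ι] {σ : F ≃+* F} {f : (ι → F) → (ι → F) → F}

local notation "Mn" => Matrix ι ι F

/-- Vectors of equal non-zero norm are moved to one another, fixing the complement. -/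
theorem exists_move (hs : Herm σ f) {T : Submodule F (ι → F)} {y y' : ι → F} (hy : y ∈ T) (hy' : y' ∈ T)
    (he : f y y = f y' y') (h0 : f y y ≠ 0) (hμ : ∃ μ : F, μ * σ μ = 1 ∧ μ ≠ 1) :
    ∃ g : GL ι F, (∀ a b, f ((g : Mn) *ᵥ a) ((g : Mn) *ᵥ b) = f a b) ∧ (g : Mn) *ᵥ y = y' ∧
      ∀ w, (∀ z ∈ T, f w z = 0) → (g : Mn) *ᵥ w = w := by
  have one : ∀ v v', v ∈ T → v' ∈ T → f v v = f v' v' → f v v ≠ f v v' →
      ∃ g : GL ι F, (∀ a b, f ((g : Mn) *ᵥ a) ((g : Mn) *ᵥ b) = f a b) ∧ (g : Mn) *ᵥ v = v' ∧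
        ∀ w, (∀ z ∈ T, f w z = 0) → (g : Mn) *ᵥ w = w := by
    intro v v' hv hv' e hne
    obtain ⟨a, ha⟩ : ∃ a, a = f v v - f v v' := ⟨_, rfl⟩
    have ha0 : a ≠ 0 := ha ▸ sub_ne_zero.2 hne
    have hsa0 : σ a ≠ 0 := fun e => ha0 (σ.map_eq_zero_iff.1 e)
    have hva : f v (v - v') = a := by rw [hs.toSesq.sub_right, ha]
    have hd : f (v - v') (v - v') = a + σ a := by
      rw [hs.toSesq.sub_left, hs.toSesq.sub_right, hs.toSesq.sub_right, ha, map_sub, hs.self_fixed, ← hs.herm, ← e]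
      ring
    obtain ⟨R, hR, -, hRx⟩ := hs.exists_refl (d := v - v') (κ := -a⁻¹) (by
        rw [hd, map_neg, map_inv₀]
        field_simp
        ring) (by
        rw [hd]
        intro e
        field_simp at e
        exact hsa0 (by linear_combination -e))
    refine ⟨R, hR, ?_, fun w hw => ?_⟩
    · rw [hRx, hva, neg_mul, inv_mul_cancel₀ ha0, neg_one_smul]
      abel
    · rw [hRx, hw _ (sub_mem hv hv'), mul_zero, zero_smul, add_zero]
  by_cases hne : f y y = f y y'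
  · obtain ⟨μ, hμ1, hμ2⟩ := hμ
    have hn : f (μ • y) (μ • y) = f y y := by
      rw [hs.smul_left, hs.smul_right]; linear_combination f y y * hμ1
    have hσμ : σ μ ≠ 1 := fun e' => hμ2 (by rw [e', mul_one] at hμ1; exact hμ1)
    obtain ⟨g₁, hg₁, hg₁y, hg₁w⟩ := one y (μ • y) hy (T.smul_mem μ hy) hn.symm fun e => hσμ (by
      rw [hs.smul_right] at e
      exact mul_right_cancel₀ h0 (e.symm.trans (one_mul _).symm))
    obtain ⟨g₂, hg₂, hg₂y, hg₂w⟩ := one (μ • y) y' (T.smul_mem μ hy) hy' (hn.trans he) fun e => hμ2 (by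
      rw [hn, hs.smul_left, ← hne] at e
      exact mul_right_cancel₀ h0 (e.symm.trans (one_mul _).symm))
    refine ⟨g₂ * g₁, fun a b => ?_, ?_, fun w hw => ?_⟩
    · rw [Units.val_mul, ← Matrix.mulVec_mulVec, ← Matrix.mulVec_mulVec, hg₂, hg₁]
    · rw [Units.val_mul, ← Matrix.mulVec_mulVec, hg₁y, hg₂y]
    · rw [Units.val_mul, ← Matrix.mulVec_mulVec, hg₁w w hw, hg₂w w hw]
  · exact one y y' hy hy' he hne

/-- The determinant of an isometry is of norm one. -/
theorem exists_move_det (hs : Herm σ f) {T : Submodule F (ι → F)} (hT : NdS f T)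
    (h2 : 2 ≤ finrank F T) {y y' : ι → F} (hy : y ∈ T) (hy' : y' ∈ T) (he : f y y = f y' y') (h0 : f y y ≠ 0)
    (hμ : ∃ μ : F, μ * σ μ = 1 ∧ μ ≠ 1)
    (hdet : ∀ g : GL ι F, (∀ a b, f ((g : Mn) *ᵥ a) ((g : Mn) *ᵥ b) = f a b) →
      (g : Mn).det * σ (g : Mn).det = 1) :
    ∃ g : GL ι F, (∀ a b, f ((g : Mn) *ᵥ a) ((g : Mn) *ᵥ b) = f a b) ∧ g ∈ Geo.specialLinear ι F ∧
      (g : Mn) *ᵥ y = y' ∧ ∀ w, (∀ z ∈ T, f w z = 0) → (g : Mn) *ᵥ w = w := by
  obtain ⟨g, hg, hgy, hgw⟩ := exists_move hs hy hy' he h0 hμ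
  have h1 := finrank_le_inf_ker_add_one T (hs.toSesq.lin y')
  obtain ⟨z, ⟨hz, hzy⟩, hzz⟩ := hs.exists_norm_in (hs.nd_inf_ker hT hy' (by rw [← he]; exact h0))
    (fun e => by rw [e, finrank_bot] at h1; omega) (t := 1) (map_one σ)
  have hzy' : f z y' = 0 := LinearMap.mem_ker.1 hzy
  obtain ⟨ω, hω⟩ : ∃ ω, ω = (g : Mn).det := ⟨_, rfl⟩
  have hω1 : ω * σ ω = 1 := hω ▸ hdet g hg
  obtain ⟨R, hR, hRd, hRx⟩ := hs.exists_refl (d := z) (κ := σ ω - 1) (by
      rw [hzz, map_sub, hs.invol, map_one]; linear_combination hω1) (by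
      rw [hzz, mul_one, add_sub_cancel]
      exact fun e => one_ne_zero (by rw [← hω1, e, mul_zero]))
  refine ⟨R * g, fun a b => ?_, ?_, ?_, fun w hw => ?_⟩
  · rw [Units.val_mul, ← Matrix.mulVec_mulVec, ← Matrix.mulVec_mulVec, hR, hg]
  · refine MonoidHom.mem_ker.2 (Units.ext ?_)
    show ((R * g : GL ι F) : Mn).det = 1
    rw [Units.val_mul, Matrix.det_mul, hRd, hzz, mul_one, add_sub_cancel, ← hω, mul_comm, hω1]
  · rw [Units.val_mul, ← Matrix.mulVec_mulVec, hgy, hRx, hs.refl _ _ hzy', mul_zero, zero_smul, add_zero]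
  · rw [Units.val_mul, ← Matrix.mulVec_mulVec, hgw w hw, hRx, hw z hz, mul_zero, zero_smul, add_zero]

end

section
variable {F : Type*} [Field F] [Fintype F] {n q : ℕ}

/-- A scalar of norm one other than one. -/
theorem exists_norm_one (hF : Fintype.card F = q ^ 2) : ∃ μ : F, μ * qEquiv hF μ = 1 ∧ μ ≠ 1 := by
  obtain ⟨a, ha⟩ := (herm_hermForm (n := 1) hF).exists_moved
  have ha0 : a ≠ 0 := fun e => ha (by rw [e, map_zero])
  have hb0 : qEquiv hF a ≠ 0 := fun e => ha0 ((qEquiv hF).map_eq_zero_iff.1 e)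
  refine ⟨qEquiv hF a / a, ?_, fun e => ha ((div_eq_one_iff_eq ha0).1 e)⟩
  rw [map_div₀, (herm_hermForm (n := 1) hF).invol]
  field_simp

theorem norm_det_isometry (hF : Fintype.card F = q ^ 2) (g : GL (Fin n) F)
    (hg : ∀ a b, hermForm n F q ((g : Matrix (Fin n) (Fin n) F) *ᵥ a) ((g : Matrix (Fin n) (Fin n) F) *ᵥ b) =
      hermForm n F q a b) :
    (g : Matrix (Fin n) (Fin n) F).det * qEquiv hF (g : Matrix (Fin n) (Fin n) F).det = 1 := by
  have hm : (g : Matrix (Fin n) (Fin n) F)ᵀ * (g : Matrix (Fin n) (Fin n) F).map (qEquiv hF) = 1 := by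
    ext i j
    have h1 := hg (Pi.single i 1) (Pi.single j 1)
    have h2 : hermForm n F q (Pi.single i 1) (Pi.single j 1) = if i = j then 1 else 0 := by
      have h0 : q ≠ 0 := by have := two_le_q hF; omega
      rcases eq_or_ne i j with rfl | e
      · simp [hermForm, Pi.single_apply, apply_ite (· ^ q), zero_pow h0]
      · rw [if_neg e]
        refine Finset.sum_eq_zero fun x _ => ?_
        rcases eq_or_ne x i with rfl | e'
        · simp [e, zero_pow h0]
        · simp [e']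
    rw [h2] at h1
    simpa [hermForm, Matrix.mul_apply, Matrix.one_apply, qEquiv_apply, Matrix.mulVec_single_one] using h1
  have h2 := congrArg Matrix.det hm
  rw [Matrix.det_mul, Matrix.det_transpose, Matrix.det_one] at h2
  rwa [RingEquiv.map_det]

end

/-- Stabilisers of non-degenerate points. -/
theorem nondeg_maximal {F : Type*} [Field F] [Fintype F] {n q : ℕ} (hF : Fintype.card F = q ^ 2)
    (hn : 3 ≤ n) (h32 : ¬ (n = 3 ∧ q = 2)) (W : Submodule F (Fin n → F)) (hW0 : W ≠ ⊥) (hW : Geo.IsNondegenerateOn (hermForm n F q) W)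
    (hdim : finrank F W = 1) :
    Geo.IsMaximalIn (GU n F q ⊓ Geo.specialLinear (Fin n) F)
      (Geo.subspaceStabilizer W ⊓ (GU n F q ⊓ Geo.specialLinear (Fin n) F)) := by
  classical
  set σ := qEquiv hF with hσ
  set f := hermForm n F q with hf
  have hs : Herm σ f := herm_hermForm hF
  have hWn : NdS f W := fun w hw hw0 => (hW w hw hw0).1
  -- the orthogonal complement
  let W' : Submodule F (Fin n → F) :=
    { carrier := {x | ∀ w ∈ W, f x w = 0}
      add_mem' := fun {x y} hx hy w hw => by rw [hs.add_left, hx w hw, hy w hw, add_zero]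
      zero_mem' := fun w _ => hs.toSesq.zero_left w
      smul_mem' := fun c x hx w hw => by rw [hs.smul_left, hx w hw, mul_zero] }
  have hperp : ∀ x ∈ W, ∀ y ∈ W', f x y = 0 := fun x hx y hy => hs.refl _ _ (hy x hx)
  have hdisj : ∀ x, x ∈ W → x ∈ W' → x = 0 := fun x hx hx' => by
    by_contra hne
    obtain ⟨y, hy, hy'⟩ := hWn x hx hne
    exact hy' (hs.refl _ _ (hx' y hy))
  have hdec : ∀ v, ∃ x ∈ W, ∃ y ∈ W', x + y = v := fun v => by
    obtain ⟨z, hz, hzv⟩ := hs.exists_rep hWn (hs.toSesq.lin v)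
    refine ⟨z, hz, v - z, fun w hw => hs.refl _ _ ?_, add_sub_cancel _ _⟩
    rw [hs.toSesq.sub_right, hzv w hw, Sesq.lin_apply, sub_self]
  have hW'n : NdS f W' := fun y hy hy0 => by
    obtain ⟨v, hv⟩ := hs.toSesq.exists_left hy0
    obtain ⟨x, hx, z, hz, rfl⟩ := hdec v
    rw [hs.add_left, hperp x hx y hy, zero_add] at hv
    exact ⟨z, hz, hv⟩
  have hsum : n ≤ finrank F W + finrank F W' := by
    have htop : (⊤ : Submodule F (Fin n → F)) ≤ W ⊔ W' := fun v _ => by
      obtain ⟨x, hx, y, hy, rfl⟩ := hdec v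
      exact Submodule.add_mem_sup hx hy
    have h1 := (Submodule.finrank_mono htop).trans (Submodule.finrank_add_le_finrank_add_finrank W W')
    rwa [finrank_top, Module.finrank_pi, Fintype.card_fin] at h1
  have hT : ∀ v, v ∈ W ∨ v ∈ W' → ∀ t : GL (Fin n) F, ∀ c : F,
      (∀ x, (t : Matrix (Fin n) (Fin n) F) *ᵥ x = x + (c * f x v) • v) → t ∈ Geo.subspaceStabilizer W :=
    fun v hv t c ht => (mem_subspaceStabilizer_iff W t).2 fun x hx => by
      rw [ht]
      rcases hv with hv | hv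
      · exact add_mem hx (W.smul_mem _ hv)
      · rw [hperp x hx v hv, mul_zero, zero_smul, add_zero]; exact hx
  obtain ⟨τ, hτ0, hτ⟩ := hs.exists_skew
  obtain ⟨x₀, hx₀, hx₀a⟩ := hs.exists_aniso_of_nd hWn hW0
  have hx₀0 : x₀ ≠ 0 := fun e => hx₀a (by rw [e, hs.toSesq.zero_left])
  refine isMaximalIn_intro inf_le_right (fun hle => ?_) fun M hHM hMK g hgM hgH => ?_
  · obtain ⟨y₀, hy₀, hyy⟩ := hs.exists_norm_in_big (T := W') hW'n le_rfl (by omega)
      (t := -f x₀ x₀) (by rw [map_neg, hs.self_fixed])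
    have hiso : f (x₀ + y₀) (x₀ + y₀) = 0 := by
      rw [hs.add_left, hs.add_right, hs.add_right, hyy, hperp x₀ hx₀ y₀ hy₀, hy₀ x₀ hx₀]; ring
    obtain ⟨t, ht, htx⟩ := exists_gu_tv hF hiso hτ
    have h := (mem_subspaceStabilizer_iff W t).1 (hle ht).1 x₀ hx₀
    simp only [← hf] at htx
    rw [htx, hs.add_right, hperp x₀ hx₀ y₀ hy₀, add_zero] at h
    have h1 : y₀ ∈ W := by
      have h2 := sub_mem (W.smul_mem (τ * f x₀ x₀)⁻¹ (sub_mem h hx₀)) hx₀
      rwa [add_sub_cancel_left, smul_smul, inv_mul_cancel₀ (mul_ne_zero hτ0 hx₀a), one_smul,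
        add_sub_cancel_left] at h2
    rw [hdisj y₀ h1 hy₀, hs.toSesq.zero_left, eq_comm, neg_eq_zero] at hyy
    exact hx₀a hyy
  have hgi : ∀ x y, f ((g : Matrix (Fin n) (Fin n) F) *ᵥ x) ((g : Matrix (Fin n) (Fin n) F) *ᵥ y) = f x y :=
    isometry_of_le M hMK hgM
  have hblock : ∀ v, v ∈ W ∨ v ∈ W' → f v v = 0 → UPt σ f M v := fun v hv hvv c hc => by
    obtain ⟨t, ht, htx⟩ := exists_gu_tv hF hvv hc
    exact ⟨t, hHM ⟨hT v hv t c htx, ht⟩, htx⟩
  obtain ⟨x₁, hx₁, y₁, hy₁, hx₁0, hy₁0, hiso₁, hP⟩ : ∃ x₁ ∈ W, ∃ y₁ ∈ W', x₁ ≠ 0 ∧ y₁ ≠ 0 ∧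
      f (x₁ + y₁) (x₁ + y₁) = 0 ∧ UPt σ f M (x₁ + y₁) := by
    by_contra hc
    push Not at hc
    have hone : ∀ v ∈ W', f v v = 0 → (g : Matrix (Fin n) (Fin n) F) *ᵥ v ∈ W ∨
        (g : Matrix (Fin n) (Fin n) F) *ᵥ v ∈ W' := fun v hv hvv => by
      obtain ⟨x, hx, y, hy, hxy⟩ := hdec ((g : Matrix (Fin n) (Fin n) F) *ᵥ v)
      by_cases h1 : x = 0
      · rw [h1, zero_add] at hxy; exact Or.inr (hxy ▸ hy)
      by_cases h2 : y = 0
      · rw [h2, add_zero] at hxy; exact Or.inl (hxy ▸ hx)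
      exact absurd (hxy ▸ (hblock v (Or.inr hv) hvv).map hs hgM hgi)
        (hc x hx y hy h1 h2 (by rw [hxy, hgi, hvv]))
    have h2W' : 2 ≤ finrank F W' := by omega
    have hspan : ∀ U : Submodule F (Fin n → F), (∀ a ∈ W', f a a = 0 → (g : Matrix (Fin n) (Fin n) F) *ᵥ a ∈ U) →
        W'.map (Matrix.toLin' (g : Matrix (Fin n) (Fin n) F)) ≤ U := fun U hU => by
      rw [Submodule.map_le_iff_le_comap]
      refine (hs.le_span_iso_nd hW'n h2W').trans (Submodule.span_le.2 fun a ha => ?_)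
      rw [SetLike.mem_coe, Submodule.mem_comap, Matrix.toLin'_apply]
      exact hU a ha.1 ha.2
    have hfr : finrank F (W'.map (Matrix.toLin' (g : Matrix (Fin n) (Fin n) F))) = finrank F W' :=
      (Submodule.equivMapOfInjective _ (fun a b hab => gl_mulVec_injective g (by
        simpa [Matrix.toLin'_apply] using hab)) W').finrank_eq.symm
    have hgW' : ∀ a ∈ W', f a a = 0 → (g : Matrix (Fin n) (Fin n) F) *ᵥ a ∈ W' := fun a ha haa => by
      rcases eq_or_ne a 0 with rfl | ha0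
      · rw [Matrix.mulVec_zero]; exact zero_mem _
      refine (hone a ha haa).resolve_left fun haW => ?_
      have hall : ∀ b ∈ W', f b b = 0 → (g : Matrix (Fin n) (Fin n) F) *ᵥ b ∈ W := fun b hb hbb => by
        have hsame : ∀ a b, a ∈ W' → b ∈ W' → f a a = 0 → f b b = 0 → f a b ≠ 0 →
            (g : Matrix (Fin n) (Fin n) F) *ᵥ a ∈ W → (g : Matrix (Fin n) (Fin n) F) *ᵥ b ∈ W :=
          fun a b ha hb haa hbb hab h =>
            (hone b hb hbb).resolve_right fun h' => hab (by rw [← hgi]; exact hperp _ h _ h')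
        rcases eq_or_ne b 0 with rfl | hb0
        · rw [Matrix.mulVec_zero]; exact zero_mem _
        obtain ⟨c, hc, hcc, hca, hcb⟩ := hs.exists_iso_both_nd hW'n h2W' ha hb ha0 hb0
        exact hsame c b hc hb hcc hbb hcb (hsame a c ha hc haa hcc (fun e => hca (hs.refl _ _ e)) haW)
      have := Submodule.finrank_mono (hspan W hall)
      rw [hfr] at this
      omega
    have heq : W'.map (Matrix.toLin' (g : Matrix (Fin n) (Fin n) F)) = W' :=
      Submodule.eq_of_le_of_finrank_eq (hspan W' hgW') hfr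
    refine hgH ⟨(mem_subspaceStabilizer_iff W g).2 fun x hx => ?_, hMK hgM⟩
    obtain ⟨x', hx', y', hy', hxy⟩ := hdec ((g : Matrix (Fin n) (Fin n) F) *ᵥ x)
    suffices y' = 0 by rw [← hxy, this, add_zero]; exact hx'
    by_contra hne
    obtain ⟨z, hz, hzy⟩ := hW'n y' hy' hne
    obtain ⟨z', hz', hgz⟩ : z ∈ W'.map (Matrix.toLin' (g : Matrix (Fin n) (Fin n) F)) := by rw [heq]; exact hz
    rw [Matrix.toLin'_apply] at hgz
    refine hzy ?_
    have h1 : f z ((g : Matrix (Fin n) (Fin n) F) *ᵥ x) = 0 := by rw [← hgz, hgi]; exact hz' x hx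
    rwa [← hxy, hs.add_right, hz x' hx', zero_add] at h1
  have hW1 : finrank F W = 1 := le_antisymm (by omega) (Submodule.one_le_finrank_iff.2 hW0)
  refine LinFour.guSL_le_three hF (by omega) (by omega) fun v hvv => ?_
  simp only [← hf] at hvv ⊢
  obtain ⟨x, hx, y, hy, rfl⟩ := hdec v
  by_cases h1 : x = 0
  · rw [h1, zero_add] at hvv ⊢; exact hblock y (Or.inr hy) hvv
  obtain ⟨c, hc⟩ := (finrank_eq_one_iff_of_nonzero' (⟨x₁, hx₁⟩ : W) (fun e => hx₁0 (congrArg Subtype.val e))).1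
    hW1 ⟨x, hx⟩
  have hxc : x = c • x₁ := (congrArg Subtype.val hc).symm
  have hxx : f x x ≠ 0 := fun e => by
    obtain ⟨d, hd⟩ := (finrank_eq_one_iff_of_nonzero' (⟨x, hx⟩ : W) (fun e' => h1 (congrArg Subtype.val e'))).1
      hW1 ⟨x₀, hx₀⟩
    exact hx₀a (by rw [show x₀ = d • x from (congrArg Subtype.val hd).symm, hs.smul_left, hs.smul_right, e,
      mul_zero, mul_zero])
  have hn₁ : f (c • y₁) (c • y₁) = -f x x := by
    have h2 : f (c • (x₁ + y₁)) (c • (x₁ + y₁)) = 0 := by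
      rw [hs.smul_left, hs.smul_right, hiso₁, mul_zero, mul_zero]
    rw [smul_add, ← hxc, hs.add_left, hs.add_right, hs.add_right, hperp x hx _ (W'.smul_mem c hy₁),
      hs.refl _ _ (hperp x hx _ (W'.smul_mem c hy₁))] at h2
    linear_combination h2
  have hn₂ : f y y = -f x x := by
    rw [hs.add_left, hs.add_right, hs.add_right, hperp x hx y hy, hy x hx] at hvv
    linear_combination hvv
  obtain ⟨t, hti, htd, hty, htfix⟩ := exists_move_det hs hW'n (by omega) (W'.smul_mem c hy₁) hy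
    (hn₁.trans hn₂.symm) (by rw [hn₁]; exact neg_ne_zero.2 hxx) (exists_norm_one hF) (norm_det_isometry hF)
  have htW : ∀ w ∈ W, (t : Matrix (Fin n) (Fin n) F) *ᵥ w = w := fun w hw =>
    htfix w fun z hz => hperp w hw z hz
  have htM : t ∈ M := hHM ⟨(mem_subspaceStabilizer_iff W t).2 fun w hw => by rw [htW w hw]; exact hw,
    mem_GU.2 hti, htd⟩
  have h' := (hP.smul hs c).map hs htM hti
  rwa [smul_add, ← hxc, Matrix.mulVec_add, htW x hx, hty] at h'

/-- Stabilisers of totally singular subspaces. -/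
theorem parabolic_maximal {F : Type*} [Field F] [Fintype F] {n q : ℕ} (hF : Fintype.card F = q ^ 2)
    (hn : 3 ≤ n) (h32 : ¬ (n = 3 ∧ q = 2)) (W : Submodule F (Fin n → F)) (hW0 : W ≠ ⊥)
    (hW : Geo.IsTotallySingularFor (hermForm n F q) W) :
    Geo.IsMaximalIn (GU n F q ⊓ Geo.specialLinear (Fin n) F)
      (Geo.subspaceStabilizer W ⊓ (GU n F q ⊓ Geo.specialLinear (Fin n) F)) := by
  classical
  set σ := qEquiv hF with hσ
  set f := hermForm n F q with hf
  have hs : Herm σ f := herm_hermForm hF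
  have htop : NdS f ⊤ := fun w _ hw0 => (hs.toSesq.exists_left hw0).imp fun x hx => ⟨trivial, hx⟩
  have hcard : Fintype.card (Fin n) + 2 < 2 * finrank F (⊤ : Submodule F (Fin n → F)) := by
    rw [finrank_top, Module.finrank_pi, Fintype.card_fin]; omega
  obtain ⟨w₀, hw₀, hw₀0⟩ := Submodule.exists_mem_ne_zero_of_ne_bot hW0
  obtain ⟨x₀, hx₀⟩ := hs.toSesq.exists_left hw₀0
  obtain ⟨u₀, -, hu₀, hu₀w⟩ := hs.exists_iso_left (lt_trans (Nat.lt_succ_self _) hcard) (u := w₀) ⟨x₀, trivial, hx₀⟩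
  obtain ⟨τ, hτ0, hτ⟩ := hs.exists_skew
  -- vectors orthogonal to `hs.perp W` are in `W`
  have hWperp : ∀ v, (∀ z ∈ hs.perp W, f v z = 0) → v ∈ W := fun v hv => by
    by_contra hvW
    obtain ⟨φ, hφv, hφ⟩ := Submodule.exists_le_ker_of_notMem hvW
    obtain ⟨z, -, hz⟩ := hs.exists_rep htop φ
    have hzW : z ∈ hs.perp W := fun w hw => hs.refl _ _ (by rw [hz w trivial]; exact hφ hw)
    exact hφv (by rw [← hz v trivial]; exact hv z hzW)
  refine isMaximalIn_intro inf_le_right (fun hle => ?_) fun M hHM hMK g hgM hgH => ?_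
  · obtain ⟨t, ht, htx⟩ := exists_gu_tv hF (v := u₀) hu₀ hτ
    simp only [← hf] at htx
    have h := (mem_subspaceStabilizer_iff W t).1 (hle ht).1 w₀ hw₀
    rw [htx] at h
    have hne : τ * f w₀ u₀ ≠ 0 := mul_ne_zero hτ0 fun e => hu₀w (hs.refl _ _ e)
    have h1 : u₀ ∈ W := by
      have := W.smul_mem (τ * f w₀ u₀)⁻¹ (sub_mem h hw₀)
      rwa [add_sub_cancel_left, smul_smul, inv_mul_cancel₀ hne, one_smul] at this
    exact hu₀w (hW u₀ h1 w₀ hw₀)
  have hgi : ∀ x y, f ((g : Matrix (Fin n) (Fin n) F) *ᵥ x) ((g : Matrix (Fin n) (Fin n) F) *ᵥ y) = f x y :=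
    isometry_of_le M hMK hgM
  have hmemH : ∀ t : GL (Fin n) F,
      (∀ x y, f ((t : Matrix (Fin n) (Fin n) F) *ᵥ x) ((t : Matrix (Fin n) (Fin n) F) *ᵥ y) = f x y) →
      t ∈ Geo.specialLinear (Fin n) F → (∀ x ∈ W, (t : Matrix (Fin n) (Fin n) F) *ᵥ x ∈ W) → t ∈ M :=
    fun t h1 h2 h3 => hHM ⟨(mem_subspaceStabilizer_iff W t).2 h3, mem_GU.2 h1, h2⟩
  have hblock : ∀ v ∈ hs.perp W, f v v = 0 → UPt σ f M v := fun v hv hvv c hc => by
    obtain ⟨t, ht, htx⟩ := exists_gu_tv hF hvv hc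
    refine ⟨t, hHM ⟨(mem_subspaceStabilizer_iff W t).2 fun x hx => ?_, ht⟩, htx⟩
    simp only [← hf] at htx
    rw [htx, hs.refl _ _ (hv x hx), mul_zero, zero_smul, add_zero]; exact hx
  obtain ⟨v₁, hv₁, hv₁iso, w₁, hw₁, hv₁w⟩ :
      ∃ v₁, UPt σ f M v₁ ∧ f v₁ v₁ = 0 ∧ ∃ w ∈ W, f v₁ w ≠ 0 := by
    by_contra hc
    push Not at hc
    let S := Submodule.span F {a : Fin n → F | a ∈ hs.perp W ∧ f a a = 0}
    have hgen : ∀ a ∈ hs.perp W, f a a = 0 →
        (g : Matrix (Fin n) (Fin n) F) *ᵥ a ∈ hs.perp W ∧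
          f ((g : Matrix (Fin n) (Fin n) F) *ᵥ a) ((g : Matrix (Fin n) (Fin n) F) *ᵥ a) = 0 := fun a ha haa =>
      ⟨hc _ ((hblock a ha haa).map hs hgM hgi) (by rw [hgi, haa]), by rw [hgi, haa]⟩
    have hSP : S ≤ hs.perp W := Submodule.span_le.2 fun a ha => ha.1
    have hgS : S.map (Matrix.toLin' (g : Matrix (Fin n) (Fin n) F)) = S := by
      refine Submodule.eq_of_le_of_finrank_eq ?_ (Submodule.equivMapOfInjective _ (fun a b hab =>
        gl_mulVec_injective g (by simpa [Matrix.toLin'_apply] using hab)) S).finrank_eq.symm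
      rw [Submodule.map_le_iff_le_comap]
      refine Submodule.span_le.2 fun a ha => ?_
      rw [SetLike.mem_coe, Submodule.mem_comap, Matrix.toLin'_apply]
      exact Submodule.subset_span (hgen a ha.1 ha.2)
    have hWS : ∀ w ∈ W, w ∈ S := fun w hw =>
      Submodule.subset_span ⟨fun x hx => hW w hw x hx, hW w hw w hw⟩
    refine hgH ⟨(mem_subspaceStabilizer_iff W g).2 fun x hx => hWperp _ fun z hz => ?_, hMK hgM⟩
    set p := (g : Matrix (Fin n) (Fin n) F) *ᵥ x with hp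
    obtain ⟨hpW, hpp⟩ := hgen x (fun w hw => hW x hx w hw) (hW x hx x hx)
    have hporth : ∀ s ∈ S, f p s = 0 := fun s hs' => by
      obtain ⟨s', hs'', rfl⟩ : s ∈ S.map (Matrix.toLin' (g : Matrix (Fin n) (Fin n) F)) := by rw [hgS]; exact hs'
      rw [Matrix.toLin'_apply, hp, hgi]
      exact hs.refl _ _ (hSP hs'' x hx)
    by_contra hne
    have hzp : f z p ≠ 0 := fun e => hne (hs.refl _ _ e)
    set z' := (f z p)⁻¹ • z with hz'
    have hz'P : z' ∈ hs.perp W := (hs.perp W).smul_mem _ hz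
    have hz'p : f z' p = 1 := by rw [hz', hs.smul_left, inv_mul_cancel₀ hzp]
    obtain ⟨d, hd⟩ := hs.exists_trace_eq (a := -f z' z') (by rw [map_neg, hs.self_fixed])
    clear_value z'
    have hpz' : f p z' = 1 := by rw [hs.herm, hz'p, map_one]
    have hiso : f (z' + d • p) (z' + d • p) = 0 := by
      rw [hs.add_left, hs.add_right, hs.add_right, hs.smul_left, hs.smul_left, hs.smul_right, hs.smul_right, hz'p,
        hpz', hpp]
      linear_combination hd
    have h1 := hporth _ (Submodule.subset_span ⟨add_mem hz'P ((hs.perp W).smul_mem d hpW), hiso⟩)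
    rw [hs.add_right, hs.smul_right, hpz', hpp, mul_zero, add_zero] at h1
    exact one_ne_zero h1
  refine LinFour.guSL_le_three hF (by omega) (by omega) fun u huu => ?_
  simp only [← hf] at huu ⊢
  by_cases hu : ∀ w ∈ W, f u w = 0
  · exact hblock u hu huu
  push Not at hu
  obtain ⟨w₂, hw₂, huw⟩ := hu
  -- equal functionals on `W`
  have hcoset : ∀ v v', UPt σ f M v → f v v = 0 → f v' v' = 0 → (∃ w ∈ W, f v w ≠ 0) →
      (∀ w ∈ W, f v w = f v' w) → UPt σ f M v' := by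
    rintro v v' hv hvv hv'v' ⟨w, hw, hvw⟩ heq
    set e := (σ (f v w))⁻¹ • w with he
    have heW : e ∈ W := W.smul_mem _ hw
    have hve : f v e = 1 := by rw [he, hs.smul_right, map_inv₀, hs.invol, inv_mul_cancel₀ hvw]
    have hzW : v' - v ∈ hs.perp W := fun x hx => by rw [hs.toSesq.sub_left, ← heq x hx, sub_self]
    obtain ⟨t, hti, htd, htx⟩ := hs.exists_eichler (c := f v (v' - v)) (hW e heW e heW) (hzW e heW) (by
      rw [← hs.herm]
      simp only [hs.toSesq.sub_left, hs.toSesq.sub_right, hvv, hv'v']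
      ring)
    have htM : t ∈ M := hmemH t hti htd fun x hx => by
      rw [htx, hW x hx e heW, hs.refl _ _ (hzW x hx)]; simpa using hx
    have := hv.map hs htM hti
    rwa [htx, hve, one_smul, mul_one, sub_self, zero_smul, add_zero, add_sub_cancel] at this
  by_cases hdep : ∀ w ∈ W, f v₁ w₁ * f u w = f u w₁ * f v₁ w
  · -- proportional functionals
    have hu1 : f u w₁ ≠ 0 := fun e => by
      have := hdep w₂ hw₂
      rw [e, zero_mul] at this
      exact mul_ne_zero hv₁w huw this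
    refine hcoset _ u (hv₁.smul hs (f u w₁ / f v₁ w₁)) ?_ huu ⟨w₁, hw₁, ?_⟩ fun w hw => ?_
    · rw [hs.smul_left, hs.smul_right, hv₁iso, mul_zero, mul_zero]
    · rw [hs.smul_left, div_mul_cancel₀ _ hv₁w]; exact hu1
    · rw [hs.smul_left, div_mul_eq_mul_div, ← hdep w hw, mul_div_cancel_left₀ _ hv₁w]
  push Not at hdep
  obtain ⟨w, hw, hne⟩ := hdep
  set r := (f v₁ w₁ - f u w₁) with hr
  set s := (f v₁ w - f u w) with hs'
  set a₀ := σ s • w₁ - σ r • w with ha₀
  have ha₀W : a₀ ∈ W := sub_mem (W.smul_mem _ hw₁) (W.smul_mem _ hw)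
  have hva₀ : f v₁ a₀ ≠ 0 := by
    rw [ha₀, hs.toSesq.sub_right, hs.smul_right, hs.smul_right, hs.invol, hs.invol, hr, hs']
    intro e
    exact hne (by linear_combination -e)
  have hua₀ : f u a₀ = f v₁ a₀ := by
    rw [ha₀, hs.toSesq.sub_right, hs.toSesq.sub_right, hs.smul_right, hs.smul_right, hs.smul_right, hs.smul_right,
      hs.invol, hs.invol, hr, hs']
    ring
  set a := σ (f v₁ a₀)⁻¹ • a₀ with ha
  have haW : a ∈ W := W.smul_mem _ ha₀W
  have hva : f v₁ a = 1 := by rw [ha, hs.smul_right, hs.invol, inv_mul_cancel₀ hva₀]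
  have hua : f u a = 1 := by rw [ha, hs.smul_right, hs.invol, hua₀, inv_mul_cancel₀ hva₀]
  clear_value a
  -- an isotropic vector with the difference of the functionals
  have hbne : ∃ x ∈ W, f (u - v₁) x ≠ 0 := by
    by_contra hc
    push Not at hc
    have e1 := hc w hw
    have e2 := hc w₁ hw₁
    rw [hs.toSesq.sub_left, sub_eq_zero] at e1 e2
    exact hne (by rw [e1, e2])
  obtain ⟨x, hx, hxb⟩ := hbne
  obtain ⟨d, hd⟩ := hs.exists_trace_eq (a := -f (u - v₁) (u - v₁)) (by rw [map_neg, hs.self_fixed])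
  set b := u - v₁ + (σ (d / f (u - v₁) x)) • x with hb
  have hbb : f b b = 0 := by
    rw [hb, hs.add_left, hs.add_right, hs.add_right, hs.smul_left, hs.smul_left, hs.smul_right,
      hs.smul_right, hW x hx x hx, hs.herm x (u - v₁), hs.invol, ← map_mul, div_mul_cancel₀ _ hxb]
    linear_combination hd
  have hbw : ∀ y ∈ W, f b y = f u y - f v₁ y := fun y hy => by
    rw [hb, hs.add_left, hs.smul_left, hW x hx y hy, mul_zero, add_zero, hs.toSesq.sub_left]
  have hba : f b a = 0 := by rw [hbw a haW, hua, hva, sub_self]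
  have hab : f a b = 0 := hs.refl _ _ hba
  obtain ⟨t, hti, htd, htx⟩ := hs.exists_swap_tv (hW a haW a haW) hbb hab
  have htM : t ∈ M := hmemH t hti htd fun y hy => by
    rw [htx, hW y hy a haW, zero_smul, add_zero]; exact sub_mem hy (W.smul_mem _ haW)
  refine hcoset _ u (hv₁.map hs htM hti) (by rw [hti, hv₁iso]) huu ?_ fun y hy => ?_
  · refine ⟨a, haW, ?_⟩
    rw [htx, hva, one_smul, hs.toSesq.sub_left, hs.add_left, hs.smul_left, hW a haW a haW, hba, hva]
    simp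
  · rw [htx, hva, one_smul, hs.toSesq.sub_left, hs.add_left, hs.smul_left, hW a haW y hy, hbw y hy]
    ring

end Cfsg.Agent.Classical.SUThree
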