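import Cfsg.Agent.Lib.Classical.SUThree.MonOdd
import Cfsg.Agent.Lib.Classical.SUThree.MonEven
import Cfsg.Agent.Lib.Classical.SUThree.Full
import Cfsg.Agent.Lib.Classical.SUThree.Subspace
import Cfsg.Agent.Lib.Classical.AschUnitThreeFrame
import Cfsg.Agent.Lib.Classical.MaxUnitWreathMain

/-!
Stabilisers of orthonormal frames are maximal in three-dimensional special unitary groups.
-/

set_option autoImplicit false
set_option linter.unusedSectionVars false

namespace Cfsg.Agent.Classical.SUThree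

open Matrix Module MaxTv
open MaxMon (IsMon)

variable {F : Type*} [Field F] [Fintype F]

local notation "M₃" => Matrix (Fin 3) (Fin 3) F

/-- Stabilisers of decompositions into three orthogonal lines are maximal. -/
theorem monomial_maximal {q : ℕ} (hF : Fintype.card F = q ^ 2) (hq : 3 ≤ q) (hq5 : q ≠ 5)
    (D : Fin 3 → Submodule F (Fin 3 → F)) (hD : Geo.IsNondegenerateMDecomposition (hermForm 3 F q) 1 D) :
    Geo.IsMaximalIn (GU 3 F q ⊓ Geo.specialLinear (Fin 3) F)
      (Geo.decompositionStabilizer D ⊓ (GU 3 F q ⊓ Geo.specialLinear (Fin 3) F)) := by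
  classical
  obtain ⟨p, hp⟩ := exists_proj hD.decomp.indep hD.decomp.iSup_eq_top
  obtain ⟨U, hU, hDU⟩ := UnitThree.exists_frame_basis hF hD
  have hs := herm_hermForm (n := 3) hF
  have hC := MaxUnitMon.circ_qEquiv hF
  have hUiso : ∀ a b, hermForm 3 F q ((U : M₃) *ᵥ a) ((U : M₃) *ᵥ b) = hermForm 3 F q a b := mem_GU.1 hU
  have hUinv : ∀ a b, hermForm 3 F q (((U⁻¹ : GL (Fin 3) F) : M₃) *ᵥ a) (((U⁻¹ : GL (Fin 3) F) : M₃) *ᵥ b) =
      hermForm 3 F q a b := fun a b => by rw [← hUiso, mulVec_inv_cancel, mulVec_inv_cancel]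
  have hmemD : ∀ (x : Fin 3 → F) i, x ∈ D i ↔ ∃ t : F, t • ((U : M₃) *ᵥ Pi.single i 1) = x := fun x i => by
    rw [hDU i, Submodule.mem_span_singleton]
  -- monomial matrices are the stabiliser
  have hstab : ∀ g : GL (Fin 3) F, g ∈ Geo.decompositionStabilizer D ↔ IsMon ((U⁻¹ * g * U : GL (Fin 3) F) : M₃) := by
    intro g
    constructor
    · rintro ⟨π, hπ⟩ j
      refine ⟨π j, fun i hi => ?_⟩
      have h1 : (g : M₃) *ᵥ ((U : M₃) *ᵥ Pi.single j 1) ∈ D (π j) := by
        rw [← hπ j]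
        exact Submodule.mem_map_of_mem (f := Matrix.toLin' (g : M₃)) ((hmemD _ j).2 ⟨1, one_smul _ _⟩)
      obtain ⟨t, ht⟩ := (hmemD _ _).1 h1
      rw [← MaxMon.col_apply ((U⁻¹ * g * U : GL (Fin 3) F) : M₃) i j, Units.val_mul, Units.val_mul,
        ← Matrix.mulVec_mulVec, ← Matrix.mulVec_mulVec, ← ht, Matrix.mulVec_smul, inv_mulVec_cancel, Pi.smul_apply,
        Pi.single_eq_of_ne hi, smul_zero]
    · intro h
      obtain ⟨π, x, hx, hπ⟩ := h.exists_perm
      refine hp.mem_stabilizer (fun i j => by rw [hD.decomp.finrank_eq, hD.decomp.finrank_eq]) π (fun j y hy => ?_) fun i e => ?_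
      swap
      · have := hD.decomp.finrank_eq i; rw [e, finrank_bot] at this; omega
      obtain ⟨t, rfl⟩ := (hmemD _ j).1 hy
      refine (hmemD _ _).2 ⟨t * x j, ?_⟩
      have h1 := congrArg (fun z => (U : M₃) *ᵥ z) (hπ j)
      simp only [Units.val_mul, ← Matrix.mulVec_mulVec, mulVec_inv_cancel] at h1
      rw [Matrix.mulVec_smul, h1, show (Pi.single (π j) (x j) : Fin 3 → F) = x j • Pi.single (π j) 1 by
        rw [← Pi.single_smul, smul_eq_mul, mul_one], Matrix.mulVec_smul, smul_smul]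
  refine isMaximalIn_intro inf_le_right (fun hle => ?_) fun M hHM hMK g hgM hgH => ?_
  · obtain ⟨γ, hγ⟩ := hs.exists_norm (t := (-1 : F)) (by rw [map_neg, map_one])
    obtain ⟨c, hc0, hc⟩ := hs.exists_skew
    obtain ⟨v, hv⟩ : ∃ v : Fin 3 → F, v = ![1, γ, 0] := ⟨_, rfl⟩
    have hvv : hermForm 3 F q v v = 0 := by
      show MaxUnitMon.dot (qEquiv hF) v v = 0
      simp [MaxUnitMon.dot, hv, Fin.sum_univ_three]
      linear_combination hγ
    have hγ0 : γ ≠ 0 := fun e => by simp [e] at hγ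
    obtain ⟨l, hl, hl1⟩ : ∃ l : F, qEquiv hF l = l ∧ (1 + l * c ≠ 0 ∧ l ≠ 0) := by
      have hlt : ({0, -c⁻¹} : Finset F).card < (MaxUnitMon.fix (qEquiv hF)).card := by
        rw [hC.card_fix]; exact lt_of_le_of_lt Finset.card_le_two (by omega)
      obtain ⟨l, hl, hl'⟩ := Finset.exists_mem_notMem_of_card_lt_card hlt
      simp only [Finset.mem_insert, Finset.mem_singleton, not_or] at hl'
      refine ⟨l, MaxUnitMon.mem_fix.1 hl, fun e => hl'.2 ?_, hl'.1⟩
      field_simp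
      linear_combination e
    obtain ⟨T, hT, hTx⟩ := exists_gu_tv hF hvv (c := l * c)
      (by rw [map_mul, hl]; linear_combination l * hc)
    have hUT : U * T * U⁻¹ ∈ GU 3 F q ⊓ Geo.specialLinear (Fin 3) F :=
      Subgroup.mem_inf.2 ⟨mul_mem (mul_mem hU (Subgroup.mem_inf.1 hT).1) (inv_mem hU),
        (MonoidHom.normal_ker (Matrix.GeneralLinearGroup.det : GL (Fin 3) F →* Fˣ)).conj_mem T hT.2 U⟩
    have h := (hstab _).1 (hle hUT).1
    rw [show U⁻¹ * (U * T * U⁻¹) * U = T by group] at h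
    obtain ⟨i, hi⟩ := h 0
    have hcol : ∀ k, (T : M₃) k 0 = (Pi.single 0 1 + (l * c) • v : Fin 3 → F) k := fun k => by
      have e : hermForm 3 F q (Pi.single 0 1) v = 1 := by
        show MaxUnitMon.dot (qEquiv hF) (Pi.single 0 1) v = 1
        rw [MaxUnitMon.dot_single_left, hv]
        simp
      rw [← MaxMon.col_apply (T : M₃) k 0, hTx, e, mul_one]
    rcases eq_or_ne i 0 with rfl | hi0
    · have := hi 1 (by decide)
      rw [hcol] at this
      simp [hv, hl1.2, hc0, hγ0] at this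
    · have := hi 0 hi0.symm
      rw [hcol] at this
      simp [hv] at this
      exact hl1.1 this
  · obtain ⟨σ, hσ⟩ : ∃ σ, σ = qEquiv hF := ⟨_, rfl⟩
    obtain ⟨M', hM'⟩ : ∃ M', M' = M.comap (MulAut.conj U).toMonoidHom := ⟨_, rfl⟩
    have hmem : ∀ x, x ∈ M' ↔ U * x * U⁻¹ ∈ M := fun x => by rw [hM', Subgroup.mem_comap]; rfl
    have hisoM : ∀ h ∈ M, ∀ a b, hermForm 3 F q ((h : M₃) *ᵥ a) ((h : M₃) *ᵥ b) = hermForm 3 F q a b :=
      fun h hh => mem_GU.1 (hMK hh).1
    have X : Mon.Ctx σ q M' := by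
      refine ⟨hσ ▸ hC, hσ ▸ hs, fun m hm hmi hmd => ?_, fun h hh a b => ?_, hq⟩
      · rw [hσ] at hmi
        refine (hmem m).2 (hHM ⟨(hstab _).2 ?_, mem_GU.2 fun a b => ?_, ?_⟩)
        · rwa [show U⁻¹ * (U * m * U⁻¹) * U = m by group]
        · simp only [Units.val_mul, ← Matrix.mulVec_mulVec]
          rw [hUiso]
          exact (hmi _ _).trans (hUinv a b)
        · refine MonoidHom.mem_ker.2 (Units.ext ?_)
          show ((U * m * U⁻¹ : GL (Fin 3) F) : M₃).det = 1
          rw [Units.val_mul, Units.val_mul, Matrix.det_mul, Matrix.det_mul, hmd, mul_one, ← Matrix.det_mul,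
            ← Units.val_mul, mul_inv_cancel, Units.val_one, Matrix.det_one]
      · have h1 := hisoM _ ((hmem h).1 hh) ((U : M₃) *ᵥ a) ((U : M₃) *ᵥ b)
        simp only [Units.val_mul, ← Matrix.mulVec_mulVec, inv_mulVec_cancel] at h1
        rw [hUiso, hUiso] at h1
        rw [hσ]
        exact h1
    have hg' : U⁻¹ * g * U ∈ M' := (hmem _).2 (by rwa [show U * (U⁻¹ * g * U) * U⁻¹ = g by group])
    have hmon : ¬ IsMon ((U⁻¹ * g * U : GL (Fin 3) F) : M₃) := fun h => hgH ⟨(hstab g).2 h, hMK hgM⟩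
    have hirr' := X.irreducible hg' hmon
    obtain ⟨w, hw0, hww, hUw⟩ : ∃ w, w ≠ 0 ∧ MaxUnitMon.dot σ w w = 0 ∧
        UPt σ (MaxUnitMon.dot σ) M' w := by
      by_cases h2 : (2 : F) = 0
      · exact X.upt_even h2 hg' hmon
      · refine X.upt_odd h2 ?_ hq5 hg' hmon
        rw [← Nat.not_even_iff_odd]
        rintro ⟨k, hk⟩
        refine h2 ?_
        have hcast := hC.cast_q
        rw [hk, ← two_mul, Nat.cast_mul, mul_eq_zero] at hcast
        rcases hcast with e | e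
        · exact_mod_cast e
        · exfalso
          obtain ⟨p, hp⟩ := CharP.exists F
          obtain ⟨n, hpp, hn⟩ := FiniteField.card F p
          have hpk : p ∣ k := (CharP.cast_eq_zero_iff F p k).1 e
          have h2d : 2 ∣ p ^ (n : ℕ) := by rw [← hn, hF, hk]; exact dvd_pow ⟨k, by ring⟩ two_ne_zero
          have hp2 : p = 2 :=
            ((Nat.prime_dvd_prime_iff_eq Nat.prime_two hpp).1 (Nat.prime_two.dvd_of_dvd_pow h2d)).symm
          subst hp2
          exact h2 (by exact_mod_cast CharP.cast_eq_zero F 2)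
    refine guSL_le_of_irr hF hq hisoM ?_ (a := (U : M₃) *ᵥ w) ?_ ?_ ?_
    · intro W hW
      obtain ⟨Z, hZ⟩ : ∃ Z, Z = W.comap (Matrix.toLin' (U : M₃)) := ⟨_, rfl⟩
      have hZm : ∀ u, u ∈ Z ↔ (U : M₃) *ᵥ u ∈ W := fun u => by rw [hZ, Submodule.mem_comap, Matrix.toLin'_apply]
      rcases hirr' Z (by
        rintro _ ⟨x, hx, rfl⟩ _ ⟨u, hu, rfl⟩
        rw [hZm, Matrix.toLin'_apply]
        have h1 := hW _ ⟨_, (hmem x).1 hx, rfl⟩
          (Submodule.mem_map_of_mem (f := Matrix.toLin' _) ((hZm u).1 hu))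
        simp only [Matrix.toLin'_apply, Units.val_mul, ← Matrix.mulVec_mulVec, inv_mulVec_cancel] at h1
        exact h1) with e1 | e1
      · refine Or.inl ((Submodule.eq_bot_iff _).2 fun y hy => ?_)
        have h1 : ((U⁻¹ : GL (Fin 3) F) : M₃) *ᵥ y = 0 := by
          rw [← Submodule.mem_bot F, ← e1, hZm, mulVec_inv_cancel]; exact hy
        rw [← mulVec_inv_cancel U y, h1, Matrix.mulVec_zero]
      · refine Or.inr (eq_top_iff.2 fun y _ => ?_)
        have h1 : ((U⁻¹ : GL (Fin 3) F) : M₃) *ᵥ y ∈ Z := e1 ▸ Submodule.mem_top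
        rw [hZm, mulVec_inv_cancel] at h1
        exact h1
    · intro e1
      exact hw0 (gl_mulVec_injective U (show (U : M₃) *ᵥ w = (U : M₃) *ᵥ 0 by rw [e1, Matrix.mulVec_zero]))
    · rw [hUiso]; rw [hσ] at hww; exact hww
    · rw [← hσ]
      intro d hd
      obtain ⟨T, hT, hTx⟩ := hUw d hd
      refine ⟨U * T * U⁻¹, (hmem T).1 hT, fun x => ?_⟩
      rw [Units.val_mul, Units.val_mul, ← Matrix.mulVec_mulVec, ← Matrix.mulVec_mulVec, hTx, Matrix.mulVec_add,
        Matrix.mulVec_smul, mulVec_inv_cancel]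
      congr 2
      rw [hσ]
      show d * hermForm 3 F q (((U⁻¹ : GL (Fin 3) F) : M₃) *ᵥ x) w = _
      rw [← hUiso, mulVec_inv_cancel]

end Cfsg.Agent.Classical.SUThree
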