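import Cfsg.Agent.Lib.Classical.SUThree.SubfieldEight
import Cfsg.Agent.Lib.Classical.MaxUnitSubfieldData

/-!
Subfield groups of odd prime index are maximal in `SU₃(q)`.
-/

set_option autoImplicit false
set_option linter.unusedSectionVars false
set_option maxHeartbeats 1000000

namespace Cfsg.Agent.Classical.SUThree

open Matrix Module Cfsg Cfsg.Agent.Classical.PSUAut Cfsg.Agent.Fus.UnitN Cfsg.Agent.Lie.SUGen
  Cfsg.Agent.Lie.SU3Pres Cfsg.Agent.Transfer.U3Min
open MaxTv (qEquiv herm_hermForm Herm emb emb_injective emb_zero emb_add emb_smul emb_sub eq_sum_emb exists_emb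
  rat_emb Rat mem_subfieldSubgroup_of exists_of_mem_subfieldSubgroup mem_GU isMaximalIn_intro Sesq)

variable {F : Type*} [Field F] [Fintype F] {q : ℕ}

/-- The element of `GL` of an element of `SU`. -/
def toGL₃ (F : Type*) [Field F] (q : ℕ) : SU 3 F q →* GL (Fin 3) F :=
  Matrix.SpecialLinearGroup.toGL.comp (SU 3 F q).subtype

theorem toGL₃_val (g : SU 3 F q) : ((toGL₃ F q g : GL (Fin 3) F) : Matrix (Fin 3) (Fin 3) F) = suVal g := rfl

theorem toGL₃_mem (g : SU 3 F q) : toGL₃ F q g ∈ GU 3 F q ⊓ Geo.specialLinear (Fin 3) F :=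
  ⟨mem_GU.2 fun x y => su_form g x y, MonoidHom.mem_ker.2 (Units.ext (g : Matrix.SpecialLinearGroup (Fin 3) F).2)⟩

theorem exists_toGL₃ {g : GL (Fin 3) F} (hg : g ∈ GU 3 F q ⊓ Geo.specialLinear (Fin 3) F) :
    ∃ g' : SU 3 F q, toGL₃ F q g' = g :=
  ⟨⟨⟨(g : Matrix (Fin 3) (Fin 3) F), (MonoidHom.mem_ker.trans Units.ext_iff).1 hg.2⟩, mem_GU.1 hg.1⟩, Units.ext rfl⟩

/-- Subfield groups of odd prime index are maximal. -/
theorem subfield_maximal (hF : Fintype.card F = q ^ 2) (hq : 3 ≤ q) (F₀ : Subfield F) (r : ℕ)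
    (P : Matrix.GeneralLinearGroup (Fin 3) F) (hr : r.Prime) (hro : Odd r)
    (hcard : Fintype.card F = Nat.card F₀ ^ r)
    (hP : Geo.IsFormRationalStructure (hermForm 3 F q) F₀ 1 P) :
    Geo.IsMaximalIn (GU 3 F q ⊓ Geo.specialLinear (Fin 3) F)
      (Geo.subfieldSubgroup F₀ P ⊓ (GU 3 F q ⊓ Geo.specialLinear (Fin 3) F)) := by
  classical
  set σ := qEquiv hF with hσ
  set f := hermForm 3 F q with hf
  have hs : Herm σ f := herm_hermForm hF
  have hσpow : ∀ x : F, σ x = x ^ q := fun x => rfl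
  have hro' := hro
  let σ₀ : F₀ ≃+* F₀ :=
    { toFun := fun x => ⟨σ x, by rw [hσpow]; exact pow_mem x.2 q⟩
      invFun := fun x => ⟨σ x, by rw [hσpow]; exact pow_mem x.2 q⟩
      left_inv := fun x => Subtype.ext (hs.invol x)
      right_inv := fun x => Subtype.ext (hs.invol x)
      map_mul' := fun x y => Subtype.ext (map_mul σ (x : F) y)
      map_add' := fun x y => Subtype.ext (map_add σ (x : F) y) }
  let f₀ : (Fin 3 → F₀) → (Fin 3 → F₀) → F₀ := fun u v => ⟨f (emb F₀ P u) (emb F₀ P v), by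
    have := hP _ _ (fun i => (u i).2) (fun i => (v i).2)
    rwa [one_mul] at this⟩
  have hσ₀ : σ₀ ≠ RingEquiv.refl F₀ := fun e => by
    -- `q = s ^ r` and `|F₀| = s ^ 2`
    obtain ⟨j, hj⟩ := hro
    set Q := Nat.card F₀ with hQ
    have hQ1 : 1 < Q := Finite.one_lt_card
    have hq2 : q ^ 2 = (Q ^ j) ^ 2 * Q := by rw [← hF, hcard, hj]; ring
    obtain ⟨s, hs'⟩ := (Nat.pow_dvd_pow_iff two_ne_zero).1 (Dvd.intro Q hq2.symm)
    have hsQ : s ^ 2 = Q := by
      rw [hs', mul_pow] at hq2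
      exact Nat.eq_of_mul_eq_mul_left (pow_pos (pow_pos (by omega) j) 2) hq2
    have hs1 : 1 < s := by
      by_contra hc
      have := Nat.pow_le_pow_left (show s ≤ 1 by omega) 2
      omega
    have hfix : ∀ x : F₀, x ^ s = x := fun x => by
      have h1 : (x : F) ^ q = x := congrArg Subtype.val (RingEquiv.congr_fun e x)
      have h2 : x ^ (Q ^ j) = x := by
        rw [hQ, Nat.card_eq_fintype_card, FiniteField.pow_card_pow]
      refine Subtype.ext ?_
      rw [SubmonoidClass.coe_pow]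
      rw [hs', pow_mul, ← SubmonoidClass.coe_pow x (Q ^ j), h2] at h1
      exact h1
    have hsub : (Finset.univ : Finset F₀) ⊆ (Polynomial.X ^ s - Polynomial.X : Polynomial F₀).roots.toFinset :=
      fun x _ => by
        simp only [Multiset.mem_toFinset, Polynomial.mem_roots (FiniteField.X_pow_card_sub_X_ne_zero F₀ hs1),
          Polynomial.IsRoot, Polynomial.eval_sub, Polynomial.eval_pow, Polynomial.eval_X, hfix, sub_self]
    have h4 := ((Finset.card_le_card hsub).trans (Multiset.toFinset_card_le _)).trans (Polynomial.card_roots' _)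
    rw [FiniteField.X_pow_card_sub_X_natDegree_eq F₀ hs1, Finset.card_univ, ← Nat.card_eq_fintype_card, ← hQ,
      ← hsQ] at h4
    have : s * 2 ≤ s ^ 2 := by rw [sq]; exact Nat.mul_le_mul_left s hs1
    omega
  have hform : ∀ u v, f (emb F₀ P u) (emb F₀ P v) = (f₀ u v : F) := fun _ _ => rfl
  have hs₀ : Herm σ₀ f₀ := {
    add_left := fun x y v => Subtype.ext (by
      show f _ _ = f _ _ + f _ _
      rw [emb_add, hs.add_left])
    smul_left := fun c x v => Subtype.ext (by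
      show f _ _ = (c : F) * f _ _
      rw [emb_smul, hs.smul_left])
    add_right := fun v x y => Subtype.ext (by
      show f _ _ = f _ _ + f _ _
      rw [emb_add, hs.add_right])
    smul_right := fun c v x => Subtype.ext (by
      show f _ _ = σ (c : F) * f _ _
      rw [emb_smul, hs.smul_right])
    eq_zero := fun w hw => emb_injective (P := P) (by
      rw [emb_zero]
      refine hs.eq_zero _ fun x => ?_
      show hs.toSesq.lin _ x = 0
      rw [eq_sum_emb P F₀ x, map_sum]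
      refine Finset.sum_eq_zero fun i _ => ?_
      rw [map_smul, Sesq.lin_apply, hform, hw, ZeroMemClass.coe_zero, smul_zero])
    refl := fun v w h => Subtype.ext (hs.refl _ _ (congrArg Subtype.val h))
    invol := fun a => Subtype.ext (hs.invol a)
    ne_refl := hσ₀
    herm := fun v w => Subtype.ext (hs.herm _ _) }
  have hcj : ∀ x : F, σ x = qFrob hF x := fun x => by rw [qFrob_apply]; rfl
  -- a rational frame
  obtain ⟨t₀, ht₀⟩ := hs₀.exists_moved
  have htop : finrank F₀ (⊤ : Submodule F₀ (Fin 3 → F₀)) = 3 := by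
    rw [finrank_top, Module.finrank_pi, Fintype.card_fin]
  obtain ⟨a, -, ha0, haa⟩ := hs₀.exists_iso (S := ⊤) (by rw [htop]; norm_num)
  obtain ⟨b₀, hb₀⟩ := hs₀.toSesq.exists_one ha0
  obtain ⟨z, hz⟩ := hs₀.exists_trace_eq (a := f₀ b₀ b₀) (hs₀.self_fixed _)
  obtain ⟨b, hb⟩ : ∃ b, b = b₀ - z • a := ⟨_, rfl⟩
  have hab₀ : f₀ a b₀ = 1 := by rw [hs₀.herm, hb₀, map_one]
  have hbb : f₀ b b = 0 := by
    rw [hb, hs₀.toSesq.sub_left, hs₀.toSesq.sub_right, hs₀.toSesq.sub_right, hs₀.smul_left, hs₀.smul_left,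
      hs₀.smul_right, hs₀.smul_right, haa, hb₀, hab₀]
    linear_combination -hz
  have hab : f₀ a b = 1 := by
    rw [hb, hs₀.toSesq.sub_right, hs₀.smul_right, haa, hab₀, mul_zero, sub_zero]
  have hba : f₀ b a = 1 := by rw [hs₀.herm, hab, map_one]
  obtain ⟨u, hua, hub, huu⟩ : ∃ u, f₀ u a = 0 ∧ f₀ u b = 0 ∧ f₀ u u ≠ 0 := by
    have hne : Submodule.span F₀ ({a, b} : Set (Fin 3 → F₀)) ≠ ⊤ := fun e0 => by
      have h1 : finrank F₀ (Submodule.span F₀ (({a, b} : Finset (Fin 3 → F₀)) : Set (Fin 3 → F₀))) ≤ _ :=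
        finrank_span_finset_le_card _
      rw [Finset.coe_pair, e0, htop] at h1
      have h2 : ({a, b} : Finset (Fin 3 → F₀)).card ≤ 2 := Finset.card_le_two
      omega
    obtain ⟨x, hx⟩ : ∃ x, x ∉ Submodule.span F₀ ({a, b} : Set (Fin 3 → F₀)) := by
      by_contra hc
      push Not at hc
      exact hne (eq_top_iff.2 fun x _ => hc x)
    refine ⟨x - f₀ x b • a - f₀ x a • b, ?_, ?_, fun e0 => ?_⟩
    · simp only [hs₀.toSesq.sub_left, hs₀.smul_left, haa, hba]; ring
    · simp only [hs₀.toSesq.sub_left, hs₀.smul_left, hbb, hab]; ring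
    · obtain ⟨u, hu⟩ : ∃ u, u = x - f₀ x b • a - f₀ x a • b := ⟨_, rfl⟩
      rw [← hu] at e0
      have h1 : f₀ u a = 0 := by rw [hu]; simp only [hs₀.toSesq.sub_left, hs₀.smul_left, haa, hba]; ring
      have h2 : f₀ u b = 0 := by rw [hu]; simp only [hs₀.toSesq.sub_left, hs₀.smul_left, hbb, hab]; ring
      have hspan : Submodule.span F₀ ({a, b} : Set (Fin 3 → F₀)) ⊔ (F₀ ∙ x) = ⊤ := by
        refine Submodule.eq_top_of_finrank_eq ?_
        have hlt : Submodule.span F₀ ({a, b} : Set (Fin 3 → F₀)) <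
            Submodule.span F₀ ({a, b} : Set (Fin 3 → F₀)) ⊔ (F₀ ∙ x) :=
          lt_of_le_of_ne le_sup_left fun e1 => hx (e1 ▸ Submodule.mem_sup_right (Submodule.mem_span_singleton_self x))
        have h3 := Submodule.finrank_lt_finrank_of_lt hlt
        have h4 : 2 ≤ finrank F₀ (Submodule.span F₀ ({a, b} : Set (Fin 3 → F₀))) := by
          have hli : LinearIndependent F₀ ![a, b] := by
            rw [LinearIndependent.pair_iff]
            intro c d hcd
            have e1 := congrArg (fun v => f₀ v b) hcd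
            have e2 := congrArg (fun v => f₀ v a) hcd
            simp only [hs₀.add_left, hs₀.smul_left, hs₀.toSesq.zero_left, haa, hab, hbb, hba] at e1 e2
            exact ⟨by linear_combination e1, by linear_combination e2⟩
          have := finrank_span_eq_card hli
          rw [Fintype.card_fin] at this
          rw [Matrix.range_cons_cons_empty] at this
          exact this.ge
        have h5 := Submodule.finrank_le (Submodule.span F₀ ({a, b} : Set (Fin 3 → F₀)) ⊔ (F₀ ∙ x))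
        rw [Module.finrank_pi, Fintype.card_fin] at h5 ⊢
        omega
      have hu0 : u = 0 := hs₀.eq_zero _ fun w => by
        obtain ⟨v, hv, y, hy, rfl⟩ := Submodule.mem_sup.1 (hspan ▸ Submodule.mem_top (x := w))
        obtain ⟨c, d, rfl⟩ := Submodule.mem_span_pair.1 hv
        obtain ⟨k, rfl⟩ := Submodule.mem_span_singleton.1 hy
        have hxu : f₀ x u = 0 := by
          have e1 : f₀ x u = f₀ (u + (f₀ x b • a + f₀ x a • b)) u :=
            congrArg (fun w => f₀ w u) (by rw [hu]; module)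
          rw [e1, hs₀.add_left, hs₀.add_left, hs₀.smul_left, hs₀.smul_left, e0, hs₀.refl _ _ h1, hs₀.refl _ _ h2]
          ring
        rw [hs₀.add_left, hs₀.add_left, hs₀.smul_left, hs₀.smul_left, hs₀.smul_left, hs₀.refl _ _ h1,
          hs₀.refl _ _ h2, hxu]
        ring
      refine hx (Submodule.mem_span_pair.2 ⟨f₀ x b, f₀ x a, ?_⟩)
      rw [hu0, eq_comm, sub_sub, sub_eq_zero] at hu
      exact hu.symm
  obtain ⟨s, hs'⟩ := hs₀.exists_norm (t := (f₀ u u)⁻¹) (by rw [map_inv₀, hs₀.self_fixed])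
  obtain ⟨m, hm⟩ : ∃ m, m = s • u := ⟨_, rfl⟩
  have hmm : f₀ m m = 1 := by rw [hm, hs₀.smul_left, hs₀.smul_right, ← mul_assoc, hs', inv_mul_cancel₀ huu]
  have hma : f₀ m a = 0 := by rw [hm, hs₀.smul_left, hua, mul_zero]
  have hmb : f₀ m b = 0 := by rw [hm, hs₀.smul_left, hub, mul_zero]
  have B : Frame3 q (emb F₀ P a) (emb F₀ P m) (emb F₀ P b) := by
    refine ⟨⟨?_, ?_, ?_⟩, ?_, ?_, ?_⟩ <;> rw [← hf, hform] <;> simp [haa, hbb, hab, hma, hmb, hmm]
  have hRV : ∀ v, RV B F₀ v ↔ Rat F₀ P v := fun v => by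
    constructor
    · rintro ⟨x, hx, y, hy, z, hz, rfl⟩
      exact (((rat_emb a).smul hx).add ((rat_emb m).smul hy)).add ((rat_emb b).smul hz)
    · intro hv
      obtain ⟨w, rfl⟩ := exists_emb hv
      obtain ⟨x, y, z, hxyz⟩ := exists_co hF B (emb F₀ P w)
      have hx : x = (f₀ w b : F) := by
        rw [← hform, hxyz, hf, ← cj_h hF, h_f hF B, cj_cj hF]
      have hy : y = (f₀ w m : F) := by
        rw [← hform, hxyz, hf]
        simp [co, h_add_left, h_smul_left, B.nn, B.en hF, B.fn hF]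
      have hz : z = (f₀ w a : F) := by
        rw [← hform, hxyz, hf, ← cj_h hF, h_e hF B, cj_cj hF]
      exact ⟨x, hx ▸ SetLike.coe_mem _, y, hy ▸ SetLike.coe_mem _, z, hz ▸ SetLike.coe_mem _, hxyz⟩
  have htne : qFrob hF (t₀ : F) ≠ t₀ := fun e0 => ht₀ (Subtype.ext ((hcj _).trans e0))
  have hext : ∀ S : Subfield F, F₀ ≤ S → ∀ x ∈ S, x ∉ F₀ → S = ⊤ := by
    intro S hS x hx hxn
    have hrank : finrank F₀ F = r := by
      refine Nat.pow_right_injective (Finite.one_lt_card (α := F₀)) ?_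
      show Nat.card F₀ ^ finrank F₀ F = Nat.card F₀ ^ r
      rw [← Module.natCard_eq_pow_finrank, ← hcard, Nat.card_eq_fintype_card]
    let I : IntermediateField F₀ F := S.toIntermediateField fun c => hS c.2
    have : IsSimpleOrder (IntermediateField F₀ F) :=
      IntermediateField.isSimpleOrder_of_finrank_prime (F := F₀) (E := F) (hrank ▸ hr)
    rcases IsSimpleOrder.eq_bot_or_eq_top I with h1 | h1
    · exfalso
      have h2 : x ∈ I := hx
      rw [h1, IntermediateField.mem_bot] at h2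
      obtain ⟨c, hc⟩ := h2
      exact hxn (hc ▸ c.2)
    · exact eq_top_iff.2 fun y _ => (h1 ▸ IntermediateField.mem_top : y ∈ I)
  have hH : ∀ g : SU 3 F q, (∃ a : F, a ≠ 0 ∧ ∀ v, RV B F₀ v → RV B F₀ (a • (suVal g *ᵥ v))) →
      toGL₃ F q g ∈ Geo.subfieldSubgroup F₀ P ⊓ (GU 3 F q ⊓ Geo.specialLinear (Fin 3) F) := by
    rintro g ⟨c, hc, h1⟩
    exact ⟨mem_subfieldSubgroup_of hc fun x hx => (hRV _).1 (h1 x ((hRV x).2 hx)), toGL₃_mem g⟩
  have hsetup : ∀ M : Subgroup (GL (Fin 3) F),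
      Geo.subfieldSubgroup F₀ P ⊓ (GU 3 F q ⊓ Geo.specialLinear (Fin 3) F) ≤ M →
      SubSetup hF B F₀ (t₀ : F) (M.comap (toGL₃ F q)) := fun M hM =>
    ⟨fun g hg => hM (hH g ⟨1, one_ne_zero, fun v hv => by rw [one_smul]; exact hg v hv⟩), t₀.2, htne, hext⟩
  refine isMaximalIn_intro inf_le_right (fun hle => ?_) fun M hHM hMK g hgM hgH => ?_
  · -- a transvection outside
    have hd := hsetup _ inf_le_right
    obtain ⟨hsk, hτ0, hτ⟩ := hd.skew hF B
    obtain ⟨x, hx⟩ : ∃ x : F, x ∉ F₀ := by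
      by_contra hc
      push Not at hc
      have h1 : Nat.card F₀ = Fintype.card F := by
        rw [← Nat.card_eq_fintype_card]
        exact Nat.card_congr ⟨Subtype.val, fun x => ⟨x, hc x⟩, fun _ => rfl, fun _ => rfl⟩
      rw [h1] at hcard
      have := Nat.pow_lt_pow_right (Fintype.one_lt_card (α := F)) hr.one_lt
      rw [pow_one, ← hcard] at this
      omega
    obtain ⟨a', b', ha', hb', hxe, -⟩ := hd.split hF B x
    obtain ⟨l, hl, hln⟩ : ∃ l : F, qFrob hF l = l ∧ l ∉ F₀ := by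
      by_cases h1 : a' ∈ F₀
      · exact ⟨b', hb', fun h2 => hx (hxe ▸ add_mem h1 (mul_mem h2 t₀.2))⟩
      · exact ⟨a', ha', h1⟩
    have hc := skew_mul hF hsk hl
    obtain ⟨k, hk, h1⟩ := exists_of_mem_subfieldSubgroup
      (hle (toGL₃_mem (Um hF B 0 (((t₀ : F) - qFrob hF t₀) * l)))).1
    have hU := U_act hF B (OK.skew hF hc)
    have h2 : ∀ v, RV B F₀ v → RV B F₀ (k • (suVal (Um hF B 0 (((t₀ : F) - qFrob hF t₀) * l)) *ᵥ v)) :=
      fun v hv => (hRV _).2 (h1 v ((hRV v).1 hv))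
    obtain ⟨x₁, hx₁, y₁, hy₁, z₁, hz₁, e₁⟩ := h2 _ ⟨1, one_mem _, 0, zero_mem _, 0, zero_mem _, rfl⟩
    rw [hU, smul_co] at e₁
    have hkF : k ∈ F₀ := by
      have := (co_inj hF B e₁).1
      simp at this
      rw [this]; exact hx₁
    obtain ⟨x₂, hx₂, y₂, hy₂, z₂, hz₂, e₂⟩ := h2 _ ⟨0, zero_mem _, 0, zero_mem _, 1, one_mem _, rfl⟩
    rw [hU, smul_co] at e₂
    have h3 := (co_inj hF B e₂).1
    simp at h3
    refine hln ?_
    have h4 := div_mem (div_mem hx₂ hkF) hτ
    rwa [← h3, mul_div_cancel_left₀ _ hk, mul_div_cancel_left₀ _ hτ0] at h4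
  have hd := hsetup M hHM
  set K := M.comap (toGL₃ F q) with hK
  obtain ⟨g', rfl⟩ := exists_toGL₃ (hMK hgM)
  have hgK : g' ∈ K := hgM
  suffices htopK : K = ⊤ by
    intro y hy
    obtain ⟨y', rfl⟩ := exists_toGL₃ hy
    exact (htopK ▸ Subgroup.mem_top y' : y' ∈ K)
  refine hd.top_of_full hF B hq fun c hc => ?_
  obtain ⟨kx, hkx, hnl⟩ : ∃ kx, RatSU B F₀ kx ∧
      ¬ ∃ (c : F) (r : Fin 3 → F), RV B F₀ r ∧ suVal (g' * kx) *ᵥ emb F₀ P a = c • r := by
    by_contra hcon
    push Not at hcon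
    refine hgH (hH g' (hd.lines hF B fun k hk => ?_))
    obtain ⟨c', r', hr', he'⟩ := hcon k hk
    exact ⟨c', r', hr', by rw [← mulVec_mul]; exact he'⟩
  have hg₁ : g' * kx ∈ K := mul_mem hgK (hd.rat _ hkx)
  by_cases h4 : Nat.card F₀ = 4
  · by_cases hA : ∀ d : F, d + qFrob hF d = 0 → Um hF B 0 d ∈ K → d ∈ F₀
    · exfalso
      have hsm : SmallSetup hF B F₀ (t₀ : F) K := { hd with card4 := h4, small := hA }
      have hq2 : q = 2 ^ r := by
        refine Nat.pow_left_injective two_ne_zero ?_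
        show q ^ 2 = (2 ^ r) ^ 2
        rw [← hF, hcard, h4, ← pow_mul, mul_comm, pow_mul]
        norm_num
      by_cases hr3 : r = 3
      · exact false_of_eight hF B hsm (by rw [hq2, hr3]; norm_num) (fun x hx => hHM (hH x hx)) hg₁ hnl
      refine hsm.false_of_cube hF B (fun l hl => ?_) hg₁ hnl
      have h9 : ¬ 9 ∣ q + 1 := by
        rw [hq2]
        have h2r : r % 2 = 1 := Nat.odd_iff.1 hro'
        have h3r : ¬ 3 ∣ r := fun h => hr3 ((Nat.prime_dvd_prime_iff_eq Nat.prime_three hr).1 h).symm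
        obtain ⟨k, i, hi, hri⟩ : ∃ k i, (i = 1 ∨ i = 5) ∧ r = 6 * k + i := ⟨r / 6, r % 6, by omega, by omega⟩
        have h64 : 2 ^ (6 * k) % 9 = 1 := by rw [pow_mul, Nat.pow_mod]; norm_num
        rw [hri, pow_add]
        intro hdv
        have := Nat.mul_mod (2 ^ (6 * k)) (2 ^ i) 9
        rw [h64] at this
        rcases hi with rfl | rfl <;> norm_num at this <;> omega
      have h1 : (l : F) ^ (q + 1) = 1 := by
        rw [pow_succ', ← qFrob_apply hF]; exact hsm.norm_one hF B hl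
      have h2 : (l : F) ^ Nat.gcd 9 (q + 1) = 1 := pow_gcd_eq_one.2 ⟨hsm.pow_nine hF B hl, h1⟩
      have h3 : Nat.gcd 9 (q + 1) ∣ 3 := by
        obtain ⟨i, hi, he⟩ := (Nat.dvd_prime_pow Nat.prime_three (m := 2)).1 (Nat.gcd_dvd_left 9 (q + 1))
        rw [he]
        interval_cases i
        · norm_num
        · norm_num
        · exact absurd (Nat.gcd_dvd_right 9 (q + 1)) (by rw [he]; exact h9)
      obtain ⟨d, hd'⟩ := h3
      rw [hd', pow_mul, h2, one_pow]
    · push Not at hA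
      obtain ⟨d, hdk, hdK, hdn⟩ := hA
      exact hd.full_of_coeff hF B h4 hdk hdK hdn hc
  · have hiso : f (suVal (g' * kx) *ᵥ emb F₀ P a) (suVal (g' * kx) *ᵥ emb F₀ P a) = 0 := by
      rw [hf, su_form]; exact B.P.ee
    obtain ⟨k, hk, hN⟩ := hd.exists_norm_notMem hF B hiso hnl
    refine hd.full_of_point hF B h4 (mul_mem (inv_mem (hd.rat _ hk)) hg₁) ?_ hc
    rwa [← su_form k (emb F₀ P a), ← mulVec_mul, mul_inv_cancel_left]

end Cfsg.Agent.Classical.SUThree
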