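import Cfsg.Agent.Lib.Classical.SUThree.OrthTrans
import Cfsg.Agent.Lib.Classical.SUThree.Subfield

/-!
Subfield groups of orthogonal type are maximal in `SU₃(q)`, `q` odd, `7 ≤ q`.
-/

set_option autoImplicit false
set_option linter.unusedSectionVars false
set_option maxHeartbeats 1000000

namespace Cfsg.Agent.Classical.SUThree

open Matrix Module Cfsg Cfsg.Agent.Classical.PSUAut Cfsg.Agent.Fus.UnitN Cfsg.Agent.Lie.SUGen
  Cfsg.Agent.Lie.SU3Pres Cfsg.Agent.Transfer.U3Min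
open MaxTv (Rat rat_of_coe rat_single eq_sum_rat exists_rational_ker mem_subfieldSubgroup_of
  exists_of_mem_subfieldSubgroup isMaximalIn_intro)

variable {F : Type*} [Field F] [Fintype F] {q : ℕ} (hF : Fintype.card F = q ^ 2)

local notation "cj" => qFrob hF
local notation "h" => hermForm 3 F q

include hF

theorem fixF_eq {F₀ : Subfield F} (hcard : Fintype.card F = Nat.card F₀ ^ 2) : F₀ = fixF hF := by
  haveI : Fintype F₀ := Fintype.ofFinite _
  have hq : Nat.card F₀ = q := Nat.pow_left_injective two_ne_zero (hcard.symm.trans hF)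
  have hle : F₀ ≤ fixF hF := fun x hx => by
    show cj x = x
    have h1 := FiniteField.pow_card (⟨x, hx⟩ : F₀)
    rw [← Nat.card_eq_fintype_card, hq] at h1
    rw [qFrob_apply]
    exact congrArg Subtype.val h1
  have hfix : Nat.card (fixF hF) = q :=
    (Nat.card_congr (Equiv.subtypeEquivRight fun _ => Iff.rfl)).trans
      (Cfsg.Agent.Classical.UnitMult.natCard_fixK hF)
  refine le_antisymm hle fun x hx => ?_
  obtain ⟨y, hy⟩ := ((Nat.bijective_iff_injective_and_card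
    (fun y : F₀ => (⟨y.1, hle y.2⟩ : fixF hF))).2
      ⟨fun a b hab => Subtype.ext (congrArg Subtype.val hab :), hq.trans hfix.symm⟩).2 ⟨x, hx⟩
  have h5 : (y : F) = x := congrArg Subtype.val hy
  exact h5 ▸ y.2

variable (h2 : (2 : F) ≠ 0) (hodd : Odd q) {P : GL (Fin 3) F}
  (hP : Geo.IsFormRationalStructure (hermForm 3 F q) (fixF hF) 1 P)
include hP

/-- The form is real on rational vectors. -/
theorem rat_real {v w : Fin 3 → F} (hv : Rat (fixF hF) P v) (hw : Rat (fixF hF) P w) : cj (h v w) = h v w := by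
  obtain ⟨a, rfl⟩ := hv.exists_coe
  obtain ⟨b, rfl⟩ := hw.exists_coe
  have h1 := hP _ _ (fun i => (a i).2) fun i => (b i).2
  rw [one_mul] at h1
  exact h1

theorem rat_symm {v w : Fin 3 → F} (hv : Rat (fixF hF) P v) (hw : Rat (fixF hF) P w) : h v w = h w v := by
  rw [← rat_real hF hP hv hw, cj_h hF]

theorem rat_pair {v : Fin 3 → F} (hv0 : v ≠ 0) (hv : Rat (fixF hF) P v) :
    ∃ w, Rat (fixF hF) P w ∧ h v w = 1 := by
  obtain ⟨i, hi⟩ : ∃ i : Fin 3, h v ((P : Matrix (Fin 3) (Fin 3) F) *ᵥ Pi.single i 1) ≠ 0 := by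
    by_contra hc
    push Not at hc
    obtain ⟨u, hu⟩ := exists_h_eq hF hv0 1
    rw [eq_sum_rat P u, Fin.sum_univ_three] at hu
    simp only [h_add_right hF, h_smul_right hF, hc, mul_zero, add_zero] at hu
    exact zero_ne_one hu
  refine ⟨_, Rat.smul (inv_mem (rat_real hF hP hv (rat_single i) : _ ∈ fixF hF)) (rat_single i), ?_⟩
  rw [h_smul_right hF, map_inv₀, rat_real hF hP hv (rat_single i), inv_mul_cancel₀ hi]

/-- A rational vector orthogonal to two given ones. -/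
theorem rat_perp {v w : Fin 3 → F} (hv : Rat (fixF hF) P v) (hw : Rat (fixF hF) P w) :
    ∃ u, u ≠ 0 ∧ Rat (fixF hF) P u ∧ h u v = 0 ∧ h u w = 0 := by
  classical
  let A : Matrix (Fin 2) (Fin 3) (fixF hF) := Matrix.of fun k i =>
    ⟨h ((P : Matrix (Fin 3) (Fin 3) F) *ᵥ Pi.single i 1) (![v, w] k),
      rat_real hF hP (rat_single i) (by fin_cases k <;> assumption)⟩
  have hker : LinearMap.ker (Matrix.mulVecLin (A.map (fixF hF).subtype)) ≠ ⊥ :=
    LinearMap.ker_ne_bot_of_finrank_lt (by simp)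
  obtain ⟨x, hx, hx0⟩ := Submodule.exists_mem_ne_zero_of_ne_bot hker
  obtain ⟨y, hy0, hy⟩ := exists_rational_ker A hx0 (LinearMap.mem_ker.1 hx)
  refine ⟨_, fun e0 => hy0 ?_, rat_of_coe y, ?_⟩
  · have h1 := congrArg (fun z => ((P⁻¹ : GL (Fin 3) F) : Matrix (Fin 3) (Fin 3) F) *ᵥ z) e0
    simp only [Matrix.mulVec_mulVec, Units.inv_mul, Matrix.one_mulVec, Matrix.mulVec_zero] at h1
    exact funext fun i => Subtype.ext (congrFun h1 i)
  · have key : ∀ k, h ((P : Matrix (Fin 3) (Fin 3) F) *ᵥ fun i => (y i : F)) (![v, w] k) = 0 := fun k => by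
      have h0 : ∑ i, A k i * y i = 0 := congrFun hy k
      have h1 := congrArg (fun z : fixF hF => (z : F)) h0
      simp only [A, Matrix.of_apply, Fin.sum_univ_three, AddMemClass.coe_add, MulMemClass.coe_mul,
        ZeroMemClass.coe_zero] at h1
      have h2 : (P : Matrix (Fin 3) (Fin 3) F) *ᵥ (fun i => (y i : F)) =
          ∑ i, (y i : F) • ((P : Matrix (Fin 3) (Fin 3) F) *ᵥ Pi.single i 1) := by
        conv_lhs => rw [eq_sum_rat P ((P : Matrix (Fin 3) (Fin 3) F) *ᵥ fun i => (y i : F))]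
        simp
      rw [h2, Fin.sum_univ_three, h_add_left, h_add_left, h_smul_left, h_smul_left, h_smul_left]
      linear_combination h1
    exact ⟨key 0, key 1⟩

include h2 hodd

/-- A rational isotropic vector. -/
theorem rat_iso : ∃ a, a ≠ 0 ∧ Rat (fixF hF) P a ∧ h a a = 0 := by
  classical
  by_contra hc
  push Not at hc
  obtain ⟨v₁, hv₁0, hv₁, -, -⟩ := rat_perp hF hP (Rat.zero (F₀ := fixF hF) (P := P)) (Rat.zero (F₀ := fixF hF) (P := P))
  obtain ⟨v₂, hv₂0, hv₂, h21, -⟩ := rat_perp hF hP hv₁ hv₁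
  obtain ⟨v₃, hv₃0, hv₃, h31, h32⟩ := rat_perp hF hP hv₁ hv₂
  have hd₁ := hc v₁ hv₁0 hv₁
  have hd₂ := hc v₂ hv₂0 hv₂
  have hd₃ := hc v₃ hv₃0 hv₃
  haveI : Fintype (fixF hF) := Fintype.ofFinite _
  obtain ⟨D₁, hD₁⟩ : ∃ D : fixF hF, (D : F) = h v₁ v₁ := ⟨⟨_, rat_real hF hP hv₁ hv₁⟩, rfl⟩
  obtain ⟨D₂, hD₂⟩ : ∃ D : fixF hF, (D : F) = h v₂ v₂ := ⟨⟨_, rat_real hF hP hv₂ hv₂⟩, rfl⟩
  obtain ⟨D₃, hD₃⟩ : ∃ D : fixF hF, (D : F) = h v₃ v₃ := ⟨⟨_, rat_real hF hP hv₃ hv₃⟩, rfl⟩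
  have hD₁0 : D₁ ≠ 0 := fun e0 => hd₁ (by rw [← hD₁, e0]; rfl)
  have hD₂0 : D₂ ≠ 0 := fun e0 => hd₂ (by rw [← hD₂, e0]; rfl)
  obtain ⟨x, y, hxy⟩ := FiniteField.exists_root_sum_quadratic
    (f := Polynomial.C D₁ * Polynomial.X ^ 2 + Polynomial.C 0)
    (g := Polynomial.C D₂ * Polynomial.X ^ 2 + Polynomial.C D₃)
    (by rw [map_zero, add_zero]; exact Polynomial.degree_C_mul_X_pow 2 hD₁0)
    (by
      rw [Polynomial.degree_add_eq_left_of_degree_lt]
      · exact Polynomial.degree_C_mul_X_pow 2 hD₂0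
      · rw [Polynomial.degree_C_mul_X_pow 2 hD₂0]
        exact lt_of_le_of_lt Polynomial.degree_C_le (by norm_num))
    (by
      have h3 : Nat.card (fixF hF) = q :=
        (Nat.card_congr (Equiv.subtypeEquivRight fun _ => Iff.rfl)).trans
          (Cfsg.Agent.Classical.UnitMult.natCard_fixK hF)
      rw [← Nat.card_eq_fintype_card, h3]
      exact Nat.odd_iff.1 hodd)
  simp only [Polynomial.eval_add, Polynomial.eval_mul, Polynomial.eval_C, Polynomial.eval_pow, Polynomial.eval_X,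
    add_zero] at hxy
  have hxy' := congrArg (fun z : fixF hF => (z : F)) hxy
  simp only [AddMemClass.coe_add, MulMemClass.coe_mul, SubmonoidClass.coe_pow, ZeroMemClass.coe_zero,
    hD₁, hD₂, hD₃] at hxy'
  have h12 : h v₁ v₂ = 0 := by rw [rat_symm hF hP hv₁ hv₂]; exact h21
  have h13 : h v₁ v₃ = 0 := by rw [rat_symm hF hP hv₁ hv₃]; exact h31
  have h23 : h v₂ v₃ = 0 := by rw [rat_symm hF hP hv₂ hv₃]; exact h32
  refine hc ((x : F) • v₁ + (y : F) • v₂ + v₃) (fun e0 => hd₃ ?_)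
    (((hv₁.smul x.2).add (hv₂.smul y.2)).add hv₃) ?_
  · have h4 := congrArg (fun z => h z v₃) e0
    simpa only [h_add_left, h_smul_left, h_zero_left, h13, h23, mul_zero, zero_add] using h4
  · simp only [h_add_left, h_add_right hF, h_smul_left, h_smul_right hF, h12, h13, h21, h23, h31, h32,
      show cj (x : F) = x from x.2, show cj (y : F) = y from y.2]
    linear_combination hxy'

/-- A rational frame up to a scalar. -/
theorem rat_frame : ∃ e n f : Fin 3 → F, ∃ B : Frame3 q e n f, ∃ c : F, c ≠ 0 ∧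
    ∀ v, RV B (fixF hF) v ↔ Rat (fixF hF) P (c⁻¹ • v) := by
  classical
  obtain ⟨a, ha0, ha, haa⟩ := rat_iso hF h2 hodd hP
  obtain ⟨w, hw, haw⟩ := rat_pair hF hP ha0 ha
  have hww : cj (h w w / 2) = h w w / 2 := by rw [map_div₀, rat_real hF hP hw hw, map_ofNat]
  obtain ⟨b, hbdef⟩ : ∃ b, b = w - (h w w / 2) • a := ⟨_, rfl⟩
  have hb : Rat (fixF hF) P b := hbdef ▸ hw.sub (ha.smul hww)
  have hab : h a b = 1 := by
    rw [hbdef, sub_eq_add_neg, ← neg_smul, h_add_right hF, h_smul_right hF, haa, haw, mul_zero, add_zero]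
  have hba : h b a = 1 := by rw [rat_symm hF hP hb ha, hab]
  have hbb : h b b = 0 := by
    rw [hbdef, sub_eq_add_neg, ← neg_smul]
    simp only [h_add_left, h_add_right hF, h_smul_left, h_smul_right hF, haa, haw,
      show h w a = 1 by rw [rat_symm hF hP hw ha, haw], map_neg, hww]
    field_simp
    ring
  obtain ⟨u, hu0, hu, hua, hub⟩ := rat_perp hF hP ha hb
  have hau : h a u = 0 := by rw [rat_symm hF hP ha hu, hua]
  have hbu : h b u = 0 := by rw [rat_symm hF hP hb hu, hub]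
  have hli : LinearIndependent F ![a, u, b] := by
    rw [Fintype.linearIndependent_iff]
    intro g hg
    simp only [Fin.sum_univ_three, Matrix.cons_val_zero, Matrix.cons_val_one, Matrix.cons_val] at hg
    have e1 := congrArg (fun z => h z b) hg
    have e2 := congrArg (fun z => h z a) hg
    simp only [h_add_left, h_smul_left, h_zero_left, hab, hub, hbb, haa, hua, hba, mul_zero, mul_one, add_zero,
      zero_add] at e1 e2
    rw [e1, e2, zero_smul, zero_smul, zero_add, add_zero, smul_eq_zero, or_iff_left hu0] at hg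
    intro i
    fin_cases i
    · exact e1
    · exact hg
    · exact e2
  have hspan : Submodule.span F (Set.range ![a, u, b]) = ⊤ :=
    hli.span_eq_top_of_card_eq_finrank (by simp)
  obtain ⟨d, hd⟩ : ∃ d, d = h u u := ⟨_, rfl⟩
  have hd0 : d ≠ 0 := by
    intro e0
    obtain ⟨x, hx⟩ := exists_h_eq hF hu0 1
    have hmem : x ∈ Submodule.span F (Set.range ![a, u, b]) := hspan ▸ Submodule.mem_top
    rw [Submodule.mem_span_range_iff_exists_fun] at hmem
    obtain ⟨g, rfl⟩ := hmem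
    simp [Fin.sum_univ_three, h_add_right hF, h_smul_right hF, hua, hub, ← hd, e0] at hx
  have hdc : cj d = d := hd ▸ rat_real hF hP hu hu
  obtain ⟨c, hc⟩ := exists_norm hF (a := d⁻¹) (by rw [map_inv₀, hdc])
  have hc0 : c ≠ 0 := fun e0 => inv_ne_zero hd0 (by rw [← hc, e0, zero_mul])
  have hc0' : cj c ≠ 0 := (map_ne_zero cj).2 hc0
  have hcd : c * cj c * d = 1 := by rw [hc, inv_mul_cancel₀ hd0]
  have B : Frame3 q (c • a) (c • u) (c • d • b) := by
    refine ⟨⟨?_, ?_, ?_⟩, ?_, ?_, ?_⟩ <;>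
      simp only [h_smul_left, h_smul_right hF, haa, hbb, hua, hub, hab, ← hd, hdc, mul_zero, mul_one] <;>
      linear_combination hcd
  refine ⟨_, _, _, B, c, hc0, fun v => ?_⟩
  constructor
  · rintro ⟨x, hx, y, hy, z, hz, rfl⟩
    have e1 : c⁻¹ • co (c • a) (c • u) (c • d • b) x y z = x • a + y • u + (z * d) • b := by
      simp only [co, smul_add, smul_smul]
      refine congrArg₂ (· + ·) (congrArg₂ (· + ·) ?_ ?_) ?_ <;> congr 1 <;> field_simp
    rw [e1]
    exact ((ha.smul hx).add (hu.smul hy)).add (hb.smul (mul_mem hz hdc))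
  · intro hv
    obtain ⟨x, y, z, hxyz⟩ := exists_co hF B v
    obtain ⟨w', hw'⟩ : ∃ w', w' = c⁻¹ • v := ⟨_, rfl⟩
    rw [← hw'] at hv
    have hvw : v = c • w' := by rw [hw', smul_inv_smul₀ hc0]
    have hx : x = h w' b := by
      have h4 : h v (c • d • b) = x := by rw [hxyz, ← cj_h hF, h_f hF B, cj_cj hF]
      rw [← h4, hvw, h_smul_left, h_smul_right hF, h_smul_right hF, hdc]
      linear_combination (h w' b) * hcd
    have hy : y = h w' u / d := by
      have h4 : h v (c • u) = y := by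
        rw [hxyz]
        simp [co, h_add_left, h_smul_left, B.nn, B.en hF, B.fn hF]
      rw [← h4, hvw, h_smul_left, h_smul_right hF, eq_div_iff hd0]
      linear_combination (h w' u) * hcd
    have hz : z = h w' a / d := by
      have h4 : h v (c • a) = z := by rw [hxyz, ← cj_h hF, h_e hF B, cj_cj hF]
      rw [← h4, hvw, h_smul_left, h_smul_right hF, eq_div_iff hd0]
      linear_combination (h w' a) * hcd
    exact ⟨x, hx ▸ rat_real hF hP hv hb, y, hy ▸ div_mem (rat_real hF hP hv hu : _ ∈ fixF hF) hdc,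
      z, hz ▸ div_mem (rat_real hF hP hv ha : _ ∈ fixF hF) hdc, hxyz⟩

omit h2 hodd hP hF

/-- Subfield groups of orthogonal type are maximal. -/
theorem orth_maximal (hF : Fintype.card F = q ^ 2) (hodd : Odd q) (hq : 7 ≤ q) (F₀ : Subfield F)
    (P : Matrix.GeneralLinearGroup (Fin 3) F) (hcard : Fintype.card F = Nat.card F₀ ^ 2)
    (hP : Geo.IsFormRationalStructure (hermForm 3 F q) F₀ 1 P) :
    Geo.IsMaximalIn (GU 3 F q ⊓ Geo.specialLinear (Fin 3) F)
      (Geo.subfieldSubgroup F₀ P ⊓ (GU 3 F q ⊓ Geo.specialLinear (Fin 3) F)) := by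
  obtain rfl := fixF_eq hF hcard
  obtain ⟨e₁, n₁, f₁, B₁⟩ := exists_frame hF
  have h2 : (2 : F) ≠ 0 := two_ne hF B₁ hodd
  obtain ⟨e, n, f, B, c, hc0, hRV⟩ := rat_frame hF h2 hodd hP
  have hH : ∀ g : SU 3 F q, g ∈ orthSub hF B ↔
      toGL₃ F q g ∈ Geo.subfieldSubgroup (fixF hF) P ⊓ (GU 3 F q ⊓ Geo.specialLinear (Fin 3) F) := by
    intro g
    constructor
    · rintro ⟨a, ha, h1⟩
      refine ⟨mem_subfieldSubgroup_of ha fun x hx => ?_, toGL₃_mem g⟩
      have h3 := (hRV _).1 (h1 (c • x) ((hRV _).2 (by rwa [inv_smul_smul₀ hc0])))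
      rwa [Matrix.mulVec_smul, smul_comm a c, inv_smul_smul₀ hc0] at h3
    · rintro ⟨hg, -⟩
      obtain ⟨a, ha, h1⟩ := exists_of_mem_subfieldSubgroup hg
      refine ⟨a, ha, fun v hv => (hRV _).2 ?_⟩
      have h3 := h1 _ ((hRV v).1 hv)
      rwa [toGL₃_val, Matrix.mulVec_smul, smul_comm a c⁻¹] at h3
  refine isMaximalIn_intro inf_le_right (fun hle => ?_) fun M hHM hMK g hgM hgH => ?_
  · -- a transvection outside
    obtain ⟨τ, hτ0, hτ⟩ := exists_trace_zero hF
    obtain ⟨k, hk, h1⟩ := (hH (Um hF B 0 τ)).2 (hle (toGL₃_mem _))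
    obtain ⟨x₁, hx₁, y₁, -, z₁, -, e₁'⟩ := h1 _ ⟨1, one_mem _, 0, zero_mem _, 0, zero_mem _, rfl⟩
    obtain ⟨x₂, hx₂, y₂, -, z₂, -, e₂'⟩ := h1 _ ⟨0, zero_mem _, 0, zero_mem _, 1, one_mem _, rfl⟩
    rw [U_act hF B (OK.skew hF hτ), smul_co] at e₁' e₂'
    have hk1 := (co_inj hF B e₁').1
    have hk2 := (co_inj hF B e₂').1
    simp at hk1 hk2
    have hτr : qFrob hF τ = τ := by
      have h3 : τ = x₂ / x₁ := by rw [← hk1, ← hk2, mul_div_cancel_left₀ _ hk]
      rw [h3]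
      exact div_mem hx₂ hx₁
    exact hτ0 ((mul_eq_zero.1 (show (2 : F) * τ = 0 by linear_combination hτ - hτr)).resolve_left h2)
  set K := M.comap (toGL₃ F q) with hK
  have ho : OrthSetup hF B K := ⟨hodd, hq, fun x hx => hHM ((hH x).1 hx)⟩
  obtain ⟨g', rfl⟩ := exists_toGL₃ (hMK hgM)
  suffices htopK : K = ⊤ by
    intro y hy
    obtain ⟨y', rfl⟩ := exists_toGL₃ hy
    exact (htopK ▸ Subgroup.mem_top y' : y' ∈ K)
  have hne : K ≠ orthSub hF B := fun e0 => hgH ((hH g').1 (e0 ▸ (hgM : g' ∈ K)))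
  by_cases hA : aSet hF B K = ⊥
  · exact (ho.not_trans hF B hA hne).elim
  · exact ho.top_of_center hF B hA

end Cfsg.Agent.Classical.SUThree
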