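import Cfsg.Agent.Lib.Classical.SUThree.SubfieldRoot
import Cfsg.Agent.Lib.Transfer.PSUThreeIndex.Params
import Cfsg.Agent.Lib.Transfer.PSUThreeIndex.Conj

/-!
An overgroup in `SU₃(q)`, `q` odd, of the orthogonal group: with a transvection it is everything, and otherwise
its point stabiliser is the one of the orthogonal group.
-/

set_option autoImplicit false
set_option linter.unusedSectionVars false
set_option maxHeartbeats 1000000

namespace Cfsg.Agent.Classical.SUThree

open Matrix Cfsg Cfsg.Agent.Classical Cfsg.Agent.Classical.PSUAut Cfsg.Agent.Fus.UnitN Cfsg.Agent.Lie.SUGen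
  Cfsg.Agent.Lie.SU3Pres Cfsg.Agent.Transfer.U3Min

variable {F : Type*} [Field F] [Fintype F] {q : ℕ} (hF : Fintype.card F = q ^ 2)

local notation "cj" => qFrob hF
local notation "h" => hermForm 3 F q

variable {e n f : Fin 3 → F} (B : Frame3 q e n f)

/-- The elements defined over the fixed field up to a scalar. -/
noncomputable def orthSub : Subgroup (SU 3 F q) where
  carrier := {x | ∃ a : F, a ≠ 0 ∧ ∀ v, RV B (fixF hF) v → RV B (fixF hF) (a • (suVal x *ᵥ v))}
  one_mem' := ⟨1, one_ne_zero, fun v hv => by rwa [suVal_one', Matrix.one_mulVec, one_smul]⟩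
  mul_mem' := by
    rintro x y ⟨a, ha, hx⟩ ⟨b, hb, hy⟩
    refine ⟨a * b, mul_ne_zero ha hb, fun v hv => ?_⟩
    have h1 := hx _ (hy v hv)
    rwa [Matrix.mulVec_smul, smul_smul, ← mulVec_mul] at h1
  inv_mem' := by
    rintro x ⟨a, ha, hx⟩
    have hp : ∀ m : ℕ, ∀ v, RV B (fixF hF) v → RV B (fixF hF) (a ^ m • (suVal (x ^ m) *ᵥ v)) := fun m => by
      induction m with
      | zero => intro v hv; rwa [pow_zero, pow_zero, suVal_one', Matrix.one_mulVec, one_smul]
      | succ m ih =>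
        intro v hv
        have h1 := ih _ (hx v hv)
        rwa [Matrix.mulVec_smul, smul_smul, ← mulVec_mul, ← pow_succ, ← pow_succ] at h1
    refine ⟨a ^ (orderOf x - 1), pow_ne_zero _ ha, ?_⟩
    have e : x⁻¹ = x ^ (orderOf x - 1) := inv_eq_of_mul_eq_one_right (by
      rw [← pow_succ', Nat.sub_add_cancel (orderOf_pos x), pow_orderOf_eq_one])
    rw [e]
    exact hp _

theorem mem_orthSub_of_rat {x : SU 3 F q} (hx : RatSU B (fixF hF) x) : x ∈ orthSub hF B :=
  ⟨1, one_ne_zero, fun v hv => by rw [one_smul]; exact hx v hv⟩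

/-- An overgroup of the orthogonal group. -/
structure OrthSetup (K : Subgroup (SU 3 F q)) : Prop where
  odd : Odd q
  large : 7 ≤ q
  sub : orthSub hF B ≤ K

include hF

omit hF in
theorem RatSU.conj_one {F₀ : Subfield F} {x : SU 3 F q} (hx : RatSU B F₀ x) : RatSU B F₀ x := hx

theorem T_scalar {l : F} (hl : l ^ 3 = 1) (hN : l * cj l = 1) (v : Fin 3 → F) :
    suVal (Tm hF B l) *ᵥ v = l • v := by
  have hl0 : l ≠ 0 := fun e0 => by simp [e0] at hl
  obtain ⟨x, y, z, rfl⟩ := exists_co hF B v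
  rw [T_act hF B hl0, smul_co]
  have hc : cj l = 1 / l := by rw [eq_div_iff hl0]; linear_combination hN
  rw [hc]
  congr 1
  · field_simp
    linear_combination -y * hl
  · field_simp

theorem T_scalar_mem {l : F} (hl : l ^ 3 = 1) (hN : l * cj l = 1) : Tm hF B l ∈ orthSub hF B := by
  have hl0 : l ≠ 0 := fun e0 => by simp [e0] at hl
  refine ⟨l⁻¹, inv_ne_zero hl0, fun v hv => ?_⟩
  rwa [T_scalar hF B hl hN, smul_smul, inv_mul_cancel₀ hl0, one_smul]

theorem T_real_mem {l : F} (hl : cj l = l) (hl0 : l ≠ 0) : Tm hF B l ∈ orthSub hF B := by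
  refine mem_orthSub_of_rat hF B ?_
  rintro _ ⟨x, hx, y, hy, z, hz, rfl⟩
  refine ⟨_, mul_mem (show l ∈ fixF hF from hl) hx, y, hy, _,
    mul_mem (inv_mem (show l ∈ fixF hF from hl)) hz, ?_⟩
  rw [T_act hF B hl0, hl, div_self hl0, one_mul]

variable {K : Subgroup (SU 3 F q)} (ho : OrthSetup hF B K)
include ho

theorem OrthSetup.two : (2 : F) ≠ 0 := two_ne hF B ho.odd

theorem OrthSetup.okr {r : F} (hr : cj r = r) : OK hF r (-(r * r) / 2) := by
  have := ho.two hF B
  simp only [OK, map_div₀, map_neg, map_mul, map_ofNat, hr]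
  field_simp
  ring

theorem OrthSetup.U_mem {r : F} (hr : cj r = r) : Um hF B r (-(r * r) / 2) ∈ K := by
  refine ho.sub (mem_orthSub_of_rat hF B (ratSU_U hF B (ho.okr hF B hr) hr ?_))
  show cj (-(r * r) / 2) = -(r * r) / 2
  simp only [map_div₀, map_neg, map_mul, map_ofNat, hr]

theorem OrthSetup.W_mem : Wm hF B ∈ K := ho.sub (mem_orthSub_of_rat hF B (ratSU_W hF B))

theorem OrthSetup.T_mem {l : F} (hl : cj l = l) (hl0 : l ≠ 0) : Tm hF B l ∈ K := ho.sub (T_real_mem hF B hl hl0)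

/-- The two parts of an element of `F`. -/
theorem OrthSetup.parts (x : F) : cj ((x + cj x) / 2) = (x + cj x) / 2 ∧
    (x - cj x) / 2 + cj ((x - cj x) / 2) = 0 ∧ x = (x + cj x) / 2 + (x - cj x) / 2 := by
  have := ho.two hF B
  refine ⟨by rw [map_div₀, map_add, cj_cj hF, map_ofNat, add_comm], ?_, by field_simp; ring⟩
  rw [map_div₀, map_sub, cj_cj hF, map_ofNat]
  ring

/-- With one transvection the overgroup is everything. -/
theorem OrthSetup.top_of_center (hA : aSet hF B K ≠ ⊥) : K = ⊤ := by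
  have h2 := ho.two hF B
  obtain ⟨c, hc, hc0⟩ := (AddSubgroup.bot_or_exists_ne_zero _).resolve_left hA
  have hsq : ∀ l : F, cj l = l → l * l * c ∈ aSet hF B K := fun l hl => by
    rcases eq_or_ne l 0 with rfl | hl0
    · rw [zero_mul, zero_mul]; exact zero_mem _
    have h1 := aSet_stable hF B (l := Units.mk0 l hl0)
      ((mem_tSet hF B).2 ⟨_, ho.T_mem hF B hl hl0, T_e hF B hl0⟩) hc
    rwa [Units.val_mk0, hl] at h1
  have hcc : cj c = -c := by linear_combination hc.1
  have hfull : ∀ d : F, d + cj d = 0 → Um hF B 0 d ∈ K := fun d hd => by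
    have hx : cj (d / c) = d / c := by
      rw [map_div₀, hcc, show cj d = -d by linear_combination hd, neg_div_neg_eq]
    have h1 := sub_mem (hsq ((d / c + 1) / 2) (by rw [map_div₀, map_add, hx, map_one, map_ofNat]))
      (hsq ((d / c - 1) / 2) (by rw [map_div₀, map_sub, hx, map_one, map_ofNat]))
    convert h1.2 using 2
    field_simp
    ring
  -- the orbit of the point
  let InO : F → F → Prop := fun α b => ∃ k ∈ K, ∃ a : F, suVal k *ᵥ e = a • co e n f b α 1
  have hfix : cj (1 : F) = 1 := map_one _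
  have hcU : ∀ r, cj r = r → ∀ d, d + cj d = 0 → ∀ α b, InO α b →
      InO (α + r) (b - r * α - r * r / 2 + d) := by
    rintro r hr d hd α b ⟨k, hk, a, ha⟩
    refine ⟨Um hF B r (-(r * r) / 2) * (Um hF B 0 d * k), mul_mem (ho.U_mem hF B hr) (mul_mem (hfull d hd) hk), a, ?_⟩
    rw [mulVec_mul, mulVec_mul, ha, Matrix.mulVec_smul, Matrix.mulVec_smul, U_act hF B (OK.skew hF hd),
      U_act hF B (ho.okr hF B hr), hr, map_zero]
    congr 2 <;> ring
  have hcT : ∀ l, cj l = l → l ≠ 0 → ∀ α b, InO α b → InO (l * α) (l * l * b) := by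
    rintro l hl hl0 α b ⟨k, hk, a, ha⟩
    refine ⟨Tm hF B l * k, mul_mem (ho.T_mem hF B hl hl0) hk, a / l, ?_⟩
    rw [mulVec_mul, ha, Matrix.mulVec_smul, T_act hF B hl0, hl, smul_co, smul_co]
    congr 1 <;> field_simp
  have hbase : InO 0 0 := ⟨Wm hF B, ho.W_mem hF B, 1, by rw [W_to_f hF B, one_smul]; simp [co]⟩
  obtain ⟨α₁, b₁, hne, hin⟩ : ∃ α b, cj α ≠ α ∧ InO α b := by
    obtain ⟨β, hβdef⟩ : ∃ β, β = -(1 * 1) / 2 + c := ⟨_, rfl⟩
    have hok : OK hF 1 β := by
      have h3 := ho.okr hF B hfix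
      simp only [OK] at h3 ⊢
      rw [hβdef, map_add]
      linear_combination h3 + hc.1
    have hβ : β ≠ 0 := OK.b_ne hF hok one_ne_zero
    have hU : Um hF B 1 β ∈ K := by
      have h1 := mul_mem (hfull c hc.1) (ho.U_mem hF B hfix)
      rwa [U_mul hF B (OK.skew hF hc.1) (ho.okr hF B hfix), zero_add, map_zero, zero_mul, sub_zero, add_comm,
        ← hβdef] at h1
    have h3 : suVal (Wm hF B * Um hF B 1 β * Wm hF B) *ᵥ e = β • co e n f (1 / β) (-1 / β) 1 := by
      have hUf : suVal (Um hF B 1 β) *ᵥ f = co e n f β 1 1 := by simpa [co] using U_act hF B hok 0 0 1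
      rw [mulVec_mul, mulVec_mul, W_to_f hF B, hUf, W_act hF B, smul_co]
      congr 1 <;> field_simp
    refine ⟨-1 / β, 1 / β, fun e0 => hc0 ?_, _, mul_mem (mul_mem (ho.W_mem hF B) hU) (ho.W_mem hF B), β, h3⟩
    rw [map_div₀, map_neg, map_one, div_eq_div_iff ((map_ne_zero cj).2 hβ) hβ] at e0
    rw [hβdef, map_add, map_div₀, map_neg, map_mul, map_one, map_ofNat, hcc] at e0
    have : (2 : F) * c = 0 := by linear_combination -e0
    exact (mul_eq_zero.1 this).resolve_left h2
  have hall : ∀ α b, OK hF α b → InO α b := by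
    intro α b hok
    obtain ⟨hr, hs, hαe⟩ := ho.parts hF B α
    obtain ⟨hr₁, hs₁, hα₁⟩ := ho.parts hF B α₁
    -- some point with the same skew part
    obtain ⟨α', b', hin', hsame⟩ : ∃ α' b', InO α' b' ∧ α' - cj α' = α - cj α := by
      by_cases hz : α - cj α = 0
      · exact ⟨0, 0, hbase, by rw [map_zero, sub_zero, hz]⟩
      · have hne' : α₁ - cj α₁ ≠ 0 := sub_ne_zero.2 (Ne.symm hne)
        obtain ⟨l, hldef⟩ : ∃ l, l = (α - cj α) / (α₁ - cj α₁) := ⟨_, rfl⟩
        have hl : cj l = l := by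
          rw [hldef, map_div₀, map_sub, map_sub, cj_cj hF, cj_cj hF, ← neg_sub α, ← neg_sub α₁, neg_div_neg_eq]
        have hl0 : l ≠ 0 := hldef ▸ div_ne_zero hz hne'
        refine ⟨l * α₁, l * l * b₁, hcT l hl hl0 α₁ b₁ hin, ?_⟩
        rw [map_mul, hl, ← mul_sub, hldef, div_mul_cancel₀ _ hne']
    obtain ⟨k, hk, a, ha⟩ := hin'
    have hok' : OK hF α' b' := by
      have h3 : h (suVal k *ᵥ e) (suVal k *ᵥ e) = 0 := by rw [su_form, B.P.ee]
      rw [ha, h_smul_left, h_smul_right hF, B.h_co hF] at h3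
      have ha0 : a ≠ 0 := fun e0 => B.P.ne_zero (su_injective k (by rw [ha, e0, zero_smul]))
      have h4 := ((mul_eq_zero.1 ((mul_eq_zero.1 h3).resolve_left ha0)).resolve_left ((map_ne_zero cj).2 ha0))
      simp only [OK]
      rw [map_one] at h4
      linear_combination h4
    have hrr : cj (α - α') = α - α' := by rw [map_sub]; linear_combination hsame
    have hd : (b - (b' - (α - α') * α' - (α - α') * (α - α') / 2)) +
        cj (b - (b' - (α - α') * α' - (α - α') * (α - α') / 2)) = 0 := by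
      simp only [OK] at hok hok'
      rw [map_sub, map_sub, map_sub, map_mul, map_div₀, map_mul, map_ofNat, hrr]
      field_simp
      linear_combination 2 * hok - 2 * hok' - 2 * α * hsame
    have h5 := hcU (α - α') hrr _ hd α' b' ⟨k, hk, a, ha⟩
    rwa [add_sub_cancel, add_sub_cancel] at h5
  refine eq_top_of_full hF B (by have := ho.large; omega) fun g d hd => ?_
  obtain ⟨x, y, z, hv⟩ := exists_co hF B (suVal g *ᵥ e)
  have hiso : x * cj z + y * cj y + z * cj x = 0 := by rw [← B.h_co hF, ← hv, su_form, B.P.ee]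
  rcases eq_or_ne z 0 with rfl | hz
  · have hy : y = 0 := by simpa using hiso
    refine conjH_bor hF B hfull (one_mem K) ⟨x, ?_⟩ hd
    rw [inv_one, one_mul, hv, hy]
    simp [co]
  · have hz' : cj z ≠ 0 := (map_ne_zero cj).2 hz
    have hok : OK hF (y / z) (x / z) := by
      simp only [OK, map_div₀]
      field_simp
      linear_combination hiso
    obtain ⟨k, hk, a, ha⟩ := hall _ _ hok
    have ha0 : a ≠ 0 := fun e0 => B.P.ne_zero (su_injective k (by rw [ha, e0, zero_smul]))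
    refine conjH_bor hF B hfull hk ⟨z / a, ?_⟩ hd
    refine su_cancel (g := k) ?_
    rw [← mulVec_mul, mul_inv_cancel_left, Matrix.mulVec_smul, ha, smul_co, smul_co, hv]
    congr 1 <;> field_simp

variable (hA : aSet hF B K = ⊥)
include hA

theorem OrthSetup.wSet_fix {α : F} (hα : α ∈ wSet hF B K) : cj α = α := by
  have h1 : (1 : F) ∈ wSet hF B K := ⟨_, ho.okr hF B (map_one cj), ho.U_mem hF B (map_one cj)⟩
  have h2 := comm_mem_aSet hF B hα h1
  rw [hA, AddSubgroup.mem_bot, map_one, mul_one, mul_one, sub_eq_zero] at h2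
  exact h2.symm

/-- The diagonal part of an element of the stabiliser is orthogonal: a real number times a cube root of one. -/
theorem OrthSetup.tor_mem {l : F} (hl0 : l ≠ 0) (hmem : Units.mk0 l hl0 ∈ tSet B K) :
    Tm hF B l ∈ orthSub hF B ∧ (¬ 3 ∣ q + 1 → cj l = l) := by
  have h1 : (1 : F) ∈ wSet hF B K := ⟨_, ho.okr hF B (map_one cj), ho.U_mem hF B (map_one cj)⟩
  have h2 := ho.wSet_fix hF B hA (wSet_stable hF B hmem h1)
  rw [Units.val_mk0, mul_one, th, map_div₀, map_mul, cj_cj hF] at h2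
  have hl' : cj l ≠ 0 := (map_ne_zero cj).2 hl0
  field_simp at h2
  -- the cube root and the real part
  obtain ⟨ω, hω⟩ : ∃ ω, ω = cj l / l := ⟨_, rfl⟩
  have hω3 : ω ^ 3 = 1 := by
    rw [hω, div_pow, div_eq_one_iff_eq (pow_ne_zero 3 hl0)]
    linear_combination -h2
  have hωN : ω * cj ω = 1 := by rw [hω, map_div₀, cj_cj hF]; field_simp
  obtain ⟨m, hm⟩ : ∃ m, m = l ^ 3 / (l * cj l) := ⟨_, rfl⟩
  have hm0 : m ≠ 0 := hm ▸ div_ne_zero (pow_ne_zero 3 hl0) (mul_ne_zero hl0 hl')
  have hmc : cj m = m := by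
    rw [hm, map_div₀, map_pow, map_mul, cj_cj hF]
    field_simp
    linear_combination -h2
  have hω0 : ω ≠ 0 := fun e0 => by simp [e0] at hω3
  have hT : Tm hF B l = Tm hF B m * Tm hF B ω := by
    rw [T_mul hF B hm0 hω0]
    congr 1
    rw [hm, hω]
    field_simp
  refine ⟨?_, fun h3 => ?_⟩
  · rw [hT]
    exact mul_mem (T_real_mem hF B hmc hm0) (T_scalar_mem hF B hω3 hωN)
  · have hω1 : ω = 1 := by
      have h5 : ω ^ (q + 1) = 1 := by rw [← norm_eq_pow hF B]; exact hωN
      have h6 := pow_gcd_eq_one.2 ⟨hω3, h5⟩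
      rwa [((Nat.prime_three.coprime_iff_not_dvd).2 h3).gcd_eq_one, pow_one] at h6
    rw [hω, div_eq_one_iff_eq hl0] at hω1
    exact hω1

/-- Without transvections the point stabiliser is that of the orthogonal group. -/
theorem OrthSetup.bor_le : K ⊓ Bor B ≤ orthSub hF B := by
  rintro x ⟨hx, l, hl⟩
  obtain ⟨α, b, hl0, hok, rfl⟩ := bor_form hF B hl
  have hmem : Units.mk0 l hl0 ∈ tSet B K := (mem_tSet hF B).2 ⟨_, hx, by rw [Units.val_mk0]; exact hl⟩
  have hTK : Tm hF B l ∈ orthSub hF B := (ho.tor_mem hF B hA hl0 hmem).1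
  refine mul_mem ?_ hTK
  have hU : Um hF B α b ∈ K := by
    have := K.mul_mem hx (K.inv_mem (ho.sub hTK))
    rwa [mul_inv_cancel_right] at this
  have hα := ho.wSet_fix hF B hA ⟨b, hok, hU⟩
  have hok' := ho.okr hF B hα
  have hsk : (b - -(α * α) / 2) + cj (b - -(α * α) / 2) = 0 := by
    simp only [OK] at hok hok'
    rw [map_sub]
    linear_combination hok - hok'
  have h3 : Um hF B 0 (b - -(α * α) / 2) ∈ K := by
    have e1 : Um hF B 0 (b - -(α * α) / 2) * Um hF B α (-(α * α) / 2) = Um hF B α b := by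
      rw [U_mul hF B (OK.skew hF hsk) hok', zero_add, map_zero, zero_mul, sub_zero, sub_add_cancel]
    rw [← mul_inv_eq_iff_eq_mul.2 e1.symm]
    exact mul_mem hU (inv_mem (ho.U_mem hF B hα))
  have h4 : b - -(α * α) / 2 = 0 := by
    have : b - -(α * α) / 2 ∈ aSet hF B K := ⟨hsk, h3⟩
    rwa [hA, AddSubgroup.mem_bot] at this
  refine mem_orthSub_of_rat hF B (ratSU_U hF B hok hα ?_)
  show cj b = b
  rw [sub_eq_zero.1 h4, map_div₀, map_neg, map_mul, map_ofNat, hα]

theorem OrthSetup.card_uni : Nat.card (K ⊓ Uni hF B : Subgroup (SU 3 F q)) = Nat.card (fixF hF) := by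
  rw [card_inf_Uni hF B, hA, AddSubgroup.card_bot, one_mul]
  exact Nat.card_congr (Equiv.subtypeEquivRight fun α => ⟨fun h1 => ho.wSet_fix hF B hA h1,
    fun h1 => ⟨_, ho.okr hF B h1, ho.U_mem hF B h1⟩⟩)

theorem OrthSetup.card_fix : Nat.card (fixF hF) = q := by
  obtain ⟨τ, hτ0, hτ⟩ := exists_trace_zero hF
  refine Eq.trans (Nat.card_congr ?_) (Cfsg.Agent.Lie.MinIndexUnit.card_skew hF)
  exact
    { toFun := fun a => ⟨τ * a, skew_mul hF hτ a.2⟩
      invFun := fun c => ⟨c.1 / τ, by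
        show cj (c.1 / τ) = c.1 / τ
        have hc : c.1 + cj c.1 = 0 := c.2
        rw [map_div₀, show cj c.1 = -c.1 by linear_combination hc, show cj τ = -τ by linear_combination hτ,
          neg_div_neg_eq]⟩
      left_inv := fun a => Subtype.ext (mul_div_cancel_left₀ _ hτ0)
      right_inv := fun c => Subtype.ext (mul_div_cancel₀ _ hτ0) }

end Cfsg.Agent.Classical.SUThree
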