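import Cfsg.Agent.Lib.Classical.SUThree.OrthBase
import Cfsg.Agent.Lib.Transfer.PSUThreeIndex.Orbit

/-!
The orbit of a point under an overgroup of the orthogonal group without transvections: all points.
-/

set_option autoImplicit false
set_option linter.unusedSectionVars false
set_option maxHeartbeats 1000000

namespace Cfsg.Agent.Classical.SUThree

open Matrix Cfsg Cfsg.Agent.Classical Cfsg.Agent.Classical.PSUAut Cfsg.Agent.Fus.UnitN Cfsg.Agent.Lie.SUGen
  Cfsg.Agent.Lie.SU3Pres Cfsg.Agent.Transfer.U3Min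

/-- The possible orbit sizes. -/
theorem orbit_arith {q s σ : ℕ} (hq : 7 ≤ q) (hN : s * (q + 1) = 1 + q * σ) (hle : s * (q + 1) ≤ q ^ 3 + 1)
    (hd : s ∣ q ^ 3 + 1) : s = 1 ∨ s = q + 1 ∨ s * (q + 1) = q ^ 3 + 1 := by
  obtain ⟨m, hm⟩ := hd
  have hs0 : 1 ≤ s := Nat.one_le_iff_ne_zero.2 fun e0 => by rw [e0, zero_mul] at hN; omega
  obtain ⟨k, hk⟩ : ∃ k, σ = s + k := Nat.exists_eq_add_of_le (by
    by_contra hc
    push Not at hc
    have := Nat.mul_le_mul_left q hc
    nlinarith)
  subst hk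
  have hs : s = 1 + q * k := by nlinarith
  rcases Nat.eq_zero_or_pos k with rfl | hk0
  · exact Or.inl (by simpa using hs)
  have hm0 : 1 ≤ m := Nat.one_le_iff_ne_zero.2 fun e0 => by rw [e0, mul_zero] at hm; omega
  obtain ⟨l, hl⟩ : ∃ l, k * m + l = q ^ 2 := ⟨q ^ 2 - k * m, Nat.add_sub_of_le (by
    by_contra hc
    push Not at hc
    have h1 : (q ^ 2 + 1) * q ≤ k * m * q := Nat.mul_le_mul_right q hc
    nlinarith)⟩
  have hml : m = 1 + q * l := by nlinarith
  subst hml
  have hl0 : 1 ≤ l := Nat.one_le_iff_ne_zero.2 fun e0 => by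
    subst e0
    rw [mul_zero, add_zero, mul_one] at hm
    have := Nat.le_mul_of_pos_right s (show 0 < q by omega)
    nlinarith
  have h1 : k + l + k * l * q = q ^ 2 := by nlinarith
  obtain ⟨j, hj⟩ : ∃ j, q = k * l + j := Nat.exists_eq_add_of_le (by
    by_contra hc
    push Not at hc
    have := Nat.mul_le_mul_right q hc
    nlinarith)
  have hkl : k + l = q * j := by nlinarith
  have hj0 : 1 ≤ j := Nat.one_le_iff_ne_zero.2 fun e0 => by rw [e0, mul_zero] at hkl; omega
  have h2 : k * l + 1 ≥ k + l := by nlinarith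
  have h3 : q ≤ k + l := by rw [hkl]; exact Nat.le_mul_of_pos_right q hj0
  have h4 : k * l + 1 = k + l ∧ k + l = q := by omega
  rcases Nat.lt_or_ge 1 k with hk1 | hk1
  · have hl1 : l = 1 := by
      by_contra hne
      have h5 : 2 ≤ l := by omega
      nlinarith
    subst hl1
    exact Or.inr (Or.inr (by rw [hs, show k = q - 1 by omega]; obtain ⟨q', rfl⟩ := Nat.exists_eq_add_of_le hq; simp; ring))
  · obtain rfl : k = 1 := by omega
    exact Or.inr (Or.inl (by rw [hs]; ring))

variable {F : Type*} [Field F] [Fintype F] {q : ℕ} (hF : Fintype.card F = q ^ 2)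

local notation "cj" => qFrob hF
local notation "h" => hermForm 3 F q

variable {e n f : Fin 3 → F} (B : Frame3 q e n f)

/-- The parameters of the orbit of `e` modulo the real unipotent elements. -/
def ptSet (K : Subgroup (SU 3 F q)) : Set (F × F) :=
  {p | p.1 + cj p.1 = 0 ∧ p.2 + cj p.2 = 0 ∧
    ∃ k ∈ K, ∃ a : F, suVal k *ᵥ e = a • co e n f (p.1 * p.1 / 2 + p.2) p.1 1}

include hF

theorem line_iff {g g' : SU 3 F q} : (QuotientGroup.mk g : SU 3 F q ⧸ Bor B) = QuotientGroup.mk g' ↔
    ∃ a : F, suVal g' *ᵥ e = a • (suVal g *ᵥ e) := by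
  rw [QuotientGroup.eq]
  constructor
  · rintro ⟨a, ha⟩
    exact ⟨a, by rw [← Matrix.mulVec_smul, ← ha, ← mulVec_mul, mul_inv_cancel_left]⟩
  · rintro ⟨a, ha⟩
    exact ⟨a, su_cancel (g := g) (by rw [← mulVec_mul, mul_inv_cancel_left, Matrix.mulVec_smul, ha])⟩

theorem mem_orbit_iff {K : Subgroup (SU 3 F q)} {g : SU 3 F q} :
    (QuotientGroup.mk g : SU 3 F q ⧸ Bor B) ∈ MulAction.orbit K (QuotientGroup.mk 1 : SU 3 F q ⧸ Bor B) ↔
      ∃ k ∈ K, ∃ a : F, suVal g *ᵥ e = a • (suVal k *ᵥ e) := by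
  constructor
  · rintro ⟨k, hk⟩
    have h1 : QuotientGroup.mk ((k : SU 3 F q) * 1) = (QuotientGroup.mk g : SU 3 F q ⧸ Bor B) := hk
    rw [mul_one] at h1
    exact ⟨k, k.2, (line_iff hF B).1 h1⟩
  · rintro ⟨k, hk, hka⟩
    refine ⟨⟨k, hk⟩, ?_⟩
    show QuotientGroup.mk (k * 1) = QuotientGroup.mk g
    rw [mul_one]
    exact (line_iff hF B).2 hka

variable (h2 : (2 : F) ≠ 0)
include h2

/-- The orbit of `e`. -/
theorem card_orbit {K : Subgroup (SU 3 F q)}
    (hU : ∀ r : F, cj r = r → OK hF r (-(r * r) / 2) ∧ Um hF B r (-(r * r) / 2) ∈ K) :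
    Nat.card (MulAction.orbit K (QuotientGroup.mk 1 : SU 3 F q ⧸ Bor B)) =
      1 + Nat.card (fixF hF) * Nat.card (ptSet hF (e := e) (n := n) (f := f) K) := by
  classical
  let O := MulAction.orbit K (QuotientGroup.mk 1 : SU 3 F q ⧸ Bor B)
  choose kk hkk aa haa using fun p : ptSet hF (e := e) (n := n) (f := f) K => p.2.2.2
  have haa0 : ∀ p, aa p ≠ 0 := fun p e0 => B.P.ne_zero (su_injective (kk p) (by rw [haa p, e0, zero_smul]))
  let ψ : Option (fixF hF × ptSet hF (e := e) (n := n) (f := f) K) → O := fun o => o.elim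
    ⟨QuotientGroup.mk 1, MulAction.mem_orbit_self _⟩
    fun rp => ⟨QuotientGroup.mk (Um hF B (rp.1 : F) (-((rp.1 : F) * rp.1) / 2) * kk rp.2),
      (mem_orbit_iff hF B).2 ⟨_, mul_mem (hU _ rp.1.2).2 (hkk rp.2), 1, (one_smul F _).symm⟩⟩
  have hval : ∀ (r : fixF hF) (p), suVal (Um hF B (r : F) (-((r : F) * r) / 2) * kk p) *ᵥ e =
      aa p • co e n f (p.1.1 * p.1.1 / 2 + p.1.2 - (r : F) * p.1.1 - (r : F) * r / 2) (p.1.1 + r) 1 := fun r p => by
    rw [mulVec_mul, haa p, Matrix.mulVec_smul, U_act hF B (hU _ r.2).1, show cj (r : F) = r from r.2]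
    congr 2 <;> ring
  have hψ : Function.Bijective ψ := by
    constructor
    · rintro (_ | ⟨r, p⟩) (_ | ⟨r', p'⟩) he <;> have h1 := congrArg Subtype.val he
      · rfl
      · simp only [ψ, Option.elim] at h1
        obtain ⟨a, ha⟩ := (line_iff hF B).1 h1
        rw [hval, suVal_one', Matrix.one_mulVec, smul_co, show a • e = co e n f a 0 0 by simp [co]] at ha
        have := (co_inj hF B ha).2.2
        rw [mul_one] at this
        exact absurd this (haa0 p')
      · simp only [ψ, Option.elim] at h1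
        obtain ⟨a, ha⟩ := (line_iff hF B).1 h1.symm
        rw [hval, suVal_one', Matrix.one_mulVec, smul_co, show a • e = co e n f a 0 0 by simp [co]] at ha
        have := (co_inj hF B ha).2.2
        rw [mul_one] at this
        exact absurd this (haa0 p)
      · simp only [ψ, Option.elim] at h1
        obtain ⟨a, ha⟩ := (line_iff hF B).1 h1
        rw [hval, hval, smul_smul, smul_co, smul_co] at ha
        obtain ⟨k0, k1, k2⟩ := co_inj hF B ha
        rw [mul_one, mul_one] at k2
        rw [← k2] at k0 k1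
        have e1 : p'.1.1 + (r' : F) = p.1.1 + r := mul_left_cancel₀ (haa0 p') k1
        have e1' := congrArg cj e1
        rw [map_add, map_add, show cj (r : F) = r from r.2, show cj (r' : F) = r' from r'.2] at e1'
        have hs := p.2.1
        have hs' := p'.2.1
        have er : (r' : F) = r := by
          have : (2 : F) * ((r' : F) - r) = 0 := by linear_combination e1 + e1' - hs' + hs
          exact sub_eq_zero.1 ((mul_eq_zero.1 this).resolve_left h2)
        have es : p'.1.1 = p.1.1 := by linear_combination e1 - er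
        have e0 := mul_left_cancel₀ (haa0 p') k0
        rw [er, es] at e0
        have ec : p'.1.2 = p.1.2 := by linear_combination e0
        exact congrArg some (Prod.ext (Subtype.ext er.symm) (Subtype.ext (Prod.ext es.symm ec.symm)))
    · rintro ⟨x, hx⟩
      obtain ⟨g, rfl⟩ := QuotientGroup.mk_surjective x
      obtain ⟨k, hk, a, ha⟩ := (mem_orbit_iff hF B).1 hx
      obtain ⟨x, y, z, hv⟩ := exists_co hF B (suVal k *ᵥ e)
      have hiso : x * cj z + y * cj y + z * cj x = 0 := by rw [← B.h_co hF, ← hv, su_form, B.P.ee]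
      have hga : (QuotientGroup.mk g : SU 3 F q ⧸ Bor B) = QuotientGroup.mk k :=
        ((line_iff hF B).2 ⟨a, ha⟩).symm
      rcases eq_or_ne z 0 with rfl | hz
      · have hy : y = 0 := by simpa using hiso
        refine ⟨none, Subtype.ext ?_⟩
        show QuotientGroup.mk 1 = QuotientGroup.mk g
        rw [hga]
        exact (line_iff hF B).2 ⟨x, by rw [hv, hy, suVal_one', Matrix.one_mulVec]; simp [co]⟩
      · have hz' : cj z ≠ 0 := (map_ne_zero cj).2 hz
        obtain ⟨r, hr⟩ : ∃ r, r = (y / z + cj (y / z)) / 2 := ⟨_, rfl⟩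
        have hrc : cj r = r := by rw [hr, map_div₀, map_add, cj_cj hF, map_ofNat, add_comm]
        obtain ⟨s, hs⟩ : ∃ s, s = (y / z - cj (y / z)) / 2 := ⟨_, rfl⟩
        have hsc : s + cj s = 0 := by rw [hs]; simp only [map_div₀, map_sub, cj_cj hF, map_ofNat]; ring
        have hy : y / z = r + s := by rw [hr, hs]; field_simp; ring
        obtain ⟨c, hc⟩ : ∃ c, c = x / z + r * s + r * r / 2 - s * s / 2 := ⟨_, rfl⟩
        have hcc : c + cj c = 0 := by
          have h1 : x / z + cj x / cj z + (r + s) * cj (r + s) = 0 := by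
            rw [← hy, map_div₀]
            field_simp
            linear_combination hiso
          rw [map_add, hrc, show cj s = -s by linear_combination hsc] at h1
          rw [hc]
          simp only [map_sub, map_add, map_mul, map_div₀, map_ofNat, hrc, show cj s = -s by linear_combination hsc]
          field_simp at h1 ⊢
          linear_combination 2 * h1
        have hr' : cj (-r) = -r := by rw [map_neg, hrc]
        have hp : (s, c) ∈ ptSet hF (e := e) (n := n) (f := f) K := by
          refine ⟨hsc, hcc, _, mul_mem (hU _ hr').2 hk, z, ?_⟩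
          rw [mulVec_mul, hv, U_act hF B (hU _ hr').1, hr', smul_co]
          have hyz : y = z * (r + s) := by rw [← hy, mul_div_cancel₀ _ hz]
          congr 1
          · rw [hc, hyz]; field_simp; ring
          · rw [hyz]; ring
          · ring
        refine ⟨some (⟨r, hrc⟩, ⟨(s, c), hp⟩), Subtype.ext ?_⟩
        show QuotientGroup.mk (Um hF B r (-(r * r) / 2) * kk ⟨(s, c), hp⟩) = QuotientGroup.mk g
        rw [hga]
        refine (line_iff hF B).2 ⟨z / aa ⟨(s, c), hp⟩, ?_⟩
        rw [hval ⟨r, hrc⟩ ⟨(s, c), hp⟩, smul_smul, div_mul_cancel₀ _ (haa0 _), smul_co, hv]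
        have hyz : y = z * (r + s) := by rw [← hy, mul_div_cancel₀ _ hz]
        congr 1
        · simp only; rw [hc]; field_simp; ring
        · simp only; rw [hyz]; ring
        · ring
  show Nat.card O = _
  rw [← Nat.card_eq_of_bijective ψ hψ, Finite.card_option, Nat.card_prod]
  ring

theorem ptSet_orth : ptSet hF (e := e) (n := n) (f := f) (orthSub hF B) = {(0, 0)} := by
  refine Set.eq_singleton_iff_unique_mem.2 ⟨⟨by simp, by simp, Wm hF B, mem_orthSub_of_rat hF B (ratSU_W hF B), 1,
    by rw [W_to_f hF B, one_smul]; simp [co]⟩, ?_⟩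
  rintro ⟨s, c⟩ ⟨hs, hc, k, ⟨b, hb, hk⟩, a, ha⟩
  obtain ⟨x, hx, y, hy, z, hz, he⟩ := hk e ⟨1, one_mem _, 0, zero_mem _, 0, zero_mem _, co_e.symm⟩
  rw [ha, smul_smul, smul_co] at he
  obtain ⟨k0, k1, k2⟩ := co_inj hF B he
  simp only at k0 k1 hs hc
  rw [mul_one] at k2
  have hz0 : z ≠ 0 := k2 ▸ mul_ne_zero hb fun e0 => B.P.ne_zero (su_injective k (by rw [ha, e0, zero_smul]))
  rw [k2] at k0 k1
  have hzero : ∀ w : F, w + cj w = 0 → cj w = w → w = 0 := fun w h1 h1' =>
    (mul_eq_zero.1 (show (2 : F) * w = 0 by linear_combination h1 - h1')).resolve_left h2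
  have hs0 : s = 0 := hzero s hs (by
    have : s = y / z := by rw [eq_div_iff hz0]; linear_combination k1
    rw [this]; exact div_mem hy hz)
  refine Prod.ext hs0 (hzero c hc ?_)
  have : c = x / z := by rw [eq_div_iff hz0]; rw [hs0] at k0; linear_combination k0
  rw [this]; exact div_mem hx hz

omit h2
variable {K : Subgroup (SU 3 F q)} (ho : OrthSetup hF B K) (hA : aSet hF B K = ⊥) (hne : K ≠ orthSub hF B)
include ho hA hne

/-- Transitivity on the points. -/
theorem OrthSetup.transitive :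
    Nat.card (MulAction.orbit K (QuotientGroup.mk 1 : SU 3 F q ⧸ Bor B)) = q ^ 3 + 1 := by
  classical
  have h2 := ho.two hF B
  have hq := ho.large
  have hbor : orthSub hF B ⊓ Bor B = K ⊓ Bor B :=
    le_antisymm (inf_le_inf_right _ ho.sub) (le_inf (ho.bor_le hF B hA) inf_le_right)
  have hOK := card_orbit hF B h2 (K := K) fun r hr => ⟨ho.okr hF B hr, ho.U_mem hF B hr⟩
  have hOH := card_orbit hF B h2 (K := orthSub hF B) fun r hr => ⟨ho.okr hF B hr, mem_orthSub_of_rat hF B
    (ratSU_U hF B (ho.okr hF B hr) hr (show cj (-(r * r) / 2) = -(r * r) / 2 by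
      simp only [map_div₀, map_neg, map_mul, map_ofNat, hr]))⟩
  rw [ptSet_orth hF B h2, show Nat.card ({(0, 0)} : Set (F × F)) = 1 by simp, ho.card_fix hF B hA, mul_one,
    add_comm] at hOH
  rw [ho.card_fix hF B hA] at hOK
  obtain ⟨σ, hσ⟩ : ∃ σ, σ = Nat.card (ptSet hF (e := e) (n := n) (f := f) K) := ⟨_, rfl⟩
  rw [← hσ] at hOK
  have hcH := orbit_mul_stab hF B (orthSub hF B) 1
  have hcK := orbit_mul_stab hF B K 1
  rw [conjH_one, hOH, hbor] at hcH
  rw [conjH_one] at hcK
  obtain ⟨S, hS⟩ : ∃ S, S = Nat.card (K ⊓ Bor B : Subgroup (SU 3 F q)) := ⟨_, rfl⟩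
  rw [← hS] at hcH hcK
  have hS0 : 0 < S := hS ▸ Nat.card_pos
  obtain ⟨s, hs⟩ := Subgroup.card_dvd_of_le ho.sub
  rw [← hcH, ← hcK] at hs
  have hN : Nat.card (MulAction.orbit K (QuotientGroup.mk 1 : SU 3 F q ⧸ Bor B)) = s * (q + 1) :=
    Nat.eq_of_mul_eq_mul_right hS0 (hs.trans (by ring))
  rw [hN] at hcK hOK ⊢
  have hle : s * (q + 1) ≤ q ^ 3 + 1 := hN ▸ orbit_le hF B K _
  have hdvd : s ∣ q ^ 3 + 1 := by
    have h1 := Subgroup.card_subgroup_dvd_card K
    rw [← hcK, Cfsg.Agent.Classical.UnitMult.natCard_SU3 hF] at h1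
    have hSdvd : q * (q - 1) ∣ S := by
      rw [hS, card_inf_Bor hF B, ho.card_uni hF B hA, ho.card_fix hF B hA]
      refine Nat.mul_dvd_mul_left q ?_
      rw [show q - 1 = Nat.card (fixF hF)ˣ by rw [Nat.card_units, ho.card_fix hF B hA]]
      let φ : (fixF hF)ˣ →* Fˣ := Units.map (fixF hF).subtype.toMonoidHom
      have hφ : Function.Injective φ := Units.map_injective (fixF hF).subtype.injective
      rw [Nat.card_congr (MonoidHom.ofInjective hφ).toEquiv]
      refine Subgroup.card_dvd_of_le ?_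
      rintro _ ⟨u, rfl⟩
      exact (mem_tSet hF B).2 ⟨_, ho.T_mem hF B (u : fixF hF).2
        (fun e0 => u.ne_zero (Subtype.ext e0)), T_e hF B (fun e0 => u.ne_zero (Subtype.ext e0))⟩
    have h3 : s * (q + 1) * (q * (q - 1)) ∣ q ^ 3 * (q ^ 3 + 1) * (q ^ 2 - 1) :=
      (Nat.mul_dvd_mul_left _ hSdvd).trans h1
    have h4 : q ^ 3 * (q ^ 3 + 1) * (q ^ 2 - 1) = q ^ 2 * (q ^ 3 + 1) * ((q + 1) * (q * (q - 1))) := by
      obtain ⟨q', rfl⟩ := Nat.exists_eq_add_of_le hq
      have : (7 + q') ^ 2 - 1 = (7 + q' + 1) * (7 + q' - 1) := by simpa using Nat.sq_sub_sq (7 + q') 1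
      rw [this]; ring
    rw [h4, mul_assoc] at h3
    have h5 := (Nat.mul_dvd_mul_iff_right (Nat.mul_pos (by omega) (Nat.mul_pos (by omega) (by omega)))).1 h3
    refine (Nat.Coprime.dvd_of_dvd_mul_left ?_ h5)
    refine Nat.Coprime.pow_right 2 (Nat.coprime_of_dvd' fun p hp hps hpq => ?_)
    have h6 : p ∣ s * (q + 1) := hps.mul_right _
    rw [hOK] at h6
    exact (Nat.dvd_add_left (hpq.mul_right σ)).1 h6
  rcases orbit_arith hq hOK hle hdvd with rfl | rfl | h1
  · exfalso
    exact hne (Subgroup.eq_of_le_of_card_ge ho.sub (le_of_eq (by rw [← hcH, ← hcK, one_mul]))).symm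
  · exfalso
    have hσq : σ = q + 2 := by nlinarith
    let P := ptSet hF (e := e) (n := n) (f := f) K
    let G := (fixF hF)ˣ
    let Y := {p : F × F // p ∈ P ∧ p ≠ 0}
    have hact : ∀ (u : G) (p : F × F), p ∈ P → (((u : fixF hF) : F) * p.1, ((u : fixF hF) : F) * (u : fixF hF) * p.2) ∈ P := by
      rintro u ⟨s, c⟩ ⟨hs, hc, k, hk, a, ha⟩
      obtain ⟨l, hl⟩ : ∃ l, l = ((u : fixF hF) : F) := ⟨_, rfl⟩
      have hlc : cj l = l := hl ▸ (u : fixF hF).2
      have hl0 : l ≠ 0 := hl ▸ fun e0 => u.ne_zero (Subtype.ext e0)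
      rw [← hl]
      simp only at hs hc ha ⊢
      refine ⟨by simp only; rw [map_mul, hlc]; linear_combination l * hs,
        by simp only; rw [map_mul, map_mul, hlc]; linear_combination (l * l) * hc, _,
        mul_mem (ho.T_mem hF B hlc hl0) hk, a / l, ?_⟩
      rw [mulVec_mul, ha, Matrix.mulVec_smul, T_act hF B hl0, hlc, smul_co, smul_co]
      congr 1 <;> field_simp
    letI : MulAction G Y :=
      { smul := fun u p => ⟨(((u : fixF hF) : F) * p.1.1, ((u : fixF hF) : F) * (u : fixF hF) * p.1.2),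
          hact u _ p.2.1, fun e0 => p.2.2 (by
            have hu : ((u : fixF hF) : F) ≠ 0 := fun e1 => u.ne_zero (Subtype.ext e1)
            simp only [Prod.ext_iff, Prod.fst_zero, Prod.snd_zero, mul_eq_zero, hu, false_or] at e0 ⊢
            exact e0)⟩
        one_smul := fun p => Subtype.ext (Prod.ext (by show (((1 : G) : fixF hF) : F) * _ = _; simp)
          (by show (((1 : G) : fixF hF) : F) * _ * _ = _; simp))
        mul_smul := fun u v p => Subtype.ext (Prod.ext
          (by show (((u * v : G) : fixF hF) : F) * _ = _ * (_ * _); rw [Units.val_mul, Subfield.coe_mul]; ring)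
          (by show (((u * v : G) : fixF hF) : F) * _ * _ = _ * _ * (_ * _ * _); rw [Units.val_mul, Subfield.coe_mul]; ring)) }
    have hG : Nat.card G = q - 1 := by rw [Nat.card_units, ho.card_fix hF B hA]
    have horb : ∀ p : Y, q - 1 ∣ 2 * Nat.card (MulAction.orbit G p) := by
      intro p
      have h1 := Nat.card_congr (MulAction.orbitProdStabilizerEquivGroup G p)
      rw [Nat.card_prod, hG] at h1
      have hst : Nat.card (MulAction.stabilizer G p) ∣ 2 := by
        have hle : ∀ u ∈ MulAction.stabilizer G p, u * u = 1 := by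
          intro u hu
          have he := congrArg Subtype.val (MulAction.mem_stabilizer_iff.1 hu)
          obtain ⟨k1, k2⟩ := Prod.ext_iff.1 he
          refine Units.ext (Subtype.ext ?_)
          show ((u : fixF hF) : F) * (u : fixF hF) = 1
          by_cases hp1 : p.1.1 = 0
          · have hp2 : p.1.2 ≠ 0 := fun e0 => p.2.2 (Prod.ext hp1 e0)
            exact mul_right_cancel₀ hp2 (by rw [one_mul]; exact k2)
          · have hu1 : ((u : fixF hF) : F) = 1 := mul_right_cancel₀ hp1 (by rw [one_mul]; exact k1)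
            rw [hu1, one_mul]
        obtain ⟨u, hu⟩ := IsCyclic.exists_ofOrder_eq_natCard (α := MulAction.stabilizer G p)
        rw [← hu]
        exact orderOf_dvd_of_pow_eq_one (Subtype.ext (by rw [sq]; exact hle u u.2))
      rw [← h1, mul_comm]
      exact Nat.mul_dvd_mul_right hst _
    have hY : Nat.card Y = q + 1 := by
      have h0 : (0 : F × F) ∈ P := ⟨by simp, by simp, Wm hF B, ho.W_mem hF B, 1,
        by rw [W_to_f hF B, one_smul]; simp [co]⟩
      have h1 : Nat.card P = Nat.card Y + 1 := by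
        rw [← Nat.card_congr (Equiv.optionSubtypeNe (⟨0, h0⟩ : P)), Finite.card_option]
        congr 1
        exact Nat.card_congr
          { toFun := fun p => ⟨p.1.1, p.1.2, fun e0 => p.2 (Subtype.ext e0)⟩
            invFun := fun p => ⟨⟨p.1, p.2.1⟩, fun e0 => p.2.2 (congrArg Subtype.val e0)⟩
            left_inv := fun p => rfl
            right_inv := fun p => rfl }
      rw [← hσ] at h1
      omega
    haveI : Fintype Y := Fintype.ofFinite _
    have h6 : q - 1 ∣ 2 * Nat.card Y := by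
      rw [Nat.card_congr (MulAction.selfEquivSigmaOrbits G Y), Nat.card_sigma, Finset.mul_sum]
      exact Finset.dvd_sum fun o _ => horb _
    rw [hY] at h6
    have h7 : q - 1 ∣ 4 := by
      have h8 := Nat.dvd_sub h6 (Dvd.intro_left 2 rfl)
      rwa [← Nat.mul_sub, show q + 1 - (q - 1) = 2 by omega] at h8
    have := Nat.le_of_dvd (by norm_num) h7
    omega
  · exact h1

end Cfsg.Agent.Classical.SUThree
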