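import Cfsg.Agent.Lib.Classical.SUThree.OrthOrbit
import Cfsg.Agent.Lib.Transfer.PSUThreeIndex.Main

/-!
An overgroup of the orthogonal group in `SU₃(q)` without transvections cannot be transitive on the isotropic
lines: with scalars it is too big, otherwise the pairing of the points of a line bounds `q`, and the cases 7 and
9 have no Sylow subgroup at a prime of `q² - q + 1`.
-/

set_option autoImplicit false
set_option linter.unusedSectionVars false
set_option maxHeartbeats 1000000
set_option maxRecDepth 10000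

namespace Cfsg.Agent.Classical.SUThree

open Matrix Cfsg Cfsg.Agent.Classical Cfsg.Agent.Classical.PSUAut Cfsg.Agent.Fus.UnitN Cfsg.Agent.Lie.SUGen
  Cfsg.Agent.Lie.SU3Pres Cfsg.Agent.Transfer.U3Min

variable {F : Type*} [Field F] [Fintype F] {q : ℕ} (hF : Fintype.card F = q ^ 2)

local notation "cj" => qFrob hF

variable {e n f : Fin 3 → F} (B : Frame3 q e n f) {K : Subgroup (SU 3 F q)} (ho : OrthSetup hF B K)
  (hA : aSet hF B K = ⊥) (hne : K ≠ orthSub hF B)

include hF ho hA hne

/-- Every element is one of the overgroup times one of the stabiliser of `e`. -/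
theorem OrthSetup.orth_trans_form (g : SU 3 F q) : ∃ k ∈ K, ∃ b ∈ Bor B, g = k * b := by
  have hbij : Function.Bijective
      (Subtype.val : MulAction.orbit K (QuotientGroup.mk 1 : SU 3 F q ⧸ Bor B) → _) :=
    (Nat.bijective_iff_injective_and_card _).2
      ⟨Subtype.val_injective, (ho.transitive hF B hA hne).trans (card_points hF B).symm⟩
  obtain ⟨⟨y, k, hk⟩, hy⟩ := hbij.2 (QuotientGroup.mk g)
  refine ⟨k, k.2, (k : SU 3 F q)⁻¹ * g, ?_, (mul_inv_cancel_left _ _).symm⟩
  have h2 : (QuotientGroup.mk ((k : SU 3 F q) * 1) : SU 3 F q ⧸ Bor B) = QuotientGroup.mk g := hk.trans hy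
  rwa [mul_one, QuotientGroup.eq] at h2

/-- The order. -/
theorem OrthSetup.orth_card : Nat.card K = (q ^ 3 + 1) * (q * Nat.card (tSet B K)) := by
  have h1 := orbit_mul_stab hF B K 1
  rw [ho.transitive hF B hA hne, conjH_one, card_inf_Bor hF B, ho.card_uni hF B hA, ho.card_fix hF B hA] at h1
  exact h1.symm

/-- The stabilisers all have the same order. -/
theorem OrthSetup.orth_stab (g : SU 3 F q) :
    Nat.card (conjH K g ⊓ Bor B : Subgroup (SU 3 F q)) = q * Nat.card (tSet B K) := by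
  have horb : MulAction.orbit K (QuotientGroup.mk g : SU 3 F q ⧸ Bor B) =
      MulAction.orbit K (QuotientGroup.mk 1 : SU 3 F q ⧸ Bor B) := by
    obtain ⟨k, hk, b, hb, rfl⟩ := ho.orth_trans_form hF B hA hne g
    refine MulAction.orbit_eq_iff.2 ((mem_orbit_iff hF B).2 ⟨k, hk, ?_⟩)
    obtain ⟨a, ha⟩ := hb
    exact ⟨a, by rw [mulVec_mul, ha, Matrix.mulVec_smul]⟩
  have h1 := orbit_mul_stab hF B K g
  rw [horb, ho.transitive hF B hA hne, ho.orth_card hF B hA hne] at h1
  exact Nat.eq_of_mul_eq_mul_left (Nat.succ_pos _) h1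

omit hne in
theorem OrthSetup.units_le : Subgroup.map (Units.map (fixF hF).subtype.toMonoidHom) ⊤ ≤ tSet B K := by
  rintro _ ⟨u, -, rfl⟩
  exact (mem_tSet hF B).2 ⟨_, ho.T_mem hF B (u : fixF hF).2 (fun e0 => u.ne_zero (Subtype.ext e0)),
    T_e hF B (fun e0 => u.ne_zero (Subtype.ext e0))⟩

omit hne in
theorem OrthSetup.card_units :
    Nat.card (Subgroup.map (Units.map (fixF hF).subtype.toMonoidHom) ⊤ : Subgroup Fˣ) = q - 1 := by
  rw [← Nat.card_congr (Subgroup.equivMapOfInjective ⊤ _ (Units.map_injective (fixF hF).subtype.injective)).toEquiv,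
    Subgroup.card_top, Nat.card_units, ho.card_fix hF B hA]

/-- With scalars the overgroup would be everything. -/
theorem OrthSetup.scalars_false (h3 : 3 ∣ q + 1) : False := by
  classical
  have hq := ho.large
  obtain ⟨ζ, hζ⟩ : ∃ ζ : Fˣ, orderOf ζ = 3 := by
    haveI := Fact.mk Nat.prime_three
    refine exists_prime_orderOf_dvd_card' 3 ?_
    rw [Nat.card_units, Nat.card_eq_fintype_card, hF, show q ^ 2 - 1 = (q + 1) * (q - 1) by
      simpa using Nat.sq_sub_sq q 1]
    exact dvd_mul_of_dvd_left h3 _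
  have hζ3 : (ζ : F) ^ 3 = 1 := by rw [← Units.val_pow_eq_pow_val, ← hζ, pow_orderOf_eq_one, Units.val_one]
  have hζN : (ζ : F) * cj (ζ : F) = 1 := by
    obtain ⟨j, hj⟩ := h3
    rw [norm_eq_pow hF B, hj, pow_mul, hζ3, one_pow]
  have hmem : ζ ∈ tSet B K :=
    (mem_tSet hF B).2 ⟨_, ho.sub (T_scalar_mem hF B hζ3 hζN), T_e hF B ζ.ne_zero⟩
  set R : Subgroup Fˣ := Subgroup.map (Units.map (fixF hF).subtype.toMonoidHom) ⊤ with hR
  have hRc : Nat.card R = q - 1 := ho.card_units hF B hA
  have hdis : ¬ 3 ∣ q - 1 := by omega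
  have h3t : 3 * (q - 1) ≤ Nat.card (tSet B K) := by
    refine Nat.le_of_dvd Nat.card_pos (Nat.Coprime.mul_dvd_of_dvd_of_dvd
      ((Nat.prime_three.coprime_iff_not_dvd).2 hdis) ?_ ?_)
    · rw [← hζ]; exact Subgroup.orderOf_dvd_natCard _ hmem
    · rw [← hRc]; exact Subgroup.card_dvd_of_le (ho.units_le hF B hA)
  have hbig : (q ^ 3 + 1) * (q ^ 2 - 1) ≤ Nat.card K := by
    rw [ho.orth_card hF B hA hne]
    refine Nat.mul_le_mul_left _ (le_trans ?_ (Nat.mul_le_mul_left q h3t))
    rw [show q ^ 2 - 1 = (q + 1) * (q - 1) by simpa using Nat.sq_sub_sq q 1, ← mul_assoc]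
    exact Nat.mul_le_mul_right _ (by omega)
  have htop := big_eq_top hF B (by omega) (by omega) hbig
  obtain ⟨c, hc0, hc⟩ := exists_trace_zero hF
  have hm : c ∈ aSet hF B K := ⟨hc, htop ▸ Subgroup.mem_top _⟩
  rw [hA, AddSubgroup.mem_bot] at hm
  exact hc0 hm

/-- No transitive overgroup. -/
theorem OrthSetup.not_trans : False := by
  classical
  have h2 := ho.two hF B
  have hq := ho.large
  by_cases h3 : 3 ∣ q + 1
  · exact ho.scalars_false hF B hA hne h3
  have hreal : ∀ l ∈ tSet B K, cj ((l : Fˣ) : F) = ((l : Fˣ) : F) := fun l hl =>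
    (ho.tor_mem hF B hA l.ne_zero (show Units.mk0 _ l.ne_zero ∈ tSet B K by rwa [Units.mk0_val])).2 h3
  have ht : Nat.card (tSet B K) = q - 1 := by
    refine le_antisymm ?_ (le_of_eq_of_le (ho.card_units hF B hA).symm
      (Subgroup.card_le_of_le (ho.units_le hF B hA)))
    refine le_trans (Nat.card_le_card_of_injective
      (fun l : tSet B K => (Units.mk0 (⟨_, hreal l.1 l.2⟩ : fixF hF)
        (fun e0 => (l : Fˣ).ne_zero (congrArg Subtype.val e0)) : (fixF hF)ˣ)) ?_) ?_
    · intro a b hab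
      exact Subtype.ext (Units.ext (congrArg (fun u : (fixF hF)ˣ => ((u : fixF hF) : F)) hab))
    · rw [Nat.card_units, ho.card_fix hF B hA]
  have hT : ∀ l ∈ tSet B K, Tm hF B ((l : Fˣ) : F) ∈ K := fun l hl =>
    ho.T_mem hF B (hreal l hl) l.ne_zero
  by_cases h13 : 13 ≤ q
  · obtain ⟨g, hg, hgo, -⟩ := exists_gen_units (tSet B K)
    have hN : (g : F) * cj (g : F) ≠ 1 := by
      rw [hreal g hg]
      intro h1
      have h4 : orderOf g ∣ 2 := orderOf_dvd_of_pow_eq_one (Units.ext (by
        rw [Units.val_pow_eq_pow_val, pow_two, h1, Units.val_one]))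
      rw [hgo, ht] at h4
      have := Nat.le_of_dvd two_pos h4
      omega
    obtain ⟨r, h4, h5⟩ := line_bound hF B h2 (ho.orth_trans_form hF B hA hne) hA
      (ho.T_mem hF B (by rw [map_neg, map_one]) (neg_ne_zero.2 one_ne_zero)) hT hg hN
    have hD : q - 1 ≤ 2 * Nat.card ((tSet B K).map (MonoidHom.id Fˣ * Units.map (cj : F →* F))) := by
      let φ : tSet B K →* Fˣ := (MonoidHom.id Fˣ * Units.map (cj : F →* F)).comp (tSet B K).subtype
      have h6 := Subgroup.card_mul_index φ.ker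
      rw [Subgroup.index_ker, ht, MonoidHom.range_comp, Subgroup.range_subtype] at h6
      have hker : Nat.card φ.ker ≤ 2 := by
        refine le_trans (Nat.card_le_card_of_injective
          (fun l : φ.ker => decide (((l.1 : Fˣ) : F) = 1)) ?_) (by simp)
        intro a b hab
        have hpm : ∀ l : φ.ker, ((l.1 : Fˣ) : F) = 1 ∨ ((l.1 : Fˣ) : F) = -1 := fun l => by
          refine mul_self_eq_one_iff.1 ?_
          have h7 : ((l.1 : Fˣ) : F) * cj ((l.1 : Fˣ) : F) = 1 := congrArg Units.val (MonoidHom.mem_ker.1 l.2)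
          rwa [hreal _ l.1.2] at h7
        simp only [decide_eq_decide] at hab
        refine Subtype.ext (Subtype.ext (Units.ext ?_))
        rcases hpm a with ha | ha <;> rcases hpm b with hb | hb
        · rw [ha, hb]
        · exact absurd (hb.symm.trans (hab.1 ha)) (neg_one_ne hF B h2)
        · exact absurd (ha.symm.trans (hab.2 hb)) (neg_one_ne hF B h2)
        · rw [ha, hb]
      rw [← h6]
      exact Nat.mul_le_mul_right _ hker
    have hr : r ≤ 2 := by
      by_contra hlt
      have := le_trans (Nat.mul_le_mul_right _ (show 3 ≤ r by omega)) h4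
      omega
    have : r * r ≤ 4 := Nat.mul_le_mul hr hr
    omega
  -- the small cases
  have hodd := Nat.odd_iff.1 ho.odd
  have hcases : q = 7 ∨ q = 9 := by omega
  have key : ∀ r N m : ℕ, r.Prime → Nat.card K = N → r ∣ N → ¬ r ^ 2 ∣ N → ¬ r ∣ q * (q - 1) → ¬ r ∣ q + 1 →
      N / r = m → 2 ^ 4 ∣ N → (∀ k < m + 1, k ∣ m → 2 ^ 4 ∣ k → k % r ≠ 1) → False := by
    intro r N m hr hN hrN hr2 hS hq1 hm h16 hk
    haveI := Fact.mk hr
    obtain ⟨k, -, h1, h6, h7⟩ := exists_sylow_number (G := K) r (hN ▸ hrN) (hN ▸ hr2)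
    have hstab : ∀ g, ¬ r ∣ Nat.card (conjH K g ⊓ Bor B : Subgroup (SU 3 F q)) := fun g => by
      rwa [ho.orth_stab hF B hA hne g, ht]
    have h8 : 2 ^ 4 ∣ k := h7 2 4 Nat.prime_two (fun R hR z hz => by
      refine not_normalize hF B hstab hq1 hR (rankOne_involution hF B ?_ ?_)
      · intro h0
        rw [← Subgroup.orderOf_coe, h0, orderOf_one] at hz
        omega
      · rw [← Subgroup.coe_mul, ← pow_two, ← hz, pow_orderOf_eq_one, Subgroup.coe_one]) (hN ▸ h16)
    rw [hN] at h1
    have hkm : k ∣ m := hm ▸ Nat.dvd_div_of_mul_dvd (by rwa [mul_comm])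
    have hm0 : 0 < m := hm ▸ Nat.div_pos (Nat.le_of_dvd (hN ▸ Nat.card_pos) hrN) hr.pos
    exact hk k (Nat.lt_succ_of_le (Nat.le_of_dvd hm0 hkm)) hkm h8 h6
  have hcard := ho.orth_card hF B hA hne
  rw [ht] at hcard
  rcases hcases with h7 | h9
  · refine key 43 14448 336 (by norm_num) (hcard.trans (by rw [h7]; rfl)) (by norm_num) (by norm_num)
      (by rw [h7]; norm_num) (by rw [h7]; norm_num) (by norm_num) (by norm_num) ?_
    decide
  · refine key 73 52560 720 (by norm_num) (hcard.trans (by rw [h9]; rfl)) (by norm_num) (by norm_num)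
      (by rw [h9]; norm_num) (by rw [h9]; norm_num) (by norm_num) (by norm_num) ?_
    decide

end Cfsg.Agent.Classical.SUThree
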