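import Cfsg.Agent.Lib.Classical.SUThree.SOThreePoint
import Cfsg.Agent.Lib.Classical.MaxUnitSubspace

/-!
The orbit of an isotropic point, without transvections.
-/

set_option autoImplicit false
set_option linter.unusedSectionVars false

namespace Cfsg.Agent.Classical.SUThree.SO3

open Matrix Module MaxTv

variable {F : Type*} [Field F] [Fintype F] {σ : F ≃+* F} {q : ℕ} {M : Subgroup (GL (Fin 3) F)}

local notation "M₃" => Matrix (Fin 3) (Fin 3) F

/-- Matrices act on subspaces. -/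
instance lineAction : MulAction (GL (Fin 3) F) (Submodule F (Fin 3 → F)) where
  smul g L := L.map (Matrix.toLin' (g : M₃))
  one_smul L := by
    show L.map (Matrix.toLin' ((1 : GL (Fin 3) F) : M₃)) = L
    rw [Units.val_one, Matrix.toLin'_one, Submodule.map_id]
  mul_smul g g' L := by
    show L.map (Matrix.toLin' ((g * g' : GL (Fin 3) F) : M₃)) =
      (L.map (Matrix.toLin' (g' : M₃))).map (Matrix.toLin' (g : M₃))
    rw [Units.val_mul, Matrix.toLin'_mul, Submodule.map_comp]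

theorem smul_line (g : GL (Fin 3) F) (v : Fin 3 → F) : g • (F ∙ v) = F ∙ ((g : M₃) *ᵥ v) := by
  show (F ∙ v).map (Matrix.toLin' (g : M₃)) = _
  rw [Submodule.map_span, Set.image_singleton, Matrix.toLin'_apply]

theorem line_eq {v w : Fin 3 → F} (hv : v ≠ 0) (h : F ∙ v = F ∙ w) : ∃ k : F, k ≠ 0 ∧ v = k • w := by
  obtain ⟨k, hk⟩ := Submodule.mem_span_singleton.1 (h ▸ Submodule.mem_span_singleton_self v)
  exact ⟨k, fun e => hv (by rw [← hk, e, zero_smul]), hk.symm⟩

theorem line_smul {k : F} (hk : k ≠ 0) (v : Fin 3 → F) : F ∙ (k • v) = F ∙ v :=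
  Submodule.span_singleton_smul_eq (isUnit_iff_ne_zero.2 hk) v

/-- The rational elements. -/
def ratGroup (σ : F ≃+* F) (M : Subgroup (GL (Fin 3) F)) : Subgroup (GL (Fin 3) F) :=
  (Matrix.GeneralLinearGroup.map (n := Fin 3) (fixSub σ).subtype).range ⊓ M

theorem ratGroup_fix {g : GL (Fin 3) F} (hg : g ∈ ratGroup σ M) (i j : Fin 3) :
    σ ((g : M₃) i j) = (g : M₃) i j := by
  obtain ⟨k, rfl⟩ := hg.1
  exact ((k : Matrix (Fin 3) (Fin 3) (fixSub σ)) i j).2

theorem mem_ratGroup {g : GL (Fin 3) F} (hg : g ∈ M) (h : ∀ i j, σ ((g : M₃) i j) = (g : M₃) i j) :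
    g ∈ ratGroup σ M := by
  classical
  obtain ⟨A, hA⟩ : ∃ A : Matrix (Fin 3) (Fin 3) (fixSub σ), A = fun i j => ⟨(g : M₃) i j, h i j⟩ := ⟨_, rfl⟩
  have hdet : (fixSub σ).subtype A.det = (g : M₃).det := by
    rw [RingHom.map_det]; congr 1; rw [hA]; rfl
  refine ⟨⟨Matrix.GeneralLinearGroup.mkOfDetNeZero A fun e => ?_, Units.ext ?_⟩, hg⟩
  · rw [e, map_zero] at hdet
    exact ((Matrix.isUnit_iff_isUnit_det _).1 g.isUnit).ne_zero hdet.symm
  · ext i j; subst hA; rfl

/-- Orbit times stabiliser. -/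
theorem orbit_stab (G : Type*) {X : Type*} [Group G] [MulAction G X] (b : X) :
    Nat.card (MulAction.orbit G b) * Nat.card (MulAction.stabilizer G b) = Nat.card G := by
  rw [← Nat.card_prod, Nat.card_congr (MulAction.orbitProdStabilizerEquivGroup G b)]

/-- A finite invariant set all of whose orbits have size divisible by `D`. -/
theorem dvd_card_of_orbits {G X : Type*} [Group G] [Finite G] [MulAction G X] [Finite X] {D : ℕ}
    (h : ∀ x : X, D ∣ Nat.card (MulAction.orbit G x)) : D ∣ Nat.card X := by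
  classical
  haveI : Fintype (Quotient (MulAction.orbitRel G X)) := Fintype.ofFinite _
  rw [Nat.card_congr (MulAction.selfEquivSigmaOrbits G X), Nat.card_sigma]
  exact Finset.dvd_sum fun _ _ => h _

namespace Ctx

variable (hc : Ctx σ q M)
include hc

/-- An isometry of determinant one fixing a non-rational isotropic vector and its conjugate is trivial. -/
theorem eq_one_of_fix {h : GL (Fin 3) F} (hh : h ∈ M) {x y : Fin 3 → F} (hxx : B σ x x = 0) (hyy : B σ y y = 0)
    (hxy : B σ x y ≠ 0) (hx : (h : M₃) *ᵥ x = x) (hy : (h : M₃) *ᵥ y = y) : h = 1 := by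
  have hs := hc.herm
  have hyx : B σ y x ≠ 0 := fun e => hxy (hs.refl _ _ e)
  obtain ⟨n, hn, hn0⟩ : ∃ n ∈ LinearMap.ker ((hs.toSesq.lin x).prod (hs.toSesq.lin y)), n ≠ 0 :=
    (Submodule.ne_bot_iff _).1 (LinearMap.ker_ne_bot_of_finrank_lt (by simp))
  have hnx : B σ n x = 0 := congrArg Prod.fst (LinearMap.mem_ker.1 hn)
  have hny : B σ n y = 0 := congrArg Prod.snd (LinearMap.mem_ker.1 hn)
  have hli : LinearIndependent F ![x, y, n] := by
    rw [Fintype.linearIndependent_iff]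
    intro a ha
    simp only [Fin.sum_univ_three, Matrix.cons_val_zero, Matrix.cons_val_one, Matrix.cons_val_two, Matrix.tail_cons,
      Matrix.head_cons] at ha
    have h1 := congrArg (fun z => B σ z x) ha
    have h2 := congrArg (fun z => B σ z y) ha
    simp only [hs.add_left, hs.smul_left, hxx, hyy, hnx, hny, mul_zero, add_zero, zero_add, hs.toSesq.zero_left,
      mul_eq_zero, hxy, hyx, or_false] at h1 h2
    rw [h1, h2, zero_smul, zero_smul, zero_add, zero_add] at ha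
    have h3 := (smul_eq_zero.1 ha).resolve_right hn0
    intro i; fin_cases i <;> assumption
  have hspan : ∀ z, ∃ a : Fin 3 → F, z = a 0 • x + a 1 • y + a 2 • n := fun z => by
    have htop := hli.span_eq_top_of_card_eq_finrank (by simp)
    obtain ⟨a, ha⟩ := (Submodule.mem_span_range_iff_exists_fun F).1 (htop ▸ Submodule.mem_top : z ∈ _)
    exact ⟨a, by simpa [Fin.sum_univ_three] using ha.symm⟩
  obtain ⟨a, ha⟩ := hspan ((h : M₃) *ᵥ n)
  have ha1 : a 1 = 0 := by
    have h1 := hc.iso h hh n x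
    rw [hx, ha, hs.add_left, hs.add_left, hs.smul_left, hs.smul_left, hs.smul_left, hxx, hnx] at h1
    simpa [hyx] using h1
  have ha0 : a 0 = 0 := by
    have h1 := hc.iso h hh n y
    rw [hy, ha, hs.add_left, hs.add_left, hs.smul_left, hs.smul_left, hs.smul_left, hyy, hny] at h1
    simpa [hxy] using h1
  rw [ha0, ha1, zero_smul, zero_smul, zero_add, zero_add] at ha
  obtain ⟨P, hP⟩ : ∃ P : M₃, P = Matrix.of fun i j => (![x, y, n] j) i := ⟨_, rfl⟩
  have hPu : IsUnit P := by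
    rw [← Matrix.linearIndependent_cols_iff_isUnit]
    exact hP ▸ hli
  have hcols : ∀ j, (h : M₃) *ᵥ ![x, y, n] j = ![1, 1, a 2] j • ![x, y, n] j := by
    intro j; fin_cases j <;> simp [hx, hy, ha]
  have hprod : (h : M₃) * P = P * Matrix.diagonal ![1, 1, a 2] := by
    ext i j
    rw [Matrix.mul_diagonal, hP]
    have := congrFun (hcols j) i
    simp only [Pi.smul_apply, smul_eq_mul] at this
    rw [mul_comm (Matrix.of _ i j)]
    exact this
  have hPd : P.det ≠ 0 := ((Matrix.isUnit_iff_isUnit_det _).1 hPu).ne_zero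
  have ha2 : a 2 = 1 := by
    have h1 := congrArg Matrix.det hprod
    rw [Matrix.det_mul, Matrix.det_mul, hc.det h hh, Matrix.det_diagonal, Fin.prod_univ_three, one_mul] at h1
    simp at h1
    exact mul_left_cancel₀ hPd (by linear_combination -h1)
  refine Units.ext ?_
  rw [ha2, show ![(1 : F), 1, 1] = fun _ => 1 by funext i; fin_cases i <;> rfl, Matrix.diagonal_one, mul_one] at hprod
  rw [Units.val_one]
  exact hPu.mul_right_cancel (by rw [hprod, one_mul])

/-- Isotropic orthogonal vectors are dependent. -/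
theorem iso_dep {a b : Fin 3 → F} (ha0 : a ≠ 0) (ha : B σ a a = 0) (hb : B σ b b = 0) (hab : B σ a b = 0) :
    ∃ t : F, b = t • a := by
  have hs := hc.herm
  by_contra hcn
  push Not at hcn
  obtain ⟨T, hT⟩ : ∃ T, T = Submodule.span F (Set.range ![a, b]) := ⟨_, rfl⟩
  have hli : LinearIndependent F ![a, b] := by
    rw [LinearIndependent.pair_iff' ha0]; exact fun t e => hcn t e.symm
  have hfin : finrank F T = 2 := by rw [hT, finrank_span_eq_card hli]; simp
  have hiso : ∀ v ∈ T, B σ v v = 0 := fun v hv => by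
    rw [hT, Submodule.mem_span_range_iff_exists_fun] at hv
    obtain ⟨c, rfl⟩ := hv
    simp only [Fin.sum_univ_two, Matrix.cons_val_zero, Matrix.cons_val_one, hs.add_left, hs.add_right, hs.smul_left,
      hs.smul_right, ha, hb, hab, hs.refl _ _ hab, mul_zero, add_zero]
  have htop : NdS (B σ) (⊤ : Submodule F (Fin 3 → F)) := fun w _ hw0 =>
    (hs.toSesq.exists_left hw0).imp fun x hx => ⟨trivial, hx⟩
  have := hs.finrank_le_of_iso_in htop le_top hiso
  rw [hfin, finrank_top, Module.finrank_pi, Fintype.card_fin] at this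
  omega

/-- Isotropic vectors up to scalars. -/
theorem normal_form {x : Fin 3 → F} (hx : x ≠ 0) (hxx : B σ x x = 0) :
    F ∙ x = F ∙ e₀ ∨ ∃ a b : F, a + σ a + b * σ b = 0 ∧ F ∙ x = F ∙ ![a, b, 1] := by
  by_cases h2 : x 2 = 0
  · have h1 : x 1 = 0 := by
      have h := hxx
      rw [B_eval, h2, map_zero, mul_zero, zero_mul, zero_add, add_zero, mul_eq_zero] at h
      exact h.elim id (σ.map_eq_zero_iff.1)
    have h0 : x 0 ≠ 0 := fun h0 => hx (funext fun i => by fin_cases i <;> assumption)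
    refine Or.inl ?_
    rw [← line_smul h0 e₀]
    congr 2
    funext i; fin_cases i <;> simp [e₀, h1, h2]
  · refine Or.inr ⟨x 0 / x 2, x 1 / x 2, ?_, ?_⟩
    · have hσ : σ (x 2) ≠ 0 := σ.map_ne_zero_iff.2 h2
      have h : x 0 * σ (x 2) + x 1 * σ (x 1) + x 2 * σ (x 0) = 0 := hxx
      rw [map_div₀, map_div₀]
      field_simp
      linear_combination h
    · rw [← line_smul h2 ![x 0 / x 2, x 1 / x 2, 1]]
      congr 2
      funext i; fin_cases i <;> simp <;> field_simp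

theorem orbit_rational (α : fixSub σ) : ∃ g ∈ ratGroup σ M,
    (g : M₃) *ᵥ e₀ = ![-((α : F) * α) / 2, (α : F), 1] := by
  obtain ⟨E, hE, hEm⟩ : ∃ E ∈ ratGroup σ M, (E : M₃) = eMat (α : F) :=
    ⟨_, mem_ratGroup (hc.eMat_mem α.2) (fun i j => by
      rw [coe_gl3]; fin_cases i <;> fin_cases j <;> simp [eMat, upMat, mem_fixSub.1 α.2, hc.two_fix]), coe_gl3 _ _⟩
  obtain ⟨W, hW, hWm⟩ : ∃ W ∈ ratGroup σ M, (W : M₃) = wMat :=
    ⟨_, mem_ratGroup hc.wMat_mem (fun i j => by
      rw [coe_gl3]; fin_cases i <;> fin_cases j <;> simp [wMat]), coe_gl3 _ _⟩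
  refine ⟨E * W, mul_mem hE hW, ?_⟩
  rw [Units.val_mul, hEm, hWm, ← Matrix.mulVec_mulVec, wMat_mulVec, eMat_mulVec]
  funext i; fin_cases i <;> simp [e₀]

theorem card_conic : Nat.card (MulAction.orbit (ratGroup σ M) (F ∙ (e₀ : Fin 3 → F))) = q + 1 := by
  classical
  let Φ : Option (fixSub σ) → MulAction.orbit (ratGroup σ M) (F ∙ (e₀ : Fin 3 → F)) := fun o =>
    o.elim ⟨F ∙ e₀, MulAction.mem_orbit_self _⟩ fun α => ⟨F ∙ ![-((α : F) * α) / 2, (α : F), 1], by
      obtain ⟨g, hg, hge⟩ := hc.orbit_rational α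
      exact ⟨⟨g, hg⟩, show g • (F ∙ e₀) = _ by rw [smul_line, hge]⟩⟩
  have hinj : Function.Injective Φ := by
    intro o o' e
    have e' := congrArg Subtype.val e
    have hne : ∀ v : Fin 3 → F, v 2 = 1 → v ≠ 0 := fun v hv h => by simp [h] at hv
    rcases o with _ | α <;> rcases o' with _ | β <;> simp [Φ] at e' ⊢
    · obtain ⟨k, -, hk⟩ := line_eq (hne _ rfl) e'.symm
      simpa [e₀] using congrFun hk 2
    · obtain ⟨k, -, hk⟩ := line_eq (hne _ rfl) e'
      simpa [e₀] using congrFun hk 2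
    · obtain ⟨k, -, hk⟩ := line_eq (hne _ rfl) e'
      have h2 := congrFun hk 2
      have h1 := congrFun hk 1
      simp at h1 h2
      exact Subtype.ext (by rw [h1, ← h2, one_mul])
  have hsur : Function.Surjective Φ := by
    rintro ⟨L, ⟨g, hg⟩, rfl⟩
    have hv0 : ((g : M₃) *ᵥ e₀) ≠ 0 := fun e => by
      have := gl_mulVec_injective g (show (g : M₃) *ᵥ e₀ = (g : M₃) *ᵥ 0 by rw [e, Matrix.mulVec_zero])
      simpa [e₀] using congrFun this 0
    have hvv : B σ ((g : M₃) *ᵥ e₀) ((g : M₃) *ᵥ e₀) = 0 := by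
      rw [hc.iso g hg.2]; simp [B_eval, e₀]
    have hfix : ∀ i, σ (((g : M₃) *ᵥ e₀) i) = ((g : M₃) *ᵥ e₀) i := fun i => by
      rw [mulVec_e₀]; exact ratGroup_fix hg i 0
    obtain ⟨v, hv⟩ : ∃ v, v = (g : M₃) *ᵥ e₀ := ⟨_, rfl⟩
    rw [← hv] at hv0 hvv hfix
    have hsm : (⟨g, hg⟩ : ratGroup σ M) • (F ∙ (e₀ : Fin 3 → F)) = F ∙ v := hv ▸ smul_line g e₀
    by_cases h2 : v 2 = 0
    · refine ⟨none, Subtype.ext ?_⟩
      show F ∙ e₀ = (⟨g, hg⟩ : ratGroup σ M) • (F ∙ (e₀ : Fin 3 → F))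
      rw [hsm]
      rcases hc.normal_form hv0 hvv with h | ⟨a, b, -, h⟩
      · exact h.symm
      · obtain ⟨k, hk0, hk⟩ := line_eq hv0 h
        exact absurd (by simpa [h2] using (congrFun hk 2).symm) hk0
    · refine ⟨some ⟨v 1 / v 2, by rw [mem_fixSub, map_div₀, hfix, hfix]⟩, Subtype.ext ?_⟩
      show F ∙ ![_, _, _] = (⟨g, hg⟩ : ratGroup σ M) • (F ∙ (e₀ : Fin 3 → F))
      rw [hsm, ← line_smul h2 ![-(v 1 / v 2 * (v 1 / v 2)) / 2, v 1 / v 2, 1]]
      congr 2
      have h0 : v 0 * v 2 + v 1 * v 1 + v 2 * v 0 = 0 := by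
        have h := hvv; rw [B_eval, hfix, hfix, hfix] at h; exact h
      have h2' := hc.two
      funext i; fin_cases i <;> simp <;> field_simp
      linear_combination -h0
  rw [← Nat.card_congr (Equiv.ofBijective Φ ⟨hinj, hsur⟩), Finite.card_option, hc.fixed.symm]
  rfl

theorem card_ratGroup (hn : NoTv σ M) : Nat.card (ratGroup σ M) = (q + 1) * (q * (q - 1)) := by
  classical
  have hst : Nat.card (MulAction.stabilizer (ratGroup σ M) (F ∙ (e₀ : Fin 3 → F))) = q * (q - 1) := by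
    let Ψ : {t : fixSub σ // t ≠ 0} × fixSub σ → MulAction.stabilizer (ratGroup σ M) (F ∙ (e₀ : Fin 3 → F)) := fun p =>
      have ht0 : ((p.1.1 : fixSub σ) : F) ≠ 0 := fun e => p.1.2 (Subtype.ext e)
      ⟨⟨gl3 (tMat ((p.1.1 : fixSub σ) : F)) (det_tMat ht0) * gl3 (eMat ((p.2 : fixSub σ) : F)) (det_eMat _), by
        refine mul_mem (mem_ratGroup (hc.tMat_mem ht0 p.1.1.2) fun i j => ?_)
          (mem_ratGroup (hc.eMat_mem p.2.2) fun i j => ?_)
        · rw [coe_gl3]; fin_cases i <;> fin_cases j <;> simp [tMat, mem_fixSub.1 p.1.1.2]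
        · rw [coe_gl3]; fin_cases i <;> fin_cases j <;> simp [eMat, upMat, mem_fixSub.1 p.2.2, hc.two_fix]⟩, by
        rw [MulAction.mem_stabilizer_iff]
        show (gl3 _ _ * gl3 _ _ : GL (Fin 3) F) • (F ∙ (e₀ : Fin 3 → F)) = _
        rw [smul_line, Units.val_mul, coe_gl3, coe_gl3, ← Matrix.mulVec_mulVec, eMat_mulVec, tMat_mulVec]
        rw [← line_smul ht0 e₀]
        congr 2
        funext i; fin_cases i <;> simp [e₀]⟩
    have hmat : ∀ p, ((((Ψ p).1 : ratGroup σ M) : GL (Fin 3) F) : M₃) =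
        tMat ((p.1.1 : fixSub σ) : F) * eMat ((p.2 : fixSub σ) : F) := fun p => rfl
    have hinj : Function.Injective Ψ := by
      rintro ⟨⟨t, ht⟩, α⟩ ⟨⟨t', ht'⟩, α'⟩ e
      have e' := congrArg (fun z => (((z.1 : ratGroup σ M) : GL (Fin 3) F) : M₃)) e
      simp only [hmat] at e'
      have h00 := congrFun (congrFun e' 0) 0
      have h12 := congrFun (congrFun e' 1) 2
      simp [tMat, eMat, upMat, Matrix.mul_apply, Fin.sum_univ_three] at h00 h12
      obtain rfl := h00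
      obtain rfl := h12
      rfl
    have hsur : Function.Surjective Ψ := by
      rintro ⟨⟨m, hm⟩, hstab⟩
      rw [MulAction.mem_stabilizer_iff] at hstab
      have h' : m • (F ∙ (e₀ : Fin 3 → F)) = F ∙ (e₀ : Fin 3 → F) := hstab
      rw [smul_line] at h'
      have hne : (m : M₃) *ᵥ e₀ ≠ 0 := fun e => by
        have := gl_mulVec_injective m (show (m : M₃) *ᵥ e₀ = (m : M₃) *ᵥ 0 by rw [e, Matrix.mulVec_zero])
        simpa [e₀] using congrFun this 0
      obtain ⟨k, -, hk⟩ := line_eq hne h'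
      have h10 := congrFun hk 1
      have h20 := congrFun hk 2
      rw [mulVec_e₀] at h10 h20
      simp [e₀] at h10 h20
      obtain ⟨γ, t, α, hg3, hgN, ht0, hσt, hα, hmeq⟩ := hc.point_stab hn hm.2 h10 h20
      have hγ : γ = 1 := by
        have h := ratGroup_fix hm 1 1
        rw [hmeq] at h
        simp [tMat, eMat, upMat, Matrix.mul_apply, Fin.sum_univ_three] at h
        rw [h] at hgN
        linear_combination hg3 - γ * hgN
      refine ⟨(⟨⟨t, hσt⟩, fun e => ht0 (congrArg Subtype.val e)⟩, ⟨α, hα⟩), Subtype.ext (Subtype.ext (Units.ext ?_))⟩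
      rw [hmat]
      show tMat t * eMat α = (m : M₃)
      rw [hmeq, hγ, one_smul]
    rw [← Nat.card_congr (Equiv.ofBijective Ψ ⟨hinj, hsur⟩), Nat.card_prod]
    have hK : Nat.card (fixSub σ) = q := hc.fixed
    have h1 : Nat.card {t : fixSub σ // t ≠ 0} = q - 1 := by
      have : Fintype (fixSub σ) := Fintype.ofFinite _
      rw [Nat.card_eq_fintype_card, Fintype.card_subtype_compl, Fintype.card_subtype_eq, ← Nat.card_eq_fintype_card, hK]
    rw [h1, hK, mul_comm]
  have h := orbit_stab (ratGroup σ M) (F ∙ (e₀ : Fin 3 → F))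
  rw [← h, hst, hc.card_conic]

theorem ratGroup_orbit_dvd (hn : NoTv σ M) {x : Fin 3 → F} (hx0 : x ≠ 0) (hxx : B σ x x = 0)
    (hnr : F ∙ x ∉ MulAction.orbit (ratGroup σ M) (F ∙ (e₀ : Fin 3 → F))) :
    q * (q ^ 2 - 1) / 2 ∣ Nat.card (MulAction.orbit (ratGroup σ M) (F ∙ x)) := by
  classical
  have hs := hc.herm
  obtain ⟨y, hy⟩ : ∃ y : Fin 3 → F, y = fun i => σ (x i) := ⟨_, rfl⟩
  have hyy : B σ y y = 0 := by
    have h := congrArg σ (show x 0 * σ (x 2) + x 1 * σ (x 1) + x 2 * σ (x 0) = 0 from hxx)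
    simp [hc.invol] at h
    simp [B_eval, hy, hc.invol]
    linear_combination h
  have hxy : B σ x y ≠ 0 := fun e => by
    obtain ⟨k, hk⟩ := hc.iso_dep hx0 hxx hyy e
    refine hnr ?_
    -- a vector proportional to its conjugate is rational up to a scalar
    rcases hc.normal_form hx0 hxx with h | ⟨a, b, hab, h⟩
    · rw [h]; exact MulAction.mem_orbit_self _
    obtain ⟨l, hl0, hl⟩ := line_eq hx0 h
    have h2 := congrFun hk 2; have h1 := congrFun hk 1; have h0 := congrFun hk 0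
    simp [hy, hl] at h0 h1 h2
    have hσl : σ l ≠ 0 := σ.map_ne_zero_iff.2 hl0
    have hb : σ b = b := mul_left_cancel₀ hσl (by linear_combination h1 - b * h2)
    have ha : σ a = a := mul_left_cancel₀ hσl (by linear_combination h0 - a * h2)
    have ha' : a = -(b * b) / 2 := by
      have := hc.two
      rw [ha, hb] at hab
      field_simp
      linear_combination hab
    obtain ⟨g, hg, hge⟩ := hc.orbit_rational ⟨b, hb⟩
    exact ⟨⟨g, hg⟩, show g • (F ∙ e₀) = _ by rw [smul_line, hge, h, ha']⟩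
  have hstab : Nat.card (MulAction.stabilizer (ratGroup σ M) (F ∙ x)) ≤ 2 := by
    have hkey : ∀ g : MulAction.stabilizer (ratGroup σ M) (F ∙ x), ∃ ε : Bool,
        (((g.1 : ratGroup σ M) : GL (Fin 3) F) : M₃) *ᵥ x = (if ε then (1 : F) else -1) • x := by
      rintro ⟨⟨m, hm⟩, hstab⟩
      rw [MulAction.mem_stabilizer_iff] at hstab
      have h' : m • (F ∙ x) = F ∙ x := hstab
      rw [smul_line] at h'
      have hne : (m : M₃) *ᵥ x ≠ 0 := fun e => hx0 (gl_mulVec_injective m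
        (show (m : M₃) *ᵥ x = (m : M₃) *ᵥ 0 by rw [e, Matrix.mulVec_zero]))
      obtain ⟨l, -, hl⟩ := line_eq hne h'
      have hly : (m : M₃) *ᵥ y = σ l • y := by
        funext i
        have := congrArg σ (congrFun hl i)
        rw [mulVec_three, map_add, map_add, map_mul, map_mul, map_mul, ratGroup_fix hm, ratGroup_fix hm,
          ratGroup_fix hm] at this
        rw [mulVec_three]
        simpa [hy] using this
      have h1 := hc.iso m hm.2 x y
      rw [hl, hly, hs.smul_left, hs.smul_right, hc.invol, ← mul_assoc] at h1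
      have hl2 : l * l = 1 := mul_right_cancel₀ hxy (by linear_combination h1)
      rcases mul_self_eq_mul_self_iff.1 (hl2.trans (one_mul (1 : F)).symm) with e | e
      · exact ⟨true, by simp [hl, e]⟩
      · exact ⟨false, by simp [hl, e]⟩
    choose ε hε using hkey
    have hinj : Function.Injective ε := by
      intro g g' e
      have h1 := hε g
      have h2 := hε g'
      rw [← e] at h2
      obtain ⟨m, hm⟩ : ∃ m : GL (Fin 3) F,
          m = ((g'.1 : ratGroup σ M) : GL (Fin 3) F)⁻¹ * ((g.1 : ratGroup σ M) : GL (Fin 3) F) := ⟨_, rfl⟩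
      have hmR : m ∈ ratGroup σ M := hm ▸ mul_mem (inv_mem g'.1.2) g.1.2
      have hmx : (m : M₃) *ᵥ x = x := by
        rw [hm, Units.val_mul, ← Matrix.mulVec_mulVec, h1, ← h2, inv_mulVec_cancel]
      have hmy : (m : M₃) *ᵥ y = y := by
        funext i
        have := congrArg σ (congrFun hmx i)
        rw [mulVec_three, map_add, map_add, map_mul, map_mul, map_mul, ratGroup_fix hmR, ratGroup_fix hmR,
          ratGroup_fix hmR] at this
        rw [mulVec_three]
        simpa [hy] using this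
      have hone := hc.eq_one_of_fix hmR.2 hxx hyy hxy hmx hmy
      rw [hm, inv_mul_eq_one] at hone
      exact Subtype.ext (Subtype.ext hone.symm)
    exact (Nat.card_le_card_of_injective ε hinj).trans (by simp)
  have h := orbit_stab (ratGroup σ M) (F ∙ x)
  rw [hc.card_ratGroup hn] at h
  have hpos : 0 < Nat.card (MulAction.stabilizer (ratGroup σ M) (F ∙ x)) := Nat.card_pos
  have e : q * (q ^ 2 - 1) = (q + 1) * (q * (q - 1)) := by
    rw [show q ^ 2 - 1 = (q + 1) * (q - 1) by simpa using Nat.sq_sub_sq q 1]; ring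
  rw [e, ← h]
  interval_cases hk : Nat.card (MulAction.stabilizer (ratGroup σ M) (F ∙ x))
  · rw [mul_one] at h ⊢
    refine Nat.div_dvd_of_dvd ?_
    rw [h]
    rcases Nat.even_or_odd q with he | ho
    · exact Dvd.dvd.mul_left (he.two_dvd.mul_right _) _
    · obtain ⟨m, rfl⟩ := ho
      exact Dvd.dvd.mul_right ⟨m + 1, by ring⟩ _
  · rw [Nat.mul_div_cancel _ two_pos]

/-- Either all elements are rational up to scalars, or one orbit has all isotropic points. -/
theorem rational_or_transitive (hn : NoTv σ M) (hdiv : Nat.card M ∣ q ^ 3 * (q ^ 3 + 1) * (q ^ 2 - 1))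
    {g : GL (Fin 3) F} (hg : g ∈ M) :
    (∃ γ : F, γ ≠ 0 ∧ ∀ i j, σ (γ * (g : M₃) i j) = γ * (g : M₃) i j) ∨
      ∀ x : Fin 3 → F, x ≠ 0 → B σ x x = 0 → ∃ m ∈ M, ∃ k : F, k ≠ 0 ∧ (m : M₃) *ᵥ e₀ = k • x := by
  classical
  have hge0 : ∀ m : GL (Fin 3) F, (m : M₃) *ᵥ e₀ ≠ 0 := fun m e => by
    have := gl_mulVec_injective m (show (m : M₃) *ᵥ e₀ = (m : M₃) *ᵥ 0 by rw [e, Matrix.mulVec_zero])
    simpa [e₀] using congrFun this 0
  have hbase : B σ (e₀ : Fin 3 → F) e₀ = 0 := by simp [B_eval, e₀]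
  obtain ⟨O, hO⟩ : ∃ O : Set (Submodule F (Fin 3 → F)), O = MulAction.orbit M (F ∙ (e₀ : Fin 3 → F)) := ⟨_, rfl⟩
  obtain ⟨C, hC⟩ : ∃ C : Set (Submodule F (Fin 3 → F)), C = MulAction.orbit (ratGroup σ M) (F ∙ (e₀ : Fin 3 → F)) :=
    ⟨_, rfl⟩
  by_cases hsub : O ⊆ C
  · left
    have h1 : F ∙ ((g : M₃) *ᵥ e₀) ∈ C := hsub (hO ▸ ⟨⟨g, hg⟩, smul_line g e₀⟩)
    rw [hC] at h1
    obtain ⟨⟨a, ha⟩, hah⟩ := h1
    have hah' : a • (F ∙ (e₀ : Fin 3 → F)) = F ∙ ((g : M₃) *ᵥ e₀) := hah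
    rw [smul_line] at hah'
    obtain ⟨k, hk0, hk⟩ := line_eq (hge0 g) hah'.symm
    obtain ⟨m, hm⟩ : ∃ m, m = a⁻¹ * g := ⟨_, rfl⟩
    have hme : (m : M₃) *ᵥ e₀ = k • e₀ := by
      rw [hm, Units.val_mul, ← Matrix.mulVec_mulVec, hk, Matrix.mulVec_smul, inv_mulVec_cancel]
    rw [mulVec_e₀] at hme
    obtain ⟨γ, t, α, hg3, hgN, ht0, hσt, hα, hmeq⟩ := hc.point_stab hn (hm ▸ mul_mem (inv_mem ha.2) hg : m ∈ M)
      (by simpa [e₀] using congrFun hme 1) (by simpa [e₀] using congrFun hme 2)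
    have hgeq : (g : M₃) = γ • ((a : M₃) * (tMat t * eMat α)) := by
      rw [← Matrix.mul_smul, ← hmeq, hm, ← Units.val_mul, mul_inv_cancel_left]
    refine ⟨γ⁻¹, inv_ne_zero (fun e => by simp [e] at hgN), fun i j => ?_⟩
    rw [hgeq, Matrix.smul_apply, smul_eq_mul, ← mul_assoc, inv_mul_cancel₀ (fun e => by simp [e] at hgN), one_mul]
    simp only [Matrix.mul_apply, map_sum, map_mul]
    refine Finset.sum_congr rfl fun l _ => ?_
    rw [ratGroup_fix ha]
    congr 1
    refine Finset.sum_congr rfl fun l' _ => ?_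
    congr 1
    · fin_cases l <;> fin_cases l' <;> simp [tMat, hσt]
    · fin_cases l' <;> fin_cases j <;> simp [eMat, upMat, hα, hc.two_fix]
  right
  have hmemO : ∀ L ∈ O, ∃ x, x ≠ 0 ∧ B σ x x = 0 ∧ L = F ∙ x := by
    intro L hL
    rw [hO] at hL
    obtain ⟨⟨m, hm⟩, rfl⟩ := hL
    exact ⟨_, hge0 m, by rw [hc.iso m hm, hbase], smul_line m e₀⟩
  have hCO : C ⊆ O := by
    rw [hC, hO]; rintro _ ⟨⟨a, ha⟩, rfl⟩; exact ⟨⟨a, ha.2⟩, rfl⟩
  have hinv : ∀ a : ratGroup σ M, ∀ L ∈ O \ C, (a : GL (Fin 3) F) • L ∈ O \ C := by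
    rintro a L ⟨h1, h2⟩
    refine ⟨?_, fun h => h2 ?_⟩
    · rw [hO] at h1 ⊢
      exact MulAction.mem_orbit_of_mem_orbit (⟨a.1, a.2.2⟩ : M) h1
    · rw [hC] at h ⊢
      have := MulAction.mem_orbit_of_mem_orbit a⁻¹ h
      rwa [show a⁻¹ • ((a : GL (Fin 3) F) • L) = L from inv_smul_smul (a : GL (Fin 3) F) L] at this
  letI : MulAction (ratGroup σ M) ↥(O \ C) :=
    { smul := fun a L => ⟨(a : GL (Fin 3) F) • L.1, hinv a L.1 L.2⟩
      one_smul := fun L => Subtype.ext (one_smul (GL (Fin 3) F) L.1)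
      mul_smul := fun a b L => Subtype.ext (mul_smul (a : GL (Fin 3) F) b L.1) }
  have hD : q * (q ^ 2 - 1) / 2 ∣ Nat.card ↥(O \ C) := by
    refine dvd_card_of_orbits (G := ratGroup σ M) fun L => ?_
    obtain ⟨x, hx0, hxx, hLx⟩ := hmemO _ L.2.1
    have e : Nat.card (MulAction.orbit (ratGroup σ M) L) =
        Nat.card (MulAction.orbit (ratGroup σ M) (F ∙ x)) := by
      refine Nat.card_congr (Equiv.ofBijective (fun z => ⟨z.1.1, ?_⟩) ⟨?_, ?_⟩)
      · obtain ⟨a, ha⟩ := z.2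
        exact ⟨a, by rw [← hLx]; exact congrArg Subtype.val ha⟩
      · intro z z' h
        exact Subtype.ext (Subtype.ext (congrArg Subtype.val h :))
      · rintro ⟨_, a, rfl⟩
        exact ⟨⟨a • L, a, rfl⟩, Subtype.ext (show (a : GL (Fin 3) F) • L.1 = _ by rw [hLx]; rfl)⟩
    rw [e]
    exact hc.ratGroup_orbit_dvd hn hx0 hxx (by rw [← hLx, ← hC]; exact L.2.2)
  obtain ⟨I, hI⟩ : ∃ I : Set (Submodule F (Fin 3 → F)), I = {L | ∃ x, x ≠ 0 ∧ B σ x x = 0 ∧ L = F ∙ x} := ⟨_, rfl⟩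
  have hcardI : Nat.card I ≤ q ^ 3 + 1 := by
    have ha : ∀ b : F, ∃ a : F, a + σ a + b * σ b = 0 := fun b => by
      refine ⟨-(b * σ b) / 2, ?_⟩
      have := hc.two
      rw [map_div₀, map_neg, map_mul, hc.invol, hc.two_fix]
      field_simp; ring
    choose a₀ ha₀ using ha
    let φ : Option (F × {s : F // s + σ s = 0}) → I := fun o =>
      o.elim ⟨F ∙ e₀, hI ▸ ⟨e₀, fun e => by simpa [e₀] using congrFun e 0, hbase, rfl⟩⟩ fun p =>
        ⟨F ∙ ![a₀ p.1 + p.2.1, p.1, 1], hI ▸ ⟨_, fun e => by simpa using congrFun e 2, by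
          simp [B_eval]; linear_combination ha₀ p.1 + p.2.2, rfl⟩⟩
    have hφ : Function.Surjective φ := by
      rintro ⟨L, hL⟩
      rw [hI] at hL
      obtain ⟨x, hx0, hxx, rfl⟩ := hL
      rcases hc.normal_form hx0 hxx with h | ⟨a, b, hab, h⟩
      · exact ⟨none, Subtype.ext h.symm⟩
      · refine ⟨some (b, ⟨a - a₀ b, by rw [map_sub]; linear_combination hab - ha₀ b⟩), Subtype.ext ?_⟩
        show F ∙ ![a₀ b + (a - a₀ b), b, 1] = F ∙ x
        rw [h, add_sub_cancel]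
    refine (Nat.card_le_card_of_surjective φ hφ).trans ?_
    rw [Finite.card_option, Nat.card_prod, hc.skew, Nat.card_eq_fintype_card, hc.card]
    rw [← pow_succ]
  have hOI : O ⊆ I := hI ▸ hmemO
  have hOeq : O = I := by
    refine Set.eq_of_subset_of_ncard_le hOI ?_ (Set.toFinite _)
    by_contra hlt
    push Not at hlt
    rw [← Nat.card_coe_set_eq, ← Nat.card_coe_set_eq] at hlt
    have hCc : Nat.card C = q + 1 := hC ▸ hc.card_conic
    have hsum : Nat.card O = Nat.card C + Nat.card ↥(O \ C) := by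
      rw [Nat.card_coe_set_eq, Nat.card_coe_set_eq, Nat.card_coe_set_eq, add_comm,
        Set.ncard_sdiff_add_ncard_of_subset hCO]
    have hpos : 0 < Nat.card ↥(O \ C) := by
      obtain ⟨L, hL⟩ := Set.not_subset.1 hsub
      haveI : Nonempty ↥(O \ C) := ⟨⟨L, hL.1, hL.2⟩⟩
      exact Nat.card_pos
    obtain ⟨n, hnD⟩ := hD
    obtain ⟨hq, -⟩ := hc.seven, trivial
    have hodd : Odd q := by
      obtain ⟨p, f, hp, hp2, hqf, -⟩ : ∃ p f : ℕ, p.Prime ∧ p ≠ 2 ∧ q = p ^ f ∧ True := by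
        obtain ⟨p, hpc⟩ := CharP.exists F
        obtain ⟨m, hpp, hm⟩ := FiniteField.card F p
        have h : q ^ 2 = p ^ (m : ℕ) := hc.card.symm.trans hm
        obtain ⟨f, -, hf⟩ := (Nat.dvd_prime_pow hpp).1 (h ▸ dvd_pow_self q two_ne_zero : q ∣ p ^ (m : ℕ))
        exact ⟨p, f, hpp, fun e => hc.two (by subst e; exact_mod_cast CharP.cast_eq_zero F 2), hf, trivial⟩
      rw [hqf]; exact (hp.odd_of_ne_two hp2).pow
    obtain ⟨j, hj⟩ := hodd
    obtain ⟨D, hDd⟩ : ∃ D, D = q * (q ^ 2 - 1) / 2 := ⟨_, rfl⟩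
    have hD2 : 2 * D + q + 1 = q ^ 3 + 1 := by
      rw [hDd, hj, show (2 * j + 1) * ((2 * j + 1) ^ 2 - 1) = 2 * ((2 * j + 1) * (2 * j * (j + 1))) by
        rw [show (2 * j + 1) ^ 2 - 1 = 2 * (2 * j * (j + 1)) by
          rw [Nat.sub_eq_iff_eq_add (Nat.one_le_pow _ _ (by omega))]; ring]
        ring, Nat.mul_div_cancel_left _ two_pos]
      ring
    rw [← hDd] at hnD
    have hn1 : n = 1 := by
      rcases n with _ | _ | n
      · rw [mul_zero] at hnD; omega
      · rfl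
      · have h1 : D * 2 ≤ D * (n + 1 + 1) := Nat.mul_le_mul_left _ (by omega)
        omega
    rw [hn1, mul_one] at hnD
    -- the intermediate size does not divide
    have horb := orbit_stab M (F ∙ (e₀ : Fin 3 → F))
    rw [← hO, hsum, hCc, hnD] at horb
    have hstab : q * (q - 1) ∣ Nat.card (MulAction.stabilizer M (F ∙ (e₀ : Fin 3 → F))) := by
      have h := orbit_stab (ratGroup σ M) (F ∙ (e₀ : Fin 3 → F))
      rw [hc.card_conic, hc.card_ratGroup hn] at h
      rw [← Nat.eq_of_mul_eq_mul_left (Nat.succ_pos q) h]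
      let ψ : MulAction.stabilizer (ratGroup σ M) (F ∙ (e₀ : Fin 3 → F)) →*
          MulAction.stabilizer M (F ∙ (e₀ : Fin 3 → F)) :=
        { toFun := fun a => ⟨⟨a.1.1, a.1.2.2⟩, a.2⟩
          map_one' := rfl
          map_mul' := fun _ _ => rfl }
      exact Subgroup.card_dvd_of_injective ψ fun a b e => Subtype.ext (Subtype.ext (congrArg (fun z => z.1.1) e :))
    have h1 : (q + 1 + D) * (q * (q - 1)) ∣ q ^ 3 * (q ^ 3 + 1) * (q ^ 2 - 1) :=
      (Nat.mul_dvd_mul_left _ hstab).trans (horb ▸ hdiv)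
    have hk : q + 1 + D = (q + 1) * (2 * j * j + j + 1) := by
      refine mul_left_cancel₀ two_ne_zero ?_
      rw [show 2 * (q + 1 + D) = (2 * D + q + 1) + q + 1 by ring, hD2, hj]; ring
    have h6 : q ^ 3 * (q ^ 3 + 1) * (q ^ 2 - 1) =
        (q + 1) * (q * q * (4 * j * j + 2 * j + 1) * (q + 1)) * (q * (q - 1)) := by
      rw [show q ^ 2 - 1 = (q + 1) * (q - 1) by simpa using Nat.sq_sub_sq q 1,
        show q ^ 3 + 1 = (q + 1) * (4 * j * j + 2 * j + 1) by rw [hj]; ring]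
      ring
    rw [hk, h6] at h1
    have h7 := Nat.dvd_of_mul_dvd_mul_right (Nat.mul_pos (by omega) (by omega)) h1
    have h8 := Nat.dvd_of_mul_dvd_mul_left (Nat.succ_pos q) h7
    obtain ⟨k, hkd⟩ : ∃ k, k = 2 * j * j + j + 1 := ⟨_, rfl⟩
    rw [← hkd] at h8
    have hkq : Nat.Coprime k q := by
      refine Nat.coprime_of_dvd' fun r hr hrk hrq => ?_
      have e : 2 * k = q * (2 * j) + 2 := by rw [hkd, hj]; ring
      have h2 : r ∣ 2 := (Nat.dvd_add_right (hrq.mul_right _)).1 (e ▸ hrk.mul_left 2)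
      obtain rfl := (Nat.prime_dvd_prime_iff_eq hr Nat.prime_two).1 h2
      omega
    have hkn : Nat.Coprime k (4 * j * j + 2 * j + 1) := by
      refine Nat.coprime_of_dvd' fun r hr hrk hrn => ?_
      have e : 2 * k = (4 * j * j + 2 * j + 1) + 1 := by rw [hkd]; ring
      exact (Nat.dvd_add_right hrn).1 (e ▸ hrk.mul_left 2)
    have h9 : k ∣ q + 1 := ((hkq.mul_right hkq).mul_right hkn).dvd_of_dvd_mul_left h8
    have h10 := Nat.le_of_dvd (Nat.succ_pos q) h9
    have h11 : 2 * 3 * j ≤ 2 * j * j := by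
      have : 3 ≤ j := by omega
      exact Nat.mul_le_mul_right j (Nat.mul_le_mul_left 2 this)
    omega
  intro x hx0 hxx
  have hL : F ∙ x ∈ O := hOeq ▸ hI ▸ ⟨x, hx0, hxx, rfl⟩
  rw [hO] at hL
  obtain ⟨⟨m, hm⟩, hmL⟩ := hL
  have hmL' : m • (F ∙ (e₀ : Fin 3 → F)) = F ∙ x := hmL
  rw [smul_line] at hmL'
  exact ⟨m, hm, line_eq (hge0 m) hmL'⟩

end Ctx

end Cfsg.Agent.Classical.SUThree.SO3
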