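import Cfsg.Agent.Lib.Classical.SUThree.SOThreeRot
import Cfsg.Agent.Lib.Classical.SUThree.SOThreeCount

/-!
The orbit of an isotropic point is not everything, without transvections.
-/

set_option autoImplicit false
set_option linter.unusedSectionVars false

namespace Cfsg.Agent.Classical.SUThree.SO3

open Matrix Module MaxTv

variable {F : Type*} [Field F] [Fintype F] {σ : F ≃+* F} {q : ℕ} {M : Subgroup (GL (Fin 3) F)}

local notation "M₃" => Matrix (Fin 3) (Fin 3) F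

namespace Ctx

variable (hc : Ctx σ q M)
include hc

/-- An element fixing the axis is a block matrix. -/
theorem block {m : GL (Fin 3) F} (hm : m ∈ M) (he : (m : M₃) *ᵥ e₁ = e₁) :
    (m : M₃) 0 1 = 0 ∧ (m : M₃) 1 1 = 1 ∧ (m : M₃) 2 1 = 0 ∧ (m : M₃) 1 0 = 0 ∧ (m : M₃) 1 2 = 0 := by
  have h0 := congrFun he 0; have h1 := congrFun he 1; have h2 := congrFun he 2
  rw [mulVec_e₁] at h0 h1 h2
  simp [e₁] at h0 h1 h2
  have a := hc.iso m hm e₀ e₁
  have b := hc.iso m hm e₂ e₁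
  rw [he, B_eval, B_eval, mulVec_e₀] at a
  rw [he, B_eval, B_eval, mulVec_e₂] at b
  simp [e₀, e₁] at a
  simp [e₁, e₂] at b
  exact ⟨h0, h1, h2, a, b⟩

/-- The stabiliser of the point and the axis is diagonal, and nothing negates the axis there. -/
theorem diag_of_fix (hn : NoTv σ M) {m : GL (Fin 3) F} (hm : m ∈ M) {k : F} (he₀ : (m : M₃) *ᵥ e₀ = k • e₀) :
    ((m : M₃) *ᵥ e₁ = e₁ → (m : M₃) 0 2 = 0) ∧ (m : M₃) *ᵥ e₁ ≠ -e₁ := by
  have h10 := congrFun he₀ 1; have h20 := congrFun he₀ 2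
  rw [mulVec_e₀] at h10 h20
  simp [e₀] at h10 h20
  obtain ⟨γ, t, α, hg3, hgN, ht0, hσt, hα, hmeq⟩ := hc.point_stab hn hm h10 h20
  have hγ0 : γ ≠ 0 := fun e => by simp [e] at hgN
  constructor
  · intro he₁
    obtain ⟨h01, -, -, -, -⟩ := hc.block hm he₁
    rw [hmeq] at h01 ⊢
    simp [tMat, eMat, upMat, Matrix.mul_apply, Fin.sum_univ_three, hγ0, ht0] at h01 ⊢
    simp [h01]
  · intro he₁
    have h := congrFun he₁ 1
    rw [mulVec_e₁, hmeq] at h
    simp [tMat, eMat, upMat, Matrix.mul_apply, Fin.sum_univ_three, e₁] at h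
    rw [h] at hg3
    exact hc.two (by linear_combination -hg3)

theorem no_transitive (hn : NoTv σ M)
    (htr : ∀ x : Fin 3 → F, x ≠ 0 → B σ x x = 0 → ∃ m ∈ M, ∃ k : F, k ≠ 0 ∧ (m : M₃) *ᵥ e₀ = k • x) :
    False := by
  classical
  have h2 := hc.two
  have hs := hc.herm
  have hq7 := hc.seven
  obtain ⟨κ, d₀, hκ, hκ0, hdd, hd₀, hns⟩ := hc.exists_nonsquare
  have hd0 : d₀ ≠ 0 := fun e => hκ0 (by rw [← hdd, e, mul_zero])
  obtain ⟨s, hsd⟩ : ∃ s, s = κ / 2 := ⟨_, rfl⟩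
  have hs0 : s ≠ 0 := hsd ▸ div_ne_zero hκ0 h2
  have hσs : σ s = s := by rw [hsd, map_div₀, hκ, hc.two_fix]
  have h2s : 2 * s = κ := by rw [hsd]; field_simp
  obtain ⟨δ, hδ⟩ := hs.exists_norm (t := κ) hκ
  have hδ0 : δ ≠ 0 := fun e => hκ0 (by rw [← hδ, e, zero_mul])
  have hδns : δ * δ ≠ κ := fun e => by
    have h1 : σ δ = δ := mul_left_cancel₀ hδ0 (by rw [hδ, e])
    exact hns δ h1 e
  obtain ⟨x, hx⟩ : ∃ x : Fin 3 → F, x = ![1, δ, -s] := ⟨_, rfl⟩
  have hx0 : x ≠ 0 := fun e => by simpa [hx] using congrFun e 0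
  have hxx : B σ x x = 0 := by rw [hx]; simp [B_eval, hσs]; linear_combination hδ - h2s
  obtain ⟨g, hg, k, hk0, hgx⟩ := htr x hx0 hxx
  obtain ⟨T₀, hT₀, hT₀m⟩ : ∃ T ∈ M, (T : M₃) = sMat s := ⟨_, hc.sMat_mem hs0 hσs, coe_gl3 _ _⟩
  have hTx : sMat s *ᵥ x = -x := by
    funext i; rw [mulVec_three]; fin_cases i <;> simp [sMat, hx, hs0]
  -- normalise so that the involution becomes diagonal
  obtain ⟨Q, hQd⟩ : ∃ Q, Q = g⁻¹ * T₀ * g := ⟨_, rfl⟩
  have hQM : Q ∈ M := hQd ▸ mul_mem (mul_mem (inv_mem hg) hT₀) hg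
  have hQe : (Q : M₃) *ᵥ e₀ = (-1 : F) • e₀ := by
    rw [hQd, Units.val_mul, Units.val_mul, ← Matrix.mulVec_mulVec, ← Matrix.mulVec_mulVec, hgx, hT₀m,
      Matrix.mulVec_smul, hTx, smul_neg, ← hgx, Matrix.mulVec_neg, inv_mulVec_cancel, neg_one_smul]
  have q00 := congrFun hQe 0; have q10 := congrFun hQe 1; have q20 := congrFun hQe 2
  rw [mulVec_e₀] at q00 q10 q20
  simp [e₀] at q00 q10 q20
  obtain ⟨γ, t, α, hg3, hgN, ht0, hσt, hα, hQm⟩ := hc.point_stab hn hQM q10 q20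
  rw [hQm] at q00
  simp [tMat, eMat, upMat, Matrix.mul_apply, Fin.sum_univ_three] at q00
  have hσγ : σ γ = γ := by
    have h := congrArg σ q00
    rw [map_mul, hσt, map_neg, map_one, ← q00] at h
    exact mul_right_cancel₀ ht0 h
  have hγ1 : γ = 1 := by
    rw [hσγ] at hgN
    linear_combination hg3 - γ * hgN
  rw [hγ1, one_mul] at q00
  obtain ⟨E, hE, hEm⟩ : ∃ E ∈ M, (E : M₃) = eMat (-α / 2) :=
    ⟨_, hc.eMat_mem (by rw [map_div₀, map_neg, hα, hc.two_fix]), coe_gl3 _ _⟩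
  obtain ⟨G, hGd⟩ : ∃ G, G = g * E := ⟨_, rfl⟩
  have hG : G ∈ M := hGd ▸ mul_mem hg hE
  have hGx : (G : M₃) *ᵥ e₀ = k • x := by
    rw [hGd, Units.val_mul, ← Matrix.mulVec_mulVec, hEm, eMat_mulVec, ← hgx]
    congr 1; funext i; fin_cases i <;> simp [e₀]
  have hTG : sMat s * (G : M₃) = (G : M₃) * tMat (-1) := by
    have h1 : sMat s * (g : M₃) = (g : M₃) * (Q : M₃) := by
      rw [← hT₀m, ← Units.val_mul, ← Units.val_mul, hQd]; group
    rw [hGd, Units.val_mul, ← Matrix.mul_assoc, h1, Matrix.mul_assoc, Matrix.mul_assoc, hQm, hγ1, q00, one_smul, hEm,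
      Matrix.mul_assoc, eMat_mul h2]
    congr 1
    ext i j
    fin_cases i <;> fin_cases j <;> simp [tMat, eMat, upMat, Matrix.mul_apply, Fin.sum_univ_three] <;>
      field_simp <;> ring
  obtain ⟨v, hv⟩ : ∃ v, v = (G : M₃) *ᵥ e₁ := ⟨_, rfl⟩
  have hve : sMat s *ᵥ v = v := by
    rw [hv, Matrix.mulVec_mulVec, hTG, ← Matrix.mulVec_mulVec, tMat_mulVec]
    congr 1; funext i; fin_cases i <;> simp [e₁]
  have hv1 : v 1 = 0 := by
    have h := congrFun hve 1; rw [mulVec_three] at h; simp [sMat] at h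
    exact mul_left_cancel₀ h2 (by linear_combination -h)
  have hv2 : v 2 = s * v 0 := by
    have h := congrFun hve 2; rw [mulVec_three] at h; simp [sMat] at h
    linear_combination -h
  -- the rotations
  obtain ⟨J, hJd⟩ : ∃ J : M₃, J = ((G⁻¹ : GL (Fin 3) F) : M₃) * jMat s * (G : M₃) := ⟨_, rfl⟩
  obtain ⟨P1, hP1⟩ : ∃ P : M₃, P = Matrix.diagonal ![1, 0, 1] := ⟨_, rfl⟩
  have hrot : ∀ z : F, z * σ z = 1 → ∃ R ∈ M, ∃ a b : F, a = (z + σ z) / 2 ∧ b = (z - σ z) / (2 * d₀) ∧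
      a * a - κ * b * b = 1 ∧ (R : M₃) *ᵥ e₁ = e₁ ∧
      (R : M₃) = Matrix.diagonal ![a, 1, a] + b • J ∧
      (G : M₃) * (R : M₃) = rMat s a b * (G : M₃) := by
    intro z hz
    obtain ⟨a, ha⟩ : ∃ a, a = (z + σ z) / 2 := ⟨_, rfl⟩
    obtain ⟨b, hb⟩ : ∃ b, b = (z - σ z) / (2 * d₀) := ⟨_, rfl⟩
    have hσa : σ a = a := by rw [ha, map_div₀, map_add, hc.invol, hc.two_fix, add_comm]
    have hσb : σ b = b := by
      rw [hb, map_div₀, map_sub, map_mul, hc.invol, hd₀, hc.two_fix, mul_neg, div_neg, ← neg_div, neg_sub]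
    have hab : a * a - κ * b * b = 1 := by
      rw [ha, hb]; field_simp
      linear_combination 4 * d₀ ^ 2 * hz + (z - σ z) ^ 2 * hdd
    have hab' : a * a - 2 * s * b * b = 1 := by rw [h2s]; exact hab
    obtain ⟨R₀, hR₀, hR₀m⟩ : ∃ T ∈ M, (T : M₃) = rMat s a b := ⟨_, hc.rMat_mem hs0 hσs hσa hσb hab', coe_gl3 _ _⟩
    obtain ⟨R, hRd⟩ : ∃ R, R = G⁻¹ * R₀ * G := ⟨_, rfl⟩
    refine ⟨R, hRd ▸ mul_mem (mul_mem (inv_mem hG) hR₀) hG, a, b, ha, hb, hab, ?_, ?_, ?_⟩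
    · have hRv : rMat s a b *ᵥ v = v := by
        funext i; rw [mulVec_three]
        fin_cases i <;> simp [rMat, hv1, hv2] <;> field_simp <;> ring
      rw [hRd, Units.val_mul, Units.val_mul, ← Matrix.mulVec_mulVec, ← Matrix.mulVec_mulVec, ← hv, hR₀m, hRv, hv,
        inv_mulVec_cancel]
    · have hS : ((G⁻¹ : GL (Fin 3) F) : M₃) * sMat s * (G : M₃) = tMat (-1) := by
        rw [Matrix.mul_assoc, hTG, ← Matrix.mul_assoc, ← Units.val_mul, inv_mul_cancel, Units.val_one, Matrix.one_mul]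
      rw [hRd, Units.val_mul, Units.val_mul, hR₀m, rMat_eq s a b h2 hs0, Matrix.mul_add, Matrix.mul_add,
        Matrix.add_mul, Matrix.add_mul]
      simp only [Matrix.mul_smul, Matrix.smul_mul, Matrix.mul_add, Matrix.add_mul, Matrix.mul_sub, Matrix.sub_mul,
        Matrix.mul_one, ← Units.val_mul, inv_mul_cancel, hS, Units.val_one, ← hJd]
      ext i j
      fin_cases i <;> fin_cases j <;> simp [tMat] <;> field_simp <;> ring
    · rw [hRd, ← hR₀m, ← Units.val_mul, ← Units.val_mul]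
      group
  have hfree : ∀ z : F, z * σ z = 1 → ∀ R : GL (Fin 3) F, ∀ a b : F, a * a - κ * b * b = 1 →
      (G : M₃) * (R : M₃) = rMat s a b * (G : M₃) → ∀ l : F, (R : M₃) *ᵥ e₀ = l • e₀ → b = 0 := by
    intro z _ R a b _ hGR l hl
    have h1 : rMat s a b *ᵥ x = l • x := by
      refine smul_right_injective _ hk0 ?_
      show k • (rMat s a b *ᵥ x) = k • (l • x)
      rw [← Matrix.mulVec_smul, ← hGx, Matrix.mulVec_mulVec, ← hGR, ← Matrix.mulVec_mulVec, hl, Matrix.mulVec_smul,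
        hGx, smul_comm]
    have e0 := congrFun h1 0; have e1 := congrFun h1 1
    rw [mulVec_three] at e0 e1
    simp [rMat, hx] at e0 e1
    field_simp at e0
    by_contra hb0
    refine hδns (mul_left_cancel₀ hb0 (mul_left_cancel₀ (mul_ne_zero h2 hs0) ?_))
    linear_combination s * δ * e0 - 2 * s * e1 + 2 * s * b * h2s
  -- points on the axis polar
  obtain ⟨Pl, hPl⟩ : ∃ Pl : Set (Submodule F (Fin 3 → F)),
      Pl = insert (F ∙ e₀) (Set.range fun y : {y : F // y + σ y = 0} => F ∙ ![(y : F), 0, 1]) := ⟨_, rfl⟩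
  have hPlc : Pl.ncard ≤ q + 1 := by
    rw [hPl]
    refine (Set.ncard_insert_le _ _).trans (Nat.add_le_add_right ?_ 1)
    rw [← Nat.card_coe_set_eq, ← hc.skew]
    exact Finite.card_range_le _
  obtain ⟨Ω, hΩ⟩ : ∃ Ω : Set (Submodule F (Fin 3 → F)),
      Ω = {L | ∃ m ∈ M, (m : M₃) *ᵥ e₁ = e₁ ∧ L = F ∙ ((m : M₃) *ᵥ e₀)} := ⟨_, rfl⟩
  obtain ⟨W, hW, hWm⟩ : ∃ T ∈ M, (T : M₃) = wMat := ⟨_, hc.wMat_mem, coe_gl3 _ _⟩
  obtain ⟨Ω', hΩ'⟩ : ∃ Ω' : Set (Submodule F (Fin 3 → F)), Ω' = (fun L => W • L) '' Ω := ⟨_, rfl⟩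
  have hne0 : ∀ m : GL (Fin 3) F, (m : M₃) *ᵥ e₀ ≠ 0 := fun m e => by
    have := gl_mulVec_injective m (show (m : M₃) *ᵥ e₀ = (m : M₃) *ᵥ 0 by rw [e, Matrix.mulVec_zero])
    simpa [e₀] using congrFun this 0
  have hWe : (W : M₃) *ᵥ e₁ = -e₁ := by
    rw [hWm, wMat_mulVec]; funext i; fin_cases i <;> simp [e₁]
  have hinPl : ∀ m ∈ M, (m : M₃) 1 0 = 0 → F ∙ ((m : M₃) *ᵥ e₀) ∈ Pl := fun m hm h10 => by
    have hiso : B σ ((m : M₃) *ᵥ e₀) ((m : M₃) *ᵥ e₀) = 0 := by rw [hc.iso m hm]; simp [B_eval, e₀]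
    rw [hPl]
    rcases hc.normal_form (hne0 m) hiso with h | ⟨a, b, hab, h⟩
    · exact Or.inl h
    · obtain ⟨l, hl0, hl⟩ := line_eq (hne0 m) h
      have h1 := congrFun hl 1
      rw [mulVec_e₀] at h1
      simp [h10, hl0] at h1
      subst h1
      exact Or.inr ⟨⟨a, by simpa using hab⟩, h.symm⟩
  have hsub : Ω ∪ Ω' ⊆ Pl := by
    rintro L (hL | hL)
    · rw [hΩ] at hL
      obtain ⟨m, hm, he, rfl⟩ := hL
      exact hinPl m hm (hc.block hm he).2.2.2.1
    · rw [hΩ', hΩ] at hL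
      obtain ⟨_, ⟨m, hm, he, rfl⟩, rfl⟩ := hL
      show W • (F ∙ ((m : M₃) *ᵥ e₀)) ∈ Pl
      rw [smul_line, Matrix.mulVec_mulVec, ← Units.val_mul]
      refine hinPl _ (mul_mem hW hm) ?_
      rw [Units.val_mul, hWm]
      simp [wMat, Matrix.mul_apply, Fin.sum_univ_three, (hc.block hm he).2.2.2.1]
  have hdisj : Disjoint Ω Ω' := by
    rw [Set.disjoint_left]
    intro L hL hL'
    rw [hΩ', hΩ] at hL'
    rw [hΩ] at hL
    obtain ⟨m, hm, he, rfl⟩ := hL
    obtain ⟨_, ⟨n, hn', hen, rfl⟩, hLe⟩ := hL'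
    have hLe' : W • (F ∙ ((n : M₃) *ᵥ e₀)) = F ∙ ((m : M₃) *ᵥ e₀) := hLe
    rw [smul_line, Matrix.mulVec_mulVec, ← Units.val_mul] at hLe'
    obtain ⟨l, -, hl⟩ := line_eq (hne0 (W * n)) hLe'
    refine (hc.diag_of_fix hn (m := m⁻¹ * (W * n)) (mul_mem (inv_mem hm) (mul_mem hW hn')) (k := l) ?_).2 ?_
    · rw [Units.val_mul, ← Matrix.mulVec_mulVec, hl, Matrix.mulVec_smul, inv_mulVec_cancel]
    · rw [Units.val_mul, Units.val_mul, ← Matrix.mulVec_mulVec, ← Matrix.mulVec_mulVec, hen, hWe, Matrix.mulVec_neg]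
      congr 1
      conv_lhs => rw [← he]
      exact inv_mulVec_cancel _ _
  -- the rotations give half of the plane
  obtain ⟨μ, hμ⟩ : ∃ μ : Finset F, μ = Finset.univ.filter fun z => z * σ z = 1 := ⟨_, rfl⟩
  have hμc : μ.card = q + 1 := by
    rw [hμ, ← Fintype.card_subtype, ← Nat.card_eq_fintype_card]; exact hc.card_normOne
  choose! R hRM a b hRa hRb hRab hRe hRJ hGR using hrot
  obtain ⟨C, hC⟩ : ∃ C, C = μ.image fun z => F ∙ ((R z : M₃) *ᵥ e₀) := ⟨_, rfl⟩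
  have hCΩ : (C : Set (Submodule F (Fin 3 → F))) ⊆ Ω := by
    intro L hL
    rw [hC, Finset.coe_image] at hL
    obtain ⟨z, hz, rfl⟩ := hL
    rw [hμ] at hz
    simp at hz
    rw [hΩ]
    exact ⟨R z, hRM z hz, hRe z hz, rfl⟩
  have hfib : μ.card ≤ 2 * C.card := by
    rw [hC]
    refine Finset.card_le_mul_card_image μ 2 fun L hL => ?_
    obtain ⟨z₁, hz₁, rfl⟩ := Finset.mem_image.1 hL
    refine le_trans (Finset.card_le_card (t := {z₁, -z₁}) fun z hz => ?_) Finset.card_le_two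
    obtain ⟨hz', hze⟩ := Finset.mem_filter.1 hz
    rw [hμ] at hz' hz₁
    simp at hz' hz₁
    obtain ⟨l, -, hl⟩ := line_eq (hne0 (R z)) hze
    -- the quotient rotation fixes the point
    obtain ⟨w, hw⟩ : ∃ w, w = σ z₁ * z := ⟨_, rfl⟩
    have hwN : w * σ w = 1 := by
      rw [hw, map_mul, hc.invol]; linear_combination z * σ z * hz₁ + hz'
    have hkey : rMat s (a z₁) (b z₁) * rMat s (a w) (b w) = rMat s (a z) (b z) := by
      rw [hRa z hz', hRb z hz', hRa z₁ hz₁, hRb z₁ hz₁, hRa w hwN, hRb w hwN, hw, map_mul, hc.invol]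
      have hzz : z₁ * σ z₁ = 1 := hz₁
      ext i j
      fin_cases i <;> fin_cases j <;> simp [rMat, Matrix.mul_apply, Fin.sum_univ_three] <;> field_simp <;>
        grind
    have hRR : R z₁ * R w = R z := Units.ext (by
      refine G.isUnit.mul_left_cancel ?_
      rw [Units.val_mul, ← Matrix.mul_assoc, hGR z₁ hz₁, Matrix.mul_assoc, hGR w hwN, ← Matrix.mul_assoc, hkey,
        hGR z hz'])
    have hwe : (R w : M₃) *ᵥ e₀ = l • e₀ := by
      rw [show R w = (R z₁)⁻¹ * R z by rw [← hRR, inv_mul_cancel_left], Units.val_mul, ← Matrix.mulVec_mulVec, hl,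
        Matrix.mulVec_smul, inv_mulVec_cancel]
    have hb0 := hfree w hwN (R w) (a w) (b w) (hRab w hwN) (hGR w hwN) l hwe
    rw [hRb w hwN, div_eq_zero_iff, or_iff_left (mul_ne_zero h2 hd0), sub_eq_zero] at hb0
    have hw1 : w * w = 1 * 1 := by rw [one_mul]; nth_rewrite 2 [hb0]; exact hwN
    have hzw : z = z₁ * w := by rw [hw]; linear_combination -z * hz₁
    rcases mul_self_eq_mul_self_iff.1 hw1 with e | e
    · rw [Finset.mem_insert]; exact Or.inl (by rw [hzw, e, mul_one])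
    · rw [Finset.mem_insert, Finset.mem_singleton]; exact Or.inr (by rw [hzw, e, mul_neg, mul_one])
  have hΩC : Ω ⊆ C := by
    have h1 := Set.ncard_le_ncard hsub (Set.toFinite _)
    rw [Set.ncard_union_eq hdisj (Set.toFinite _) (Set.toFinite _)] at h1
    have h3 : Ω'.ncard = Ω.ncard := by
      rw [hΩ']; exact Set.ncard_image_of_injective _ (MulAction.injective W)
    refine le_of_eq (Set.eq_of_subset_of_ncard_le hCΩ ?_ (Set.toFinite _)).symm
    rw [Set.ncard_coe_finset]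
    omega
  -- pick a rotation in general position and two torus elements
  obtain ⟨z, hz, hz4⟩ : ∃ z, z * σ z = 1 ∧ z ^ 4 ≠ 1 := by
    by_contra hcon
    push Not at hcon
    have hle : μ ⊆ (Polynomial.nthRoots 4 (1 : F)).toFinset := fun z hz => by
      rw [hμ] at hz; simp at hz
      rw [Multiset.mem_toFinset, Polynomial.mem_nthRoots (by norm_num)]
      exact hcon z hz
    have := (Finset.card_le_card hle).trans ((Multiset.toFinset_card_le _).trans (Polynomial.card_nthRoots _ _))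
    omega
  have hσz : σ z ≠ 0 := fun e => by simp [e] at hz
  have haz : a z ≠ 0 := fun e => by
    rw [hRa z hz, div_eq_zero_iff, or_iff_left h2] at e
    exact hz4 (by linear_combination (z * z - 1) * z * e - (z * z - 1) * hz)
  have hbz : b z ≠ 0 := fun e => by
    rw [hRb z hz, div_eq_zero_iff, or_iff_left (mul_ne_zero h2 hd0)] at e
    exact hz4 (by linear_combination (z * z + 1) * z * e + (z * z + 1) * hz)
  obtain ⟨h01, h11, h21, h10, h12⟩ := hc.block (hRM z hz) (hRe z hz)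
  have hJe : ∀ i j, (R z : M₃) i j = Matrix.diagonal ![a z, 1, a z] i j + b z * J i j := fun i j => by
    rw [hRJ z hz]; rfl
  have hJ20 : J 2 0 ≠ 0 := fun e => hbz (hfree z hz (R z) (a z) (b z) (hRab z hz) (hGR z hz) ((R z : M₃) 0 0) (by
    rw [mulVec_e₀]; funext i
    have h := hJe 2 0
    rw [e] at h
    fin_cases i <;> simp [e₀, h10] at h ⊢
    exact h))
  have hJ02 : J 0 2 ≠ 0 := fun e => by
    have h02 : (R z : M₃) 0 2 = 0 := by rw [hJe 0 2, e]; simp
    -- then the other end is fixed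
    obtain ⟨S, hSd⟩ : ∃ S, S = W⁻¹ * R z * W := ⟨_, rfl⟩
    have hSM : S ∈ M := hSd ▸ mul_mem (mul_mem (inv_mem hW) (hRM z hz)) hW
    have hR2 : (R z : M₃) *ᵥ e₂ = ((R z : M₃) 2 2) • e₂ := by
      rw [mulVec_e₂]; funext i; fin_cases i <;> simp [e₂, h02, h12]
    have hW0 : (W : M₃) *ᵥ e₀ = e₂ := by
      rw [hWm, wMat_mulVec]; funext i; fin_cases i <;> simp [e₀, e₂]
    have hS0 : (S : M₃) *ᵥ e₀ = ((R z : M₃) 2 2) • e₀ := by
      rw [hSd, Units.val_mul, Units.val_mul, ← Matrix.mulVec_mulVec, ← Matrix.mulVec_mulVec, hW0, hR2,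
        Matrix.mulVec_smul, ← hW0, inv_mulVec_cancel]
    have hS1 : (S : M₃) *ᵥ e₁ = e₁ := by
      rw [hSd, Units.val_mul, Units.val_mul, ← Matrix.mulVec_mulVec, ← Matrix.mulVec_mulVec, hWe, Matrix.mulVec_neg,
        hRe z hz, Matrix.mulVec_neg]
      have : ((W⁻¹ : GL (Fin 3) F) : M₃) *ᵥ e₁ = -e₁ := by
        conv_lhs => rw [show e₁ = (W : M₃) *ᵥ (-e₁) by rw [Matrix.mulVec_neg, hWe, neg_neg]]
        exact inv_mulVec_cancel _ _
      rw [this, neg_neg]
    have h02' := (hc.diag_of_fix hn hSM hS0).1 hS1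
    have hWS : (W : M₃) * (S : M₃) = (R z : M₃) * (W : M₃) := by
      rw [← Units.val_mul, ← Units.val_mul, hSd]; group
    have h20 := congrFun (congrFun hWS 2) 2
    rw [hWm] at h20
    simp [wMat, Matrix.mul_apply, Fin.sum_univ_three, h02'] at h20
    exact hbz ((mul_eq_zero.1 (by simpa [h20] using (hJe 2 0).symm)).resolve_right hJ20)
  have hkey : ∀ t : F, σ t = t → t ≠ 0 → t * t ≠ 1 →
      (t * t + 1) * a z + (t * t - 1) * (b z * J 0 0) = 0 := by
    intro t hσt ht0 ht1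
    obtain ⟨T, hT, hTm⟩ : ∃ T ∈ M, (T : M₃) = tMat t := ⟨_, hc.tMat_mem ht0 hσt, coe_gl3 _ _⟩
    have hTe : (T : M₃) *ᵥ e₁ = e₁ := by
      rw [hTm, tMat_mulVec]; funext i; fin_cases i <;> simp [e₁]
    have hmem : F ∙ (((T * R z : GL (Fin 3) F) : M₃) *ᵥ e₀) ∈ (C : Set (Submodule F (Fin 3 → F))) := hΩC (by
      rw [hΩ]
      exact ⟨T * R z, mul_mem hT (hRM z hz), by
        rw [Units.val_mul, ← Matrix.mulVec_mulVec, hRe z hz, hTe], rfl⟩)
    rw [hC, Finset.coe_image] at hmem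
    obtain ⟨w, hw, hwe⟩ := hmem
    rw [hμ] at hw
    simp at hw
    obtain ⟨l, -, hl⟩ := line_eq (hne0 (T * R z)) hwe.symm
    obtain ⟨D, hDd⟩ : ∃ D, D = (R w)⁻¹ * (T * R z) := ⟨_, rfl⟩
    have hDM : D ∈ M := hDd ▸ mul_mem (inv_mem (hRM w hw)) (mul_mem hT (hRM z hz))
    have hD0 : (D : M₃) *ᵥ e₀ = l • e₀ := by
      rw [hDd, Units.val_mul, ← Matrix.mulVec_mulVec, hl, Matrix.mulVec_smul, inv_mulVec_cancel]
    have hD1 : (D : M₃) *ᵥ e₁ = e₁ := by
      rw [hDd, Units.val_mul, Units.val_mul, ← Matrix.mulVec_mulVec, ← Matrix.mulVec_mulVec, hRe z hz, hTe]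
      conv_lhs => rw [← hRe w hw]
      exact inv_mulVec_cancel _ _
    have hd02 := (hc.diag_of_fix hn hDM hD0).1 hD1
    obtain ⟨d01, d11, d21, d10, d12⟩ := hc.block hDM hD1
    have hd20 : (D : M₃) 2 0 = 0 := by
      have h := congrFun hD0 2
      rw [mulVec_e₀] at h
      simpa [e₀] using h
    have hdd' : (D : M₃) 0 0 * σ ((D : M₃) 2 2) = 1 := by
      have h := hc.iso D hDM e₀ e₂
      simp [B_eval, mulVec_e₀, mulVec_e₂, d10, hd20, hd02, d12] at h
      simp [e₀, e₂] at h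
      exact h
    have hprod : tMat t * (R z : M₃) = (R w : M₃) * (D : M₃) := by
      rw [← hTm, ← Units.val_mul, ← Units.val_mul, hDd, mul_inv_cancel_left]
    rw [hRJ z hz, hRJ w hw] at hprod
    have e00 := congrFun (congrFun hprod 0) 0
    have e02 := congrFun (congrFun hprod 0) 2
    have e20 := congrFun (congrFun hprod 2) 0
    have e22 := congrFun (congrFun hprod 2) 2
    simp [tMat, Matrix.mul_apply, Fin.sum_univ_three, d10, hd20, hd02, d12] at e00 e02 e20 e22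
    have f02 : t * b z = b w * (D : M₃) 2 2 := mul_right_cancel₀ hJ02 (by linear_combination e02)
    have f20 : t⁻¹ * b z = b w * (D : M₃) 0 0 := mul_right_cancel₀ hJ20 (by linear_combination e20)
    have f20' : b z = t * (b w * (D : M₃) 0 0) := by rw [← f20, ← mul_assoc, mul_inv_cancel₀ ht0, one_mul]
    have hJ22 : J 2 2 = -J 0 0 := by
      have htr : (G : M₃) * J = jMat s * (G : M₃) := by
        rw [hJd, ← Matrix.mul_assoc, ← Matrix.mul_assoc, ← Units.val_mul, mul_inv_cancel, Units.val_one, Matrix.one_mul]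
      have h := Matrix.trace_units_conj' G (jMat s)
      rw [← hJd, Matrix.trace_fin_three, Matrix.trace_fin_three] at h
      have hj11 : b z * J 1 1 = 0 := by
        have := hJe 1 1; rw [h11] at this; simpa using this.symm
      have hj : J 1 1 = 0 := (mul_eq_zero.1 hj11).resolve_left hbz
      simp [jMat, hj] at h
      linear_combination h
    rw [hJ22] at e22
    have g0 : t * a z + t * b z * J 0 0 = (a w + b w * J 0 0) * (D : M₃) 0 0 := by linear_combination e00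
    have g2 : a z - b z * J 0 0 = t * ((a w - b w * J 0 0) * (D : M₃) 2 2) := by
      have h : t⁻¹ * (a z - b z * J 0 0) = (a w - b w * J 0 0) * (D : M₃) 2 2 := by linear_combination e22
      rw [← h, ← mul_assoc, mul_inv_cancel₀ ht0, one_mul]
    have hbw : b w ≠ 0 := fun e => by simp [e, hbz] at f20'
    have hd2 : (D : M₃) 2 2 = t * t * (D : M₃) 0 0 :=
      mul_left_cancel₀ hbw (by linear_combination -f02 + t * f20')
    have hD00 : σ ((D : M₃) 0 0) = (D : M₃) 0 0 := by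
      have h := congrArg σ f20'
      have hσb : ∀ u, u * σ u = 1 → σ (b u) = b u := fun u hu => by
        rw [hRb u hu, map_div₀, map_sub, map_mul, hc.invol, hd₀, hc.two_fix, mul_neg, div_neg, ← neg_div, neg_sub]
      rw [map_mul, map_mul, hσb z hz, hσb w hw, hσt, f20'] at h
      exact (mul_left_cancel₀ hbw (mul_left_cancel₀ ht0 h)).symm
    obtain ⟨A, hA⟩ : ∃ A, A = (D : M₃) 0 0 := ⟨_, rfl⟩
    rw [← hA] at hdd' hd2 f20' g0 hD00
    rw [hd2] at g2
    rw [hd2, map_mul, map_mul, hσt, hD00] at hdd'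
    have hD0' : A ≠ 0 := fun e => by simp [e] at hdd'
    have e1 : (t * t - 1) * ((t * t + 1) * a z + (t * t - 1) * (b z * J 0 0)) = 0 := by
      linear_combination t ^ 3 * g0 - g2 + (-2 * t * t * J 0 0) * f20'
    exact (mul_eq_zero.1 e1).resolve_left (sub_ne_zero.2 ht1)
  have : Fintype (fixSub σ) := Fintype.ofFinite _
  have hKc : Fintype.card (fixSub σ) = q := by rw [← Nat.card_eq_fintype_card]; exact hc.fixed
  obtain ⟨t, ht, ht'⟩ : ∃ t : fixSub σ, t ≠ 0 ∧ t * t ≠ 1 := by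
    obtain ⟨t, ht⟩ : ∃ t, t ∈ (Finset.univ \ ({0, 1, -1} : Finset (fixSub σ))) := Finset.card_pos.1 (by
      have h3 := Finset.card_le_three (a := (0 : fixSub σ)) (b := 1) (c := -1)
      have := Finset.le_card_sdiff ({0, 1, -1} : Finset (fixSub σ)) Finset.univ
      rw [Finset.card_univ, hKc] at this
      omega)
    simp at ht
    refine ⟨t, ht.1, fun e => ?_⟩
    rcases mul_self_eq_mul_self_iff.1 (e.trans (one_mul (1 : fixSub σ)).symm) with e | e
    · exact ht.2.1 e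
    · exact ht.2.2 e
  obtain ⟨u, hu, hu', hut⟩ : ∃ u : fixSub σ, u ≠ 0 ∧ u * u ≠ 1 ∧ u * u ≠ t * t := by
    obtain ⟨u, hu⟩ : ∃ u, u ∈ (Finset.univ \ ({0, 1, -1, t, -t} : Finset (fixSub σ))) := Finset.card_pos.1 (by
      have h5 := Finset.card_le_five (a := (0 : fixSub σ)) (b := 1) (c := -1) (d := t) (e := -t)
      have := Finset.le_card_sdiff ({0, 1, -1, t, -t} : Finset (fixSub σ)) Finset.univ
      rw [Finset.card_univ, hKc] at this
      omega)
    simp at hu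
    refine ⟨u, hu.1, fun e => ?_, fun e => ?_⟩
    · rcases mul_self_eq_mul_self_iff.1 (e.trans (one_mul (1 : fixSub σ)).symm) with e | e
      · exact hu.2.1 e
      · exact hu.2.2.1 e
    · rcases mul_self_eq_mul_self_iff.1 e with e | e
      · exact hu.2.2.2.1 e
      · exact hu.2.2.2.2 e
  have k1 := hkey (t : F) t.2 (fun e => ht (Subtype.ext e)) (fun e => ht' (Subtype.ext e))
  have k2 := hkey (u : F) u.2 (fun e => hu (Subtype.ext e)) (fun e => hu' (Subtype.ext e))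
  have k3 : ((u : F) * u - (t : F) * t) * (a z + b z * J 0 0) = 0 := by linear_combination k2 - k1
  have k4 := (mul_eq_zero.1 k3).resolve_left (sub_ne_zero.2 fun e => hut (Subtype.ext e))
  exact haz (mul_left_cancel₀ h2 (by linear_combination k1 - ((t : F) * t - 1) * k4))

end Ctx

end Cfsg.Agent.Classical.SUThree.SO3
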