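import Cfsg.Agent.Lib.Classical.MaxUnitSubfieldData
import Cfsg.Agent.Lib.Classical.SUThree.RootPair

/-!
A three-dimensional Hermitian space over a subfield inside one over a bigger field.
-/

set_option autoImplicit false
set_option linter.unusedSectionVars false

namespace Cfsg.Agent.Classical.SUThree

open Matrix Module MaxTv

variable {F : Type*} [Field F] [Fintype F] {ι : Type} [Fintype ι] [DecidableEq ι]

local notation "V" => (ι → F)
local notation "Mn" => Matrix ι ι F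

/-- A subfield between a subfield of prime index and the whole field. -/
theorem eq_top_of_gt {F₀ T : Subfield F} {r : ℕ} (hr : r.Prime) (hcard : Nat.card F = Nat.card F₀ ^ r)
    (hle : F₀ ≤ T) {x : F} (hx : x ∈ T) (hx₀ : x ∉ F₀) : T = ⊤ := by
  have h1 : Nat.card F = Nat.card F₀ ^ finrank F₀ F := Module.natCard_eq_pow_finrank
  have hp : (finrank F₀ F).Prime := by
    rw [Nat.pow_right_injective (Finite.one_lt_card (α := F₀)) (h1.symm.trans hcard)]
    exact hr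
  have := IntermediateField.isSimpleOrder_of_finrank_prime F₀ F hp
  rcases eq_bot_or_eq_top (T.toIntermediateField (K := F₀) fun z => hle z.2) with h | h
  · exfalso
    have hm : x ∈ T.toIntermediateField (K := F₀) fun z => hle z.2 := hx
    rw [h, IntermediateField.mem_bot] at hm
    obtain ⟨z, rfl⟩ := hm
    exact hx₀ z.2
  · refine eq_top_iff.2 fun y _ => ?_
    have hm : y ∈ T.toIntermediateField (K := F₀) fun z => hle z.2 := h ▸ IntermediateField.mem_top
    exact hm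

/-- A rational Hermitian structure in dimension three, with its transvections in `M`. -/
structure Sub3 (σ : F ≃+* F) (f : (ι → F) → (ι → F) → F) {F₀ : Subfield F} (σ₀ : F₀ ≃+* F₀) (f₀ : (ι → F₀) → (ι → F₀) → F₀)
    (P : GL ι F) (M : Subgroup (GL ι F)) (r : ℕ) : Prop where
  herm : Herm σ f
  herm₀ : Herm σ₀ f₀
  sigma : ∀ a : F₀, σ (a : F) = (σ₀ a : F)
  form : ∀ u v, f (emb F₀ P u) (emb F₀ P v) = (f₀ u v : F)
  dim : Fintype.card ι = 3
  iso : ∀ T ∈ M, ∀ x y, f ((T : Mn) *ᵥ x) ((T : Mn) *ᵥ y) = f x y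
  tv : ∀ u, f₀ u u = 0 → ∀ c : F₀, c + σ₀ c = 0 → InN M (qDisp f (emb F₀ P u) (c : F))
  prime : r.Prime
  card : Nat.card F = Nat.card F₀ ^ r

variable {σ : F ≃+* F} {f : (ι → F) → (ι → F) → F} {F₀ : Subfield F} {σ₀ : F₀ ≃+* F₀}
  {f₀ : (ι → F₀) → (ι → F₀) → F₀} {P : GL ι F} {M : Subgroup (GL ι F)} {r : ℕ}

/-- A hyperbolic pair and a vector orthogonal to it. -/
structure Frame3 (σ₀ : F₀ ≃+* F₀) (f₀ : (ι → F₀) → (ι → F₀) → F₀) (e e' n : ι → F₀) : Prop where
  ee : f₀ e e = 0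
  e'e' : f₀ e' e' = 0
  ee' : f₀ e e' = 1
  e'e : f₀ e' e = 1
  ne : f₀ n e = 0
  en : f₀ e n = 0
  ne' : f₀ n e' = 0
  e'n : f₀ e' n = 0
  nn : f₀ n n ≠ 0
  dec : ∀ x, x = f₀ x e' • e + f₀ x e • e' + (f₀ x n / f₀ n n) • n

namespace Sub3

variable (hd : Sub3 σ f σ₀ f₀ P M r)
include hd

theorem emb_eq_zero {z : V} (h : ∀ u, f (emb F₀ P u) z = 0) : z = 0 :=
  hd.herm.eq_zero _ fun x => by
    show hd.herm.toSesq.lin z x = 0
    rw [eq_sum_emb P F₀ x, map_sum]
    exact Finset.sum_eq_zero fun i _ => by rw [map_smul, Sesq.lin_apply, h, smul_zero]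

theorem conj_Q {T : GL ι F} (hT : T ∈ M) {v : V} {c : F} (h : InN M (qDisp f v c)) :
    InN M (qDisp f ((T : Mn) *ᵥ v) c) := by
  obtain ⟨S, hS, hSx⟩ := h
  refine ⟨T * S * T⁻¹, mul_mem (mul_mem hT hS) (inv_mem hT), fun x => ?_⟩
  rw [Units.val_mul, Units.val_mul, ← Matrix.mulVec_mulVec, ← Matrix.mulVec_mulVec, hSx, Matrix.mulVec_add,
    mulVec_inv_cancel, qDisp, qDisp, Matrix.mulVec_smul]
  rw [← hd.iso T hT (((T⁻¹ : GL ι F) : Mn) *ᵥ x) v, mulVec_inv_cancel]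

theorem le_span : ⊤ ≤ Submodule.span F₀ {a : ι → F₀ | a ∈ (⊤ : Submodule F₀ (ι → F₀)) ∧ f₀ a a = 0} := fun _ hx =>
  hd.herm₀.le_span_iso (S := ⊤) (by rw [finrank_top, Module.finrank_pi, hd.dim]; norm_num) hx

theorem exists_frame {e : ι → F₀} (hee : f₀ e e = 0) (he0 : e ≠ 0) :
    ∃ e' n, Frame3 σ₀ f₀ e e' n := by
  have hs := hd.herm₀
  obtain ⟨z, hz⟩ := hs.toSesq.exists_left he0
  obtain ⟨a, -, haa, hae⟩ := hs.exists_iso_left_sharp (S := ⊤)
    (by rw [finrank_top, Module.finrank_pi, hd.dim]; norm_num) ⟨z, Submodule.mem_top, hz⟩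
  obtain ⟨e', he'⟩ : ∃ e', e' = (f₀ a e)⁻¹ • a := ⟨_, rfl⟩
  have he'e : f₀ e' e = 1 := by rw [he', hs.smul_left, inv_mul_cancel₀ hae]
  have hee' : f₀ e e' = 1 := by rw [hs.herm, he'e, map_one]
  have he'e' : f₀ e' e' = 0 := by rw [he', hs.smul_left, hs.smul_right, haa, mul_zero, mul_zero]
  obtain ⟨π, hπ⟩ : ∃ π : (ι → F₀) → (ι → F₀), π = fun x => x - f₀ x e' • e - f₀ x e • e' := ⟨_, rfl⟩
  obtain ⟨S, hS⟩ : ∃ S : Submodule F₀ (ι → F₀),
      S = LinearMap.ker (hs.toSesq.lin e) ⊓ LinearMap.ker (hs.toSesq.lin e') := ⟨_, rfl⟩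
  have hmem : ∀ x, x ∈ S ↔ f₀ x e = 0 ∧ f₀ x e' = 0 := fun x => by simp [hS, LinearMap.mem_ker]
  have hπS : ∀ x, π x ∈ S := fun x => by
    rw [hmem, hπ]
    simp only [hs.toSesq.sub_left, hs.smul_left, hee, he'e, hee', he'e']
    constructor <;> ring
  have hdisj : Submodule.span F₀ (Set.range ![e, e']) ⊓ S = ⊥ := by
    rw [Submodule.eq_bot_iff]
    rintro x ⟨hx, hxS⟩
    obtain ⟨c, rfl⟩ := (Submodule.mem_span_range_iff_exists_fun F₀).1 hx
    obtain ⟨h1, h2⟩ := (hmem _).1 hxS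
    simp only [Fin.sum_univ_two, Matrix.cons_val_zero, Matrix.cons_val_one, hs.add_left, hs.smul_left, hee, he'e,
      hee', he'e', mul_zero, mul_one, zero_add, add_zero] at h1 h2 ⊢
    simp [h1, h2]
  have hli : LinearIndependent F₀ ![e, e'] := by
    rw [LinearIndependent.pair_iff]
    intro s t h
    have h1 := congrArg (fun x => f₀ x e) h
    have h2 := congrArg (fun x => f₀ x e') h
    simp only [hs.add_left, hs.smul_left, hee, he'e, hee', he'e', hs.toSesq.zero_left] at h1 h2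
    exact ⟨by linear_combination h2, by linear_combination h1⟩
  have hdimS : finrank F₀ S ≤ 1 := by
    have h1 := Submodule.finrank_sup_add_finrank_inf_eq (Submodule.span F₀ (Set.range ![e, e'])) S
    have h2 := Submodule.finrank_le (Submodule.span F₀ (Set.range ![e, e']) ⊔ S)
    rw [hdisj, finrank_bot, finrank_span_eq_card hli, Fintype.card_fin] at h1
    rw [Module.finrank_pi, hd.dim] at h2
    omega
  obtain ⟨n, hnS, hn0⟩ : ∃ n ∈ S, n ≠ 0 := by
    refine S.ne_bot_iff.1 fun hbot => ?_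
    have hall : (⊤ : Submodule F₀ (ι → F₀)) ≤ Submodule.span F₀ (Set.range ![e, e']) := fun x _ => by
      have h1 := hπS x
      rw [hbot, Submodule.mem_bot, hπ] at h1
      refine (Submodule.mem_span_range_iff_exists_fun F₀).2 ⟨![f₀ x e', f₀ x e], ?_⟩
      simp only [Fin.sum_univ_two, Matrix.cons_val_zero, Matrix.cons_val_one]
      linear_combination (norm := module) -h1
    have h1 := Submodule.finrank_mono hall
    rw [finrank_top, Module.finrank_pi, hd.dim, finrank_span_eq_card hli, Fintype.card_fin] at h1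
    omega
  have hSn : ∀ x ∈ S, ∃ t : F₀, x = t • n := fun x hx => by
    have hle : F₀ ∙ n ≤ S := (Submodule.span_singleton_le_iff_mem _ _).2 hnS
    have heq := Submodule.eq_of_le_of_finrank_le hle (by rw [finrank_span_singleton hn0]; exact hdimS)
    rw [← heq] at hx
    obtain ⟨t, ht⟩ := Submodule.mem_span_singleton.1 hx
    exact ⟨t, ht.symm⟩
  obtain ⟨hne, hne'⟩ := (hmem n).1 hnS
  have hen : f₀ e n = 0 := hs.refl _ _ hne
  have he'n : f₀ e' n = 0 := hs.refl _ _ hne'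
  have hcoef : ∀ x, ∃ t : F₀, π x = t • n ∧ f₀ x n = t * f₀ n n := fun x => by
    obtain ⟨t, ht⟩ := hSn _ (hπS x)
    refine ⟨t, ht, ?_⟩
    have := congrArg (fun z => f₀ z n) ht
    rw [hπ] at this
    simpa [hs.toSesq.sub_left, hs.smul_left, hen, he'n] using this
  have hnn : f₀ n n ≠ 0 := fun e0 => hn0 (hs.eq_zero _ fun x => by
    obtain ⟨t, -, ht⟩ := hcoef x
    rw [ht, e0, mul_zero])
  refine ⟨e', n, hee, he'e', hee', he'e, hne, hen, hne', he'n, hnn, fun x => ?_⟩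
  obtain ⟨t, ht, ht'⟩ := hcoef x
  rw [ht', mul_div_cancel_right₀ _ hnn]
  rw [hπ] at ht
  linear_combination (norm := module) ht

/-- A point whose norm products are all rational is rational. -/
theorem exists_norm_notMem {v : V} (hnl : ¬ RatLine F₀ P v) :
    ∃ y : ι → F₀, f₀ y y = 0 ∧ f (emb F₀ P y) v * σ (f (emb F₀ P y) v) ∉ F₀ := by
  by_contra hcon
  push Not at hcon
  have hs := hd.herm
  have hs₀ := hd.herm₀
  obtain ⟨b, hb⟩ : ∃ b : (ι → F₀) → F, b = fun x => f (emb F₀ P x) v := ⟨_, rfl⟩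
  have hbadd : ∀ x y, b (x + y) = b x + b y := fun x y => by rw [hb]; simp only; rw [emb_add, hs.add_left]
  have hbsmul : ∀ (c : F₀) x, b (c • x) = c * b x := fun c x => by rw [hb]; simp only; rw [emb_smul, hs.smul_left]
  obtain ⟨e, hee, hbe⟩ : ∃ e, f₀ e e = 0 ∧ b e ≠ 0 := by
    by_contra hc
    push Not at hc
    refine hnl ⟨1, 0, Rat.zero, ?_⟩
    rw [smul_zero]
    refine hd.emb_eq_zero fun u => ?_
    rw [show f (emb F₀ P u) v = b u by rw [hb]]
    have hu := hd.le_span (Submodule.mem_top (x := u))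
    induction hu using Submodule.span_induction with
    | mem a ha => exact hc a ha.2
    | zero => rw [hb]; simp only; rw [emb_zero, hs.toSesq.zero_left]
    | add a a' _ _ ha ha' => rw [hbadd, ha, ha', add_zero]
    | smul k a _ ha => rw [hbsmul, ha, mul_zero]
  have he0 : e ≠ 0 := fun h => hbe (by rw [h, hb]; simp only; rw [emb_zero, hs.toSesq.zero_left])
  obtain ⟨e', n, hf⟩ := hd.exists_frame hee he0
  obtain ⟨A, hA⟩ : ∃ A, A = b e := ⟨_, rfl⟩
  obtain ⟨B, hB⟩ : ∃ B, B = b e' / A := ⟨_, rfl⟩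
  obtain ⟨C, hC⟩ : ∃ C, C = b n / A := ⟨_, rfl⟩
  have hA0 : A ≠ 0 := hA ▸ hbe
  have hNA : A * σ A ∈ F₀ := by rw [hA, hb]; exact hcon e hee
  have hbe' : b e' = B * A := by rw [hB, div_mul_cancel₀ _ hA0]
  have hbn : b n = C * A := by rw [hC, div_mul_cancel₀ _ hA0]
  have hN : ∀ α β : F₀, β + σ₀ β = -(α * σ₀ α * f₀ n n) →
      (B + (α : F) * C + β) * σ (B + (α : F) * C + β) ∈ F₀ := fun α β hαβ => by
    have hy : f₀ (e' + α • n + β • e) (e' + α • n + β • e) = 0 := by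
      simp only [hs₀.add_left, hs₀.add_right, hs₀.smul_left, hs₀.smul_right, hf.ee, hf.e'e', hf.ee', hf.e'e, hf.ne,
        hf.en, hf.ne', hf.e'n]
      linear_combination hαβ
    have h1 : b (e' + α • n + β • e) * σ (b (e' + α • n + β • e)) ∈ F₀ := by rw [hb]; exact hcon _ hy
    rw [hbadd, hbadd, hbsmul, hbsmul, hbe', hbn, ← hA,
      show B * A + (α : F) * (C * A) + (β : F) * A = (B + (α : F) * C + β) * A by ring, map_mul] at h1
    have h2 := div_mem h1 hNA
    rwa [show (B + (α : F) * C + β) * A * (σ (B + (α : F) * C + β) * σ A) / (A * σ A) =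
      (B + (α : F) * C + β) * σ (B + (α : F) * C + β) by
        have := σ.map_ne_zero_iff.2 hA0
        field_simp] at h2
  obtain ⟨s, hs0, hss⟩ := hs₀.exists_skew
  have hs0' : (s : F) ≠ 0 := fun h => hs0 (Subtype.ext h)
  have hσs : σ (s : F) = -(s : F) := by
    rw [hd.sigma, show σ₀ s = -s by linear_combination hss]; rfl
  have hsol : ∀ α : F₀, ∃ β : F₀, β + σ₀ β = -(α * σ₀ α * f₀ n n) := fun α => hs₀.exists_trace_eq (by
    rw [map_neg, map_mul, map_mul, hs₀.invol, hs₀.self_fixed]; ring)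
  have hdiff : ∀ α β : F₀, β + σ₀ β = -(α * σ₀ α * f₀ n n) →
      B + (α : F) * C + β - σ (B + (α : F) * C + β) ∈ F₀ := fun α β hαβ => by
    have h1 := hN α (β + s) (by rw [map_add]; linear_combination hαβ + hss)
    have h2 := hN α β hαβ
    rw [AddMemClass.coe_add, ← add_assoc, map_add, hσs] at h1
    have h3 := div_mem (add_mem (sub_mem h1 h2) (mul_mem s.2 s.2)) (neg_mem s.2)
    rwa [show ((B + (α : F) * C + β + s) * (σ (B + (α : F) * C + β) + -(s : F)) -
      (B + (α : F) * C + β) * σ (B + (α : F) * C + β) + (s : F) * s) / (-(s : F)) =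
      B + (α : F) * C + β - σ (B + (α : F) * C + β) by field_simp; ring] at h3
  obtain ⟨hBd, hBN⟩ : B - σ B ∈ F₀ ∧ B * σ B ∈ F₀ := by
    have h1 := hdiff 0 0 (by simp)
    have h2 := hN 0 0 (by simp)
    simpa using And.intro h1 h2
  have hCα : ∀ α : F₀, (α : F) * C - (σ₀ α : F) * σ C ∈ F₀ := fun α => by
    obtain ⟨β, hβ⟩ := hsol α
    have h1 := sub_mem (sub_mem (hdiff α β hβ) hBd) (sub_mem β.2 (σ₀ β).2)
    rwa [map_add, map_add, map_mul, hd.sigma, hd.sigma,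
      show B + (α : F) * C + β - (σ B + (σ₀ α : F) * σ C + (σ₀ β : F)) - (B - σ B) - ((β : F) - (σ₀ β : F)) =
        (α : F) * C - (σ₀ α : F) * σ C by ring] at h1
  obtain ⟨t, ht⟩ := hs₀.exists_moved
  have hCF : C ∈ F₀ := by
    have h1 := hCα 1
    rw [map_one, OneMemClass.coe_one, one_mul, one_mul] at h1
    have h2 := sub_mem (hCα t) (mul_mem (σ₀ t).2 h1)
    rw [show (t : F) * C - (σ₀ t : F) * σ C - (σ₀ t : F) * (C - σ C) = ((t : F) - (σ₀ t : F)) * C by ring] at h2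
    have h3 := div_mem h2 (sub_mem t.2 (σ₀ t).2)
    rwa [mul_div_cancel_left₀ _ (fun h => ht (Subtype.ext (sub_eq_zero.1 h)).symm)] at h3
  obtain ⟨C₀, hC₀⟩ : ∃ C₀ : F₀, (C₀ : F) = C := ⟨⟨C, hCF⟩, rfl⟩
  have hBF : B ∈ F₀ := by
    obtain ⟨α, β, hαβ, hne⟩ : ∃ α β : F₀, β + σ₀ β = -(α * σ₀ α * f₀ n n) ∧
        α * C₀ + β + σ₀ (α * C₀ + β) ≠ 0 := by
      by_contra hc
      push Not at hc
      have hQ : ∀ α : F₀, α * C₀ + σ₀ (α * C₀) = α * σ₀ α * f₀ n n := fun α => by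
        obtain ⟨β, hβ⟩ := hsol α
        have h1 := hc α β hβ
        rw [map_add] at h1
        linear_combination h1 - hβ
      obtain ⟨z, hz⟩ := hs₀.exists_trace
      refine hz (mul_right_cancel₀ hf.nn ?_)
      have h1 := hQ (z + 1)
      have h2 := hQ z
      have h3 := hQ 1
      simp only [map_add, map_one, add_mul, one_mul, mul_one] at h1 h3
      rw [zero_mul]
      linear_combination -h1 + h2 + h3
    obtain ⟨w, hw⟩ : ∃ w : F₀, w = α * C₀ + β := ⟨_, rfl⟩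
    rw [← hw] at hne
    have hw' : (α : F) * C + β = (w : F) := by rw [hw, ← hC₀]; push_cast; ring
    have h1 := hN α β hαβ
    rw [add_assoc, hw', map_add, hd.sigma] at h1
    have h2 := add_mem (sub_mem (sub_mem h1 hBN) (mul_mem w.2 (σ₀ w).2)) (mul_mem hBd w.2)
    rw [show (B + (w : F)) * (σ B + (σ₀ w : F)) - B * σ B - (w : F) * (σ₀ w : F) + (B - σ B) * (w : F) =
      B * ((w : F) + (σ₀ w : F)) by ring] at h2
    have h3 := div_mem h2 (add_mem w.2 (σ₀ w).2)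
    rwa [mul_div_cancel_right₀] at h3
    exact fun h => hne (Subtype.ext (by push_cast; exact h))
  obtain ⟨B₀, hB₀⟩ : ∃ B₀ : F₀, (B₀ : F) = B := ⟨⟨B, hBF⟩, rfl⟩
  obtain ⟨w, hw⟩ : ∃ w, w = σ₀ B₀ • e + e' + σ₀ (C₀ / f₀ n n) • n := ⟨_, rfl⟩
  refine hnl ⟨σ A, emb F₀ P w, rat_emb w, sub_eq_zero.1 (hd.emb_eq_zero fun u => ?_)⟩
  have hbu : b u = A * (f₀ u w : F) := by
    conv_lhs => rw [hf.dec u]
    rw [hbadd, hbadd, hbsmul, hbsmul, hbsmul, hbe', hbn, ← hA, hw]
    simp only [hs₀.add_right, hs₀.smul_right, hs₀.invol]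
    push_cast
    rw [hB₀, hC₀]
    field_simp
    ring
  rw [hs.toSesq.sub_right, hs.smul_right, hd.form, hs.invol, show f (emb F₀ P u) v = b u by rw [hb], hbu, sub_self]

/-- An isometry taking isotropic rational vectors to rational lines respects the rational structure. -/
theorem mem_subfield {g : GL ι F} (hg : ∀ x y, f ((g : Mn) *ᵥ x) ((g : Mn) *ᵥ y) = f x y)
    (h : ∀ u, f₀ u u = 0 → RatLine F₀ P ((g : Mn) *ᵥ emb F₀ P u)) : g ∈ Geo.subfieldSubgroup F₀ P := by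
  have hs := hd.herm
  have hs₀ := hd.herm₀
  obtain ⟨e, -, he0, hee⟩ := hs₀.exists_iso (S := ⊤) (by rw [finrank_top, Module.finrank_pi, hd.dim]; norm_num)
  obtain ⟨e', n, hf⟩ := hd.exists_frame hee he0
  obtain ⟨k, x₁, hx₁, hge⟩ := h e hf.ee
  obtain ⟨k', x₂, hx₂, hge'⟩ := h e' hf.e'e'
  obtain ⟨r₁, rfl⟩ := exists_emb hx₁
  obtain ⟨r₂, rfl⟩ := exists_emb hx₂
  obtain ⟨β, hβ⟩ := hs₀.exists_trace_eq (a := -(1 * σ₀ 1 * f₀ n n))
    (by rw [map_one, mul_one, map_neg, map_mul, map_one, hs₀.self_fixed])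
  have hy : f₀ (e' + n + β • e) (e' + n + β • e) = 0 := by
    simp only [hs₀.add_left, hs₀.add_right, hs₀.smul_left, hs₀.smul_right, hf.ee, hf.e'e', hf.ee', hf.e'e, hf.ne,
      hf.en, hf.ne', hf.e'n]
    rw [map_one] at hβ
    linear_combination hβ
  have hβ0 : (β : F) ≠ 0 := fun h0 => hf.nn (by
    have : β = 0 := Subtype.ext h0
    rw [this, map_one, map_zero] at hβ
    linear_combination hβ)
  obtain ⟨c, x₃, hx₃, hgy⟩ := h _ hy
  obtain ⟨r₃, rfl⟩ := exists_emb hx₃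
  -- products with the images
  have h12 : k * σ k' * (f₀ r₁ r₂ : F) = 1 := by
    have h1 := hg (emb F₀ P e) (emb F₀ P e')
    rw [hge, hge', hs.smul_left, hs.smul_right, hd.form, hd.form, hf.ee', OneMemClass.coe_one] at h1
    linear_combination h1
  have hk : k ≠ 0 := fun h0 => by simp [h0] at h12
  have hk' : k' ≠ 0 := fun h0 => by simp [h0] at h12
  have h31 : c * σ k * (f₀ r₃ r₁ : F) = 1 := by
    have h1 := hg (emb F₀ P (e' + n + β • e)) (emb F₀ P e)
    rw [hgy, hge, hs.smul_left, hs.smul_right, hd.form, hd.form] at h1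
    simp only [hs₀.add_left, hs₀.smul_left, hf.e'e, hf.ne, hf.ee] at h1
    push_cast at h1
    linear_combination h1
  have h32 : c * σ k' * (f₀ r₃ r₂ : F) = β := by
    have h1 := hg (emb F₀ P (e' + n + β • e)) (emb F₀ P e')
    rw [hgy, hge', hs.smul_left, hs.smul_right, hd.form, hd.form] at h1
    simp only [hs₀.add_left, hs₀.smul_left, hf.e'e', hf.ne', hf.ee'] at h1
    push_cast at h1
    linear_combination h1
  have hc0 : c ≠ 0 := fun h0 => by simp [h0] at h31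
  have h21 : k' * σ k * (f₀ r₂ r₁ : F) = 1 := by
    have h1 := hg (emb F₀ P e') (emb F₀ P e)
    rw [hge, hge', hs.smul_left, hs.smul_right, hd.form, hd.form, hf.e'e, OneMemClass.coe_one] at h1
    linear_combination h1
  have hσk : σ k ≠ 0 := σ.map_ne_zero_iff.2 hk
  have hσk' : σ k' ≠ 0 := σ.map_ne_zero_iff.2 hk'
  have hne31 : (f₀ r₃ r₁ : F) ≠ 0 := fun h0 => by simp [h0] at h31
  have hne21 : (f₀ r₂ r₁ : F) ≠ 0 := fun h0 => by simp [h0] at h21
  have hne12 : (f₀ r₁ r₂ : F) ≠ 0 := fun h0 => by simp [h0] at h12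
  have hck : c / k' ∈ F₀ := by
    have e1 : c / k' = (f₀ r₂ r₁ : F) / (f₀ r₃ r₁ : F) := by
      rw [div_eq_div_iff hk' hne31]
      exact mul_right_cancel₀ hσk (by linear_combination h31 - h21)
    rw [e1]; exact div_mem (f₀ r₂ r₁).2 (f₀ r₃ r₁).2
  have hkk : k / k' ∈ F₀ := by
    have e1 : k / k' = c / k' * (f₀ r₃ r₂ : F) / ((β : F) * (f₀ r₁ r₂ : F)) := by
      field_simp
      exact mul_right_cancel₀ hσk' (by linear_combination (β : F) * h12 - h32)
    rw [e1]; exact div_mem (mul_mem hck (f₀ r₃ r₂).2) (mul_mem β.2 (f₀ r₁ r₂).2)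
  have hRe : Rat F₀ P (k'⁻¹ • ((g : Mn) *ᵥ emb F₀ P e)) := by
    rw [hge, smul_smul, inv_mul_eq_div]; exact hx₁.smul hkk
  have hRe' : Rat F₀ P (k'⁻¹ • ((g : Mn) *ᵥ emb F₀ P e')) := by
    rw [hge', smul_smul, inv_mul_cancel₀ hk', one_smul]; exact hx₂
  have hRn : Rat F₀ P (k'⁻¹ • ((g : Mn) *ᵥ emb F₀ P n)) := by
    have h1 : Rat F₀ P (k'⁻¹ • ((g : Mn) *ᵥ emb F₀ P (e' + n + β • e))) := by
      rw [hgy, smul_smul, inv_mul_eq_div]; exact hx₃.smul hck
    have h2 := (h1.sub hRe').sub (hRe.smul β.2)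
    rw [emb_add, emb_add, emb_smul, Matrix.mulVec_add, Matrix.mulVec_add, Matrix.mulVec_smul, smul_add, smul_add,
      smul_comm k'⁻¹ (β : F)] at h2
    convert h2 using 1
    abel
  refine mem_subfieldSubgroup_of (inv_ne_zero hk') fun x hx => ?_
  obtain ⟨u, rfl⟩ := exists_emb hx
  rw [hf.dec u, emb_add, emb_add, emb_smul, emb_smul, emb_smul, Matrix.mulVec_add, Matrix.mulVec_add,
    Matrix.mulVec_smul, Matrix.mulVec_smul, Matrix.mulVec_smul, smul_add, smul_add, smul_comm k'⁻¹, smul_comm k'⁻¹,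
    smul_comm k'⁻¹]
  exact ((hRe.smul (f₀ u e').2).add (hRe'.smul (f₀ u e).2)).add (hRn.smul (f₀ u n / f₀ n n).2)

end Sub3

end Cfsg.Agent.Classical.SUThree
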