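import Cfsg.Agent.Lib.Classical.SUThree.SOThreeTv
import Cfsg.Agent.Lib.Classical.SUThree.SOThreeEnd
import Cfsg.Agent.Lib.Classical.SUThree.Full
import Cfsg.Agent.Lib.Classical.SUThree.Bridge
import Cfsg.Agent.Lib.Classical.SUThree.SubfieldData
import Cfsg.Agent.Lib.Classical.NormalForms
import Cfsg.Agent.Lib.Classical.MaxQuadratic

/-!
The orthogonal subgroups of a three-dimensional special unitary group are maximal.
-/

set_option autoImplicit false
set_option linter.unusedSectionVars false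

namespace Cfsg.Agent.Classical.SUThree

open Matrix Module MaxTv

variable {F : Type*} [Field F] [Fintype F]

local notation "M₃" => Matrix (Fin 3) (Fin 3) F

/-- A symmetric rational structure has an isotropic vector. -/
theorem exists_rat_iso {σ : F ≃+* F} {f : (Fin 3 → F) → (Fin 3 → F) → F} (hs : Herm σ f) {F₀ : Subfield F}
    (hfix : ∀ a ∈ F₀, σ a = a) (h2 : (2 : F) ≠ 0) {P : GL (Fin 3) F}
    (hr : ∀ x y, MaxTv.Rat F₀ P x → MaxTv.Rat F₀ P y → f x y ∈ F₀) :
    ∃ z, MaxTv.Rat F₀ P z ∧ f z z = 0 ∧ z ≠ 0 := by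
  have hr' : ∀ u v : Fin 3 → F₀, f (emb F₀ P u) (emb F₀ P v) ∈ F₀ := fun u v => hr _ _ (rat_emb u) (rat_emb v)
  let B : LinearMap.BilinForm F₀ (Fin 3 → F₀) := LinearMap.mk₂ F₀ (fun u v => (⟨_, hr' u v⟩ : F₀))
    (fun u u' v => Subtype.ext (by simp only [emb_add, hs.add_left, AddMemClass.coe_add]))
    (fun c u v => Subtype.ext (by simp only [emb_smul, hs.smul_left, smul_eq_mul, MulMemClass.coe_mul]))
    (fun u v v' => Subtype.ext (by simp only [emb_add, hs.add_right, AddMemClass.coe_add]))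
    (fun c u v => Subtype.ext (by
      simp only [emb_smul, hs.smul_right, hfix (c : F) c.2, smul_eq_mul, MulMemClass.coe_mul]))
  have hB : ∀ u v, (B u v : F) = f (emb F₀ P u) (emb F₀ P v) := fun u v => rfl
  obtain ⟨v, -, hv0, hQ⟩ := exists_singular_in (Q := B.toQuadraticMap) (W := ⊤) (fun w _ hw0 => by
    by_contra hc
    push Not at hc
    refine hw0 (emb_injective (P := P) ?_)
    rw [emb_zero]
    refine hs.eq_zero _ fun x => ?_
    show hs.toSesq.lin _ x = 0
    rw [eq_sum_emb P F₀ x, map_sum]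
    refine Finset.sum_eq_zero fun i _ => ?_
    rw [map_smul, Sesq.lin_apply]
    have h1 := congrArg (fun a : F₀ => (a : F)) (hc (Pi.single i 1) Submodule.mem_top)
    simp only [QuadraticMap.polarBilin_apply_apply, LinearMap.BilinMap.polar_toQuadraticMap, AddMemClass.coe_add,
      hB, ZeroMemClass.coe_zero] at h1
    rw [hs.herm (emb F₀ P w), hfix _ (hr' _ _)] at h1
    have h3 : (2 : F) * f (emb F₀ P (Pi.single i 1)) (emb F₀ P w) = 0 := by linear_combination h1
    rw [(mul_eq_zero.1 h3).resolve_left h2, smul_zero])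
    (by rw [finrank_top, Module.finrank_fin_fun])
  refine ⟨emb F₀ P v, rat_emb v, ?_, fun e => hv0 (emb_injective (P := P) (e.trans emb_zero.symm))⟩
  rw [← hB]
  exact congrArg (fun a : F₀ => (a : F)) hQ

/-- Orthogonal subgroups are maximal. -/
theorem orthogonal_maximal {q : ℕ} (hF : Fintype.card F = q ^ 2) (hodd : Odd q) (hq : 7 ≤ q) (F₀ : Subfield F)
    (P : GL (Fin 3) F) (hcard : Fintype.card F = Nat.card F₀ ^ 2)
    (hP : Geo.IsFormRationalStructure (hermForm 3 F q) F₀ 1 P) :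
    Geo.IsMaximalIn (GU 3 F q ⊓ Geo.specialLinear (Fin 3) F)
      (Geo.subfieldSubgroup F₀ P ⊓ (GU 3 F q ⊓ Geo.specialLinear (Fin 3) F)) := by
  classical
  obtain ⟨σ, hσ⟩ : ∃ σ, σ = qEquiv hF := ⟨_, rfl⟩
  obtain ⟨f, hf⟩ : ∃ f, f = hermForm 3 F q := ⟨_, rfl⟩
  have hs : Herm σ f := hσ ▸ hf ▸ herm_hermForm hF
  have hσpow : ∀ x : F, σ x = x ^ q := fun x => by rw [hσ]; exact qEquiv_apply hF x
  have hq0 : Nat.card F₀ = q := Nat.pow_left_injective two_ne_zero (by
    show Nat.card F₀ ^ 2 = q ^ 2; rw [← hcard, hF])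
  have hfix : ∀ a ∈ F₀, σ a = a := fun a ha => by
    have := congrArg Subtype.val (FiniteField.pow_card (⟨a, ha⟩ : F₀))
    rw [SubmonoidClass.coe_pow, ← Nat.card_eq_fintype_card, hq0] at this
    rw [hσpow]; exact this
  have h2 : (2 : F) ≠ 0 := fun h => by
    have : CharP F 2 := (CharP.charP_iff_prime_eq_zero Nat.prime_two).2 (by exact_mod_cast h)
    have h1 := FiniteField.even_card_iff_char_two.1 (ringChar.eq F 2)
    rw [hF, Nat.odd_iff.1 (hodd.pow (n := 2))] at h1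
    omega
  have hnat : Nat.card {x : F // σ x = x} = q := by
    rw [← HermTotIsoLines.natCard_fixed hF]
    exact Nat.card_congr (Equiv.subtypeEquivRight fun x => by rw [hσpow])
  have hfixed : ∀ x : F, σ x = x → x ∈ F₀ := fun x hx => by
    by_contra hb
    have hlt : Nat.card F₀ < Nat.card {x : F // σ x = x} := by
      have : Fintype F₀ := Fintype.ofFinite _
      rw [Nat.card_eq_fintype_card, Nat.card_eq_fintype_card]
      exact Fintype.card_lt_of_injective_of_notMem (fun z : F₀ => (⟨z, hfix _ z.2⟩ : {x : F // σ x = x}))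
        (fun a b e => Subtype.ext (congrArg Subtype.val e :)) (b := ⟨x, hx⟩)
        (by rintro ⟨z, hz⟩; have h' : (z : F) = x := congrArg Subtype.val hz; rw [← h'] at hb; exact hb z.2)
    omega
  have hr : ∀ x y, MaxTv.Rat F₀ P x → MaxTv.Rat F₀ P y → f x y ∈ F₀ := fun x y hx hy => by
    have := hP _ _ hx hy
    rwa [one_mul, mulVec_inv_cancel, mulVec_inv_cancel, ← hf] at this
  have hsym : ∀ x y, MaxTv.Rat F₀ P x → MaxTv.Rat F₀ P y → f y x = f x y := fun x y hx hy => by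
    rw [hs.herm, hfix _ (hr x y hx hy)]
  -- a rational frame
  obtain ⟨e, he, hee, he0⟩ := exists_rat_iso hs hfix h2 hr
  obtain ⟨d, hd, hde⟩ : ∃ d, MaxTv.Rat F₀ P d ∧ f d e = 1 := by
    obtain ⟨u, hu, hne⟩ : ∃ u, MaxTv.Rat F₀ P u ∧ f u e ≠ 0 := by
      by_contra hc
      push Not at hc
      refine he0 (hs.eq_zero _ fun x => ?_)
      show hs.toSesq.lin e x = 0
      rw [eq_sum_rat P x, map_sum]
      exact Finset.sum_eq_zero fun i _ => by rw [map_smul, Sesq.lin_apply, hc _ (rat_single i), smul_zero]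
    exact ⟨(f u e)⁻¹ • u, hu.smul (inv_mem (hr u e hu he)), by rw [hs.smul_left, inv_mul_cancel₀ hne]⟩
  obtain ⟨e', he'd⟩ : ∃ e', e' = d - (f d d / 2) • e := ⟨_, rfl⟩
  have hd2 : f d d / 2 ∈ F₀ := div_mem (hr d d hd hd) (ofNat_mem F₀ 2)
  have he' : MaxTv.Rat F₀ P e' := he'd ▸ hd.sub (he.smul hd2)
  have hed : f e d = 1 := by rw [hsym d e hd he, hde]
  have he'e : f e' e = 1 := by rw [he'd, hs.toSesq.sub_left, hs.smul_left, hde, hee, mul_zero, sub_zero]
  have hee' : f e e' = 1 := by rw [hsym e' e he' he, he'e]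
  have he'e' : f e' e' = 0 := by
    rw [he'd, hs.toSesq.sub_left, hs.toSesq.sub_right, hs.toSesq.sub_right, hs.smul_left, hs.smul_left,
      hs.smul_right, hs.smul_right, hfix _ hd2, hee, hde, hed]
    field_simp; ring
  obtain ⟨n, hn, hn0, hne, hne'⟩ : ∃ n, MaxTv.Rat F₀ P n ∧ n ≠ 0 ∧ f n e = 0 ∧ f n e' = 0 := by
    by_contra hc
    push Not at hc
    have hall : ∀ i, (P : M₃) *ᵥ Pi.single i 1 ∈ Submodule.span F (Set.range ![e, e']) := fun i => by
      obtain ⟨u, hu⟩ : ∃ u, u = (P : M₃) *ᵥ Pi.single i 1 := ⟨_, rfl⟩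
      have hur : MaxTv.Rat F₀ P u := hu ▸ rat_single i
      by_cases h0 : u - f u e' • e - f u e • e' = 0
      · rw [← hu]
        refine (Submodule.mem_span_range_iff_exists_fun F).2 ⟨![f u e', f u e], ?_⟩
        simp only [Fin.sum_univ_two, Matrix.cons_val_zero, Matrix.cons_val_one]
        linear_combination (norm := module) -h0
      · refine absurd ?_ (hc _ ((hur.sub (he.smul (hr _ _ hur he'))).sub (he'.smul (hr _ _ hur he))) h0 ?_)
        · simp only [hs.toSesq.sub_left, hs.smul_left, hee', he'e']; ring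
        · simp only [hs.toSesq.sub_left, hs.smul_left, hee, he'e]; ring
    have htop : ⊤ ≤ Submodule.span F (Set.range ![e, e']) := fun x _ => by
      rw [eq_sum_rat P x]
      exact Submodule.sum_mem _ fun i _ => Submodule.smul_mem _ _ (hall i)
    have h1 := Submodule.finrank_mono htop
    have h3 := finrank_range_le_card (R := F) ![e, e']
    rw [finrank_top, Module.finrank_fin_fun] at h1
    rw [Set.finrank, Fintype.card_fin] at h3
    omega
  obtain ⟨ν, hν⟩ : ∃ ν, ν = f n n := ⟨_, rfl⟩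
  have hν0 : ν ≠ 0 := fun h0 => by
    obtain ⟨t, ht⟩ := iso_orth hF he0 (hf ▸ hee) (hf ▸ (hν ▸ h0 : f n n = 0)) (hf ▸ hs.refl _ _ hne)
    refine hn0 ?_
    rw [ht, hs.smul_left, hee', mul_one] at hne'
    rw [ht, hne', zero_smul]
  have hνF : ν ∈ F₀ := hν ▸ hr n n hn hn
  obtain ⟨E', hE'd⟩ : ∃ E', E' = ν • e' := ⟨_, rfl⟩
  have hE' : MaxTv.Rat F₀ P E' := hE'd ▸ he'.smul hνF
  have hσν := hfix _ hνF
  have g02 : f e E' = ν := by rw [hE'd, hs.smul_right, hσν, hee', mul_one]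
  have g20 : f E' e = ν := by rw [hE'd, hs.smul_left, he'e, mul_one]
  have g22 : f E' E' = 0 := by rw [hE'd, hs.smul_left, hs.smul_right, he'e', mul_zero, mul_zero]
  have g12 : f n E' = 0 := by rw [hE'd, hs.smul_right, hne', mul_zero]
  have g21 : f E' n = 0 := hs.refl _ _ g12
  have g01 : f e n = 0 := hs.refl _ _ hne
  obtain ⟨Qm, hQm⟩ : ∃ Qm : M₃, Qm = Matrix.of fun i j => (![e, n, E'] j) i := ⟨_, rfl⟩
  have hQv : ∀ u, Qm *ᵥ u = u 0 • e + u 1 • n + u 2 • E' := fun u => by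
    funext i; rw [SO3.mulVec_three]; simp [hQm]; ring
  have hform : ∀ u v, f (Qm *ᵥ u) (Qm *ᵥ v) = ν * SO3.B σ u v := fun u v => by
    simp only [hQv, hs.add_left, hs.add_right, hs.smul_left, hs.smul_right, hee, g01, g02, hne, ← hν, g12, g20, g21,
      g22, SO3.B_eval]
    ring
  have hQu : IsUnit Qm := by
    rw [← Matrix.mulVec_injective_iff_isUnit]
    intro u v huv
    have h : ∀ z, SO3.B σ u z = SO3.B σ v z := fun z => mul_left_cancel₀ hν0 (by rw [← hform, ← hform, huv])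
    have a0 := h SO3.e₂; have a1 := h SO3.e₁; have a2 := h SO3.e₀
    simp [SO3.B_eval, SO3.e₀, SO3.e₁, SO3.e₂] at a0 a1 a2
    funext i; fin_cases i <;> assumption
  obtain ⟨Q, hQ⟩ : ∃ Q : GL (Fin 3) F, (Q : M₃) = Qm := ⟨hQu.unit, rfl⟩
  have hQrat : ∀ u : Fin 3 → F, (∀ i, u i ∈ F₀) → MaxTv.Rat F₀ P (Qm *ᵥ u) := fun u hu => by
    rw [hQv]; exact ((he.smul (hu 0)).add (hn.smul (hu 1))).add (hE'.smul (hu 2))
  have hQinv : ∀ x, MaxTv.Rat F₀ P x → ∀ i, (((Q⁻¹ : GL (Fin 3) F) : M₃) *ᵥ x) i ∈ F₀ := fun x hx => by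
    obtain ⟨u, hu⟩ : ∃ u, u = ((Q⁻¹ : GL (Fin 3) F) : M₃) *ᵥ x := ⟨_, rfl⟩
    have hxu : x = Qm *ᵥ u := by rw [hu, ← hQ, mulVec_inv_cancel]
    have c0 : f x E' = ν * u 0 := by
      rw [hxu, hQv]; simp only [hs.add_left, hs.smul_left, g02, g12, g22]; ring
    have c1 : f x n = ν * u 1 := by
      rw [hxu, hQv]; simp only [hs.add_left, hs.smul_left, g01, g21, ← hν]; ring
    have c2 : f x e = ν * u 2 := by
      rw [hxu, hQv]; simp only [hs.add_left, hs.smul_left, hee, hne, g20]; ring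
    rw [← hu]
    have key : ∀ w, MaxTv.Rat F₀ P w → ∀ i, f x w = ν * u i → u i ∈ F₀ := fun w hw i hi => by
      have := div_mem (hr x w hx hw) hνF
      rwa [hi, mul_div_cancel_left₀ _ hν0] at this
    intro i; fin_cases i
    · exact key E' hE' 0 c0
    · exact key n hn 1 c1
    · exact key e he 2 c2
  refine isMaximalIn_intro inf_le_right (fun hle => ?_) fun M hHM hMK g hgM hgH => ?_
  · obtain ⟨c, hc0, hc⟩ := hs.exists_skew
    obtain ⟨t, ht, htx⟩ := exists_gu_tv hF (v := e) (hf ▸ hee) (hσ ▸ hc)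
    rw [← hf] at htx
    obtain ⟨a, ha, h⟩ := exists_of_mem_subfieldSubgroup (hle ht).1
    have h1 := h _ he
    rw [htx, hee, mul_zero, zero_smul, add_zero] at h1
    have haF : a ∈ F₀ := by
      have := hr _ _ h1 he'
      rwa [hs.smul_left, hee', mul_one] at this
    have h3 := ((h _ he').smul (inv_mem haF))
    rw [smul_smul, inv_mul_cancel₀ ha, one_smul, htx, he'e, mul_one] at h3
    have h4 := hr _ _ (h3.sub he') he'
    rw [add_sub_cancel_left, hs.smul_left, hee', mul_one] at h4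
    exact hc0 ((mul_eq_zero.1 (show (2 : F) * c = 0 by linear_combination hc - hfix c h4)).resolve_left h2)
  obtain ⟨M', hM'⟩ : ∃ M', M' = M.comap (MulAut.conj Q).toMonoidHom := ⟨_, rfl⟩
  have hmem : ∀ x, x ∈ M' ↔ Q * x * Q⁻¹ ∈ M := fun x => by rw [hM', Subgroup.mem_comap]; rfl
  have hiso : ∀ T ∈ M, ∀ x y, f ((T : M₃) *ᵥ x) ((T : M₃) *ᵥ y) = f x y := fun T hT => hf ▸ mem_GU.1 (hMK hT).1
  have hdetM : ∀ T ∈ M, (T : M₃).det = 1 := fun T hT => by
    have := MonoidHom.mem_ker.1 (hMK hT).2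
    exact congrArg Units.val this
  have hconjv : ∀ (x : GL (Fin 3) F) (u : Fin 3 → F), Qm *ᵥ ((x : M₃) *ᵥ u) =
      ((Q * x * Q⁻¹ : GL (Fin 3) F) : M₃) *ᵥ (Qm *ᵥ u) := fun x u => by
    rw [Units.val_mul, Units.val_mul, ← hQ, ← Matrix.mulVec_mulVec, ← Matrix.mulVec_mulVec, inv_mulVec_cancel]
  have hdet : ∀ x : GL (Fin 3) F, ((Q * x * Q⁻¹ : GL (Fin 3) F) : M₃).det = (x : M₃).det := fun x => by
    rw [Units.val_mul, Units.val_mul, Matrix.det_units_conj]
  have hc : SO3.Ctx σ q M' := {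
    seven := hq
    two := h2
    card := hF
    frob := hσpow
    invol := hs.invol
    moved := by
      obtain ⟨c, hc0, hc⟩ := hs.exists_skew
      refine ⟨c, fun e1 => hc0 ((mul_eq_zero.1 (show (2 : F) * c = 0 by linear_combination hc - e1)).resolve_left h2)⟩
    fixed := hnat
    skew := by
      obtain ⟨c, hc0, hc⟩ := hs.exists_skew
      have hσc : σ c = -c := by linear_combination hc
      rw [← hnat]
      exact Nat.card_congr
        { toFun := fun x => ⟨x.1 * c, by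
            rw [map_mul, hσc, show σ x.1 = -x.1 by linear_combination x.2]; ring⟩
          invFun := fun x => ⟨x.1 / c, by rw [map_div₀, hσc, x.2, div_neg, add_neg_cancel]⟩
          left_inv := fun x => Subtype.ext (by field_simp)
          right_inv := fun x => Subtype.ext (by field_simp) }
    iso := fun x hx u v => by
      refine mul_left_cancel₀ hν0 ?_
      rw [← hform, ← hform, hconjv, hconjv, hiso _ ((hmem x).1 hx)]
    det := fun x hx => by rw [← hdet]; exact hdetM _ ((hmem x).1 hx)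
    rat := fun x hxe hxd hxi => by
      refine (hmem x).2 (hHM ⟨mem_subfieldSubgroup_of one_ne_zero fun y hy => ?_, ?_, ?_⟩)
      · rw [one_smul, Units.val_mul, Units.val_mul, ← Matrix.mulVec_mulVec, ← Matrix.mulVec_mulVec, hQ]
        refine hQrat _ fun i => ?_
        rw [SO3.mulVec_three]
        exact add_mem (add_mem (mul_mem (hfixed _ (hxe i 0)) (hQinv y hy 0))
          (mul_mem (hfixed _ (hxe i 1)) (hQinv y hy 1))) (mul_mem (hfixed _ (hxe i 2)) (hQinv y hy 2))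
      · refine mem_GU.2 fun u v => ?_
        obtain ⟨u', rfl⟩ : ∃ u', u = Qm *ᵥ u' :=
          ⟨((Q⁻¹ : GL (Fin 3) F) : M₃) *ᵥ u, by rw [← hQ, mulVec_inv_cancel]⟩
        obtain ⟨v', rfl⟩ : ∃ v', v = Qm *ᵥ v' :=
          ⟨((Q⁻¹ : GL (Fin 3) F) : M₃) *ᵥ v, by rw [← hQ, mulVec_inv_cancel]⟩
        rw [← hconjv, ← hconjv, ← hf, hform, hform, hxi]
      · refine MonoidHom.mem_ker.2 (Units.ext ?_)
        show ((Q * x * Q⁻¹ : GL (Fin 3) F) : M₃).det = 1
        rw [hdet, hxd]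
    scal := fun ω hω3 hωN x hx => by
      have hω0 : ω ≠ 0 := fun e1 => by simp [e1] at hωN
      have hxc : ((Q * x * Q⁻¹ : GL (Fin 3) F) : M₃) = ω • 1 := by
        rw [Units.val_mul, Units.val_mul, hx, Matrix.mul_smul, Matrix.mul_one, Matrix.smul_mul, ← Units.val_mul,
          mul_inv_cancel, Units.val_one]
      refine (hmem x).2 (hHM ⟨mem_subfieldSubgroup_of (inv_ne_zero hω0) fun y hy => ?_, ?_, ?_⟩)
      · rw [hxc, Matrix.smul_mulVec, Matrix.one_mulVec, smul_smul, inv_mul_cancel₀ hω0, one_smul]; exact hy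
      · refine mem_GU.2 fun u v => ?_
        rw [hxc, Matrix.smul_mulVec, Matrix.smul_mulVec, Matrix.one_mulVec, Matrix.one_mulVec, ← hf, hs.smul_left,
          hs.smul_right, ← mul_assoc, hωN, one_mul]
      · refine MonoidHom.mem_ker.2 (Units.ext ?_)
        show ((Q * x * Q⁻¹ : GL (Fin 3) F) : M₃).det = 1
        rw [hxc, Matrix.det_smul, Matrix.det_one, mul_one, Fintype.card_fin, hω3] }
  obtain ⟨g', hg'⟩ : ∃ g', g' = Q⁻¹ * g * Q := ⟨_, rfl⟩
  have hg'M : g' ∈ M' := (hmem g').2 (by rw [hg']; simpa [mul_assoc] using hgM)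
  by_cases hn : SO3.NoTv σ M'
  · exfalso
    have hdiv : Nat.card M' ∣ q ^ 3 * (q ^ 3 + 1) * (q ^ 2 - 1) := by
      have e1 : Nat.card M' = Nat.card M := by
        rw [hM']
        exact Nat.card_congr ((MulAut.conj Q).toEquiv.subtypeEquiv fun x => Iff.rfl)
      rw [e1, ← card_gusl hF]
      exact Subgroup.card_dvd_of_le hMK
    rcases hc.rational_or_transitive hn hdiv hg'M with ⟨γ, hγ, hfx⟩ | htr
    · refine hgH ⟨mem_subfieldSubgroup_of hγ fun y hy => ?_, hMK hgM⟩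
      rw [show g = Q * g' * Q⁻¹ by rw [hg']; group, Units.val_mul, Units.val_mul, ← Matrix.mulVec_mulVec,
        ← Matrix.mulVec_mulVec, ← Matrix.mulVec_smul, ← Matrix.smul_mulVec, hQ]
      refine hQrat _ fun i => ?_
      rw [SO3.mulVec_three]
      exact add_mem (add_mem (mul_mem (hfixed _ (hfx i 0)) (hQinv y hy 0))
        (mul_mem (hfixed _ (hfx i 1)) (hQinv y hy 1))) (mul_mem (hfixed _ (hfx i 2)) (hQinv y hy 2))
    · exact hc.no_transitive hn htr
  · unfold SO3.NoTv at hn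
    push Not at hn
    obtain ⟨c, hcs, hct, hc0⟩ := hn
    obtain ⟨w, hw0, hww, hU⟩ := hc.upt_of_tv (fun e1 => by simpa [SO3.e₀] using congrFun e1 0)
      (by simp [SO3.B_eval, SO3.e₀]) hc0 hcs hct
    refine guSL_le_of_irr hF (by omega) (hf ▸ hiso) ?_ (a := Qm *ᵥ w) ?_ ?_ ?_
    · intro W hW
      obtain ⟨Z, hZ⟩ : ∃ Z, Z = W.comap (Matrix.toLin' Qm) := ⟨_, rfl⟩
      have hZm : ∀ u, u ∈ Z ↔ Qm *ᵥ u ∈ W := fun u => by rw [hZ, Submodule.mem_comap, Matrix.toLin'_apply]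
      rcases hc.irreducible Z (by
        rintro _ ⟨x, hx, rfl⟩ _ ⟨u, hu, rfl⟩
        rw [hZm, Matrix.toLin'_apply, hconjv]
        exact hW _ ⟨_, (hmem x).1 hx, rfl⟩
          (Submodule.mem_map_of_mem (f := Matrix.toLin' _) ((hZm u).1 hu))) with e1 | e1
      · refine Or.inl ((Submodule.eq_bot_iff _).2 fun y hy => ?_)
        have h1 : ((Q⁻¹ : GL (Fin 3) F) : M₃) *ᵥ y = 0 := by
          rw [← Submodule.mem_bot F, ← e1, hZm, ← hQ, mulVec_inv_cancel]; exact hy
        rw [← mulVec_inv_cancel Q y, h1, Matrix.mulVec_zero]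
      · refine Or.inr (eq_top_iff.2 fun y _ => ?_)
        have h1 : ((Q⁻¹ : GL (Fin 3) F) : M₃) *ᵥ y ∈ Z := e1 ▸ Submodule.mem_top
        rw [hZm, ← hQ, mulVec_inv_cancel] at h1
        exact h1
    · intro e1
      refine hw0 (Matrix.mulVec_injective_of_isUnit hQu ?_)
      show Qm *ᵥ w = Qm *ᵥ 0
      rw [e1, Matrix.mulVec_zero]
    · rw [← hf, hform, hww, mul_zero]
    · rw [← hσ, ← hf]
      intro d hd
      obtain ⟨T, hT, hTx⟩ := hU (d * ν) (by rw [map_mul, hσν]; linear_combination ν * hd)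
      refine ⟨Q * T * Q⁻¹, (hmem T).1 hT, fun y => ?_⟩
      obtain ⟨u, rfl⟩ : ∃ u, y = Qm *ᵥ u := ⟨((Q⁻¹ : GL (Fin 3) F) : M₃) *ᵥ y, by rw [← hQ, mulVec_inv_cancel]⟩
      rw [← hconjv, hTx, Matrix.mulVec_add, Matrix.mulVec_smul, hform]
      congr 2
      ring

end Cfsg.Agent.Classical.SUThree
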