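import Cfsg.Agent.Lib.Classical.DicksonGeneration
import Cfsg.Agent.Lib.Fus.SLTwoAdjoinFinite

/-!
Two opposite families of unitriangular matrices, whose products generate the field, generate `SL(2)` over a finite
field.
-/

set_option autoImplicit false

namespace Cfsg.Agent.Classical.SUThree

open Matrix Cfsg.Agent.Grp.SL2 Cfsg.Agent.PSL2Spec Cfsg.Agent.Dickson Cfsg.Agent.Fus.AdjoinSL

variable {L : Type*} [Field L] [Fintype L]

local notation "SL₂" => Matrix.SpecialLinearGroup (Fin 2) L

/-- In characteristic two: at least two upper translations and one lower one, the products generating the field. -/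
theorem eq_top_two [CharP L 2] {G : Subgroup SL₂} {a₁ a₂ b : L} (ha₁ : a₁ ≠ 0) (ha₂ : a₂ ≠ 0) (hne : a₁ ≠ a₂)
    (hb : b ≠ 0) (h1 : up a₁ ∈ G) (h2 : up a₂ ∈ G) (h3 : low b ∈ G)
    (hgen : ∀ K : Subfield L, (∀ a c : L, up a ∈ G → low c ∈ G → a * c ∈ K) → K = ⊤) : G = ⊤ := by
  classical
  haveI : Fact (Nat.Prime 2) := ⟨Nat.prime_two⟩
  have htwo : (2 : L) = 0 := CharTwo.two_eq_zero
  have hneg : ∀ g : SL₂, -g = g := fun g => Matrix.SpecialLinearGroup.ext (A := -g) (B := g) fun i j => by
    rw [Matrix.SpecialLinearGroup.coe_neg, Matrix.neg_apply, CharTwo.neg_eq]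
  have hu : ∀ t : L, (up t : SL₂) ^ 2 = 1 := fun t => by rw [up_pow, CharP.cast_eq_zero, zero_mul, up_zero]
  have hl : ∀ t : L, (low t : SL₂) ^ 2 = 1 := fun t => by rw [low_pow, CharP.cast_eq_zero, zero_mul, low_zero]
  have hu1 : proj (up a₁ : SL₂) ≠ 1 := fun e => by
    have e0 : (up a₁ : SL₂) = up 0 := by
      rw [up_zero]; exact (proj_one_iff.mp e).elim id fun e' => e'.trans (hneg 1)
    exact ha₁ (eq_of_up_eq (Or.inl e0.symm)).symm
  have hord : 2 ∣ Nat.card (G.map proj : Subgroup (Matrix.ProjectiveSpecialLinearGroup (Fin 2) L)) := by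
    exact (orderOf_eq_prime (x := proj (up a₁ : SL₂)) (p := 2) (by rw [← map_pow, hu, map_one]) hu1).symm.dvd.trans
      (Subgroup.orderOf_dvd_natCard _ (Subgroup.mem_map_of_mem _ h1))
  have htop : G.map proj = ⊤ := by
    rcases dickson 2 (G.map proj) with h | ⟨a, -, ha, hap, h⟩ | ⟨a, -, ha, hap, hidx, h, -⟩ |
      ⟨a, -, ha, hap, h⟩ | ⟨-, -, h⟩ | ⟨-, -, h⟩ | ⟨-, -, h⟩ | h
    · exact absurd (Subgroup.mem_bot.mp (h ▸ Subgroup.mem_map_of_mem _ h1)) hu1
    · exact absurd (h (Subgroup.mem_map_of_mem _ h1)) (not_uni_le_semi 2 ha hap ha₁)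
    · refine absurd ?_ (not_uni_le_semi 2 (s := a₁ + a₂) ha hap fun e => hne (CharTwo.add_eq_zero.1 e))
      have := (Subgroup.mul_mem_iff_of_index_two hidx (a := ⟨proj (up a₁), Subgroup.mem_map_of_mem _ h1⟩)
        (b := ⟨proj (up a₂), Subgroup.mem_map_of_mem _ h2⟩)).2
        (iff_of_false (fun k => not_uni_le_semi 2 ha hap ha₁ (Subgroup.mem_subgroupOf.1 k))
          fun k => not_uni_le_semi 2 ha hap ha₂ (Subgroup.mem_subgroupOf.1 k))
      rwa [Subgroup.mem_subgroupOf, Subgroup.coe_mul, ← map_mul, up_mul] at this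
    · exfalso
      have k1 : proj (up a₁) ∈ tor a :=
        mem_uni_tor 2 ha hap (h (Subgroup.mem_map_of_mem _ h1)) (by rw [← map_pow, hu, map_one])
      have k2 : proj (low b) ∈ tor a :=
        mem_uni_tor 2 ha hap (h (Subgroup.mem_map_of_mem _ h3)) (by rw [← map_pow, hl, map_one])
      have hc := ((pslData (F := L) 2).comm ha k1 k2).eq
      rw [← map_mul, ← map_mul] at hc
      have hc' : (up a₁ : SL₂) * low b = low b * up a₁ := (proj_eq_iff.mp hc).elim
        (fun e => e.symm) fun e => ((hneg _).symm.trans (congrArg (fun g => -g) e)).trans (by rw [neg_neg]) |>.symm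
      have := congrFun (congrFun (congrArg Subtype.val hc') 0) 0
      simp [Matrix.SpecialLinearGroup.coe_mul, coe_up, coe_low, Matrix.mul_apply, Fin.sum_univ_two] at this
      exact this.elim ha₁ hb
    · rcases h with h | h
      · exact absurd hord h
      · norm_num at h
    · exact absurd hord h
    · rcases h with h | h
      · exact absurd hord h
      · norm_num at h
    · haveI := finite_pgl (F := L)
      obtain ⟨K, P, -, hK⟩ := h
      have hle : (G.map proj).map Matrix.ProjectiveSpecialLinearGroup.toPGL ≤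
          ((pglMap K.subtype).range).map (MulAut.conj (Matrix.ProjGenLinGroup.mk P)).toMonoidHom := by
        rcases hK with hK | hK
        · exact hK.le
        · exact hK.le.trans (Subgroup.map_mono (pslImg_le _))
      have hKtop : K = ⊤ := hgen K fun a c ha hc => by
        have h4 := sq_tr_mem (hle (Subgroup.mem_map_of_mem _ (Subgroup.mem_map_of_mem _ (mul_mem ha hc))))
        have e : tr (up a * low c : SL₂) = a * c := by
          simp [tr, Matrix.SpecialLinearGroup.coe_mul, coe_up, coe_low, Matrix.mul_apply, Fin.sum_univ_two]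
          linear_combination htwo
        rw [e] at h4
        obtain ⟨k, hk⟩ := FiniteField.isSquare_of_char_two (F := K) (ringChar.eq K 2) ⟨_, h4⟩
        have hk' : (a * c) ^ 2 = (k : L) * k := congrArg Subtype.val hk
        rw [← sq] at hk'
        rw [show a * c = (k : L) from CharTwo.sq_injective hk']
        exact k.2
      subst hKtop
      refine Subgroup.eq_top_of_le_card _ ?_
      have e1 : Nat.card ((G.map proj).map Matrix.ProjectiveSpecialLinearGroup.toPGL) =
          Nat.card (G.map proj : Subgroup (Matrix.ProjectiveSpecialLinearGroup (Fin 2) L)) :=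
        Subgroup.card_map_of_injective Matrix.ProjectiveSpecialLinearGroup.toPGL_injective
      have e2 : (pslImg (⊤ : Subfield L).subtype).map (MulAut.conj (Matrix.ProjGenLinGroup.mk P)).toMonoidHom ≤
          (G.map proj).map Matrix.ProjectiveSpecialLinearGroup.toPGL := by
        rcases hK with hK | hK
        · rw [hK]; exact Subgroup.map_mono (pslImg_le _)
        · rw [hK]
      have e3 := Subgroup.card_le_of_le e2
      rw [e1, Subgroup.card_map_of_injective (MulEquiv.injective _)] at e3
      obtain ⟨f1⟩ := nonempty_pslImg (⊤ : Subfield L).subtype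
      obtain ⟨f2⟩ := nonempty_psl_congr (Subfield.topEquiv : (⊤ : Subfield L) ≃+* L)
      rw [Nat.card_congr (f1.trans f2).toEquiv] at e3
      exact e3
  refine eq_top_iff.2 fun g _ => ?_
  obtain ⟨y, hy, e⟩ := Subgroup.mem_map.mp (htop ▸ Subgroup.mem_top (proj g))
  rcases proj_eq_iff.mp e with e | e
  · rw [e]; exact hy
  · rw [e, hneg]; exact hy

/-- The upper translations from a subfield `k` and the lower ones from a multiple `k * α` give everything, when no
proper subfield contains `k` and `α`. -/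
theorem eq_top_of_families {k : Subfield L} (hk : 3 ≤ Nat.card k ∨ ringChar L ≠ 2) {α : L} (hα : α ≠ 0)
    (hsq : Nat.card k = 3 → α * α ≠ -1)
    (hgen : ∀ K : Subfield L, k ≤ K → α ∈ K → K = ⊤) {G : Subgroup SL₂}
    (hup : ∀ a ∈ k, up a ∈ G) (hlow : ∀ a ∈ k, low (a * α) ∈ G) : G = ⊤ := by
  classical
  obtain ⟨p, hp⟩ := CharP.exists L
  haveI : Fact p.Prime := ⟨CharP.char_is_prime L p⟩
  have h1α : low α ∈ G := by simpa using hlow 1 k.one_mem
  by_cases hp2 : p = 2
  · subst hp2
    have h3 : 3 ≤ Nat.card k := hk.resolve_right fun h => h (ringChar.eq L 2)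
    obtain ⟨a, ha⟩ : ∃ a : k, a ≠ 0 ∧ a ≠ 1 := by
      by_contra hc
      push Not at hc
      have hle : (Finset.univ : Finset k) ⊆ {0, 1} := fun x _ => by
        rw [Finset.mem_insert, Finset.mem_singleton]
        exact (em (x = 0)).imp_right (hc x)
      have := (Finset.card_le_card hle).trans Finset.card_le_two
      rw [Finset.card_univ, ← Nat.card_eq_fintype_card] at this
      omega
    refine eq_top_two (a₁ := 1) (a₂ := (a : L)) one_ne_zero (fun e => ha.1 (Subtype.ext e))
      (fun e => ha.2 (Subtype.ext e.symm)) hα (hup 1 k.one_mem) (hup _ a.2) h1α fun K hK => ?_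
    have hαK : α ∈ K := by simpa using hK 1 α (hup 1 k.one_mem) h1α
    refine hgen K (fun x hx => ?_) hαK
    have h := K.div_mem (hK x α (hup x hx) h1α) hαK
    rwa [mul_div_assoc, div_self hα, mul_one] at h
  have h2 : (2 : L) ≠ 0 := fun e => hp2 (((Nat.prime_dvd_prime_iff_eq (Fact.out : p.Prime) Nat.prime_two).1
    ((CharP.cast_eq_zero_iff L p 2).1 (by exact_mod_cast e))))
  by_cases hk3 : Nat.card k = 3
  · -- the prime field of three elements
    obtain ⟨w, hw⟩ : ∃ w : SL₂, (w : Matrix (Fin 2) (Fin 2) L) = !![0, 1; -1, 0] :=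
      ⟨⟨!![0, 1; -1, 0], by simp [Matrix.det_fin_two]⟩, rfl⟩
    set G' := G.comap (MulAut.conj w).toMonoidHom with hG'
    have hmem : ∀ x, x ∈ G' ↔ w * x * w⁻¹ ∈ G := fun x => Iff.rfl
    have hwu : ∀ t : L, w * up t * w⁻¹ = low (-t) := fun t => by
      rw [mul_inv_eq_iff_eq_mul]
      refine Subtype.ext ?_
      simp [Matrix.SpecialLinearGroup.coe_mul, hw, coe_up, coe_low, Matrix.mul_fin_two]
    have hwl : ∀ t : L, w * low t * w⁻¹ = up (-t) := fun t => by
      rw [mul_inv_eq_iff_eq_mul]
      refine Subtype.ext ?_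
      simp [Matrix.SpecialLinearGroup.coe_mul, hw, coe_up, coe_low, Matrix.mul_fin_two]
    have k1 : low (1 : L) ∈ G' := (hmem _).2 (hwl 1 ▸ hup _ (k.neg_mem k.one_mem))
    have k2 : up α ∈ G' := (hmem _).2 (hwu α ▸ by
      have := hlow _ (k.neg_mem k.one_mem)
      rwa [neg_one_mul] at this)
    have hcl : Subgroup.closure ({low 1, up α} : Set SL₂) ≤ G' :=
      (Subgroup.closure_le _).2 (Set.insert_subset k1 (Set.singleton_subset_iff.2 k2))
    have hgen' : Subfield.closure ({α} : Set L) = ⊤ := by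
      refine hgen _ (fun x hx => ?_) (Subfield.subset_closure rfl)
      haveI : Fintype k := Fintype.ofFinite _
      have h3 : x ^ 3 = x := by
        have h := congrArg Subtype.val (FiniteField.pow_card (⟨x, hx⟩ : k))
        rwa [← Nat.card_eq_fintype_card, hk3, SubmonoidClass.coe_pow] at h
      have h4 : x * ((x - 1) * (x + 1)) = 0 := by linear_combination h3
      rcases mul_eq_zero.1 h4 with h | h
      · rw [h]; exact zero_mem _
      · rcases mul_eq_zero.1 h with h | h
        · rw [sub_eq_zero.1 h]; exact one_mem _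
        · rw [eq_neg_of_add_eq_zero_left h]; exact neg_mem (one_mem _)
    rcases Gen.classify (p := p) h2 hα hgen' with h | ⟨-, h, -⟩
    · have hG : G' = ⊤ := by
        have hn1 : (-1 : SL₂) ∈ G' := hcl (Gen.neg_one_mem h2 (by
          rw [h, Nat.card_congr Subgroup.topEquiv.toEquiv]; exact Gen.even_card_psl h2))
        refine eq_top_iff.2 fun g _ => ?_
        obtain ⟨y, hy, e⟩ := Subgroup.mem_map.mp (h ▸ Subgroup.mem_top (proj g))
        rcases proj_eq_iff.mp e with e | e
        · rw [e]; exact hcl hy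
        · rw [e, ← neg_one_mul]; exact mul_mem hn1 (hcl hy)
      refine eq_top_iff.2 fun g _ => ?_
      have h4 := (hmem (w⁻¹ * g * w)).1 (hG ▸ Subgroup.mem_top _)
      rwa [show w * (w⁻¹ * g * w) * w⁻¹ = g by group] at h4
    · exact absurd h (hsq hk3)
  have htop : adjH k α = ⊤ :=
    adjH_eq_top_of_finite p hα hp2 hk3 fun K hc ha => hgen K (fun c hc' => hc ⟨c, hc'⟩) ha
  refine eq_top_iff.2 (htop ▸ ((Subgroup.closure_le G).2 ?_))
  rintro x (⟨c, rfl⟩ | ⟨c, rfl⟩)
  · exact hup _ c.2
  · exact hlow _ c.2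

end Cfsg.Agent.Classical.SUThree
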