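import Cfsg.Agent.Lib.Classical.SLThree.TwoFrame
import Cfsg.Agent.Lib.Classical.DicksonGeneration

/-!
A subgroup of `SL(2, K)` with a lower element and enough upper ones has all upper elements.
-/

set_option autoImplicit false
set_option linter.unusedSectionVars false

namespace Cfsg.Agent.Classical.SUThree

open Matrix Cfsg.Agent.Grp.SL2 Cfsg.Agent.PSL2Spec Cfsg.Agent.Dickson

variable {K : Type*} [Field K] [Fintype K]

local notation "SL₂" => Matrix.SpecialLinearGroup (Fin 2) K
local notation "PSL₂" => Matrix.ProjectiveSpecialLinearGroup (Fin 2) K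
local notation "M₂" => Matrix (Fin 2) (Fin 2) K

/-- The parameters of the upper elements. -/
def upPar (G : Subgroup SL₂) : AddSubgroup K where
  carrier := {x | up x ∈ G}
  zero_mem' := by show up (0 : K) ∈ G; rw [up_zero]; exact one_mem G
  add_mem' {a b} ha hb := by show up (a + b) ∈ G; rw [← up_mul]; exact mul_mem ha hb
  neg_mem' {a} ha := by
    show up (-a) ∈ G
    rw [show up (-a) = (up a)⁻¹ from eq_inv_of_mul_eq_one_left (by rw [up_mul, neg_add_cancel, up_zero])]
    exact inv_mem ha

theorem up_all {G : Subgroup SL₂} (hlow : low (1 : K) ∈ G) (h3 : 3 ≤ Nat.card (upPar G))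
    (hgen : ∀ K₁ : Subfield K, (∀ t ∈ upPar G, t ∈ K₁) → K₁ = ⊤)
    (hex : 4 ≤ Nat.card (upPar G) ∨ ∀ t ∈ upPar G, t * t ≠ -1) (t : K) : up t ∈ G := by
  classical
  obtain ⟨p, hcp⟩ := CharP.exists K
  haveI : Fact p.Prime := ⟨CharP.char_is_prime K p⟩
  obtain ⟨H, hH⟩ : ∃ H, H = G.map proj := ⟨_, rfl⟩
  have hsub : ∀ x ∈ upPar G, x ∈ SLThree.upSet H := fun x hx => hH ▸ Subgroup.mem_map_of_mem _ hx
  have hUle : Nat.card (upPar G) ≤ Nat.card (SLThree.upSet H) :=
    Nat.card_le_card_of_injective _ (AddSubgroup.inclusion_injective (fun x hx => hsub x hx))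
  suffices htop : H = ⊤ by
    obtain ⟨g, hg, hgu⟩ := Subgroup.mem_map.1 (hH ▸ htop ▸ Subgroup.mem_top (proj (up t)))
    rcases proj_eq_iff.1 hgu with e | e
    · rwa [e]
    by_cases h2 : (2 : K) = 0
    · have : CharP K 2 := CharTwo.of_one_ne_zero_of_two_eq_zero one_ne_zero h2
      have : up t = g := Subtype.ext (by rw [e, Matrix.SpecialLinearGroup.coe_neg]; simp [CharTwo.neg_eq])
      rwa [this]
    · rw [e, show -g = -1 * g by simp]
      exact mul_mem (Gen.neg_one_mem h2 (by
        rw [← hH, htop, Nat.card_congr Subgroup.topEquiv.toEquiv]; exact Gen.even_card_psl h2)) hg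
  rcases SLThree.subfieldType_or_small p H (h3.trans hUle) (y := low 1)
      (hH ▸ Subgroup.mem_map_of_mem _ hlow) (by simp [low]) with ⟨K₁, P, -, h⟩ | ⟨hp, hle, -⟩
  · haveI := finite_pgl (F := K)
    have hle : H.map Matrix.ProjectiveSpecialLinearGroup.toPGL ≤
        ((pglMap K₁.subtype).range).map (MulAut.conj (Matrix.ProjGenLinGroup.mk P)).toMonoidHom := by
      rcases h with h | h <;> rw [h]
      exact Subgroup.map_mono (pslImg_le _)
    have hge : ((pslImg K₁.subtype).map (MulAut.conj (Matrix.ProjGenLinGroup.mk P)).toMonoidHom) ≤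
        H.map Matrix.ProjectiveSpecialLinearGroup.toPGL := by
      rcases h with h | h <;> rw [h]
      exact Subgroup.map_mono (pslImg_le _)
    have hK : ∀ g ∈ G, tr g ^ 2 ∈ K₁ := fun g hg => by
      refine Gen.tr_sq_mem (P := P) (hle ?_)
      rw [hH]; exact Subgroup.mem_map_of_mem _ (Subgroup.mem_map_of_mem _ hg)
    have hmem : ∀ x ∈ upPar G, x ∈ K₁ := fun x hx => by
      have h1 := hK _ (mul_mem hlow hx)
      rw [Gen.tr_low_up] at h1
      by_cases h2 : (2 : K) = 0
      · have : CharP K 2 := CharTwo.of_one_ne_zero_of_two_eq_zero one_ne_zero h2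
        rw [h2, zero_add] at h1
        obtain ⟨b, hb⟩ := FiniteField.isSquare_of_char_two (F := K₁) (ringChar.eq K₁ 2) ⟨_, h1⟩
        have hb' : x ^ 2 = (b : K) ^ 2 := by rw [sq (b : K)]; exact congrArg Subtype.val hb
        rw [CharTwo.sq_injective hb']
        exact b.2
      · have h4 := hK _ (mul_mem hlow ((upPar G).neg_mem hx))
        rw [Gen.tr_low_up] at h4
        have h5 := K₁.sub_mem h1 h4
        have h2K : (2 : K) ∈ K₁ := by rw [← one_add_one_eq_two]; exact K₁.add_mem K₁.one_mem K₁.one_mem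
        have h6 := K₁.div_mem h5 (K₁.mul_mem (K₁.mul_mem h2K h2K) h2K)
        rwa [show ((2 + x) ^ 2 - (2 + -x) ^ 2) / (2 * 2 * 2) = x by field_simp; ring] at h6
    have htop := hgen K₁ hmem
    subst htop
    obtain ⟨j⟩ := nonempty_pslImg (Subfield.subtype (⊤ : Subfield K))
    obtain ⟨k⟩ := nonempty_psl_congr (Subfield.topEquiv : (⊤ : Subfield K) ≃+* K)
    refine Subgroup.eq_top_of_le_card _ ?_
    calc Nat.card PSL₂ = Nat.card (pslImg (Subfield.subtype (⊤ : Subfield K))) :=
        (Nat.card_congr (j.trans k).toEquiv).symm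
      _ = Nat.card ((pslImg (Subfield.subtype (⊤ : Subfield K))).map
          (MulAut.conj (Matrix.ProjGenLinGroup.mk P)).toMonoidHom) :=
        (Subgroup.card_map_of_injective (MulAut.conj _).injective).symm
      _ ≤ Nat.card (H.map Matrix.ProjectiveSpecialLinearGroup.toPGL) :=
        Nat.card_le_card_of_injective _ (Subgroup.inclusion_injective hge)
      _ = Nat.card H := Subgroup.card_map_of_injective Matrix.ProjectiveSpecialLinearGroup.toPGL_injective
  · subst hp
    have hcard : Nat.card (upPar G) = 3 := le_antisymm (hUle.trans hle) h3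
    have hne : ∀ x ∈ upPar G, x * x ≠ -1 := hex.resolve_left (by omega)
    have h2 : (2 : K) ≠ 0 := fun e => by
      have h3' : (3 : K) = 0 := by exact_mod_cast CharP.cast_eq_zero K 3
      exact one_ne_zero (α := K) (by linear_combination h3' - e)
    obtain ⟨⟨lam, hlam⟩, hlam0⟩ : ∃ x : upPar G, x ≠ 0 := by
      by_contra hc
      push Not at hc
      have : Subsingleton (upPar G) := ⟨fun a b => by rw [hc a, hc b]⟩
      rw [Nat.card_eq_one_iff_unique.2 ⟨this, ⟨0⟩⟩] at hcard
      omega
    have hlam0' : lam ≠ 0 := fun e => hlam0 (Subtype.ext e)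
    have hall : ∀ x ∈ upPar G, x ∈ Subfield.closure ({lam} : Set K) := fun x hx => by
      by_contra hxc
      have hinj : Function.Injective (![⟨0, zero_mem _⟩, ⟨lam, hlam⟩, ⟨-lam, neg_mem hlam⟩, ⟨x, hx⟩] : Fin 4 → upPar G) := by
        intro i j e
        have e' := congrArg Subtype.val e
        have hm : lam ∈ Subfield.closure ({lam} : Set K) := Subfield.subset_closure rfl
        fin_cases i <;> fin_cases j <;> simp at e' ⊢
        · exact hlam0' e'.symm
        · exact hlam0' e'
        · exact hxc (e' ▸ zero_mem _)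
        · exact hlam0' e'
        · exact hlam0' (mul_left_cancel₀ h2 (by linear_combination e'))
        · exact hxc (e' ▸ hm)
        · exact hlam0' e'
        · exact hlam0' (mul_left_cancel₀ h2 (by linear_combination -e'))
        · exact hxc (e' ▸ neg_mem hm)
        · exact hxc (e' ▸ zero_mem _)
        · exact hxc (e' ▸ hm)
        · exact hxc (e' ▸ neg_mem hm)
      have := Nat.card_le_card_of_injective _ hinj
      rw [Nat.card_fin] at this
      omega
    rcases Gen.classify (p := 3) h2 hlam0' (hgen _ hall) with e | ⟨-, e, -⟩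
    · refine eq_top_iff.2 ?_
      rw [← e, hH]
      refine Subgroup.map_mono ((Subgroup.closure_le _).2 ?_)
      rintro z (rfl | rfl)
      · exact hlow
      · exact hlam
    · exact absurd e (hne _ hlam)

end Cfsg.Agent.Classical.SUThree
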