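import Cfsg.Agent.Lib.Classical.SUThree.RootPair

/-!
Coordinates for the orthogonal subgroup of a three-dimensional unitary group.
-/

set_option autoImplicit false
set_option linter.unusedSectionVars false

namespace Cfsg.Agent.Classical.SUThree.SO3

open Matrix Module MaxTv

variable {F : Type*} [Field F] [Fintype F] (σ : F ≃+* F)

local notation "V" => (Fin 3 → F)
local notation "M₃" => Matrix (Fin 3) (Fin 3) F

/-- The Hermitian form with a hyperbolic frame. -/
def B (u v : Fin 3 → F) : F := u 0 * σ (v 2) + u 1 * σ (v 1) + u 2 * σ (v 0)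

/-- The subgroup in coordinates. -/
structure Ctx (q : ℕ) (M : Subgroup (GL (Fin 3) F)) : Prop where
  seven : 7 ≤ q
  two : (2 : F) ≠ 0
  card : Fintype.card F = q ^ 2
  frob : ∀ x : F, σ x = x ^ q
  invol : ∀ x, σ (σ x) = x
  moved : ∃ x, σ x ≠ x
  fixed : Nat.card {x : F // σ x = x} = q
  skew : Nat.card {x : F // x + σ x = 0} = q
  iso : ∀ g ∈ M, ∀ u v, B σ ((g : M₃) *ᵥ u) ((g : M₃) *ᵥ v) = B σ u v
  det : ∀ g ∈ M, (g : M₃).det = 1
  rat : ∀ g : GL (Fin 3) F, (∀ i j, σ ((g : M₃) i j) = (g : M₃) i j) → (g : M₃).det = 1 →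
    (∀ u v, B σ ((g : M₃) *ᵥ u) ((g : M₃) *ᵥ v) = B σ u v) → g ∈ M
  scal : ∀ ω : F, ω ^ 3 = 1 → ω * σ ω = 1 → ∀ g : GL (Fin 3) F, (g : M₃) = ω • 1 → g ∈ M

variable {σ} {q : ℕ} {M : Subgroup (GL (Fin 3) F)}

theorem B_eval (u v : Fin 3 → F) : B σ u v = u 0 * σ (v 2) + u 1 * σ (v 1) + u 2 * σ (v 0) := rfl

/-- The first basis vector. -/
def e₀ : Fin 3 → F := ![1, 0, 0]
/-- The second basis vector. -/
def e₁ : Fin 3 → F := ![0, 1, 0]
/-- The third basis vector. -/
def e₂ : Fin 3 → F := ![0, 0, 1]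

theorem mulVec_three (g : M₃) (u : Fin 3 → F) (i : Fin 3) : (g *ᵥ u) i = g i 0 * u 0 + g i 1 * u 1 + g i 2 * u 2 := by
  simp [Matrix.mulVec, dotProduct, Fin.sum_univ_three]

theorem mulVec_e₀ (g : M₃) : g *ᵥ e₀ = fun i => g i 0 := funext fun i => by simp [mulVec_three, e₀]

theorem mulVec_e₁ (g : M₃) : g *ᵥ e₁ = fun i => g i 1 := funext fun i => by simp [mulVec_three, e₁]

theorem mulVec_e₂ (g : M₃) : g *ᵥ e₂ = fun i => g i 2 := funext fun i => by simp [mulVec_three, e₂]

/-- An element of determinant one as an element of the general linear group. -/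
noncomputable def gl3 (A : M₃) (hA : A.det = 1) : GL (Fin 3) F :=
  Matrix.GeneralLinearGroup.mkOfDetNeZero A (by rw [hA]; exact one_ne_zero)

theorem coe_gl3 (A : M₃) (hA : A.det = 1) : ((gl3 A hA : GL (Fin 3) F) : M₃) = A := rfl

/-- The unipotent matrices. -/
def upMat (a b α : F) : M₃ := !![1, a, b; 0, 1, α; 0, 0, 1]

/-- The rational unipotent matrices. -/
def eMat (α : F) : M₃ := upMat (-α) (-(α * α) / 2) α

/-- The split torus. -/
def tMat (t : F) : M₃ := !![t, 0, 0; 0, 1, 0; 0, 0, t⁻¹]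

/-- The element interchanging the ends. -/
def wMat : M₃ := !![0, 0, 1; 0, -1, 0; 1, 0, 0]

theorem upMat_mul (a b α a' b' α' : F) :
    upMat a b α * upMat a' b' α' = upMat (a + a') (b + b' + a * α') (α + α') := by
  ext i j; fin_cases i <;> fin_cases j <;> simp [upMat, Matrix.mul_apply, Fin.sum_univ_three] <;> ring

theorem upMat_zero : upMat (0 : F) 0 0 = 1 := by
  ext i j; fin_cases i <;> fin_cases j <;> simp [upMat]

theorem det_upMat (a b α : F) : (upMat a b α).det = 1 := by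
  simp [upMat, Matrix.det_fin_three]

theorem det_eMat (α : F) : (eMat α).det = 1 := det_upMat _ _ _

theorem det_tMat {t : F} (ht : t ≠ 0) : (tMat t).det = 1 := by
  simp [tMat, Matrix.det_fin_three, ht]

theorem det_wMat : (wMat : M₃).det = 1 := by
  simp [wMat, Matrix.det_fin_three]

theorem upMat_mulVec (a b α : F) (u : Fin 3 → F) :
    upMat a b α *ᵥ u = ![u 0 + a * u 1 + b * u 2, u 1 + α * u 2, u 2] := by
  funext i; rw [mulVec_three]; fin_cases i <;> simp [upMat]

theorem eMat_mulVec (α : F) (u : Fin 3 → F) :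
    eMat α *ᵥ u = ![u 0 + -α * u 1 + -(α * α) / 2 * u 2, u 1 + α * u 2, u 2] := upMat_mulVec _ _ _ u

theorem tMat_mulVec (t : F) (u : Fin 3 → F) : tMat t *ᵥ u = ![t * u 0, u 1, t⁻¹ * u 2] := by
  funext i; rw [mulVec_three]; fin_cases i <;> simp [tMat]

theorem wMat_mulVec (u : Fin 3 → F) : wMat *ᵥ u = ![u 2, -u 1, u 0] := by
  funext i; rw [mulVec_three]; fin_cases i <;> simp [wMat]

theorem eMat_mul (h2 : (2 : F) ≠ 0) (α β : F) : eMat α * eMat β = eMat (α + β) := by
  rw [eMat, eMat, eMat, upMat_mul]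
  congr 1 <;> (try field_simp) <;> ring

namespace Ctx

variable (hc : Ctx σ q M)
include hc

theorem ne_refl : σ ≠ RingEquiv.refl F := fun e => by
  obtain ⟨x, hx⟩ := hc.moved
  exact hx (by rw [e]; rfl)

theorem herm : Herm σ (B σ) where
  add_left u u' v := by simp only [B_eval, Pi.add_apply]; ring
  smul_left c u v := by simp only [B_eval, Pi.smul_apply, smul_eq_mul]; ring
  add_right v x y := by simp only [B_eval, Pi.add_apply, map_add]; ring
  smul_right c v x := by simp only [B_eval, Pi.smul_apply, smul_eq_mul, map_mul]; ring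
  eq_zero w hw := by
    have h0 := hw e₂; have h1 := hw e₁; have h2 := hw e₀
    simp [B_eval, e₀, e₁, e₂] at h0 h1 h2
    funext i; fin_cases i <;> assumption
  refl v w h := by
    have h' := congrArg σ h
    simp only [B_eval, map_add, map_mul, hc.invol, map_zero] at h'
    rw [B_eval]; linear_combination h'
  invol := hc.invol
  ne_refl := hc.ne_refl
  herm v w := by simp only [B_eval, map_add, map_mul, hc.invol]; ring

theorem two_fix : σ (2 : F) = 2 := map_ofNat σ 2

theorem eMat_iso {α : F} (hα : σ α = α) (u v : Fin 3 → F) : B σ (eMat α *ᵥ u) (eMat α *ᵥ v) = B σ u v := by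
  have h2 := hc.two
  simp only [B_eval, mulVec_three]
  simp [eMat, upMat, hα, hc.two_fix]
  field_simp
  ring

theorem eMat_mem {α : F} (hα : σ α = α) : gl3 (eMat α) (det_eMat α) ∈ M := by
  refine hc.rat _ (fun i j => ?_) (det_eMat α) (hc.eMat_iso hα)
  rw [coe_gl3]
  fin_cases i <;> fin_cases j <;> simp [eMat, upMat, hα, hc.two_fix]

theorem tMat_iso {t : F} (ht0 : t ≠ 0) (ht : σ t = t) (u v : Fin 3 → F) :
    B σ (tMat t *ᵥ u) (tMat t *ᵥ v) = B σ u v := by
  simp only [B_eval, mulVec_three]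
  simp [tMat, ht]
  field_simp

theorem tMat_mem {t : F} (ht0 : t ≠ 0) (ht : σ t = t) : gl3 (tMat t) (det_tMat ht0) ∈ M := by
  refine hc.rat _ (fun i j => ?_) (det_tMat ht0) (hc.tMat_iso ht0 ht)
  rw [coe_gl3]
  fin_cases i <;> fin_cases j <;> simp [tMat, ht]

theorem wMat_mem : gl3 (wMat : M₃) det_wMat ∈ M := by
  refine hc.rat _ (fun i j => ?_) det_wMat fun u v => ?_
  · rw [coe_gl3]; fin_cases i <;> fin_cases j <;> simp [wMat]
  · rw [coe_gl3]; simp only [B_eval, mulVec_three]; simp [wMat]; ring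

/-- The subgroup acts irreducibly. -/
theorem irreducible : Geo.ActsIrreducibly (Geo.matrixSet M) := by
  intro W hW
  have hmem : ∀ g ∈ M, ∀ w ∈ W, (g : M₃) *ᵥ w ∈ W := fun g hg w hw =>
    hW _ ⟨g, hg, rfl⟩ (Submodule.mem_map_of_mem (f := Matrix.toLin' (g : M₃)) hw)
  by_cases hbot : W = ⊥
  · exact Or.inl hbot
  right
  obtain ⟨w, hw, hw0⟩ := W.ne_bot_iff.1 hbot
  have hE : ∀ u ∈ W, eMat (1 : F) *ᵥ u - u ∈ W := fun u hu =>
    W.sub_mem (hmem _ (hc.eMat_mem (map_one σ)) u hu) hu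
  have he0 : e₀ ∈ W := by
    by_cases h2 : w 2 = 0
    · by_cases h1 : w 1 = 0
      · have h0 : w 0 ≠ 0 := fun h0 => hw0 (funext fun i => by fin_cases i <;> assumption)
        refine (W.smul_mem_iff h0).1 ?_
        convert hw using 1
        funext i; fin_cases i <;> simp [e₀, h1, h2]
      · refine (W.smul_mem_iff (neg_ne_zero.2 h1)).1 ?_
        convert hE w hw using 1
        funext i; fin_cases i <;> simp [e₀, eMat_mulVec, h2]
    · refine (W.smul_mem_iff (neg_ne_zero.2 h2)).1 ?_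
      convert hE _ (hE w hw) using 1
      have := hc.two
      have hd : eMat (1 : F) *ᵥ w - w = ![-w 1 + -(1 * 1) / 2 * w 2, w 2, 0] := by
        rw [eMat_mulVec]; funext i; fin_cases i <;> simp <;> ring
      rw [hd, eMat_mulVec]
      funext i; fin_cases i <;> simp [e₀]
      all_goals ring
  have he2 : e₂ ∈ W := by
    convert hmem _ hc.wMat_mem _ he0 using 1
    funext i; fin_cases i <;> simp [e₀, e₂, coe_gl3, wMat_mulVec]
  have he1 : e₁ ∈ W := by
    have h := W.add_mem (hE _ he2) (W.smul_mem (1 / 2 : F) he0)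
    convert h using 1
    have := hc.two
    funext i; fin_cases i <;> simp [e₀, e₁, e₂, eMat_mulVec] <;> ring
  refine eq_top_iff.2 fun x _ => ?_
  have hx : x = x 0 • e₀ + x 1 • e₁ + x 2 • e₂ := by funext i; fin_cases i <;> simp [e₀, e₁, e₂]
  rw [hx]
  exact W.add_mem (W.add_mem (W.smul_mem _ he0) (W.smul_mem _ he1)) (W.smul_mem _ he2)

end Ctx

end Cfsg.Agent.Classical.SUThree.SO3
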