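import Cfsg.Agent.Lib.Classical.SUThree.SOThreeBase

/-!
The stabiliser of a rational isotropic point, without transvections.
-/

set_option autoImplicit false
set_option linter.unusedSectionVars false

namespace Cfsg.Agent.Classical.SUThree.SO3

open Matrix Module MaxTv

variable {F : Type*} [Field F] [Fintype F] {σ : F ≃+* F} {q : ℕ} {M : Subgroup (GL (Fin 3) F)}

local notation "M₃" => Matrix (Fin 3) (Fin 3) F

/-- No transvection is centred at the first basis vector. -/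
def NoTv (σ : F ≃+* F) (M : Subgroup (GL (Fin 3) F)) : Prop :=
  ∀ c, c + σ c = 0 → InN M (qDisp (B σ) e₀ c) → c = 0

namespace Ctx

variable (hc : Ctx σ q M)
include hc

theorem center_zero (hn : NoTv σ M) {d : F} (hd : d + σ d = 0) {Y : GL (Fin 3) F} (hY : Y ∈ M)
    (hYm : (Y : M₃) = upMat 0 d 0) : d = 0 := by
  refine hn d hd ⟨Y, hY, fun x => ?_⟩
  rw [hYm, upMat_mulVec]
  funext i; fin_cases i <;> simp [qDisp, B_eval, e₀]

theorem unip_rat (hn : NoTv σ M) {X : GL (Fin 3) F} (hX : X ∈ M) {a b α : F}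
    (hXm : (X : M₃) = upMat a b α) : σ α = α ∧ (X : M₃) = eMat α := by
  have h2 := hc.two
  have h12 := hc.iso X hX e₁ e₂
  have h22 := hc.iso X hX e₂ e₂
  rw [hXm] at h12 h22
  simp [B_eval, upMat_mulVec, e₁, e₂] at h12 h22
  obtain ⟨E, hE, hEm⟩ : ∃ E ∈ M, (E : M₃) = eMat (1 : F) := ⟨_, hc.eMat_mem (map_one σ), coe_gl3 _ _⟩
  obtain ⟨Y, hYd⟩ : ∃ Y, Y = E * X * (X * E)⁻¹ := ⟨_, rfl⟩
  have hYM : Y ∈ M := hYd ▸ mul_mem (mul_mem hE hX) (inv_mem (mul_mem hX hE))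
  have hYm : (Y : M₃) = upMat 0 (-α - a) 0 := by
    have h1 : upMat 0 (-α - a) 0 * ((X * E : GL (Fin 3) F) : M₃) = ((E * X : GL (Fin 3) F) : M₃) := by
      rw [Units.val_mul, Units.val_mul, hXm, hEm, eMat, upMat_mul, upMat_mul, upMat_mul]
      congr 1 <;> ring
    rw [hYd, Units.val_mul, ← h1, Matrix.mul_assoc, ← Units.val_mul, mul_inv_cancel, Units.val_one, Matrix.mul_one]
  have hd0 := hc.center_zero hn (by
    have h := congrArg σ h12
    simp [hc.invol] at h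
    rw [map_sub, map_neg]
    linear_combination -h12 - h) hYM hYm
  have hα : σ α = α := by linear_combination h12 + hd0
  refine ⟨hα, ?_⟩
  obtain ⟨E', hE', hE'm⟩ : ∃ E ∈ M, (E : M₃) = eMat (-α) :=
    ⟨_, hc.eMat_mem (by rw [map_neg, hα]), coe_gl3 _ _⟩
  have hm : ((X * E' : GL (Fin 3) F) : M₃) = upMat 0 (b + α * α / 2) 0 := by
    rw [Units.val_mul, hXm, hE'm, eMat, upMat_mul]
    have ha : a = -α := by linear_combination -hd0
    rw [ha]
    congr 1 <;> (try field_simp) <;> ring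
  have hb := hc.center_zero hn (by
    rw [map_add, map_div₀, map_mul, hα, hc.two_fix]
    field_simp
    rw [hα] at h22
    linear_combination 2 * h22) (mul_mem hX hE') hm
  rw [hXm, eMat]
  have ha : a = -α := by linear_combination -hd0
  have hb' : b = -(α * α) / 2 := by linear_combination hb
  rw [ha, hb']

theorem point_stab (hn : NoTv σ M) {m : GL (Fin 3) F} (hm : m ∈ M) (h10 : (m : M₃) 1 0 = 0)
    (h20 : (m : M₃) 2 0 = 0) :
    ∃ γ t α : F, γ ^ 3 = 1 ∧ γ * σ γ = 1 ∧ t ≠ 0 ∧ σ t = t ∧ σ α = α ∧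
      (m : M₃) = γ • (tMat t * eMat α) := by
  have h2 := hc.two
  obtain ⟨μ, hμ⟩ : ∃ μ, μ = (m : M₃) 0 0 := ⟨_, rfl⟩
  obtain ⟨γ, hγ⟩ : ∃ γ, γ = (m : M₃) 1 1 := ⟨_, rfl⟩
  have hdet := hc.det m hm
  have h01 := hc.iso m hm e₀ e₁
  have h02 := hc.iso m hm e₀ e₂
  have h11 := hc.iso m hm e₁ e₁
  simp [B_eval, mulVec_e₀, mulVec_e₁, mulVec_e₂, h10, h20, ← hμ, ← hγ] at h01 h02 h11
  simp [e₀, e₁, e₂] at h01 h02 h11
  have hμ0 : μ ≠ 0 := fun e => by simp [e] at h02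
  have h21 : (m : M₃) 2 1 = 0 := h01.resolve_left hμ0
  rw [h21] at h11
  simp at h11
  have hσμ : σ μ ≠ 0 := σ.map_ne_zero_iff.2 hμ0
  have h22 : (m : M₃) 2 2 * σ μ = 1 := by
    have := congrArg σ h02
    simp [hc.invol] at this
    linear_combination this
  rw [Matrix.det_fin_three, h10, h20, h21, ← hμ, ← hγ] at hdet
  simp at hdet
  have h220 : (m : M₃) 2 2 ≠ 0 := fun e => by simp [e] at h22
  have hγμ : γ * μ = σ μ := by linear_combination σ μ * hdet - μ * γ * h22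
  obtain ⟨E, hE, hEm⟩ : ∃ E ∈ M, (E : M₃) = eMat (1 : F) := ⟨_, hc.eMat_mem (map_one σ), coe_gl3 _ _⟩
  obtain ⟨X, hXd⟩ : ∃ X, X = m * E * m⁻¹ := ⟨_, rfl⟩
  have hXM : X ∈ M := hXd ▸ mul_mem (mul_mem hm hE) (inv_mem hm)
  have hXe : (X : M₃) * (m : M₃) = (m : M₃) * eMat 1 := by
    rw [← hEm, ← Units.val_mul, ← Units.val_mul, hXd, inv_mul_cancel_right]
  have k := fun i j => congrFun (congrFun hXe i) j
  simp only [Matrix.mul_apply, Fin.sum_univ_three, eMat, upMat] at k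
  have c00 : (X : M₃) 0 0 = 1 := by
    have := k 0 0; simp [h10, h20, ← hμ] at this; exact mul_right_cancel₀ hμ0 (by linear_combination this)
  have c10 : (X : M₃) 1 0 = 0 := by
    have := k 1 0; simp [h10, h20, ← hμ, hμ0] at this; exact this
  have c20 : (X : M₃) 2 0 = 0 := by
    have := k 2 0; simp [h10, h20, ← hμ, hμ0] at this; exact this
  have hγ0 : γ ≠ 0 := fun e => by simp [e] at h11
  have c11 : (X : M₃) 1 1 = 1 := by
    have := k 1 1; simp [c10, h10, h21, ← hγ] at this; exact mul_right_cancel₀ hγ0 (by linear_combination this)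
  have c21 : (X : M₃) 2 1 = 0 := by
    have := k 2 1; simp [c20, h20, h21, ← hγ, hγ0] at this; exact this
  have c22 : (X : M₃) 2 2 = 1 := by
    have := k 2 2; simp [c20, c21, h20, h21] at this; exact mul_right_cancel₀ h220 (by linear_combination this)
  have c12 : (X : M₃) 1 2 = γ * σ μ := by
    have := k 1 2; simp [c10, c11, h10, ← hγ] at this
    linear_combination σ μ * this - (X : M₃) 1 2 * h22
  have hXm : (X : M₃) = upMat ((X : M₃) 0 1) ((X : M₃) 0 2) (γ * σ μ) := by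
    ext i j; fin_cases i <;> fin_cases j <;> simp [upMat, c00, c10, c20, c11, c21, c22, c12]
  obtain ⟨hfix, -⟩ := hc.unip_rat hn hXM hXm
  rw [map_mul, hc.invol] at hfix
  have hg3 : γ ^ 3 = 1 := by
    have e1 : σ γ * μ * γ = γ * σ μ * γ := by rw [hfix]
    have e2 : μ * (1 - γ ^ 3) = 0 := by linear_combination e1 - μ * h11 - γ ^ 2 * hγμ
    linear_combination -((mul_eq_zero.1 e2).resolve_left hμ0)
  obtain ⟨t, htd⟩ : ∃ t, t = μ / γ := ⟨_, rfl⟩
  have ht0 : t ≠ 0 := htd ▸ div_ne_zero hμ0 hγ0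
  have hσt : σ t = t := by
    rw [htd, map_div₀, div_eq_div_iff (σ.map_ne_zero_iff.2 hγ0) hγ0]
    refine mul_left_cancel₀ hγ0 ?_
    linear_combination -μ * h11 - γ ^ 2 * hγμ + μ * hg3
  obtain ⟨S, hS⟩ : ∃ S : GL (Fin 3) F, (S : M₃) = γ • 1 :=
    ⟨Matrix.GeneralLinearGroup.scalar (Fin 3) (Units.mk0 γ hγ0), by
      simp [Matrix.GeneralLinearGroup.coe_scalar, Matrix.smul_one_eq_diagonal]⟩
  have hSM : S ∈ M := hc.scal γ hg3 h11 S hS
  obtain ⟨T, hT, hTm⟩ : ∃ T ∈ M, (T : M₃) = tMat t := ⟨_, hc.tMat_mem ht0 hσt, coe_gl3 _ _⟩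
  obtain ⟨m', hm'd⟩ : ∃ m', m' = T⁻¹ * S⁻¹ * m := ⟨_, rfl⟩
  have hm'M : m' ∈ M := hm'd ▸ mul_mem (mul_mem (inv_mem hT) (inv_mem hSM)) hm
  have hdec : (m : M₃) = γ • (tMat t * (m' : M₃)) := by
    rw [← hTm, ← Units.val_mul, show m = S * (T * m') by rw [hm'd]; group, Units.val_mul, hS, Matrix.smul_mul,
      Matrix.one_mul]
  have k' := fun i j => congrFun (congrFun hdec i) j
  simp only [Matrix.smul_apply, Matrix.mul_apply, Fin.sum_univ_three, tMat, smul_eq_mul] at k'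
  have d00 : (m' : M₃) 0 0 = 1 := by
    have := k' 0 0; simp [← hμ, htd] at this
    field_simp at this
    exact this.symm
  have d10 : (m' : M₃) 1 0 = 0 := by have := k' 1 0; simp [h10, hγ0] at this; exact this
  have d20 : (m' : M₃) 2 0 = 0 := by have := k' 2 0; simp [h20, hγ0, ht0] at this; exact this
  have d11 : (m' : M₃) 1 1 = 1 := by
    have := k' 1 1; simp [← hγ] at this; exact mul_left_cancel₀ hγ0 (by linear_combination -this)
  have d21 : (m' : M₃) 2 1 = 0 := by have := k' 2 1; simp [h21, hγ0, ht0] at this; exact this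
  have d22 : (m' : M₃) 2 2 = 1 := by
    have h := hc.iso m' hm'M e₀ e₂
    simp [B_eval, mulVec_e₀, mulVec_e₂, d00, d10, d20] at h
    simp [e₀, e₂] at h
    exact h
  have hm'm : (m' : M₃) = upMat ((m' : M₃) 0 1) ((m' : M₃) 0 2) ((m' : M₃) 1 2) := by
    ext i j; fin_cases i <;> fin_cases j <;> simp [upMat, d00, d10, d20, d11, d21, d22]
  obtain ⟨α, hαd⟩ : ∃ α, α = (m' : M₃) 1 2 := ⟨_, rfl⟩
  rw [← hαd] at hm'm
  obtain ⟨hα, hE'⟩ := hc.unip_rat hn hm'M hm'm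
  exact ⟨γ, t, α, hg3, h11, ht0, hσt, hα, by rw [hdec, hE']⟩

end Ctx

end Cfsg.Agent.Classical.SUThree.SO3
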