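import Cfsg.Agent.Lib.Classical.SUThree.SOThreePoint

/-!
Rotations about an axis of minus type.
-/

set_option autoImplicit false
set_option linter.unusedSectionVars false

namespace Cfsg.Agent.Classical.SUThree.SO3

open Matrix Module MaxTv

variable {F : Type*} [Field F] [Fintype F] {σ : F ≃+* F} {q : ℕ} {M : Subgroup (GL (Fin 3) F)}

local notation "M₃" => Matrix (Fin 3) (Fin 3) F

/-- The reflection fixing `(1, 0, s)`, negated. -/
def sMat (s : F) : M₃ := !![0, 0, s⁻¹; 0, -1, 0; s, 0, 0]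

/-- A rotation about `(1, 0, s)`. -/
def rMat (s a b : F) : M₃ :=
  !![(1 + a) / 2, b, (1 - a) / (2 * s); s * b, a, -b; s * (1 - a) / 2, -(s * b), (1 + a) / 2]

/-- The infinitesimal rotation. -/
def jMat (s : F) : M₃ := !![0, 1, 0; s, 0, -1; 0, -s, 0]

theorem rMat_eq (s a b : F) (h2 : (2 : F) ≠ 0) (hs : s ≠ 0) :
    rMat s a b = (1 / 2 : F) • (1 + sMat s) + a • ((1 / 2 : F) • (1 - sMat s)) + b • jMat s := by
  ext i j
  fin_cases i <;> fin_cases j <;> simp [rMat, sMat, jMat] <;> field_simp <;> ring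

theorem det_rMat (h2 : (2 : F) ≠ 0) {s a b : F} (hs : s ≠ 0) (hab : a * a - 2 * s * b * b = 1) :
    (rMat s a b).det = 1 := by
  simp [rMat, Matrix.det_fin_three]
  field_simp
  linear_combination 4 * hab

theorem det_sMat {s : F} (hs : s ≠ 0) : (sMat s).det = 1 := by
  simp [sMat, Matrix.det_fin_three, hs]

namespace Ctx

variable (hc : Ctx σ q M)
include hc

theorem sMat_mem {s : F} (hs : s ≠ 0) (hσs : σ s = s) : gl3 (sMat s) (det_sMat hs) ∈ M := by
  refine hc.rat _ (fun i j => ?_) (det_sMat hs) fun u v => ?_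
  · rw [coe_gl3]; fin_cases i <;> fin_cases j <;> simp [sMat, hσs]
  · rw [coe_gl3]
    simp only [B_eval, mulVec_three]
    simp [sMat, hσs]
    field_simp
    ring

theorem rMat_mem {s a b : F} (hs : s ≠ 0) (hσs : σ s = s) (hσa : σ a = a) (hσb : σ b = b)
    (hab : a * a - 2 * s * b * b = 1) : gl3 (rMat s a b) (det_rMat hc.two hs hab) ∈ M := by
  refine hc.rat _ (fun i j => ?_) (det_rMat hc.two hs hab) fun u v => ?_
  · rw [coe_gl3]; fin_cases i <;> fin_cases j <;> simp [rMat, hσs, hσa, hσb, hc.two_fix]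
  · rw [coe_gl3]
    have h2 := hc.two
    simp only [B_eval, mulVec_three]
    simp [rMat, hσs, hσa, hσb, hc.two_fix]
    field_simp
    linear_combination (u 0 * σ (v 0) * s ^ 2 * -2 + u 0 * σ (v 2) * s * 2 + u 2 * σ (v 0) * s * 2 +
      u 1 * σ (v 1) * s * 4 + u 2 * σ (v 2) * -2) * hab

/-- The norm-one elements. -/
theorem card_normOne : Nat.card {z : F // z * σ z = 1} = q + 1 := by
  classical
  have hq := hc.seven
  have h := IsCyclic.card_powMonoidHom_ker (G := Fˣ) (d := q + 1)
  rw [Nat.card_eq_fintype_card (α := Fˣ), Fintype.card_units, hc.card, Nat.gcd_eq_right ?_] at h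
  swap
  · exact ⟨q - 1, by rw [← Nat.sq_sub_sq q 1, one_pow]⟩
  refine Eq.trans (Nat.card_congr ?_) h
  refine
    { toFun := fun z => ⟨Units.mk0 z.1 (fun e => by have := z.2; simp [e] at this), ?_⟩
      invFun := fun u => ⟨(u.1 : F), ?_⟩
      left_inv := fun z => rfl
      right_inv := fun u => Subtype.ext (Units.ext rfl) }
  · show _ ^ (q + 1) = (1 : Fˣ)
    exact Units.ext (by have := z.2; rw [hc.frob] at this; simpa [pow_succ, mul_comm] using this)
  · have h1 : ((u.1 : Fˣ) : F) ^ (q + 1) = 1 := by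
      rw [← Units.val_pow_eq_pow_val]; exact congrArg Units.val u.2
    rw [hc.frob, ← pow_succ']; exact h1

/-- A non-square of the fixed field, and a skew square root. -/
theorem exists_nonsquare : ∃ κ d : F, σ κ = κ ∧ κ ≠ 0 ∧ d * d = κ ∧ σ d = -d ∧ ∀ y, σ y = y → y * y ≠ κ := by
  classical
  have : Fintype (fixSub σ) := Fintype.ofFinite _
  have h2 := hc.two
  have hchar : ringChar (fixSub σ) ≠ 2 := fun e => h2 (by
    have h : ((2 : ℕ) : fixSub σ) = 0 := by rw [← e]; exact ringChar.Nat.cast_ringChar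
    simpa [map_ofNat] using congrArg (fixSub σ).subtype h)
  obtain ⟨⟨κ, hκ⟩, hns⟩ := FiniteField.exists_nonsquare hchar
  have hns' : ∀ y, σ y = y → y * y ≠ κ := fun y hy e => hns ⟨⟨y, hy⟩, Subtype.ext e.symm⟩
  have hκ0 : κ ≠ 0 := fun e => hns' 0 (map_zero σ) (by rw [e, mul_zero])
  have hcharF : ringChar F ≠ 2 := fun e => h2 (by
    have h : ((2 : ℕ) : F) = 0 := by rw [← e]; exact ringChar.Nat.cast_ringChar
    exact_mod_cast h)
  obtain ⟨d, hd⟩ : IsSquare κ := by
    rw [FiniteField.isSquare_iff hcharF hκ0, hc.card]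
    have hodd : Odd q := by
      rcases Nat.even_or_odd q with he | ho
      · exfalso
        have := FiniteField.odd_card_of_char_ne_two hcharF
        rw [hc.card, Nat.pow_mod] at this
        rw [Nat.even_iff.1 he] at this
        norm_num at this
      · exact ho
    obtain ⟨j, hj⟩ := hodd
    have hq1 : κ ^ (q - 1) = 1 := by
      have h := FiniteField.pow_card_sub_one_eq_one (⟨κ, hκ⟩ : fixSub σ) fun e => hκ0 (congrArg Subtype.val e)
      rw [← Nat.card_eq_fintype_card, show Nat.card (fixSub σ) = q from hc.fixed] at h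
      exact congrArg Subtype.val h
    rw [show q ^ 2 / 2 = (q - 1) * (j + 1) by
      rw [hj, Nat.add_sub_cancel, show (2 * j + 1) ^ 2 = 1 + 2 * (2 * j * (j + 1)) by ring,
        Nat.add_mul_div_left _ _ two_pos]
      simp, pow_mul, hq1, one_pow]
  refine ⟨κ, d, hκ, hκ0, hd.symm, ?_, hns'⟩
  have h := congrArg σ hd
  rw [hκ, map_mul] at h
  rcases mul_self_eq_mul_self_iff.1 (h.symm.trans hd) with e | e
  · exact absurd hd.symm (hns' d e)
  · exact e

end Ctx

end Cfsg.Agent.Classical.SUThree.SO3
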