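import Cfsg.Agent.Lib.Classical.SUThree.SLTwoGen
import Cfsg.Agent.Lib.Transfer.PSUThreeIndex.Full
import Cfsg.Agent.Lib.Transfer.PSUThreeIndex.Orbit

/-!
An overgroup in `SU₃(q)` of the elements defined over a subfield of odd prime index has a full root group, and
with it everything.
-/

set_option autoImplicit false
set_option linter.unusedSectionVars false
set_option maxHeartbeats 1000000

namespace Cfsg.Agent.Classical.SUThree

open Matrix Cfsg Cfsg.Agent.Classical Cfsg.Agent.Classical.PSUAut Cfsg.Agent.Fus.UnitN Cfsg.Agent.Lie.SUGen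
  Cfsg.Agent.Lie.SU3Pres Cfsg.Agent.Transfer.U3Min Cfsg.Agent.Grp.SL2

variable {F : Type*} [Field F] [Fintype F] {q : ℕ} (hF : Fintype.card F = q ^ 2)

local notation "cj" => qFrob hF
local notation "h" => hermForm 3 F q

variable {e n f : Fin 3 → F} (B : Frame3 q e n f)

/-- A vector with coordinates in `F₀`. -/
def RV (_B : Frame3 q e n f) (F₀ : Subfield F) (v : Fin 3 → F) : Prop :=
  ∃ x ∈ F₀, ∃ y ∈ F₀, ∃ z ∈ F₀, v = co e n f x y z

/-- An element with entries in `F₀`. -/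
def RatSU (_B : Frame3 q e n f) (F₀ : Subfield F) (g : SU 3 F q) : Prop :=
  ∀ v, RV _B F₀ v → RV _B F₀ (suVal g *ᵥ v)

/-- The overgroup and the field of definition. -/
structure SubSetup (F₀ : Subfield F) (t : F) (K : Subgroup (SU 3 F q)) : Prop where
  rat : ∀ g, RatSU B F₀ g → g ∈ K
  t_mem : t ∈ F₀
  t_ne : cj t ≠ t
  ext : ∀ S : Subfield F, F₀ ≤ S → ∀ x ∈ S, x ∉ F₀ → S = ⊤

/-- The fixed field. -/
def fixF : Subfield F := (cj : F →+* F).eqLocusField (RingHom.id F)

theorem mem_fixF {x : F} : x ∈ fixF hF ↔ cj x = x := Iff.rfl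

/-- The fixed field of `F₀` inside the fixed field. -/
def fix₀ (F₀ : Subfield F) : Subfield (fixF hF) := F₀.comap (fixF hF).subtype

variable {F₀ : Subfield F}

theorem cj_mem {x : F} (hx : x ∈ F₀) : cj x ∈ F₀ := by rw [qFrob_apply]; exact pow_mem hx q

include hF

omit hF in
theorem su_cancel {g : SU 3 F q} {v w : Fin 3 → F} (hvw : suVal g *ᵥ v = suVal g *ᵥ w) : v = w := by
  have h1 := congrArg (fun z => suVal g⁻¹ *ᵥ z) hvw
  simpa only [← mulVec_mul, inv_mul_cancel, suVal_one', Matrix.one_mulVec] using h1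

omit hF in
theorem RV.smul {v : Fin 3 → F} (hv : RV B F₀ v) {c : F} (hc : c ∈ F₀) : RV B F₀ (c • v) := by
  obtain ⟨x, hx, y, hy, z, hz, rfl⟩ := hv
  exact ⟨_, mul_mem hc hx, _, mul_mem hc hy, _, mul_mem hc hz, smul_co c x y z⟩

omit hF in
theorem RV.add {v w : Fin 3 → F} (hv : RV B F₀ v) (hw : RV B F₀ w) : RV B F₀ (v + w) := by
  obtain ⟨x, hx, y, hy, z, hz, rfl⟩ := hv
  obtain ⟨x', hx', y', hy', z', hz', rfl⟩ := hw
  exact ⟨_, add_mem hx hx', _, add_mem hy hy', _, add_mem hz hz', co_add x y z x' y' z'⟩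

theorem rv_form {v w : Fin 3 → F} (hv : RV B F₀ v) (hw : RV B F₀ w) : h v w ∈ F₀ := by
  obtain ⟨x, hx, y, hy, z, hz, rfl⟩ := hv
  obtain ⟨x', hx', y', hy', z', hz', rfl⟩ := hw
  rw [B.h_co hF]
  exact add_mem (add_mem (mul_mem hx (cj_mem hF hz')) (mul_mem hy (cj_mem hF hy'))) (mul_mem hz (cj_mem hF hx'))

omit hF in
theorem RatSU.mul {g g' : SU 3 F q} (hg : RatSU B F₀ g) (hg' : RatSU B F₀ g') : RatSU B F₀ (g * g') :=
  fun v hv => by rw [mulVec_mul]; exact hg _ (hg' v hv)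

theorem ratSU_one : RatSU B F₀ (1 : SU 3 F q) := fun v hv => by rwa [suVal_one', Matrix.one_mulVec]

theorem ratSU_U {α b : F} (hok : OK hF α b) (hα : α ∈ F₀) (hb : b ∈ F₀) : RatSU B F₀ (Um hF B α b) := by
  rintro v ⟨x, hx, y, hy, z, hz, rfl⟩
  exact ⟨_, add_mem (sub_mem hx (mul_mem (cj_mem hF hα) hy)) (mul_mem hb hz), _, add_mem hy (mul_mem hα hz), z, hz,
    U_act hF B hok x y z⟩

theorem ratSU_W : RatSU B F₀ (Wm hF B) := by
  rintro v ⟨x, hx, y, hy, z, hz, rfl⟩
  exact ⟨z, hz, -y, neg_mem hy, x, hx, W_act hF B x y z⟩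

theorem W_to_f : suVal (Wm hF B) *ᵥ e = f := by simpa [co] using W_act hF B 1 0 0

include B in
theorem h_f (x y z : F) : h f (co e n f x y z) = cj x := by
  have := B.h_co hF 0 0 1 x y z
  simpa [co] using this

theorem UW_e {α b : F} (hok : OK hF α b) :
    suVal (Um hF B α b * Wm hF B) *ᵥ e = co e n f b α 1 := by
  rw [mulVec_mul, W_to_f hF B]
  have h1 := U_act hF B hok 0 0 1
  simpa [co] using h1

theorem conjH_bor {K : Subgroup (SU 3 F q)} (hfull : ∀ c : F, c + cj c = 0 → Um hF B 0 c ∈ K) {g k : SU 3 F q}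
    (hk : k ∈ K) (hbor : k⁻¹ * g ∈ Bor B) {c : F} (hc : c + cj c = 0) : Um hF B 0 c ∈ conjH K g := by
  obtain ⟨l, hl⟩ := hbor
  obtain ⟨α, b, hl0, hb, hg⟩ := bor_form hF B hl
  have hg' : g = k * (Um hF B α b * Tm hF B l) := by rw [← hg, mul_inv_cancel_left]
  rw [hg', mem_conjH]
  have hc' : l * cj l * c + cj (l * cj l * c) = 0 := by
    rw [map_mul, map_mul, cj_cj hF]; linear_combination (l * cj l) * hc
  have h1 := mul_mem (mul_mem hk (hfull _ hc')) (inv_mem hk)
  rw [← conj_center hF B hb hl0 hc] at h1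
  convert h1 using 1
  group

variable {t : F} {K : Subgroup (SU 3 F q)} (hd : SubSetup hF B F₀ t K)
include hd

theorem SubSetup.skew : (t - cj t) + cj (t - cj t) = 0 ∧ t - cj t ≠ 0 ∧ t - cj t ∈ F₀ :=
  ⟨by rw [map_sub, cj_cj hF]; ring, sub_ne_zero.2 (Ne.symm hd.t_ne), sub_mem hd.t_mem (cj_mem hF hd.t_mem)⟩

/-- The coordinates over the fixed field. -/
theorem SubSetup.split (x : F) : ∃ a b : F, cj a = a ∧ cj b = b ∧ x = a + b * t ∧
    (x ∈ F₀ → a ∈ F₀ ∧ b ∈ F₀) := by
  obtain ⟨hsk, hne, hmem⟩ := hd.skew hF B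
  refine ⟨x - (x - cj x) / (t - cj t) * t, (x - cj x) / (t - cj t), ?_, ?_, by ring, fun hx => ?_⟩
  · have h1 : cj (t - cj t) = -(t - cj t) := by linear_combination hsk
    rw [map_sub, map_mul, map_div₀, h1, map_sub, cj_cj hF]
    field_simp
    ring
  · rw [map_div₀, show cj (t - cj t) = -(t - cj t) by linear_combination hsk, map_sub, cj_cj hF, div_neg,
      ← neg_div, neg_sub]
  · have := div_mem (sub_mem hx (cj_mem hF hx)) hmem
    exact ⟨sub_mem hx (mul_mem this hd.t_mem), this⟩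

theorem SubSetup.card₀ : Nat.card F₀ = Nat.card (fix₀ hF F₀) * Nat.card (fix₀ hF F₀) := by
  rw [← Nat.card_prod]
  refine (Nat.card_eq_of_bijective (fun p : fix₀ hF F₀ × fix₀ hF F₀ =>
    (⟨((p.1 : fixF hF) : F) + ((p.2 : fixF hF) : F) * t, add_mem p.1.2 (mul_mem p.2.2 hd.t_mem)⟩ : F₀))
    ⟨?_, ?_⟩).symm
  · rintro ⟨a, b⟩ ⟨a', b'⟩ he
    have h1 : ((a : fixF hF) : F) + ((b : fixF hF) : F) * t = ((a' : fixF hF) : F) + ((b' : fixF hF) : F) * t :=
      congrArg Subtype.val he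
    have h2 := congrArg cj h1
    simp only [map_add, map_mul, (mem_fixF hF).1 a.1.2, (mem_fixF hF).1 b.1.2, (mem_fixF hF).1 a'.1.2,
      (mem_fixF hF).1 b'.1.2] at h2
    have hb : ((b : fixF hF) : F) = ((b' : fixF hF) : F) := by
      have h3 : (((b : fixF hF) : F) - ((b' : fixF hF) : F)) * (t - cj t) = 0 := by linear_combination h1 - h2
      exact sub_eq_zero.1 ((mul_eq_zero.1 h3).resolve_right (hd.skew hF B).2.1)
    rw [hb] at h1
    exact Prod.ext (Subtype.ext (Subtype.ext (add_right_cancel h1))) (Subtype.ext (Subtype.ext hb))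
  · rintro ⟨x, hx⟩
    obtain ⟨a, b, ha, hb, rfl, hab⟩ := hd.split hF B x
    exact ⟨(⟨⟨a, ha⟩, (hab hx).1⟩, ⟨⟨b, hb⟩, (hab hx).2⟩), rfl⟩

/-- The fixed field is generated over that of `F₀` by any further element. -/
theorem SubSetup.gen {α : fixF hF} (hα : α ∉ fix₀ hF F₀) (S : Subfield (fixF hF)) (hk : fix₀ hF F₀ ≤ S)
    (hαS : α ∈ S) : S = ⊤ := by
  classical
  obtain ⟨S', hS'⟩ : ∃ S' : Subfield F, S' = S.map (fixF hF).subtype := ⟨_, rfl⟩
  have hSfix : ∀ x ∈ S', cj x = x := by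
    rw [hS']; rintro _ ⟨y, -, rfl⟩; exact y.2
  have hk' : ∀ x ∈ F₀, cj x = x → x ∈ S' := fun x hx hxc => hS' ▸ ⟨⟨x, hxc⟩, hk hx, rfl⟩
  have htr : t + cj t ∈ S' := hk' _ (add_mem hd.t_mem (cj_mem hF hd.t_mem)) (by rw [map_add, cj_cj hF, add_comm])
  have hnm : t * cj t ∈ S' := hk' _ (mul_mem hd.t_mem (cj_mem hF hd.t_mem)) (by rw [map_mul, cj_cj hF, mul_comm])
  let R : Subring F :=
    { carrier := {x | ∃ a ∈ S', ∃ b ∈ S', x = a + b * t}
      mul_mem' := by
        rintro _ _ ⟨a, ha, b, hb, rfl⟩ ⟨a', ha', b', hb', rfl⟩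
        exact ⟨a * a' - b * b' * (t * cj t), sub_mem (mul_mem ha ha') (mul_mem (mul_mem hb hb') hnm),
          a * b' + a' * b + b * b' * (t + cj t),
          add_mem (add_mem (mul_mem ha hb') (mul_mem ha' hb)) (mul_mem (mul_mem hb hb') htr), by ring⟩
      one_mem' := ⟨1, one_mem _, 0, zero_mem _, by ring⟩
      add_mem' := by
        rintro _ _ ⟨a, ha, b, hb, rfl⟩ ⟨a', ha', b', hb', rfl⟩
        exact ⟨_, add_mem ha ha', _, add_mem hb hb', by ring⟩
      zero_mem' := ⟨0, zero_mem _, 0, zero_mem _, by ring⟩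
      neg_mem' := by
        rintro _ ⟨a, ha, b, hb, rfl⟩
        exact ⟨_, neg_mem ha, _, neg_mem hb, by ring⟩ }
  let T : Subfield F :=
    { R with
      inv_mem' := fun x hx => by
        rcases eq_or_ne x 0 with rfl | h0
        · rw [_root_.inv_zero]; exact R.zero_mem
        have hc := Fintype.one_lt_card (α := F)
        rw [show x⁻¹ = x ^ (Fintype.card F - 2) from inv_eq_of_mul_eq_one_right (by
          rw [← pow_succ', show Fintype.card F - 2 + 1 = Fintype.card F - 1 by omega,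
            FiniteField.pow_card_sub_one_eq_one _ h0])]
        exact R.pow_mem hx _ }
  have hT : T = ⊤ := by
    refine hd.ext T (fun x hx => ?_) (α : F) ⟨α, hS' ▸ ⟨α, hαS, rfl⟩, 0, zero_mem _, by ring⟩ hα
    obtain ⟨a, b, ha, hb, rfl, hab⟩ := hd.split hF B x
    exact ⟨a, hk' a (hab hx).1 ha, b, hk' b (hab hx).2 hb, rfl⟩
  refine eq_top_iff.2 fun x _ => ?_
  obtain ⟨a, ha, b, hb, hxe⟩ : (x : F) ∈ T := hT ▸ Subfield.mem_top _
  have h1 : cj (x : F) = x := x.2
  rw [hxe, map_add, map_mul, hSfix a ha, hSfix b hb] at h1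
  have hb0 : b = 0 := (mul_eq_zero.1 (show b * (t - cj t) = 0 by linear_combination -h1)).resolve_right
    (hd.skew hF B).2.1
  rw [hb0, zero_mul, add_zero] at hxe
  rw [hS'] at ha
  obtain ⟨y, hy, hya⟩ := ha
  rwa [show x = y from Subtype.ext (hxe.trans hya.symm)]

/-- An isometry taking all isotropic rational lines to rational lines is rational up to a scalar. -/
theorem SubSetup.lines {g : SU 3 F q}
    (hg : ∀ k, RatSU B F₀ k → ∃ (c : F) (r : Fin 3 → F), RV B F₀ r ∧ suVal g *ᵥ (suVal k *ᵥ e) = c • r) :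
    ∃ a : F, a ≠ 0 ∧ ∀ v, RV B F₀ v → RV B F₀ (a • (suVal g *ᵥ v)) := by
  obtain ⟨hsk, hτ0, hτ⟩ := hd.skew hF B
  obtain ⟨k, ρ, hρ, hk⟩ := hg 1 (ratSU_one hF B)
  obtain ⟨k', ρ', hρ', hk'⟩ := hg (Wm hF B) (ratSU_W hF B)
  rw [suVal_one', Matrix.one_mulVec] at hk
  rw [show suVal (Wm hF B) *ᵥ e = f by simpa [co] using W_act hF B 1 0 0] at hk'
  have hef : k * cj k' * h ρ ρ' = 1 := by
    rw [← B.P.ef, ← su_form g e f, hk, hk', h_smul_left, h_smul_right hF]; ring
  have hρρ : h ρ ρ' ≠ 0 := fun e0 => by rw [e0, mul_zero] at hef; exact zero_ne_one hef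
  have hk0 : k ≠ 0 := fun e0 => by rw [e0] at hef; simp at hef
  have hk0' : cj k' ≠ 0 := fun e0 => by rw [e0] at hef; simp at hef
  have hkk' : k * cj k' ∈ F₀ := by
    rw [eq_div_iff hρρ |>.2 hef]; exact div_mem (one_mem _) (rv_form hF B hρ hρ')
  have hw : ∀ α b, OK hF α b → α ∈ F₀ → b ∈ F₀ → b ≠ 0 →
      RV B F₀ (k⁻¹ • (suVal g *ᵥ co e n f b α 1)) ∧ k' / k ∈ F₀ := by
    intro α b hok hα hb hb0
    obtain ⟨m, ω, hω, hm⟩ := hg (Um hF B α b * Wm hF B) ((ratSU_U hF B hok hα hb).mul B (ratSU_W hF B))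
    rw [UW_e hF B hok] at hm
    have h1 : m * cj k * h ω ρ = 1 := by
      have e1 := su_form g (co e n f b α 1) e
      rw [hm, hk, h_smul_left, h_smul_right hF] at e1
      rw [show h (co e n f b α 1) e = 1 by
        conv_lhs => arg 5; rw [show e = co e n f 1 0 0 from (co_e).symm]
        rw [B.h_co hF]; simp] at e1
      linear_combination e1
    have h2 : m * cj k' * h ω ρ' = b := by
      have e1 := su_form g (co e n f b α 1) f
      rw [hm, hk', h_smul_left, h_smul_right hF] at e1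
      rw [show h (co e n f b α 1) f = b by
        conv_lhs => arg 5; rw [show f = co e n f 0 0 1 from (co_f).symm]
        rw [B.h_co hF]; simp] at e1
      linear_combination e1
    have hm0 : m ≠ 0 := fun e0 => by rw [e0] at h1; simp at h1
    have hck : cj k ≠ 0 := (map_ne_zero cj).2 hk0
    have hwr : h ω ρ ≠ 0 := fun e0 => by rw [e0, mul_zero] at h1; exact zero_ne_one h1
    have hwr' : h ω ρ' ≠ 0 := fun e0 => by rw [e0, mul_zero] at h2; exact hb0 h2.symm
    have hA : m * cj k ∈ F₀ := by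
      rw [eq_div_iff hwr |>.2 h1]; exact div_mem (one_mem _) (rv_form hF B hω hρ)
    have hA' : m * cj k' ∈ F₀ := by
      rw [eq_div_iff hwr' |>.2 h2]; exact div_mem hb (rv_form hF B hω hρ')
    have hkk : k * cj k ∈ F₀ := by
      rw [show k * cj k = k * cj k' * (m * cj k) / (m * cj k') by field_simp]
      exact div_mem (mul_mem hkk' hA) hA'
    refine ⟨?_, ?_⟩
    · rw [hm, smul_smul]
      refine hω.smul B ?_
      rw [show k⁻¹ * m = m * cj k / (k * cj k) by field_simp]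
      exact div_mem hA hkk
    · have := cj_mem hF (div_mem hkk' hkk)
      rw [map_div₀, map_mul, map_mul, cj_cj hF, cj_cj hF] at this
      rwa [show cj k * k' / (cj k * k) = k' / k by field_simp] at this
  have hτc : OK hF 0 (t - cj t) := OK.skew hF hsk
  have hkr := (hw 0 _ hτc (zero_mem _) hτ hτ0).2
  have he : RV B F₀ (k⁻¹ • (suVal g *ᵥ e)) := by rwa [hk, smul_smul, inv_mul_cancel₀ hk0, one_smul]
  have hfv : RV B F₀ (k⁻¹ • (suVal g *ᵥ f)) := by
    rw [hk', smul_smul, show k⁻¹ * k' = k' / k by ring]; exact hρ'.smul B hkr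
  obtain ⟨b, hb, hok⟩ : ∃ b ∈ F₀, OK hF 1 b := by
    obtain ⟨a, b, ha, hb, -⟩ := hd.split hF B 0
    rcases eq_or_ne (t + cj t) 0 with h0 | h0
    · -- then `2` is invertible
      have h2 : (2 : F) ≠ 0 := fun e2 => hd.t_ne (by linear_combination h0 - t * e2)
      refine ⟨-1 / 2, div_mem (neg_mem (one_mem _)) (ofNat_mem _ 2), ?_⟩
      simp only [OK, map_one, mul_one, map_div₀, map_neg, map_ofNat]
      field_simp
      ring
    · refine ⟨-t / (t + cj t), div_mem (neg_mem hd.t_mem) (add_mem hd.t_mem (cj_mem hF hd.t_mem)), ?_⟩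
      simp only [OK, map_one, mul_one, map_div₀, map_neg, map_add, cj_cj hF, add_comm (cj t) t]
      field_simp
      ring
  have hb0 : b ≠ 0 := fun e0 => by simp [OK, e0] at hok
  have hnv : RV B F₀ (k⁻¹ • (suVal g *ᵥ n)) := by
    have h1 := ((hw 1 b hok (one_mem _) hb hb0).1.add B (he.smul B (neg_mem hb))).add B
      (hfv.smul B (neg_mem (one_mem _)))
    convert h1 using 1
    simp only [co, Matrix.mulVec_add, Matrix.mulVec_smul]
    module
  refine ⟨k⁻¹, inv_ne_zero hk0, ?_⟩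
  rintro _ ⟨x, hx, y, hy, z, hz, rfl⟩
  convert ((he.smul B hx).add B (hnv.smul B hy)).add B (hfv.smul B hz) using 1
  simp only [co, Matrix.mulVec_add, Matrix.mulVec_smul]
  module

/-- A nonrational isotropic point has an irrational norm against some rational isotropic one. -/
theorem SubSetup.exists_norm_notMem {v : Fin 3 → F} (hv : h v v = 0)
    (hnl : ¬ ∃ (c : F) (r : Fin 3 → F), RV B F₀ r ∧ v = c • r) :
    ∃ k, RatSU B F₀ k ∧ h (suVal k *ᵥ e) v * cj (h (suVal k *ᵥ e) v) ∉ F₀ := by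
  by_contra hcon
  push Not at hcon
  obtain ⟨hsk, hτ0, hτ⟩ := hd.skew hF B
  obtain ⟨A, C', C, rfl⟩ := exists_co hF B v
  have hiso : A * cj C + C' * cj C' + C * cj A = 0 := by rwa [B.h_co hF] at hv
  have hC0 : C ≠ 0 := fun e0 => by
    subst e0
    have hC' : C' = 0 := by simpa using hiso
    exact hnl ⟨A, e, ⟨1, one_mem _, 0, zero_mem _, 0, zero_mem _, co_e.symm⟩, by rw [hC']; simp [co]⟩
  have hNC : C * cj C ∈ F₀ := by
    have h1 := hcon 1 (ratSU_one hF B)
    rwa [suVal_one', Matrix.one_mulVec, h_e hF B, cj_cj hF, mul_comm] at h1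
  have hNA : A * cj A ∈ F₀ := by
    have h1 := hcon _ (ratSU_W hF B)
    rwa [W_to_f hF B, h_f hF B, cj_cj hF, mul_comm] at h1
  have hy : ∀ β b, OK hF β b → β ∈ F₀ → b ∈ F₀ →
      (b * cj C + β * cj C' + cj A) * (cj b * C + cj β * C' + A) ∈ F₀ := fun β b hok hβ hb => by
    have h1 := hcon _ ((ratSU_U hF B hok hβ hb).mul B (ratSU_W hF B))
    rwa [UW_e hF B hok, B.h_co hF, one_mul, map_add, map_add, map_mul, map_mul, cj_cj hF, cj_cj hF,
      cj_cj hF] at h1
  have htb : ∀ β ∈ F₀, ∃ b ∈ F₀, OK hF β b := fun β hβ => by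
    obtain ⟨u, hu, hut⟩ : ∃ u ∈ F₀, u + cj u = -1 := by
      rcases eq_or_ne (t + cj t) 0 with h0 | h0
      · have h2 : (2 : F) ≠ 0 := fun e2 => hd.t_ne (by linear_combination h0 - t * e2)
        refine ⟨-1 / 2, div_mem (neg_mem (one_mem _)) (ofNat_mem _ 2), ?_⟩
        simp only [map_div₀, map_neg, map_one, map_ofNat]
        field_simp
        ring
      · refine ⟨-t / (t + cj t), div_mem (neg_mem hd.t_mem) (add_mem hd.t_mem (cj_mem hF hd.t_mem)), ?_⟩
        simp only [map_div₀, map_neg, map_add, cj_cj hF, add_comm (cj t) t]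
        field_simp
        ring
    refine ⟨u * (β * cj β), mul_mem hu (mul_mem hβ (cj_mem hF hβ)), ?_⟩
    simp only [OK, map_mul, cj_cj hF]
    linear_combination (β * cj β) * hut
  -- shifting by a skew element
  have hD : ∀ β b, OK hF β b → β ∈ F₀ → b ∈ F₀ →
      (b * cj C + β * cj C' + cj A) * C - (cj b * C + cj β * C' + A) * cj C ∈ F₀ := by
    intro β b hok hβ hb
    have hok' : OK hF β (b + (t - cj t)) := by
      simp only [OK, map_add] at hok ⊢
      linear_combination hok + hsk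
    have h1 := sub_mem (sub_mem (hy β _ hok' hβ (add_mem hb hτ)) (hy β b hok hβ hb))
      (mul_mem (mul_mem hτ (cj_mem hF hτ)) hNC)
    have h2 := div_mem h1 (neg_mem hτ)
    have h3 : cj (t - cj t) = -(t - cj t) := by linear_combination hsk
    rw [map_add cj b, h3] at h2
    convert h2 using 1
    rw [eq_div_iff (neg_ne_zero.2 hτ0)]
    ring
  obtain ⟨z, hz⟩ : ∃ z, z = C * cj A := ⟨_, rfl⟩
  have hz' : z - cj z ∈ F₀ := by
    have h1 := hD 0 0 (OK.zero hF) (zero_mem _) (zero_mem _)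
    simp only [zero_mul, map_zero, zero_add] at h1
    rw [hz, map_mul, cj_cj hF]
    convert h1 using 1
    ring
  have hBC : C * cj C' ∈ F₀ := by
    have key : ∀ β ∈ F₀, β * (C * cj C') - cj β * cj (C * cj C') ∈ F₀ := fun β hβ => by
      obtain ⟨b, hb, hok⟩ := htb β hβ
      have h1 := sub_mem (sub_mem (hD β b hok hβ hb) hz') (mul_mem (sub_mem hb (cj_mem hF hb)) hNC)
      rw [hz, map_mul, cj_cj hF] at h1
      rw [map_mul, cj_cj hF]
      convert h1 using 1
      ring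
    have h1 := sub_mem (key t hd.t_mem) (mul_mem (cj_mem hF hd.t_mem) (key 1 (one_mem _)))
    rw [map_one, one_mul, one_mul] at h1
    have h2 := div_mem h1 hτ
    rwa [show (t * (C * cj C') - cj t * cj (C * cj C') - cj t * (C * cj C' - cj (C * cj C'))) / (t - cj t) =
      C * cj C' by rw [div_eq_iff hτ0]; ring] at h2
  have hcC : cj C ≠ 0 := (map_ne_zero cj).2 hC0
  have hC' : C' / C ∈ F₀ := by
    have h1 := div_mem (cj_mem hF hBC) hNC
    rwa [map_mul, cj_cj hF, show cj C * C' / (C * cj C) = C' / C by field_simp] at h1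
  have hzN : z * cj z ∈ F₀ := by
    rw [hz, map_mul, cj_cj hF, show C * cj A * (cj C * A) = C * cj C * (A * cj A) by ring]
    exact mul_mem hNC hNA
  have hk : ∀ β b, OK hF β b → β ∈ F₀ → b ∈ F₀ →
      ((b + cj b) * (C * cj C) + β * (C * cj C') + cj β * cj (C * cj C')) * z ∈ F₀ := by
    intro β b hok hβ hb
    have hk0 : b * (C * cj C) + β * (C * cj C') ∈ F₀ := add_mem (mul_mem hb hNC) (mul_mem hβ hBC)
    have h1 := mul_mem (hy β b hok hβ hb) hNC
    have h2 := add_mem (sub_mem (sub_mem h1 (mul_mem hk0 (cj_mem hF hk0))) hzN) (mul_mem hk0 hz')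
    convert h2 using 1
    rw [hz]
    simp only [map_add, map_mul, cj_cj hF]
    ring
  have hzF : z ∈ F₀ := by
    by_contra hzn
    have hzero : ∀ β ∈ F₀, -(β * cj β) * (C * cj C) + β * (C * cj C') + cj β * cj (C * cj C') = 0 := fun β hβ => by
      obtain ⟨b, hb, hok⟩ := htb β hβ
      have h1 : b + cj b = -(β * cj β) := by simp only [OK] at hok; linear_combination hok
      have h2 := hk β b hok hβ hb
      rw [h1] at h2
      by_contra hne
      refine hzn ?_
      have h3 := div_mem h2 (add_mem (add_mem (mul_mem (neg_mem (mul_mem hβ (cj_mem hF hβ))) hNC) (mul_mem hβ hBC))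
        (mul_mem (cj_mem hF hβ) (cj_mem hF hBC)))
      rwa [mul_div_cancel_left₀ _ hne] at h3
    have h0 := hzero _ (div_mem (cj_mem hF hBC) hNC)
    have hc0 : C * cj C' = 0 := by
      have : (C * cj C') * cj (C * cj C') / (C * cj C) = 0 := by
        rw [← h0, map_div₀]
        simp only [map_mul, cj_cj hF]
        field_simp
        ring
      rcases mul_eq_zero.1 ((div_eq_zero_iff.1 this).resolve_right (mul_ne_zero hC0 hcC)) with e0 | e0
      · exact e0
      · exact (map_eq_zero cj).1 e0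
    have h1 := hzero 1 (one_mem _)
    rw [hc0] at h1
    simp at h1
    exact hC0 h1
  refine hnl ⟨C, co e n f (A / C) (C' / C) 1, ⟨_, ?_, _, hC', 1, one_mem _, rfl⟩, ?_⟩
  · have h1 := div_mem (cj_mem hF hzF) hNC
    rwa [hz, map_mul, cj_cj hF, show cj C * A / (C * cj C) = A / C by field_simp] at h1
  · rw [smul_co]
    congr 1 <;> field_simp

end Cfsg.Agent.Classical.SUThree
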