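import Cfsg.Agent.Lib.Classical.SUThree.SubfieldTwo
import Cfsg.Agent.Lib.Lie.SympWreath

/-!
Over the field of four elements inside the field of 64: the overgroup with smallest centre parameters has a number
of points congruent to one modulo eight, with no room for a point off the rational lines.
-/

set_option autoImplicit false
set_option linter.unusedSectionVars false
set_option maxHeartbeats 1000000

namespace Cfsg.Agent.Classical.SUThree

open Matrix Cfsg Cfsg.Agent.Classical Cfsg.Agent.Classical.PSUAut Cfsg.Agent.Fus.UnitN Cfsg.Agent.Lie.SUGen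
  Cfsg.Agent.Lie.SU3Pres Cfsg.Agent.Transfer.U3Min Cfsg.Agent.Grp.SL2

variable {F : Type*} [Field F] [Fintype F] {q : ℕ} (hF : Fintype.card F = q ^ 2)

local notation "cj" => qFrob hF
local notation "h" => hermForm 3 F q

variable {e n f : Fin 3 → F} (B : Frame3 q e n f) {F₀ : Subfield F} {t : F} {K : Subgroup (SU 3 F q)}

include hF

variable (hs : SmallSetup hF B F₀ t K) (hq8 : q = 8)
  (hscal : ∀ x : SU 3 F q, (∃ a : F, a ≠ 0 ∧ ∀ v, RV B F₀ v → RV B F₀ (a • (suVal x *ᵥ v))) → x ∈ K)
include hs hq8 hscal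

theorem card_stab_eight : Nat.card ((Bor B).subgroupOf K) = 72 := by
  classical
  have hS : Nat.card ((Bor B).subgroupOf K) = Nat.card (K ⊓ Bor B : Subgroup (SU 3 F q)) :=
    Nat.card_congr
      { toFun := fun x => ⟨(x.1 : SU 3 F q), x.1.2, x.2⟩
        invFun := fun x => ⟨⟨x.1, x.2.1⟩, x.2.2⟩
        left_inv := fun x => rfl
        right_inv := fun x => rfl }
  rw [hS, card_inf_Bor hF B, card_inf_Uni hF B]
  have ha : Nat.card (aSet hF B K) = 2 := by
    rw [show Nat.card (aSet hF B K) = Nat.card ({0, 1} : Set F) from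
      Nat.card_congr (Equiv.setCongr (s := (aSet hF B K : Set F)) (t := {0, 1}) (Set.ext fun c => ⟨fun hc => by
        simpa using hs.coeff hF B hc, fun hc => by
        rcases hc with rfl | rfl
        · exact zero_mem _
        · exact hs.coeff_one hF B⟩)), Nat.card_coe_set_eq, Set.ncard_pair zero_ne_one]
  have hw : Nat.card (wSet hF B K) = 4 := by
    rw [← hs.card4]
    exact Nat.card_congr (Equiv.subtypeEquivRight fun α => ⟨fun hα => hs.wSet_mem hF B hα,
      fun hα => hs.wSet_rat hF B hα⟩)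
  obtain ⟨u, hu⟩ := IsCyclic.exists_ofOrder_eq_natCard (α := Fˣ)
  have hcard : Nat.card Fˣ = 63 := by
    rw [Nat.card_units, Nat.card_eq_fintype_card, hF, hq8]; norm_num
  have hl9 : orderOf (u ^ 7) = 9 := by
    rw [orderOf_pow' u (by norm_num), hu, hcard]; norm_num
  have hl : ((u ^ 7 : Fˣ) : F) ^ 9 = 1 := by
    rw [← Units.val_pow_eq_pow_val, ← hl9, pow_orderOf_eq_one, Units.val_one]
  have hmem : u ^ 7 ∈ tSet B K := by
    have hl0 : ((u ^ 7 : Fˣ) : F) ≠ 0 := Units.ne_zero _
    refine (mem_tSet hF B).2 ⟨Tm hF B ((u ^ 7 : Fˣ) : F), hscal _ ⟨((u ^ 7 : Fˣ) : F)⁻¹, inv_ne_zero hl0, ?_⟩,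
      T_e hF B hl0⟩
    generalize ((u ^ 7 : Fˣ) : F) = l at hl hl0 ⊢
    rintro _ ⟨x, hx, y, hy, z, hz, rfl⟩
    have hc : cj l = 1 / l := by
      rw [qFrob_apply, hq8, eq_div_iff hl0]; linear_combination hl
    rw [T_act hF B hl0, smul_co, hc]
    refine ⟨x, hx, 1 / l ^ 3 * y, mul_mem (hs.cube_mem hF B ?_) hy, z, hz, ?_⟩
    · field_simp
      linear_combination -hl
    · congr 1 <;> field_simp
  have hge : 9 ≤ Nat.card (tSet B K) :=
    hl9 ▸ Nat.le_of_dvd Nat.card_pos (Subgroup.orderOf_dvd_natCard _ hmem)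
  have hle : Nat.card (tSet B K) ≤ 9 := by
    have hsub : ((tSet B K : Set Fˣ).toFinset.image fun l : Fˣ => (l : F)) ⊆
        (Polynomial.nthRoots 9 (1 : F)).toFinset := fun x hx => by
      simp only [Finset.mem_image, Set.mem_toFinset, SetLike.mem_coe] at hx
      obtain ⟨l, hl', rfl⟩ := hx
      rw [Multiset.mem_toFinset, Polynomial.mem_nthRoots (by norm_num)]
      exact hs.pow_nine hF B hl'
    have h1 := ((Finset.card_le_card hsub).trans (Multiset.toFinset_card_le _)).trans (Polynomial.card_nthRoots _ _)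
    rw [Finset.card_image_of_injective _ Units.val_injective, Set.toFinset_card, ← Nat.card_eq_fintype_card] at h1
    exact h1
  rw [ha, hw, show Nat.card (tSet B K) = 9 by omega]

omit hscal in
/-- A unipotent element of `K` is rational. -/
theorem comm_tInv {x : K} (hx : (x : SU 3 F q) ∈ Bor B) :
    x * tInv hF B hs (hs.one_skew hF B) = tInv hF B hs (hs.one_skew hF B) * x := by
  obtain ⟨l, hl⟩ := hx
  obtain ⟨α, b, hl0, hok, he⟩ := bor_form hF B hl
  have hmem : Units.mk0 l hl0 ∈ tSet B K := (mem_tSet hF B).2 ⟨_, x.2, by rw [Units.val_mk0]; exact hl⟩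
  have hN : l * cj l = 1 := by simpa using hs.norm_one hF B hmem
  refine Subtype.ext ?_
  show (x : SU 3 F q) * Um hF B 0 1 = Um hF B 0 1 * (x : SU 3 F q)
  have h1 := conj_center hF B hok hl0 (hs.one_skew hF B)
  rw [hN, one_mul, ← he, mul_inv_eq_iff_eq_mul] at h1
  exact h1

omit hscal in
theorem tInv_ne : tInv hF B hs (hs.one_skew hF B) ≠ 1 := fun e0 =>
  one_ne_zero (U_eq_one hF B (OK.skew hF (hs.one_skew hF B)) (congrArg Subtype.val e0)).2

/-- An element commuting with the transvection fixes its point. -/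
theorem mem_of_commute {x : K}
    (hx : x * tInv hF B hs (hs.one_skew hF B) = tInv hF B hs (hs.one_skew hF B) * x) : (x : SU 3 F q) ∈ Bor B := by
  refine fixed_Uni hF B (u := Um hF B 0 1) ⟨0, 1, OK.skew hF (hs.one_skew hF B), rfl⟩
    (fun e0 => tInv_ne hF B hs hq8 (Subtype.ext e0)) ?_
  have h1 := congrArg Subtype.val hx
  rw [Subgroup.coe_mul, Subgroup.coe_mul] at h1
  rw [mul_assoc, show Um hF B 0 1 * (x : SU 3 F q) = (x : SU 3 F q) * Um hF B 0 1 from h1.symm, inv_mul_cancel_left]
  exact Uni_le_Bor hF B ⟨0, 1, OK.skew hF (hs.one_skew hF B), rfl⟩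

/-- The product of the transvection with a conjugate has order dividing 504. -/
theorem pair_pow (k : K) :
    (tInv hF B hs (hs.one_skew hF B) * (k * tInv hF B hs (hs.one_skew hF B) * k⁻¹)) ^ 504 = 1 := by
  classical
  set T := tInv hF B hs (hs.one_skew hF B) with hT
  have hTT : T * T = 1 := Subtype.ext (by
    show Um hF B 0 1 * Um hF B 0 1 = (1 : SU 3 F q)
    rw [U_mul hF B (OK.skew hF (hs.one_skew hF B)) (OK.skew hF (hs.one_skew hF B)), ← U_zero hF B]
    congr 1
    · simp
    · simpa [two_mul] using (show (1 : F) + 1 = 0 by linear_combination hs.two hF B))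
  obtain ⟨a₀, a₁, z, hv⟩ := exists_co hF B (suVal (k : SU 3 F q) *ᵥ e)
  have hiso : a₀ * cj z + a₁ * cj a₁ + z * cj a₀ = 0 := by rw [← B.h_co hF, ← hv, su_form, B.P.ee]
  by_cases hz : z = 0
  · subst hz
    have h1 : a₁ = 0 := by simpa using hiso
    have hb : (k : SU 3 F q) ∈ Bor B := ⟨a₀, by rw [hv, h1]; simp [co]⟩
    rw [comm_tInv hF B hs hq8 hb, mul_inv_cancel_right, hTT, one_pow]
  have hz' : cj z ≠ 0 := (map_ne_zero cj).2 hz
  have hok : OK hF (a₁ / z) (a₀ / z) := by
    simp only [OK, map_div₀]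
    field_simp
    linear_combination hiso
  obtain ⟨u, hu⟩ : ∃ u, u = Um hF B (a₁ / z) (a₀ / z) := ⟨_, rfl⟩
  have hbor : suVal ((u * Wm hF B)⁻¹ * (k : SU 3 F q)) *ᵥ e = z • e := by
    refine su_cancel (g := u * Wm hF B) ?_
    rw [← mulVec_mul, mul_inv_cancel_left, Matrix.mulVec_smul, hu, UW_e hF B hok, smul_co, hv]
    congr 1 <;> field_simp
  obtain ⟨α, b, hz0, hb, hge⟩ := bor_form hF B hbor
  have h1sk := hs.one_skew hF B
  have hconj : (k : SU 3 F q) * Um hF B 0 1 * (k : SU 3 F q)⁻¹ =
      u * (Wm hF B * Um hF B 0 (z * cj z) * Wm hF B) * u⁻¹ := by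
    have hk : (k : SU 3 F q) = u * Wm hF B * (Um hF B α b * Tm hF B z) := by rw [← hge, mul_inv_cancel_left]
    have h2 := conj_center hF B hb hz0 h1sk
    rw [mul_one] at h2
    rw [← h2, hk]
    have hWi : (Wm hF B)⁻¹ = Wm hF B := inv_eq_of_mul_eq_one_right (W_sq hF B)
    simp only [_root_.mul_inv_rev, hWi, mul_assoc]
  have hτ : (1 : F) + cj 1 = 0 := h1sk
  haveI : Fintype (fixF hF) := Fintype.ofFinite _
  have hfix : cj (z * cj z) = z * cj z := by rw [map_mul, cj_cj hF, mul_comm]
  have hup := onPlane_up hF B hτ (1 : fixF hF)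
  have hlow := onPlane_low hF B hτ one_ne_zero (⟨_, hfix⟩ : fixF hF)
  have hA := hup.mul hF B one_ne_zero hlow
  simp only [one_mul, OneMemClass.coe_one, div_one] at hA
  have hpow : ∀ (m : ℕ) {g : SU 3 F q} {A : Matrix.SpecialLinearGroup (Fin 2) (fixF hF)},
      OnPlane hF B 1 g A → OnPlane hF B 1 (g ^ m) (A ^ m) := fun m g A hg => by
    induction m with
    | zero => rw [pow_zero, pow_zero]; exact onPlane_one hF B 1
    | succ m ih => rw [pow_succ, pow_succ]; exact ih.mul hF B one_ne_zero hg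
  have h504 : Nat.card (Matrix.SpecialLinearGroup (Fin 2) (fixF hF)) = 504 := by
    haveI : CharP F 2 := CharP.charP_iff_prime_eq_zero Nat.prime_two |>.2 (by exact_mod_cast hs.two hF B)
    have hc : Nat.card (fixF hF) = 8 := by
      rw [← hq8]
      refine Eq.trans (Nat.card_congr (Equiv.subtypeEquivRight fun c => ?_)) (Cfsg.Agent.Lie.MinIndexUnit.card_skew hF)
      exact ⟨fun hc => (by
        show c + cj c = 0
        rw [show cj c = c from hc]; exact CharTwo.add_self_eq_zero c),
        fun hc => (CharTwo.add_eq_zero.1 (show c + cj c = 0 from hc)).symm⟩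
    rw [Cfsg.Agent.Lie.SympWreath.natCard_SL2, ← Nat.card_eq_fintype_card, hc]
    norm_num
  have hAp := hpow 504 hA
  rw [show ∀ A : Matrix.SpecialLinearGroup (Fin 2) (fixF hF), A ^ 504 = 1 from fun A => by
    rw [← h504]; exact pow_card_eq_one'] at hAp
  have h3 := hAp.eq hF B (onPlane_one hF B 1)
  refine Subtype.ext ?_
  rw [SubgroupClass.coe_pow, OneMemClass.coe_one, Subgroup.coe_mul, Subgroup.coe_mul, Subgroup.coe_mul,
    Subgroup.coe_inv, show (T : SU 3 F q) = Um hF B 0 1 from rfl, hconj]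
  have hcomm : u * Um hF B 0 1 = Um hF B 0 1 * u := by
    rw [hu, U_mul hF B hok (OK.skew hF h1sk), U_mul hF B (OK.skew hF h1sk) hok]
    simp [add_comm]
  have e2 : Um hF B 0 1 * (u * (Wm hF B * Um hF B 0 (z * cj z) * Wm hF B) * u⁻¹) =
      u * (Um hF B 0 1 * (Wm hF B * Um hF B 0 (z * cj z) * Wm hF B)) * u⁻¹ := by
    rw [← mul_assoc, ← mul_assoc, ← hcomm, mul_assoc u (Um hF B 0 1)]
  rw [e2, conj_pow, h3, mul_one, mul_inv_cancel]

/-- No point off the rational lines. -/
theorem false_of_eight {g : SU 3 F q} (hg : g ∈ K)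
    (hnl : ¬ ∃ (c : F) (r : Fin 3 → F), RV B F₀ r ∧ suVal g *ᵥ e = c • r) : False := by
  classical
  set T := tInv hF B hs (hs.one_skew hF B) with hT
  set S := (Bor B).subgroupOf K with hS
  have hS72 : Nat.card S = 72 := card_stab_eight hF B hs hq8 hscal
  have hTT : T * T = 1 := Subtype.ext (by
    show Um hF B 0 1 * Um hF B 0 1 = (1 : SU 3 F q)
    rw [U_mul hF B (OK.skew hF (hs.one_skew hF B)) (OK.skew hF (hs.one_skew hF B)), ← U_zero hF B]
    congr 1
    · simp
    · simpa [two_mul] using (show (1 : F) + 1 = 0 by linear_combination hs.two hF B))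
  have hn : S.index * 72 = Nat.card K := by rw [← hS72, mul_comm, Subgroup.card_mul_index]
  have hdvd : S.index ∣ 229824 := by
    have h1 := Subgroup.card_subgroup_dvd_card K
    rw [Cfsg.Agent.Classical.UnitMult.natCard_SU3 hF,
      show q ^ 3 * (q ^ 3 + 1) * (q ^ 2 - 1) = 16547328 by rw [hq8]; norm_num, ← hn] at h1
    exact (Nat.mul_dvd_mul_iff_right (show 0 < 72 by norm_num)).1 (h1.trans (by norm_num))
  -- the free action of the unipotent elements
  have hmod : S.index % 8 = 1 := by
    let U := (Uni hF B).subgroupOf K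
    let base : K ⧸ S := QuotientGroup.mk 1
    let Y := {p : K ⧸ S // p ≠ base}
    have hbase : ∀ u : U, (u : K) • base = base := fun u => by
      show QuotientGroup.mk ((u : K) * 1) = QuotientGroup.mk 1
      rw [QuotientGroup.eq]
      simpa [hS, Subgroup.mem_subgroupOf] using inv_mem (Uni_le_Bor hF B u.2)
    letI : MulAction U Y :=
      { smul := fun u p => ⟨(u : K) • p.1, fun e0 => p.2 (by rw [← inv_smul_smul (u : K) p.1, e0]; exact hbase u⁻¹)⟩
        one_smul := fun p => Subtype.ext (one_smul K p.1)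
        mul_smul := fun u u' p => Subtype.ext (mul_smul (u : K) (u' : K) p.1) }
    have hfree : ∀ p : Y, MulAction.stabilizer U p = ⊥ := by
      rintro ⟨p, hp⟩
      rw [eq_bot_iff]
      intro u hu
      rw [MulAction.mem_stabilizer_iff] at hu
      obtain ⟨k, rfl⟩ := QuotientGroup.mk_surjective p
      have h1 : QuotientGroup.mk ((u : K) * k) = (QuotientGroup.mk k : K ⧸ S) := congrArg Subtype.val hu
      rw [eq_comm, QuotientGroup.eq, hS, Subgroup.mem_subgroupOf] at h1
      rw [Subgroup.mem_bot]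
      by_contra hu1
      refine hp (QuotientGroup.eq.2 ?_)
      rw [mul_one, hS, Subgroup.mem_subgroupOf, Subgroup.coe_inv]
      refine inv_mem (fixed_Uni hF B (u := ((u : K) : SU 3 F q)) u.2 (fun e0 => hu1 (Subtype.ext (Subtype.ext e0))) ?_)
      simpa [mul_assoc] using h1
    have hU : Nat.card U = 8 := by
      have h1 : Nat.card U = Nat.card (K ⊓ Uni hF B : Subgroup (SU 3 F q)) := Nat.card_congr
        { toFun := fun x => ⟨(x.1 : SU 3 F q), x.1.2, x.2⟩
          invFun := fun x => ⟨⟨x.1, x.2.1⟩, x.2.2⟩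
          left_inv := fun x => rfl
          right_inv := fun x => rfl }
      have h2 : Nat.card (K ⊓ Bor B : Subgroup (SU 3 F q)) = 72 := by
        rw [← hS72]
        exact Nat.card_congr
          { toFun := fun x => ⟨⟨x.1, x.2.1⟩, x.2.2⟩
            invFun := fun x => ⟨(x.1 : SU 3 F q), x.1.2, x.2⟩
            left_inv := fun x => rfl
            right_inv := fun x => rfl }
      rw [h1, card_inf_Uni hF B]
      have ha : Nat.card (aSet hF B K) = 2 := by
        rw [show Nat.card (aSet hF B K) = Nat.card ({0, 1} : Set F) from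
          Nat.card_congr (Equiv.setCongr (s := (aSet hF B K : Set F)) (t := {0, 1}) (Set.ext fun c => ⟨fun hc => by
            simpa using hs.coeff hF B hc, fun hc => by
            rcases hc with rfl | rfl
            · exact zero_mem _
            · exact hs.coeff_one hF B⟩)), Nat.card_coe_set_eq, Set.ncard_pair zero_ne_one]
      have hw : Nat.card (wSet hF B K) = 4 := by
        rw [← hs.card4]
        exact Nat.card_congr (Equiv.subtypeEquivRight fun α => ⟨fun hα => hs.wSet_mem hF B hα,
          fun hα => hs.wSet_rat hF B hα⟩)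
      rw [ha, hw]
    have hY : Nat.card (K ⧸ S) = Nat.card Y + 1 := by
      rw [← Nat.card_congr (Equiv.optionSubtypeNe base), Finite.card_option]
    have h8 : 8 ∣ Nat.card Y := by
      rw [Nat.card_congr (MulAction.selfEquivOrbitsQuotientProd hfree), Nat.card_prod, hU]
      exact Dvd.intro_left _ rfl
    rw [Subgroup.index_eq_card, hY]
    omega
  -- at least ten points
  have hten : 10 ≤ S.index := by
    let P := F₀ × fix₀ hF F₀
    obtain ⟨hq, ht⟩ := hs.t_quad hF B
    have hokp : ∀ p : P, OK hF (p.1 : F) (t * ((p.1 : F) * cj (p.1 : F)) + ((p.2 : fixF hF) : F)) := fun p => by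
      simp only [OK, map_add, map_mul, cj_cj hF, (mem_fixF hF).1 p.2.1.2]
      linear_combination ((p.1 : F) * cj (p.1 : F)) * (ht + (t + 1) * hs.two hF B) +
        ((p.2 : fixF hF) : F) * hs.two hF B
    have hpF : ∀ p : P, t * ((p.1 : F) * cj (p.1 : F)) + ((p.2 : fixF hF) : F) ∈ F₀ := fun p =>
      add_mem (mul_mem hs.t_mem (mul_mem p.1.2 (cj_mem hF p.1.2))) p.2.2
    let kk : Option (Option P) → K := fun o => match o with
      | none => ⟨g, hg⟩
      | some none => 1
      | some (some p) => ⟨Um hF B (p.1 : F) (t * ((p.1 : F) * cj (p.1 : F)) + ((p.2 : fixF hF) : F)) * Wm hF B,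
          hs.rat _ ((ratSU_U hF B (hokp p) p.1.2 (hpF p)).mul B (ratSU_W hF B))⟩
    have hline : ∀ k k' : K, (QuotientGroup.mk k : K ⧸ S) = QuotientGroup.mk k' →
        ∃ a : F, suVal (k' : SU 3 F q) *ᵥ e = a • (suVal (k : SU 3 F q) *ᵥ e) := fun k k' he => by
      rw [QuotientGroup.eq, hS, Subgroup.mem_subgroupOf] at he
      obtain ⟨a, ha⟩ := he
      rw [Subgroup.coe_mul, Subgroup.coe_inv] at ha
      refine ⟨a, ?_⟩
      rw [← Matrix.mulVec_smul, ← ha, ← mulVec_mul, mul_inv_cancel_left]
    have hvec : ∀ o : Option P, ∃ r, RV B F₀ r ∧ suVal (kk (some o) : SU 3 F q) *ᵥ e = r := fun o => by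
      refine ⟨_, ?_, rfl⟩
      rcases o with _ | p
      · simp only [kk, OneMemClass.coe_one, suVal_one', Matrix.one_mulVec]
        exact ⟨1, one_mem _, 0, zero_mem _, 0, zero_mem _, co_e.symm⟩
      · exact ⟨_, hpF p, _, p.1.2, 1, one_mem _, UW_e hF B (hokp p)⟩
    have hcase : ∀ p : P, (QuotientGroup.mk (kk (some none)) : K ⧸ S) ≠ QuotientGroup.mk (kk (some (some p))) :=
      fun p he => by
      obtain ⟨a, ha⟩ := hline _ _ he
      simp only [kk, OneMemClass.coe_one, suVal_one', Matrix.one_mulVec] at ha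
      rw [UW_e hF B (hokp p), show a • e = co e n f a 0 0 by simp [co]] at ha
      exact one_ne_zero (co_inj hF B ha).2.2
    have hinj : Function.Injective fun o => (QuotientGroup.mk (kk o) : K ⧸ S) := by
      intro o o' he
      rcases o with _ | o <;> rcases o' with _ | o'
      · rfl
      · obtain ⟨a, ha⟩ := hline _ _ (Eq.symm he)
        obtain ⟨r, hr, hr'⟩ := hvec o'
        exact absurd ⟨a, r, hr, by rw [← hr']; exact ha⟩ hnl
      · obtain ⟨a, ha⟩ := hline _ _ he
        obtain ⟨r, hr, hr'⟩ := hvec o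
        exact absurd ⟨a, r, hr, by rw [← hr']; exact ha⟩ hnl
      · rcases o with _ | p <;> rcases o' with _ | p'
        · rfl
        · exact absurd he (hcase p')
        · exact absurd he.symm (hcase p)
        · obtain ⟨a, ha⟩ := hline _ _ he
          simp only [kk] at ha
          rw [UW_e hF B (hokp p), UW_e hF B (hokp p'), smul_co] at ha
          obtain ⟨k0, k1, k2⟩ := co_inj hF B ha
          rw [mul_one] at k2
          rw [← k2, one_mul] at k0 k1
          have e1 : p'.1 = p.1 := Subtype.ext k1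
          rw [e1] at k0
          exact congrArg (fun x => some (some x)) (Prod.ext e1.symm
            (Subtype.ext (Subtype.ext (add_left_cancel k0)).symm))
    have h1 := Nat.card_le_card_of_injective _ hinj
    rw [Finite.card_option, Finite.card_option, Nat.card_prod, hs.card4, ← Subgroup.index_eq_card] at h1
    have h2 : 2 ≤ Nat.card (fix₀ hF F₀) := Finite.one_lt_card
    omega
  -- nineteen divides the number of points
  have h19 : 19 ∣ S.index := by
    by_contra hc
    have hcop : Nat.Coprime S.index 19 := Nat.Coprime.symm ((by norm_num : Nat.Prime 19).coprime_iff_not_dvd.2 hc)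
    have hodd : Nat.Coprime S.index 64 :=
      Nat.Coprime.pow_right 6 ((Nat.prime_two.coprime_iff_not_dvd).2 (by omega)).symm
    have h1 : S.index ∣ 189 := (hodd.mul_right hcop).dvd_of_dvd_mul_left (by norm_num; exact hdvd)
    have h3 := Nat.le_of_dvd (by norm_num) h1
    interval_cases hidx : S.index <;> omega
  -- its Sylow number
  haveI : Fact (Nat.Prime 19) := ⟨by norm_num⟩
  have hcardK : Nat.card K = 72 * S.index := by rw [← hn, mul_comm]
  obtain ⟨P⟩ : Nonempty (Sylow 19 K) := inferInstance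
  set N := Subgroup.normalizer (P : Set K) with hN
  have hNodd : ¬ 2 ∣ Nat.card N := by
    intro h2
    obtain ⟨⟨u, huN⟩, hu⟩ := exists_prime_orderOf_dvd_card' 2 h2
    have huu : u * u = 1 := by
      have := pow_orderOf_eq_one (⟨u, huN⟩ : N)
      rw [hu, sq] at this
      exact congrArg Subtype.val this
    have hu1 : u ≠ 1 := fun e0 => by
      have h3 : (⟨u, huN⟩ : N) = 1 := Subtype.ext e0
      rw [h3, orderOf_one] at hu
      norm_num at hu
    -- an involution is conjugate to the transvection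
    have hinv : ∀ v : K, v * v = 1 → v ≠ 1 → ∃ k : K, v = k * T * k⁻¹ := by
      intro v hvv hv1
      have hpg : IsPGroup 2 (Subgroup.zpowers v) := by
        refine IsPGroup.of_card (n := 1) ?_
        rw [Nat.card_zpowers, pow_one, orderOf_eq_prime (p := 2) (by rw [sq]; exact hvv) hv1]
      obtain ⟨p, hp⟩ := hpg.nonempty_fixed_point_of_prime_not_dvd_card (K ⧸ S) (by
        rw [← Subgroup.index_eq_card]; omega)
      obtain ⟨k, rfl⟩ := QuotientGroup.mk_surjective p
      have h1 : QuotientGroup.mk (v * k) = (QuotientGroup.mk k : K ⧸ S) := hp ⟨v, Subgroup.mem_zpowers v⟩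
      rw [eq_comm, QuotientGroup.eq, hS, Subgroup.mem_subgroupOf] at h1
      refine ⟨k, ?_⟩
      obtain ⟨s, hs'⟩ : ∃ s : K, s = k⁻¹ * v * k := ⟨_, rfl⟩
      have hsB : (s : SU 3 F q) ∈ Bor B := by rw [hs', mul_assoc]; exact h1
      suffices hsT : s = T by rw [← hsT, hs']; group
      have hss : s * s = 1 := by
        rw [hs', show k⁻¹ * v * k * (k⁻¹ * v * k) = k⁻¹ * (v * v) * k by group, hvv, mul_one, inv_mul_cancel]
      obtain ⟨l, hl⟩ := hsB
      obtain ⟨α, b, hl0, hok, he⟩ := bor_form hF B hl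
      have hl1 : l = 1 := by
        have h3 := congrArg (fun x : K => suVal (x : SU 3 F q) *ᵥ e) hss
        simp only [Subgroup.coe_mul, OneMemClass.coe_one, mulVec_mul, hl, Matrix.mulVec_smul, smul_smul,
          suVal_one', Matrix.one_mulVec] at h3
        have h4 : l * l - 1 = 0 := by
          by_contra hne
          exact B.P.ne_zero ((smul_eq_zero.1 (show (l * l - 1) • e = 0 by
            rw [sub_smul, h3, one_smul, sub_self])).resolve_left hne)
        have h5 : (l - 1) * (l - 1) = 0 := by linear_combination h4 - (l - 1) * hs.two hF B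
        exact sub_eq_zero.1 (mul_self_eq_zero.1 h5)
      rw [hl1, T_one hF B, mul_one] at he
      have h3 := congrArg Subtype.val hss
      rw [Subgroup.coe_mul, he, U_mul hF B hok hok] at h3
      obtain ⟨-, hb⟩ := U_eq_one hF B (hok.mul hF hok) h3
      have hα : α = 0 := by
        have h4 : cj α * α = 0 := by linear_combination -hb + b * hs.two hF B
        rcases mul_eq_zero.1 h4 with e0 | e0
        · exact (map_eq_zero cj).1 e0
        · exact e0
      subst hα
      rcases hs.coeff hF B (c := b) ⟨by simpa [OK] using hok, he ▸ s.2⟩ with e0 | e0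
      · exfalso
        have hs1 : s = 1 := Subtype.ext (by rw [he, e0, U_zero hF B]; rfl)
        refine hv1 ?_
        rw [hs'] at hs1
        calc v = k * (k⁻¹ * v * k) * k⁻¹ := by group
          _ = 1 := by rw [hs1, mul_one, mul_inv_cancel]
      · exact Subtype.ext (by rw [he, e0]; rfl)
    obtain ⟨k, hk⟩ := hinv u huu hu1
    -- move to the transvection
    have hP : Nat.card (P : Subgroup K) = 19 := by
      rw [P.card_eq_multiplicity, hcardK]
      obtain ⟨m, hm⟩ := h19
      have hm19 : ¬ 19 ∣ 72 * m := fun hd => by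
        have h1 : 19 * 19 ∣ 72 * S.index := by
          rw [hm, show 72 * (19 * m) = 19 * (72 * m) by ring]; exact Nat.mul_dvd_mul_left 19 hd
        have h2 : 19 * 19 ∣ 229824 * 72 := h1.trans (by rw [mul_comm 72]; exact Nat.mul_dvd_mul_right hdvd 72)
        norm_num at h2
      rw [hm, show 72 * (19 * m) = 19 * (72 * m) by ring, Nat.factorization_mul (by norm_num) (fun e0 => by
        rw [e0] at hm19; exact hm19 (dvd_zero 19)), Finsupp.add_apply, Nat.Prime.factorization_self (by norm_num),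
        Nat.factorization_eq_zero_of_not_dvd hm19, add_zero, pow_one]
    obtain ⟨⟨x, hx⟩, hxo⟩ := exists_prime_orderOf_dvd_card' (G := (P : Subgroup K)) 19 (dvd_of_eq hP.symm)
    have hcyc : IsCyclic (P : Subgroup K) := isCyclic_of_prime_card hP
    obtain ⟨y, hy⟩ : ∃ y : K, y = k⁻¹ * x * k := ⟨_, rfl⟩
    have hxo' : orderOf x = 19 := by
      rw [← hxo]
      exact orderOf_injective (P : Subgroup K).subtype Subtype.val_injective ⟨x, hx⟩
    have hyo : orderOf y = 19 := by
      have h1 := (MulEquiv.orderOf_eq (MulAut.conj k⁻¹) x).trans hxo'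
      simpa [hy] using h1
    obtain ⟨y', hy'⟩ : ∃ y' : K, y' = T * y * T⁻¹ := ⟨_, rfl⟩
    have hux : u * x * u⁻¹ ∈ (P : Subgroup K) := (Subgroup.mem_normalizer_iff.1 huN x).1 hx
    have hcomm : y * y' = y' * y := by
      have h1 : Commute (⟨x, hx⟩ : (P : Subgroup K)) ⟨_, hux⟩ := by
        obtain ⟨g₀, hg₀⟩ := hcyc.exists_generator
        obtain ⟨i, hi⟩ := Subgroup.mem_zpowers_iff.1 (hg₀ ⟨x, hx⟩)
        obtain ⟨j, hj⟩ := Subgroup.mem_zpowers_iff.1 (hg₀ ⟨_, hux⟩)
        rw [← hi, ← hj]
        exact (Commute.refl g₀).zpow_zpow i j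
      have h2 : x * (u * x * u⁻¹) = u * x * u⁻¹ * x := congrArg Subtype.val h1.eq
      have e2 : y' = k⁻¹ * (u * x * u⁻¹) * k := by rw [hy', hy, hk]; group
      rw [e2, hy]
      calc k⁻¹ * x * k * (k⁻¹ * (u * x * u⁻¹) * k) = k⁻¹ * (x * (u * x * u⁻¹)) * k := by group
        _ = _ := by rw [h2]; group
    have hTi : T⁻¹ = T := inv_eq_of_mul_eq_one_right hTT
    have hprod : y * y' * T = T * (y * y') := by
      conv_rhs => rw [hcomm]
      rw [hy', hTi]
      simp only [mul_assoc, hTT, mul_one]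
      rw [← mul_assoc T T, hTT, one_mul]
    have hyy : y * y' = 1 := by
      have hmem := mem_of_commute hF B hs hq8 hscal hprod
      have h1 : orderOf (y * y') ∣ 72 := hS72 ▸ by
        rw [← Subgroup.orderOf_mk (H := S) (y * y') (Subgroup.mem_subgroupOf.2 hmem)]
        exact orderOf_dvd_natCard _
      have h2 : orderOf (y * y') ∣ 19 := by
        refine orderOf_dvd_of_pow_eq_one ?_
        rw [(show Commute y y' from hcomm).mul_pow, hy', conj_pow, ← hyo, pow_orderOf_eq_one, mul_one,
          mul_inv_cancel, mul_one]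
      exact orderOf_eq_one_iff.1 (Nat.dvd_one.1 (Nat.dvd_gcd h1 h2))
    -- the product with the transvection is another involution
    have hTy : T * y * (T * y) = 1 := by
      have e2 : T * y * T = y⁻¹ :=
        calc T * y * T = y' := by rw [hy', hTi]
          _ = y⁻¹ := (inv_eq_of_mul_eq_one_right hyy).symm
      rw [← mul_assoc, e2, inv_mul_cancel]
    have hTy1 : T * y ≠ 1 := fun e0 => by
      have : y = T := by rw [← hTi]; exact eq_inv_of_mul_eq_one_right e0
      rw [this, orderOf_eq_prime (p := 2) (by rw [sq]; exact hTT) (tInv_ne hF B hs hq8)] at hyo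
      norm_num at hyo
    obtain ⟨k', hk'⟩ := hinv _ hTy hTy1
    have hy504 : y ^ 504 = 1 := by
      rw [show y = T * (k' * T * k'⁻¹) by rw [← hk', ← mul_assoc, hTT, one_mul]]
      exact pair_pow hF B hs hq8 hscal k'
    have := orderOf_dvd_of_pow_eq_one hy504
    rw [hyo] at this
    norm_num at this
  have hnum := card_sylow_modEq_one 19 K
  rw [Sylow.card_eq_index_normalizer P, ← hN] at hnum
  have hNi : Nat.card N * N.index = 72 * S.index := by rw [Subgroup.card_mul_index, hcardK]
  obtain ⟨k8, hk8⟩ : 8 ∣ N.index := by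
    have h1 : (8 : ℕ).Coprime (Nat.card N) :=
      Nat.Coprime.pow_left 3 ((Nat.prime_two.coprime_iff_not_dvd).2 hNodd)
    exact h1.dvd_of_dvd_mul_left (hNi ▸ Dvd.dvd.mul_right (by norm_num) _)
  have hk : k8 ∣ 243 * 7 := by
    have h1 : N.index ∣ 72 * 229824 := by
      refine Dvd.dvd.trans ?_ (Nat.mul_dvd_mul_left 72 hdvd)
      rw [← hNi]; exact Dvd.intro_left _ rfl
    rw [hk8] at h1
    have h2 : k8 ∣ 243 * 7 * (19 * 64) := by
      have h3 : 8 * k8 ∣ 8 * (243 * 7 * (19 * 64)) := h1.trans (by norm_num)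
      exact (Nat.mul_dvd_mul_iff_left (by norm_num)).1 h3
    refine Nat.Coprime.dvd_of_dvd_mul_right (Nat.Coprime.mul_right ?_ ?_) h2
    · refine ((by norm_num : Nat.Prime 19).coprime_iff_not_dvd.2 fun hd => ?_).symm
      rw [Nat.ModEq, hk8] at hnum
      omega
    · refine Nat.Coprime.pow_right 6 ((Nat.prime_two.coprime_iff_not_dvd).2 fun hd => ?_).symm
      have h4 : 16 ∣ 72 * S.index := by
        rw [← hNi, hk8]
        exact (Nat.mul_dvd_mul_left 8 hd).trans (Dvd.intro_left _ rfl)
      omega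
  obtain ⟨i, j, hi, hj, rfl⟩ : ∃ i j, i ≤ 5 ∧ j ≤ 1 ∧ k8 = 3 ^ i * 7 ^ j := by
    obtain ⟨a, b, ha, hb, rfl⟩ := (Nat.dvd_mul).1 hk
    obtain ⟨i, hi, rfl⟩ := (Nat.dvd_prime_pow Nat.prime_three (m := 5)).1 (by norm_num; exact ha)
    obtain ⟨j, hj, rfl⟩ := (Nat.dvd_prime_pow (p := 7) (by norm_num) (m := 1)).1 (by norm_num; exact hb)
    exact ⟨i, j, hi, hj, rfl⟩
  rw [Nat.ModEq, hk8] at hnum
  interval_cases i <;> interval_cases j <;> omega

end Cfsg.Agent.Classical.SUThree
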