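import Cfsg.Agent.Lib.Classical.SUThree.SubfieldCore

/-!
The root groups: a hyperbolic plane with two families of transvections gives a full root group, and a full root
group with the rational elements gives the whole group.
-/

set_option autoImplicit false
set_option linter.unusedSectionVars false
set_option maxHeartbeats 1000000

namespace Cfsg.Agent.Classical.SUThree

open Matrix Cfsg Cfsg.Agent.Classical Cfsg.Agent.Classical.PSUAut Cfsg.Agent.Fus.UnitN Cfsg.Agent.Lie.SUGen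
  Cfsg.Agent.Lie.SU3Pres Cfsg.Agent.Transfer.U3Min Cfsg.Agent.Grp.SL2

variable {F : Type*} [Field F] [Fintype F] {q : ℕ} (hF : Fintype.card F = q ^ 2)

local notation "cj" => qFrob hF
local notation "h" => hermForm 3 F q
local notation "SL₂L" => Matrix.SpecialLinearGroup (Fin 2) (fixF hF)

variable {e n f : Fin 3 → F} (B : Frame3 q e n f)

/-- The image of a matrix over the fixed field acting on the plane of `e` and `f`. -/
def OnPlane (_B : Frame3 q e n f) (τ : F) (g : SU 3 F q) (A : SL₂L) : Prop :=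
  ∀ x y z, suVal g *ᵥ co e n f x y z = co e n f ((A.1 0 0 : F) * x + (A.1 0 1 : F) * τ * z) y
    ((A.1 1 0 : F) / τ * x + (A.1 1 1 : F) * z)

include hF

theorem OnPlane.mul {τ : F} (hτ : τ ≠ 0) {g g' : SU 3 F q} {A A' : SL₂L} (hg : OnPlane hF B τ g A)
    (hg' : OnPlane hF B τ g' A') : OnPlane hF B τ (g * g') (A * A') := by
  intro x y z
  rw [mulVec_mul, hg', hg]
  simp only [Matrix.SpecialLinearGroup.coe_mul, Matrix.mul_apply, Fin.sum_univ_two, AddMemClass.coe_add,
    MulMemClass.coe_mul]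
  congr 1 <;> field_simp <;> ring

theorem OnPlane.eq {τ : F} {g g' : SU 3 F q} {A : SL₂L} (hg : OnPlane hF B τ g A) (hg' : OnPlane hF B τ g' A) :
    g = g' := ext_co hF B fun x y z => by rw [hg, hg']

theorem onPlane_one (τ : F) : OnPlane hF B τ (1 : SU 3 F q) (1 : SL₂L) := fun x y z => by
  simp [suVal_one', Matrix.one_mulVec]

theorem skew_mul {τ : F} (hτ : τ + cj τ = 0) {a : F} (ha : cj a = a) : τ * a + cj (τ * a) = 0 := by
  rw [map_mul, ha]; linear_combination a * hτ

theorem onPlane_up {τ : F} (hτ : τ + cj τ = 0) (a : fixF hF) :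
    OnPlane hF B τ (Um hF B 0 (τ * (a : F))) (up a) := fun x y z => by
  rw [U_act hF B (OK.skew hF (skew_mul hF hτ a.2))]
  simp [up]
  congr 1
  ring

theorem onPlane_low {τ : F} (hτ : τ + cj τ = 0) (hτ0 : τ ≠ 0) (a : fixF hF) :
    OnPlane hF B τ (Wm hF B * Um hF B 0 ((a : F) / τ) * Wm hF B) (low a) := fun x y z => by
  have ha : (a : F) / τ + cj ((a : F) / τ) = 0 := by
    rw [map_div₀, show cj (a : F) = a from a.2, show cj τ = -τ by linear_combination hτ, div_neg, add_neg_cancel]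
  rw [mulVec_mul, mulVec_mul, W_act hF B, U_act hF B (OK.skew hF ha), W_act hF B]
  simp [low]
  congr 1
  ring

/-- The matrices acting inside a subgroup. -/
noncomputable def planeSub (τ : F) (hτ : τ ≠ 0) (K : Subgroup (SU 3 F q)) : Subgroup SL₂L where
  carrier := {A | ∃ g ∈ K, OnPlane hF B τ g A}
  one_mem' := ⟨1, one_mem K, onPlane_one hF B τ⟩
  mul_mem' := fun ⟨g, hg, hgA⟩ ⟨g', hg', hgA'⟩ => ⟨g * g', mul_mem hg hg', hgA.mul hF B hτ hgA'⟩
  inv_mem' := fun {A} ⟨g, hg, hgA⟩ => by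
    refine ⟨g⁻¹, inv_mem hg, fun x y z => su_cancel (g := g) ?_⟩
    rw [← mulVec_mul, mul_inv_cancel, suVal_one', Matrix.one_mulVec, hgA]
    have h1 : A * A⁻¹ = 1 := mul_inv_cancel A
    have e : ∀ i j, (A.1 i 0 : F) * ((A⁻¹).1 0 j : F) + (A.1 i 1 : F) * ((A⁻¹).1 1 j : F) =
        (((1 : SL₂L).1 i j : fixF hF) : F) := fun i j => by
      have h2 := congrArg (fun M : SL₂L => ((M.1 i j : fixF hF) : F)) h1
      simp only [Matrix.SpecialLinearGroup.coe_mul, Matrix.mul_apply, Fin.sum_univ_two, AddMemClass.coe_add,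
        MulMemClass.coe_mul] at h2
      exact h2
    have e00 := e 0 0
    have e01 := e 0 1
    have e10 := e 1 0
    have e11 := e 1 1
    simp only [Matrix.SpecialLinearGroup.coe_one, Matrix.one_apply_eq, OneMemClass.coe_one,
      Matrix.one_apply_ne (show (0 : Fin 2) ≠ 1 by decide), Matrix.one_apply_ne (show (1 : Fin 2) ≠ 0 by decide),
      ZeroMemClass.coe_zero] at e00 e01 e10 e11
    congr 1
    · field_simp
      linear_combination -x * e00 - (τ * z) * e01
    · field_simp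
      linear_combination -x * e10 - (τ * z) * e11

variable {F₀ : Subfield F} {t : F} {K : Subgroup (SU 3 F q)} (hd : SubSetup hF B F₀ t K)
include hd

/-- The rational central elements of the unipotent radical. -/
theorem SubSetup.rat_skew {c : F} (hc : c + cj c = 0) (hc₀ : c ∈ F₀) : Um hF B 0 c ∈ K :=
  hd.rat _ (ratSU_U hF B (OK.skew hF hc) (zero_mem _) hc₀)

theorem SubSetup.skew_mem {a : F} (ha : a ∈ F₀) (hac : cj a = a) :
    (t - cj t) * a + cj ((t - cj t) * a) = 0 ∧ (t - cj t) * a ∈ F₀ :=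
  ⟨skew_mul hF (hd.skew hF B).1 hac, mul_mem (hd.skew hF B).2.2 ha⟩

/-- Plane generation gives the full root group at `e`. -/
theorem SubSetup.full_of_plane {K' : Subgroup (SU 3 F q)}
    (htop : planeSub hF B (t - cj t) (hd.skew hF B).2.1 K' = ⊤) {c : F} (hc : c + cj c = 0) :
    Um hF B 0 c ∈ K' := by
  obtain ⟨hsk, hτ0, -⟩ := hd.skew hF B
  have ha : cj (c / (t - cj t)) = c / (t - cj t) := by
    rw [map_div₀, show cj c = -c by linear_combination hc, show cj (t - cj t) = -(t - cj t) by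
      linear_combination hsk, neg_div_neg_eq]
  obtain ⟨g, hg, hgA⟩ : up (⟨_, ha⟩ : fixF hF) ∈ planeSub hF B (t - cj t) hτ0 K' := htop ▸ Subgroup.mem_top _
  have h1 := hgA.eq hF B (onPlane_up hF B hsk ⟨_, ha⟩)
  rw [mul_div_cancel₀ _ hτ0] at h1
  exact h1 ▸ hg

/-- A new coefficient, over the field of four elements. -/
theorem SubSetup.full_of_coeff (h4 : Nat.card F₀ = 4) {c : F} (hc : c + cj c = 0) (hcK : Um hF B 0 c ∈ K)
    (hcn : c ∉ F₀) {d : F} (hd' : d + cj d = 0) : Um hF B 0 d ∈ K := by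
  obtain ⟨hsk, hτ0, hτ⟩ := hd.skew hF B
  refine hd.full_of_plane hF B ?_ hd'
  have hchar : (2 : F) = 0 := by
    haveI : Fintype F₀ := Fintype.ofFinite _
    have h1 := FiniteField.cast_card_eq_zero F₀
    rw [← Nat.card_eq_fintype_card, h4] at h1
    have h2 : (2 : F₀) * 2 = 0 := by
      rw [← h1]; norm_num
    have h3 := congrArg F₀.subtype (mul_self_eq_zero.1 h2)
    rwa [map_ofNat, map_zero] at h3
  haveI : CharP F 2 := CharP.charP_iff_prime_eq_zero Nat.prime_two |>.2 (by exact_mod_cast hchar)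
  haveI : CharP (fixF hF) 2 := (fixF hF).subtype.charP (fixF hF).subtype.injective 2
  haveI : Fintype (fixF hF) := Fintype.ofFinite _
  have ha : cj (c / (t - cj t)) = c / (t - cj t) := by
    rw [map_div₀, show cj c = -c by linear_combination hc, show cj (t - cj t) = -(t - cj t) by
      linear_combination hsk, neg_div_neg_eq]
  have hτinv : (t - cj t)⁻¹ + cj (t - cj t)⁻¹ = 0 := by
    rw [map_inv₀, show cj (t - cj t) = -(t - cj t) by linear_combination hsk, inv_neg, add_neg_cancel]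
  have h1 : up (1 : fixF hF) ∈ planeSub hF B (t - cj t) hτ0 K :=
    ⟨_, hd.rat_skew hF B (skew_mul hF hsk (map_one cj)) (mul_mem hτ (one_mem _)), onPlane_up hF B hsk 1⟩
  have h2 : up (⟨_, ha⟩ : fixF hF) ∈ planeSub hF B (t - cj t) hτ0 K :=
    ⟨_, by rwa [show (t - cj t) * ((⟨_, ha⟩ : fixF hF) : F) = c from mul_div_cancel₀ _ hτ0],
      onPlane_up hF B hsk ⟨_, ha⟩⟩
  have hW := hd.rat _ (ratSU_W hF B)
  have h3 : low (1 : fixF hF) ∈ planeSub hF B (t - cj t) hτ0 K :=
    ⟨_, mul_mem (mul_mem hW (hd.rat_skew hF B (c := ((1 : fixF hF) : F) / (t - cj t))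
      (by simpa [one_div] using hτinv) (div_mem (one_mem _) hτ))) hW, onPlane_low hF B hsk hτ0 1⟩
  have hc0 : c ≠ 0 := fun e0 => hcn (e0 ▸ zero_mem _)
  refine eq_top_two (a₁ := 1) (a₂ := ⟨_, ha⟩) one_ne_zero
    (fun e0 => div_ne_zero hc0 hτ0 (congrArg Subtype.val e0))
    (fun e0 => hcn ?_) one_ne_zero h1 h2 h3 fun S hS => ?_
  · have e1 : 1 = c / (t - cj t) := congrArg Subtype.val e0
    rw [eq_div_iff hτ0, one_mul] at e1
    exact e1 ▸ hτ
  · refine hd.gen hF B (α := ⟨_, ha⟩) (fun hm => hcn ?_) S (fun x hx => ?_) (by simpa using hS _ 1 h2 h3)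
    · have := mul_mem (show c / (t - cj t) ∈ F₀ from hm) hτ
      rwa [div_mul_cancel₀ _ hτ0] at this
    · have h5 : (x : F) * (t - cj t) + cj ((x : F) * (t - cj t)) = 0 := by
        rw [mul_comm]; exact skew_mul hF hsk x.2
      have h6 : up x ∈ planeSub hF B (t - cj t) hτ0 K :=
        ⟨_, hd.rat_skew hF B (c := (t - cj t) * (x : F)) (by rwa [mul_comm]) (mul_mem hτ hx), onPlane_up hF B hsk x⟩
      simpa using hS x 1 h6 h3

/-- A nonrational point gives the full root group at `e`. -/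
theorem SubSetup.full_of_point (h4 : Nat.card F₀ ≠ 4) {g : SU 3 F q} (hg : g ∈ K)
    (hN : h e (suVal g *ᵥ e) * cj (h e (suVal g *ᵥ e)) ∉ F₀) {d : F} (hd' : d + cj d = 0) :
    Um hF B 0 d ∈ K := by
  classical
  obtain ⟨hsk, hτ0, hτ⟩ := hd.skew hF B
  obtain ⟨x, y, z, hv⟩ := exists_co hF B (suVal g *ᵥ e)
  have hiso : x * cj z + y * cj y + z * cj x = 0 := by rw [← B.h_co hF, ← hv, su_form, B.P.ee]
  rw [hv, h_e hF B, cj_cj hF, mul_comm] at hN
  have hz : z ≠ 0 := fun e0 => hN (by rw [e0]; simp)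
  have hz' : cj z ≠ 0 := (map_ne_zero cj).2 hz
  obtain ⟨u, hu⟩ : ∃ u, u = Um hF B (y / z) (x / z) := ⟨_, rfl⟩
  have hok : OK hF (y / z) (x / z) := by
    simp only [OK, map_div₀]
    field_simp
    linear_combination hiso
  have hbor : suVal ((u * Wm hF B)⁻¹ * g) *ᵥ e = z • e := by
    refine su_cancel (g := u * Wm hF B) ?_
    rw [← mulVec_mul, mul_inv_cancel_left, Matrix.mulVec_smul, hu, UW_e hF B hok, smul_co, hv]
    congr 1 <;> field_simp
  obtain ⟨α, b, hz0, hb, hge⟩ := bor_form hF B hbor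
  have hN0 : z * cj z ≠ 0 := mul_ne_zero hz hz'
  have hNfix : cj (z * cj z) = z * cj z := by rw [map_mul, cj_cj hF, mul_comm]
  have hα : cj ((t - cj t) * (t - cj t) * (z * cj z)) = (t - cj t) * (t - cj t) * (z * cj z) := by
    rw [map_mul, map_mul, hNfix, show cj (t - cj t) = -(t - cj t) by linear_combination hsk]; ring
  -- the opposite family
  have hopp : ∀ a : F, cj a = a → a ∈ F₀ →
      Wm hF B * Um hF B 0 ((t - cj t) * a * (z * cj z)) * Wm hF B ∈ conjH K u := by
    intro a ha ha₀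
    obtain ⟨hs1, hs2⟩ := hd.skew_mem hF B ha₀ ha
    have h1 := mul_mem (mul_mem hg (hd.rat_skew hF B hs1 hs2)) (inv_mem hg)
    have hg' : g = u * Wm hF B * (Um hF B α b * Tm hF B z) := by rw [← hge, mul_inv_cancel_left]
    have hWi : (Wm hF B)⁻¹ = Wm hF B := inv_eq_of_mul_eq_one_right (W_sq hF B)
    rw [show (t - cj t) * a * (z * cj z) = z * cj z * ((t - cj t) * a) by ring, ← conj_center hF B hb hz0 hs1,
      mem_conjH]
    rw [hg'] at h1
    convert h1 using 1
    simp only [_root_.mul_inv_rev, hWi, mul_assoc]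
  have hup : ∀ a : fixF hF, (a : F) ∈ F₀ → up a ∈ planeSub hF B (t - cj t) hτ0 (conjH K u) := fun a ha => by
    obtain ⟨hs1, hs2⟩ := hd.skew_mem hF B ha a.2
    refine ⟨_, ?_, onPlane_up hF B hsk a⟩
    rw [mem_conjH, hu]
    have hcomm : Um hF B (y / z) (x / z) * Um hF B 0 ((t - cj t) * (a : F)) =
        Um hF B 0 ((t - cj t) * (a : F)) * Um hF B (y / z) (x / z) := by
      rw [U_mul hF B hok (OK.skew hF hs1), U_mul hF B (OK.skew hF hs1) hok]
      simp [add_comm]
    rw [hcomm, mul_inv_cancel_right]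
    exact hd.rat_skew hF B hs1 hs2
  obtain ⟨αL, hαL⟩ : ∃ αL : fixF hF, αL = ⟨_, hα⟩ := ⟨_, rfl⟩
  have hlow : ∀ a : fixF hF, (a : F) ∈ F₀ → low (a * αL) ∈ planeSub hF B (t - cj t) hτ0 (conjH K u) := fun a ha => by
    refine ⟨_, hopp (a : F) a.2 ha, ?_⟩
    have h1 := onPlane_low hF B hsk hτ0 (a * αL)
    rwa [show ((a * αL : fixF hF) : F) / (t - cj t) = (t - cj t) * (a : F) * (z * cj z) by
      rw [MulMemClass.coe_mul, hαL]; field_simp] at h1
  have hαk : αL ∉ fix₀ hF F₀ := fun hm => hN (by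
    have h1 : (t - cj t) * (t - cj t) * (z * cj z) ∈ F₀ := by rw [hαL] at hm; exact hm
    have h2 := div_mem h1 (mul_mem hτ hτ)
    rwa [mul_div_cancel_left₀ _ (mul_ne_zero hτ0 hτ0)] at h2)
  have hk2 : 2 ≤ Nat.card (fix₀ hF F₀) := Finite.one_lt_card
  have hk : 3 ≤ Nat.card (fix₀ hF F₀) := by
    rcases Nat.lt_or_ge 2 (Nat.card (fix₀ hF F₀)) with h' | h'
    · omega
    · exact absurd (by rw [hd.card₀ hF B, show Nat.card (fix₀ hF F₀) = 2 by omega]) h4
  haveI : Fintype (fixF hF) := Fintype.ofFinite _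
  have hsq : Nat.card (fix₀ hF F₀) = 3 → αL * αL ≠ -1 := by
    intro h3 e0
    haveI : Fintype F₀ := Fintype.ofFinite _
    obtain ⟨i, hi⟩ := FiniteField.isSquare_neg_one_iff.2 (show Fintype.card F₀ % 4 ≠ 3 by
      rw [← Nat.card_eq_fintype_card, hd.card₀ hF B, h3]; norm_num)
    have hi' : (i : F) * i = -1 := by simpa using (congrArg Subtype.val hi).symm
    have e1 : (αL : F) * αL = -1 := by simpa using congrArg Subtype.val e0
    rcases mul_self_eq_mul_self_iff.1 (e1.trans hi'.symm) with e2 | e2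
    · exact hαk (show (αL : F) ∈ F₀ by rw [e2]; exact i.2)
    · exact hαk (show (αL : F) ∈ F₀ by rw [e2]; exact neg_mem i.2)
  have htop := eq_top_of_families (Or.inl hk) (α := αL) (fun e0 => hαk (e0 ▸ zero_mem _)) hsq
    (fun S hS hαS => hd.gen hF B hαk S hS hαS) (fun a ha => hup a ha) fun a ha => hlow a ha
  have h1 := hd.full_of_plane hF B htop hd'
  rw [mem_conjH, hu] at h1
  have hcomm : Um hF B (y / z) (x / z) * Um hF B 0 d = Um hF B 0 d * Um hF B (y / z) (x / z) := by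
    rw [U_mul hF B hok (OK.skew hF hd'), U_mul hF B (OK.skew hF hd') hok]
    simp [add_comm]
  rwa [hcomm, mul_inv_cancel_right] at h1

/-- The full root group with the rational elements gives everything. -/
theorem SubSetup.top_of_full (hq : 3 ≤ q) (hfull : ∀ c : F, c + cj c = 0 → Um hF B 0 c ∈ K) : K = ⊤ := by
  obtain ⟨hsk, hτ0, hτ⟩ := hd.skew hF B
  have hW := hd.rat _ (ratSU_W hF B)
  have hplane : planeSub hF B (t - cj t) hτ0 K = ⊤ := by
    haveI : Fintype (fixF hF) := Fintype.ofFinite _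
    refine Cfsg.Agent.Fus.AdjoinSL.eq_top_of_up_low (fun a => ⟨_, hfull _ (skew_mul hF hsk a.2), onPlane_up hF B hsk a⟩)
      fun a => ⟨_, mul_mem (mul_mem hW (hfull _ ?_)) hW, onPlane_low hF B hsk hτ0 a⟩
    rw [map_div₀, show cj (a : F) = a from a.2, show cj (t - cj t) = -(t - cj t) by linear_combination hsk, div_neg,
      add_neg_cancel]
  have htor : ∀ l : F, cj l = l → l ≠ 0 → Tm hF B l ∈ K := by
    intro l hl hl0
    have hl' : cj l⁻¹ = l⁻¹ := by rw [map_inv₀, hl]
    obtain ⟨A, hA⟩ : ∃ A : SL₂L, A.1 = !![⟨l, hl⟩, 0; 0, ⟨l⁻¹, hl'⟩] :=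
      ⟨⟨_, by rw [Matrix.det_fin_two_of, zero_mul, sub_zero]; exact Subtype.ext (mul_inv_cancel₀ hl0)⟩, rfl⟩
    obtain ⟨g, hg, hgA⟩ : A ∈ planeSub hF B (t - cj t) hτ0 K := hplane ▸ Subgroup.mem_top _
    suffices hgT : g = Tm hF B l from hgT ▸ hg
    refine ext_co hF B fun x y z => ?_
    rw [hgA, T_act hF B hl0, hl]
    simp [hA, hl0]
  have hw₀ : ∀ α ∈ F₀, α ∈ wSet hF B K := fun α hα => by
    obtain ⟨u, hu, hut⟩ : ∃ u ∈ F₀, u + cj u = -1 := by
      rcases eq_or_ne (t + cj t) 0 with h0 | h0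
      · have h2 : (2 : F) ≠ 0 := fun e2 => hd.t_ne (by linear_combination h0 - t * e2)
        refine ⟨-1 / 2, div_mem (neg_mem (one_mem _)) (ofNat_mem _ 2), ?_⟩
        simp only [map_div₀, map_neg, map_one, map_ofNat]
        field_simp
        ring
      · refine ⟨-t / (t + cj t), div_mem (neg_mem hd.t_mem) (add_mem hd.t_mem (cj_mem hF hd.t_mem)), ?_⟩
        simp only [map_div₀, map_neg, map_add, cj_cj hF, add_comm (cj t) t]
        field_simp
        ring
    have hok : OK hF α (u * (α * cj α)) := by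
      simp only [OK, map_mul, cj_cj hF]
      linear_combination (α * cj α) * hut
    exact ⟨_, hok, hd.rat _ (ratSU_U hF B hok hα (mul_mem hu (mul_mem hα (cj_mem hF hα))))⟩
  have hw : ∀ α, α ∈ wSet hF B K := by
    intro α
    have hfix : ∀ a : F, cj a = a → ∀ β ∈ F₀, a * β ∈ wSet hF B K := by
      intro a ha β hβ
      rcases eq_or_ne a 0 with rfl | ha0
      · rw [zero_mul]; exact zero_mem _
      have h1 := wSet_stable hF B ((mem_tSet hF B (K := K) (l := Units.mk0 a ha0)).2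
        ⟨_, htor a ha ha0, T_e hF B ha0⟩) (hw₀ β hβ)
      rwa [Units.val_mk0, th_real hF ha ha0] at h1
    obtain ⟨a, b, ha, hb, rfl, -⟩ := hd.split hF B α
    have h1 := hfix a ha 1 (one_mem _)
    rw [mul_one] at h1
    exact add_mem h1 (hfix b hb t hd.t_mem)
  have huni : ∀ α b, OK hF α b → Um hF B α b ∈ K := by
    intro α b hok
    obtain ⟨b', hok', hK⟩ := hw α
    have hs : (b - b') + cj (b - b') = 0 := by
      simp only [OK, map_sub] at hok hok' ⊢
      linear_combination hok - hok'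
    have h1 := mul_mem (hfull _ hs) hK
    rwa [U_mul hF B (OK.skew hF hs) hok', zero_add, map_zero, zero_mul, sub_zero, sub_add_cancel] at h1
  refine eq_top_of_full hF B hq fun g c hc => ?_
  obtain ⟨x, y, z, hv⟩ := exists_co hF B (suVal g *ᵥ e)
  have hiso : x * cj z + y * cj y + z * cj x = 0 := by rw [← B.h_co hF, ← hv, su_form, B.P.ee]
  rcases eq_or_ne z 0 with rfl | hz
  · have hy : y = 0 := by simpa using hiso
    refine conjH_bor hF B hfull (one_mem K) ⟨x, ?_⟩ hc
    rw [inv_one, one_mul, hv, hy]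
    simp [co]
  · have hz' : cj z ≠ 0 := (map_ne_zero cj).2 hz
    have hok : OK hF (y / z) (x / z) := by
      simp only [OK, map_div₀]
      field_simp
      linear_combination hiso
    refine conjH_bor hF B hfull (mul_mem (huni _ _ hok) hW) ⟨z, ?_⟩ hc
    refine su_cancel (g := Um hF B (y / z) (x / z) * Wm hF B) ?_
    rw [← mulVec_mul, mul_inv_cancel_left, Matrix.mulVec_smul, UW_e hF B hok, smul_co, hv]
    congr 1 <;> field_simp

end Cfsg.Agent.Classical.SUThree
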