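import Cfsg.Agent.Lib.Classical.SUThree.SubfieldRoot
import Cfsg.Agent.Lib.Classical.SUThree.InvolPairs

/-!
Over the field of four elements: an overgroup with no new transvection coefficient and a point off the rational
lines. The stabiliser of a point, and the contradiction when the centre parameters are as small as possible and
`q ≠ 8`.
-/

set_option autoImplicit false
set_option linter.unusedSectionVars false
set_option maxHeartbeats 1000000

namespace Cfsg.Agent.Classical.SUThree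

open Matrix Cfsg Cfsg.Agent.Classical Cfsg.Agent.Classical.PSUAut Cfsg.Agent.Fus.UnitN Cfsg.Agent.Lie.SUGen
  Cfsg.Agent.Lie.SU3Pres Cfsg.Agent.Transfer.U3Min

variable {F : Type*} [Field F] [Fintype F] {q : ℕ} (hF : Fintype.card F = q ^ 2)

local notation "cj" => qFrob hF
local notation "h" => hermForm 3 F q

variable {e n f : Fin 3 → F} (B : Frame3 q e n f) {F₀ : Subfield F} {t : F} {K : Subgroup (SU 3 F q)}

/-- The small case. -/
structure SmallSetup (F₀ : Subfield F) (t : F) (K : Subgroup (SU 3 F q)) : Prop extends SubSetup hF B F₀ t K where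
  card4 : Nat.card F₀ = 4
  small : ∀ c : F, c + cj c = 0 → Um hF B 0 c ∈ K → c ∈ F₀

/-- The scalar elements. -/
def scal (K : Subgroup (SU 3 F q)) : Subgroup K where
  carrier := {g | ∃ a : F, ∀ v, suVal (g : SU 3 F q) *ᵥ v = a • v}
  one_mem' := ⟨1, fun v => by rw [OneMemClass.coe_one, suVal_one', Matrix.one_mulVec, one_smul]⟩
  mul_mem' := by
    rintro g g' ⟨a, ha⟩ ⟨b, hb⟩
    exact ⟨a * b, fun v => by rw [Subgroup.coe_mul, mulVec_mul, hb, ha, smul_smul]⟩
  inv_mem' := by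
    rintro g ⟨a, ha⟩
    have ha0 : a ≠ 0 := fun e0 => by
      have h1 := su_cancel (g := (g : SU 3 F q)) (v := (1 : Fin 3 → F)) (w := 0)
        (by rw [ha, Matrix.mulVec_zero, e0, zero_smul])
      simpa using congrFun h1 0
    refine ⟨a⁻¹, fun v => su_cancel (g := (g : SU 3 F q)) ?_⟩
    rw [Subgroup.coe_inv, ← mulVec_mul, mul_inv_cancel, suVal_one', Matrix.one_mulVec, ha, smul_smul,
      mul_inv_cancel₀ ha0, one_smul]

/-- The element conjugate to the transvection. -/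
noncomputable def tInv (hs : SmallSetup hF B F₀ t K) (h1 : (1 : F) + cj 1 = 0) : K :=
  ⟨Um hF B 0 1, hs.rat_skew hF B h1 (one_mem _)⟩

include hF

section
variable (hs : SmallSetup hF B F₀ t K)
include hs

theorem SmallSetup.two : (2 : F) = 0 := by
  haveI : Fintype F₀ := Fintype.ofFinite _
  have h1 := FiniteField.cast_card_eq_zero F₀
  rw [← Nat.card_eq_fintype_card, hs.card4] at h1
  have h2 : (2 : F₀) * 2 = 0 := by
    rw [← h1]; norm_num
  have h3 := congrArg F₀.subtype (mul_self_eq_zero.1 h2)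
  rwa [map_ofNat, map_zero] at h3

theorem SmallSetup.neg_eq (x : F) : -x = x := by linear_combination (-x) * hs.two hF B

theorem SmallSetup.one_skew : (1 : F) + cj 1 = 0 := by rw [map_one]; linear_combination hs.two hF B

theorem SmallSetup.pow_four {x : F} (hx : x ∈ F₀) : x ^ 4 = x := by
  haveI : Fintype F₀ := Fintype.ofFinite _
  have h1 := congrArg Subtype.val (FiniteField.pow_card (⟨x, hx⟩ : F₀))
  rwa [← Nat.card_eq_fintype_card, hs.card4, SubmonoidClass.coe_pow] at h1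

theorem SmallSetup.t_quad : t * t + t + 1 = 0 ∧ cj t = t + 1 := by
  have ht0 : t ≠ 0 := fun e0 => hs.t_ne (by rw [e0, map_zero])
  have ht1 : t - 1 ≠ 0 := fun e0 => hs.t_ne (by rw [sub_eq_zero.1 e0, map_one])
  have hroot : ∀ x ∈ F₀, x ≠ 0 → x - 1 ≠ 0 → x * x + x + 1 = 0 := fun x hx h0 h1 => by
    have h4 : x * ((x - 1) * (x * x + x + 1)) = 0 := by linear_combination hs.pow_four hF B hx
    exact (mul_eq_zero.1 ((mul_eq_zero.1 h4).resolve_left h0)).resolve_left h1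
  have hq := hroot t hs.t_mem ht0 ht1
  refine ⟨hq, ?_⟩
  have hq' := hroot (cj t) (cj_mem hF hs.t_mem) ((map_ne_zero cj).2 ht0) fun e0 => ht1 (by
    have := congrArg cj (sub_eq_zero.1 e0)
    rw [cj_cj hF, map_one] at this
    rw [this, sub_self])
  have h1 : (cj t - t) * (cj t + t + 1) = 0 := by linear_combination hq' - hq
  linear_combination (mul_eq_zero.1 h1).resolve_left (sub_ne_zero.2 hs.t_ne) - (t + 1) * hs.two hF B

theorem SmallSetup.mem_four {x : F} (hx : x * x + x + 1 = 0) : x ∈ F₀ := by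
  obtain ⟨hq, -⟩ := hs.t_quad hF B
  have h1 : (x - t) * (x + t + 1) = 0 := by linear_combination hx - hq
  rcases mul_eq_zero.1 h1 with e0 | e0
  · rw [sub_eq_zero.1 e0]; exact hs.t_mem
  · rw [show x = -(t + 1) by linear_combination e0]; exact neg_mem (add_mem hs.t_mem (one_mem _))

theorem SmallSetup.cube_mem {x : F} (hx : x ^ 3 = 1) : x ∈ F₀ := by
  have h1 : (x - 1) * (x * x + x + 1) = 0 := by linear_combination hx
  rcases mul_eq_zero.1 h1 with e0 | e0
  · rw [sub_eq_zero.1 e0]; exact one_mem _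
  · exact hs.mem_four hF B e0

theorem SmallSetup.fixed_mem {x : F} (hx : x ∈ F₀) (hxc : cj x = x) : x = 0 ∨ x = 1 := by
  by_contra hc
  push Not at hc
  have h4 : x * ((x - 1) * (x * x + x + 1)) = 0 := by linear_combination hs.pow_four hF B hx
  have hr := (mul_eq_zero.1 ((mul_eq_zero.1 h4).resolve_left hc.1)).resolve_left (sub_ne_zero.2 hc.2)
  obtain ⟨hq, ht⟩ := hs.t_quad hF B
  have h1 : (x - t) * (x + t + 1) = 0 := by linear_combination hr - hq
  rcases mul_eq_zero.1 h1 with e0 | e0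
  · exact hs.t_ne (by rwa [sub_eq_zero.1 e0] at hxc)
  · refine hs.t_ne ?_
    rw [show x = -(t + 1) by linear_combination e0, map_neg, map_add, map_one] at hxc
    linear_combination -hxc

theorem SmallSetup.coeff {c : F} (hc : c ∈ aSet hF B K) : c = 0 ∨ c = 1 := by
  have h1 := hs.small c hc.1 hc.2
  exact hs.fixed_mem hF B h1 (by linear_combination hc.1 - c * hs.two hF B)

theorem SmallSetup.coeff_one : (1 : F) ∈ aSet hF B K :=
  ⟨hs.one_skew hF B, hs.rat_skew hF B (hs.one_skew hF B) (one_mem _)⟩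

theorem SmallSetup.okt : OK hF 1 t := by
  obtain ⟨-, ht⟩ := hs.t_quad hF B
  simp only [OK, map_one, mul_one]
  linear_combination ht + (t + 1) * hs.two hF B

theorem SmallSetup.ok_of {α : F} (hα : α ∈ F₀) : ∃ b ∈ F₀, OK hF α b := by
  refine ⟨t * (α * cj α), mul_mem hs.t_mem (mul_mem hα (cj_mem hF hα)), ?_⟩
  obtain ⟨-, ht⟩ := hs.t_quad hF B
  simp only [OK, map_mul, cj_cj hF]
  linear_combination (α * cj α) * (ht + (t + 1) * hs.two hF B)

theorem SmallSetup.wSet_rat {α : F} (hα : α ∈ F₀) : α ∈ wSet hF B K := by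
  obtain ⟨b, hb, hok⟩ := hs.ok_of hF B hα
  exact ⟨b, hok, hs.rat _ (ratSU_U hF B hok hα hb)⟩

theorem SmallSetup.wSet_mem {α : F} (hα : α ∈ wSet hF B K) : α ∈ F₀ := by
  have hco : ∀ β ∈ F₀, α * cj β - cj α * β ∈ F₀ := fun β hβ => by
    rcases hs.coeff hF B (comm_mem_aSet hF B hα (hs.wSet_rat hF B hβ)) with e0 | e0
    · rw [e0]; exact zero_mem _
    · rw [e0]; exact one_mem _
  have h1 := sub_mem (hco t hs.t_mem) (mul_mem hs.t_mem (hco 1 (one_mem _)))
  rw [map_one, mul_one, mul_one] at h1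
  obtain ⟨-, ht⟩ := hs.t_quad hF B
  convert h1 using 1
  linear_combination -α * ht

theorem SmallSetup.norm_one {l : Fˣ} (hl : l ∈ tSet B K) : (l : F) * cj (l : F) = 1 := by
  have h1 := aSet_stable hF B hl (hs.coeff_one hF B)
  rw [mul_one] at h1
  exact (hs.coeff hF B h1).resolve_left (mul_ne_zero l.ne_zero ((map_ne_zero cj).2 l.ne_zero))

theorem SmallSetup.pow_nine {l : Fˣ} (hl : l ∈ tSet B K) : (l : F) ^ 9 = 1 := by
  have h1 := hs.wSet_mem hF B (wSet_stable hF B hl (hs.wSet_rat hF B (one_mem _)))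
  rw [mul_one] at h1
  have hN := hs.norm_one hF B hl
  have hl0 := l.ne_zero
  have hc : cj (l : F) = 1 / l := by rw [eq_div_iff hl0]; linear_combination hN
  have hth : th hF (l : F) = 1 / (l : F) ^ 3 := by
    rw [th, hc]; field_simp
  rw [hth] at h1
  have h4 := hs.pow_four hF B h1
  field_simp at h4
  linear_combination -h4

theorem SmallSetup.scalar_torus {l : F} (hl : l ^ 3 = 1) (hN : l * cj l = 1) (v : Fin 3 → F) :
    suVal (Tm hF B l) *ᵥ v = l • v := by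
  have hl0 : l ≠ 0 := fun e0 => by simp [e0] at hl
  obtain ⟨x, y, z, rfl⟩ := exists_co hF B v
  rw [T_act hF B hl0, smul_co]
  have hc : cj l = 1 / l := by rw [eq_div_iff hl0]; linear_combination hN
  rw [hc]
  congr 1
  · field_simp
    linear_combination -y * hl
  · field_simp

theorem SmallSetup.scalar_ratSU {l : F} (hl : l ^ 3 = 1) (hN : l * cj l = 1) : RatSU B F₀ (Tm hF B l) := fun v hv => by
  rw [hs.scalar_torus hF B hl hN]
  exact hv.smul B (hs.cube_mem hF B hl)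

/-- The stabiliser of the point, when the scalars of the line are cube roots of one. -/
theorem SmallSetup.stab_form (h3 : ∀ l ∈ tSet B K, (l : F) ^ 3 = 1) {x : SU 3 F q} (hxK : x ∈ K) (hxB : x ∈ Bor B) :
    ∃ (l α b : F), l ^ 3 = 1 ∧ l * cj l = 1 ∧ α ∈ F₀ ∧ b ∈ F₀ ∧ OK hF α b ∧
      x = Um hF B α b * Tm hF B l := by
  obtain ⟨l, hl⟩ := hxB
  obtain ⟨α, b, hl0, hok, rfl⟩ := bor_form hF B hl
  have hmem : Units.mk0 l hl0 ∈ tSet B K := (mem_tSet hF B).2 ⟨_, hxK, by rw [Units.val_mk0]; exact hl⟩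
  have hl3 : l ^ 3 = 1 := by simpa using h3 _ hmem
  have hN : l * cj l = 1 := by simpa using hs.norm_one hF B hmem
  have hT := hs.rat _ (hs.scalar_ratSU hF B hl3 hN)
  have hU : Um hF B α b ∈ K := by
    have := mul_mem hxK (inv_mem hT)
    rwa [mul_inv_cancel_right] at this
  have hα := hs.wSet_mem hF B ⟨b, hok, hU⟩
  refine ⟨l, α, b, hl3, hN, hα, ?_, hok, rfl⟩
  obtain ⟨b', hb', hok'⟩ := hs.ok_of hF B hα
  have hsk : (b - b') + cj (b - b') = 0 := by
    simp only [OK, map_sub] at hok hok' ⊢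
    linear_combination hok - hok'
  have h1 : Um hF B 0 (b - b') ∈ K := by
    have e1 : Um hF B 0 (b - b') * Um hF B α b' = Um hF B α b := by
      rw [U_mul hF B (OK.skew hF hsk) hok', zero_add, map_zero, zero_mul, sub_zero, sub_add_cancel]
    rw [← mul_inv_eq_iff_eq_mul.2 e1.symm]
    exact mul_mem hU (inv_mem (hs.rat _ (ratSU_U hF B hok' hα hb')))
  simpa using add_mem (hs.small _ hsk h1) hb'

/-- Off `q = 8` the stabiliser is the scalars times the rational unipotent group, and meets its conjugates in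
scalars. -/
theorem SmallSetup.tiPair (h3 : ∀ l ∈ tSet B K, (l : F) ^ 3 = 1) :
    TIPair ((Bor B).subgroupOf K) (scal K) (tInv hF B hs (hs.one_skew hF B)) := by
  have hsub : ∀ {g : K}, g ∈ scal K → (g : SU 3 F q) ∈ Bor B := fun {g} ⟨a, ha⟩ => ⟨a, ha e⟩
  have hcomm : ∀ {α b : F}, OK hF α b → Um hF B α b * Um hF B 0 1 = Um hF B 0 1 * Um hF B α b := fun hok => by
    rw [U_mul hF B hok (OK.skew hF (hs.one_skew hF B)), U_mul hF B (OK.skew hF (hs.one_skew hF B)) hok]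
    simp [add_comm]
  refine ⟨fun g hg => Subgroup.mem_subgroupOf.2 (hsub hg), fun z ⟨a, ha⟩ g => ?_,
    Subgroup.mem_subgroupOf.2 (Uni_le_Bor hF B ⟨0, 1, OK.skew hF (hs.one_skew hF B), rfl⟩), fun ⟨a, ha⟩ => ?_, ?_,
    fun s hsS => ?_, fun g x hx hxZ hgx => ?_⟩
  · exact Subtype.ext (suVal_ext (Matrix.ext_iff_mulVec.2 fun v => by
      rw [Subgroup.coe_mul, Subgroup.coe_mul, mulVec_mul, mulVec_mul, ha, ha, Matrix.mulVec_smul]))
  · have h1 := ha (co e n f 0 0 1)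
    rw [show ((tInv hF B hs (hs.one_skew hF B) : K) : SU 3 F q) = Um hF B 0 1 from rfl,
      U_act hF B (OK.skew hF (hs.one_skew hF B)), smul_co] at h1
    obtain ⟨k0, -, -⟩ := co_inj hF B h1
    simp at k0
  · refine Subtype.ext ?_
    show Um hF B 0 1 * Um hF B 0 1 = (1 : SU 3 F q)
    rw [U_mul hF B (OK.skew hF (hs.one_skew hF B)) (OK.skew hF (hs.one_skew hF B)), ← U_zero hF B]
    congr 1
    · simp
    · simpa [two_mul] using (show (1 : F) + 1 = 0 by linear_combination hs.two hF B)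
  · obtain ⟨l, α, b, hl, hN, -, -, hok, he⟩ := hs.stab_form hF B h3 s.2 (Subgroup.mem_subgroupOf.1 hsS)
    refine Subtype.ext ?_
    show (s : SU 3 F q) * Um hF B 0 1 = Um hF B 0 1 * (s : SU 3 F q)
    rw [he, mul_assoc, show Tm hF B l * Um hF B 0 1 = Um hF B 0 1 * Tm hF B l from
      suVal_ext (Matrix.ext_iff_mulVec.2 fun v => by
        rw [mulVec_mul, mulVec_mul, hs.scalar_torus hF B hl hN, hs.scalar_torus hF B hl hN, Matrix.mulVec_smul]),
      ← mul_assoc, hcomm hok, mul_assoc]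
  · obtain ⟨l, α, b, hl, hN, -, -, hok, he⟩ := hs.stab_form hF B h3 x.2 (Subgroup.mem_subgroupOf.1 hx)
    have hu1 : Um hF B α b ≠ 1 := fun e0 => hxZ ⟨l, fun v => by
      rw [he, e0, one_mul, hs.scalar_torus hF B hl hN]⟩
    have h2 : ((g : SU 3 F q)⁻¹)⁻¹ * Um hF B α b * (g : SU 3 F q)⁻¹ ∈ Bor B := by
      obtain ⟨a, ha⟩ := Subgroup.mem_subgroupOf.1 hgx
      rw [Subgroup.coe_mul, Subgroup.coe_mul, Subgroup.coe_inv, he, mulVec_mul, mulVec_mul, mulVec_mul,
        hs.scalar_torus hF B hl hN, Matrix.mulVec_smul, Matrix.mulVec_smul] at ha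
      refine ⟨a / l, ?_⟩
      have hl0 : l ≠ 0 := fun e0 => by simp [e0] at hl
      rw [inv_inv, mulVec_mul, mulVec_mul, div_eq_inv_mul, ← smul_smul, ← ha, smul_smul, inv_mul_cancel₀ hl0,
        one_smul]
    have h5 := inv_mem (fixed_Uni hF B ⟨α, b, hok, rfl⟩ hu1 h2)
    rw [inv_inv] at h5
    exact Subgroup.mem_subgroupOf.2 h5

/-- The rational transvection at another point. -/
theorem SmallSetup.conj_act {k : SU 3 F q} (v : Fin 3 → F) :
    suVal (k * Um hF B 0 1 * k⁻¹) *ᵥ v = v + h v (suVal k *ᵥ e) • (suVal k *ᵥ e) := by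
  have hT : ∀ w, suVal (Um hF B 0 1) *ᵥ w = w + h w e • e := fun w => by
    obtain ⟨x, y, z, rfl⟩ := exists_co hF B w
    rw [U_act hF B (OK.skew hF (hs.one_skew hF B)), ← cj_h hF, h_e hF B, cj_cj hF]
    simp only [co, map_zero]
    module
  rw [mulVec_mul, mulVec_mul, hT, Matrix.mulVec_add, Matrix.mulVec_smul, ← mulVec_mul k k⁻¹, mul_inv_cancel,
    suVal_one', Matrix.one_mulVec, ← su_form k (suVal k⁻¹ *ᵥ v) e, ← mulVec_mul k k⁻¹, mul_inv_cancel, suVal_one',
    Matrix.one_mulVec]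

/-- The contradiction when the scalars of a line are cube roots of one. -/
theorem SmallSetup.false_of_cube (h3 : ∀ l ∈ tSet B K, (l : F) ^ 3 = 1) {g : SU 3 F q} (hg : g ∈ K)
    (hnl : ¬ ∃ (c : F) (r : Fin 3 → F), RV B F₀ r ∧ suVal g *ᵥ e = c • r) : False := by
  obtain ⟨hq, ht⟩ := hs.t_quad hF B
  have h2 := hs.two hF B
  have hW := hs.rat _ (ratSU_W hF B)
  have hk : Um hF B 1 t * Wm hF B ∈ K := mul_mem (hs.rat _ (ratSU_U hF B (hs.okt hF B) (one_mem _) hs.t_mem)) hW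
  obtain ⟨x, hx⟩ : ∃ x, x = suVal (Um hF B 0 1 * (g * Um hF B 0 1 * g⁻¹)) := ⟨_, rfl⟩
  -- eigenvalues are permuted
  have hperm : ∀ k ∈ K, ∀ (μ : F), μ ^ 3 = 1 → ∀ v,
      suVal (Um hF B 0 1 * (k * Um hF B 0 1 * k⁻¹)) *ᵥ v = μ • v →
      ∃ ν : F, ν ^ 3 = 1 ∧ suVal (Um hF B 0 1 * (k * Um hF B 0 1 * k⁻¹)) *ᵥ (x *ᵥ v) = ν • (x *ᵥ v) := by
    intro k hk μ hμ v hv
    obtain ⟨z, hz, he⟩ := (hs.tiPair hF B h3).commute_mod (1 : K) ⟨g, hg⟩ (1 : K) ⟨k, hk⟩
    simp only [one_mul, inv_one, mul_one] at he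
    have he' := congrArg (fun w : K => suVal (w : SU 3 F q) *ᵥ v) he
    obtain ⟨a, ha⟩ := hz
    obtain ⟨l, α, b, hl, hN, -, -, hok, hze⟩ := hs.stab_form hF B h3 z.2 ⟨a, ha e⟩
    have hal : a = l := by
      have h1 := ha e
      rw [hze, UT_e hF B hok (fun e0 => by simp [e0] at hl)] at h1
      by_contra hne
      exact B.P.ne_zero ((smul_eq_zero.1 (show (l - a) • e = 0 by rw [sub_smul, h1, sub_self])).resolve_left
        (sub_ne_zero.2 fun e0 => hne e0.symm))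
    refine ⟨μ * a, by rw [mul_pow, hμ, hal, hl, one_mul], ?_⟩
    simp only [Subgroup.coe_mul, Subgroup.coe_inv, tInv] at he'
    generalize hEd : Um hF B 0 1 * (k * Um hF B 0 1 * k⁻¹) = E at he' hv ⊢
    generalize hXd : Um hF B 0 1 * (g * Um hF B 0 1 * g⁻¹) = X at he' hx
    rw [mulVec_mul E X, mulVec_mul (X * E), ha, Matrix.mulVec_smul, mulVec_mul X E, hv, Matrix.mulVec_smul,
      smul_smul, ← hx, mul_comm a μ] at he'
    exact he'
  -- the first element
  have he1 : ∀ a b c, suVal (Um hF B 0 1 * (Wm hF B * Um hF B 0 1 * (Wm hF B)⁻¹)) *ᵥ co e n f a b c =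
      co e n f c b (a + c) := fun a b c => by
    rw [mulVec_mul, hs.conj_act hF B, W_to_f hF B, ← cj_h hF, h_f hF B, cj_cj hF,
      show co e n f a b c + a • f = co e n f a b (a + c) by simp only [co]; module,
      U_act hF B (OK.skew hF (hs.one_skew hF B))]
    congr 1
    · simp only [map_zero]
      linear_combination a * h2
    · ring
  have heig1 : ∀ v, ∀ ν : F, ν ^ 3 = 1 →
      suVal (Um hF B 0 1 * (Wm hF B * Um hF B 0 1 * (Wm hF B)⁻¹)) *ᵥ v = ν • v →
      ∃ (s : F) (r : Fin 3 → F), RV B F₀ r ∧ v = s • r := by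
    intro v ν hν hv
    obtain ⟨a, b, c, rfl⟩ := exists_co hF B v
    rw [he1, smul_co] at hv
    obtain ⟨k0, k1, k2⟩ := co_inj hF B hv
    by_cases hν1 : ν = 1
    · subst hν1
      rw [one_mul] at k0 k2
      have ha : a = 0 := by linear_combination k2
      refine ⟨b, n, ⟨0, zero_mem _, 1, one_mem _, 0, zero_mem _, co_n.symm⟩, ?_⟩
      rw [k0, ha]; simp [co]
    · have hb : b = 0 := by
        by_contra hne
        exact hν1 (mul_right_cancel₀ hne (by rw [one_mul]; exact k1.symm))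
      refine ⟨a, co e n f 1 0 ν, ⟨1, one_mem _, 0, zero_mem _, ν, hs.cube_mem hF B hν, rfl⟩, ?_⟩
      rw [smul_co, hb, k0, mul_one, mul_zero, mul_comm]
  -- the second element
  have he2 : ∀ a b c, suVal (Um hF B 0 1 * (Um hF B 1 t * Wm hF B * Um hF B 0 1 * (Um hF B 1 t * Wm hF B)⁻¹)) *ᵥ
      co e n f a b c = co e n f (a + t * (a + b + (t + 1) * c) + (c + (a + b + (t + 1) * c)))
        (b + (a + b + (t + 1) * c)) (c + (a + b + (t + 1) * c)) := fun a b c => by
    rw [mulVec_mul, hs.conj_act hF B, UW_e hF B (hs.okt hF B), B.h_co hF, map_one, ht, smul_co, co_add,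
      U_act hF B (OK.skew hF (hs.one_skew hF B))]
    simp only [map_zero]
    congr 1 <;> ring
  have heig2 : ∀ v, ∀ ν : F, ν ^ 3 = 1 →
      suVal (Um hF B 0 1 * (Um hF B 1 t * Wm hF B * Um hF B 0 1 * (Um hF B 1 t * Wm hF B)⁻¹)) *ᵥ v = ν • v →
      ∃ (s : F) (r : Fin 3 → F), RV B F₀ r ∧ v = s • r := by
    intro v ν hν hv
    obtain ⟨a, b, c, rfl⟩ := exists_co hF B v
    rw [he2, smul_co] at hv
    obtain ⟨k0, k1, k2⟩ := co_inj hF B hv
    have hνF := hs.cube_mem hF B hν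
    by_cases hν1 : ν = 1
    · subst hν1
      rw [one_mul] at k0 k1 k2
      have hc : c = 0 := by linear_combination k0 - (t + 1) * k2
      refine ⟨a, co e n f 1 1 0, ⟨1, one_mem _, 1, one_mem _, 0, zero_mem _, rfl⟩, ?_⟩
      rw [smul_co, hc]
      congr 1
      · ring
      · linear_combination k2 - (t + 1) * hc - a * h2
      · ring
    · have hν1' : ν - 1 ≠ 0 := sub_ne_zero.2 hν1
      have hcb : c = b := mul_left_cancel₀ hν1' (show (ν - 1) * c = (ν - 1) * b by linear_combination k1 - k2)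
      subst hcb
      refine ⟨c, co e n f (ν + 1 + t) 1 1, ⟨_, add_mem (add_mem hνF (one_mem _)) hs.t_mem, 1, one_mem _, 1, one_mem _,
        rfl⟩, ?_⟩
      rw [smul_co]
      congr 1
      · linear_combination k2 - (2 * c + c * t) * h2
      · ring
      · ring
  -- images of rational eigenvectors
  have hμ1 : (1 : F) ^ 3 = 1 := one_pow 3
  have hμt : t ^ 3 = 1 := by linear_combination (t - 1) * hq
  have hμt1 : (t + 1) ^ 3 = 1 := by linear_combination (t + 2) * hq - 2 * h2 + 1 * h2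
  obtain ⟨ν₁, hν₁, hv₁⟩ := hperm _ hW 1 hμ1 (co e n f 0 1 0) (by rw [he1, smul_co]; congr 1 <;> ring)
  obtain ⟨ν₂, hν₂, hv₂⟩ := hperm _ hW t hμt (co e n f 1 0 t) (by
    rw [he1, smul_co]; congr 1
    · ring
    · ring
    · linear_combination hq - (t * t) * h2)
  obtain ⟨ν₃, hν₃, hv₃⟩ := hperm _ hW (t + 1) hμt1 (co e n f 1 0 (t + 1)) (by
    rw [he1, smul_co]; congr 1
    · ring
    · ring
    · linear_combination -hq + (t * 0) * h2 + h2)
  obtain ⟨ν₄, hν₄, hv₄⟩ := hperm _ hk 1 hμ1 (co e n f 1 1 0) (by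
    rw [he2, smul_co]; congr 1
    · linear_combination (t + 1) * h2
    · linear_combination h2
    · linear_combination h2)
  obtain ⟨a₁, π₁, hπ₁, e₁⟩ := heig1 _ ν₁ hν₁ hv₁
  obtain ⟨a₂, π₂, hπ₂, e₂⟩ := heig1 _ ν₂ hν₂ hv₂
  obtain ⟨a₃, π₃, hπ₃, e₃⟩ := heig1 _ ν₃ hν₃ hv₃
  obtain ⟨b, ρ, hρ, e₄⟩ := heig2 _ ν₄ hν₄ hv₄
  have hform : ∀ v w, h (x *ᵥ v) (x *ᵥ w) = h v w := fun v w => by rw [hx, su_form]
  have hn1 : ∀ {v π : Fin 3 → F} {a : F}, RV B F₀ π → x *ᵥ v = a • π → h v v = 1 → h (co e n f 1 1 0) v ∈ F₀ →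
      h (co e n f 1 1 0) v ≠ 0 → RV B F₀ (b⁻¹ • (x *ᵥ v)) := by
    intro v π a hπ hv hvv hd hd0
    have h1 : a * cj a * h π π = 1 := by
      rw [← hvv, ← hform v v, hv, h_smul_left, h_smul_right hF]; ring
    have h3' : b * cj a * h ρ π = h (co e n f 1 1 0) v := by
      rw [← hform (co e n f 1 1 0) v, e₄, hv, h_smul_left, h_smul_right hF]; ring
    have hb0 : b ≠ 0 := fun e0 => hd0 (by rw [← h3', e0]; ring)
    rw [hv, smul_smul]
    refine hπ.smul B ?_
    have hpp : h π π ≠ 0 := fun e0 => by rw [e0, mul_zero] at h1; exact zero_ne_one h1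
    have hca : cj a ≠ 0 := fun e0 => by rw [e0] at h1; simp at h1
    rw [show b⁻¹ * a = h ρ π / (h (co e n f 1 1 0) v * h π π) by
      rw [eq_div_iff (mul_ne_zero hd0 hpp), ← h3']
      field_simp
      linear_combination (h ρ π) * h1]
    exact div_mem (rv_form hF B hρ hπ) (mul_mem hd (rv_form hF B hπ hπ))
  have hcases : (h (co e n f 0 1 0) (co e n f 0 1 0) = 1) ∧ (h (co e n f 1 0 t) (co e n f 1 0 t) = 1) ∧
      (h (co e n f 1 0 (t + 1)) (co e n f 1 0 (t + 1)) = 1) := by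
    refine ⟨?_, ?_, ?_⟩
    · rw [B.h_co hF]; simp
    · rw [B.h_co hF, map_zero, map_one, ht]; linear_combination t * h2
    · rw [B.h_co hF, map_zero, map_one, map_add, map_one, ht]; linear_combination (t + 1) * h2
  obtain ⟨c₁, c₂, c₃⟩ := hcases
  have d₁ : h (co e n f 1 1 0) (co e n f 0 1 0) = 1 := by rw [B.h_co hF]; simp
  have d₂ : h (co e n f 1 1 0) (co e n f 1 0 t) = t + 1 := by rw [B.h_co hF, map_zero, map_one, ht]; ring
  have d₃ : h (co e n f 1 1 0) (co e n f 1 0 (t + 1)) = t := by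
    rw [B.h_co hF, map_zero, map_one, map_add, map_one, ht]; linear_combination h2
  have ht0 : t ≠ 0 := fun e0 => hs.t_ne (by rw [e0, map_zero])
  have ht1 : t + 1 ≠ 0 := fun e0 => ht0 ((map_eq_zero cj).1 (ht.trans e0))
  have r₁ := hn1 hπ₁ e₁ c₁ (by rw [d₁]; exact one_mem _) (by rw [d₁]; exact one_ne_zero)
  have r₂ := hn1 hπ₂ e₂ c₂ (by rw [d₂]; exact add_mem hs.t_mem (one_mem _)) (by rw [d₂]; exact ht1)
  have r₃ := hn1 hπ₃ e₃ c₃ (by rw [d₃]; exact hs.t_mem) (by rw [d₃]; exact ht0)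
  have hrat : ∀ v, RV B F₀ v → RV B F₀ (b⁻¹ • (x *ᵥ v)) := by
    rintro _ ⟨y₁, hy₁, y₂, hy₂, y₃, hy₃, rfl⟩
    have hfx : b⁻¹ • (x *ᵥ f) = b⁻¹ • (x *ᵥ co e n f 1 0 t) + b⁻¹ • (x *ᵥ co e n f 1 0 (t + 1)) := by
      rw [← smul_add, ← Matrix.mulVec_add, co_add]
      congr 2
      rw [show (1 : F) + 1 = 0 by linear_combination h2, show t + (t + 1) = 1 by linear_combination t * h2]
      simp [co]
    have hex : b⁻¹ • (x *ᵥ e) = b⁻¹ • (x *ᵥ co e n f 1 0 t) + (-t) • (b⁻¹ • (x *ᵥ f)) := by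
      simp only [co, Matrix.mulVec_add, Matrix.mulVec_smul]
      module
    have hf' : RV B F₀ (b⁻¹ • (x *ᵥ f)) := hfx ▸ r₂.add B r₃
    have he' : RV B F₀ (b⁻¹ • (x *ᵥ e)) := hex ▸ r₂.add B (hf'.smul B (neg_mem hs.t_mem))
    convert ((he'.smul B hy₁).add B (r₁.smul B hy₂)).add B (hf'.smul B hy₃) using 1
    simp only [co, Matrix.mulVec_add, Matrix.mulVec_smul]
    module
  -- the other transvection is rational
  have hT1 := ratSU_U hF B (OK.skew hF (hs.one_skew hF B)) (zero_mem _) (one_mem F₀)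
  have hu : ∀ v, RV B F₀ v → RV B F₀ (b⁻¹ • (v + h v (suVal g *ᵥ e) • (suVal g *ᵥ e))) := fun v hv => by
    have h1 := hT1 _ (hrat v hv)
    rw [hx, Matrix.mulVec_smul, ← mulVec_mul, ← mul_assoc,
      U_mul hF B (OK.skew hF (hs.one_skew hF B)) (OK.skew hF (hs.one_skew hF B))] at h1
    rw [show (1 : F) + 1 - cj (0 : F) * 0 = 0 by rw [map_zero]; linear_combination h2, zero_add, U_zero hF B,
      one_mul, hs.conj_act hF B] at h1
    exact h1
  obtain ⟨w, hw⟩ : ∃ w, w = suVal g *ᵥ e := ⟨_, rfl⟩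
  rw [← hw] at hu hnl
  have hww : h w w = 0 := by rw [hw, su_form, B.P.ee]
  have hb : b⁻¹ ∈ F₀ := by
    have hRe : RV B F₀ e := ⟨1, one_mem _, 0, zero_mem _, 0, zero_mem _, co_e.symm⟩
    have h1 := hu _ (hu e hRe)
    simp only [h_smul_left, h_add_left, hww, mul_zero, add_zero] at h1
    obtain ⟨y₁, hy₁, y₂, hy₂, y₃, hy₃, h1'⟩ := h1
    have hsq : b⁻¹ * b⁻¹ ∈ F₀ := by
      have h2' : b⁻¹ • (b⁻¹ • (e + h e w • w) + (b⁻¹ * h e w) • w) = (b⁻¹ * b⁻¹) • e := by
        have : (b⁻¹ * b⁻¹ * h e w) + (b⁻¹ * b⁻¹ * h e w) = 0 := by linear_combination (b⁻¹ * b⁻¹ * h e w) * h2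
        linear_combination (norm := module) this • w
      rw [h2', show (b⁻¹ * b⁻¹) • e = co e n f (b⁻¹ * b⁻¹) 0 0 by simp [co]] at h1'
      rw [(co_inj hF B h1').1]; exact hy₁
    have h4 := hs.pow_four hF B hsq
    have h5 : (b⁻¹) ^ 4 - b⁻¹ = 0 := mul_self_eq_zero.1 (by
      linear_combination h4 + (b⁻¹ * b⁻¹ - b⁻¹ ^ 5) * h2)
    have h6 : b⁻¹ * ((b⁻¹ - 1) * (b⁻¹ * b⁻¹ + b⁻¹ + 1)) = 0 := by linear_combination h5
    rcases mul_eq_zero.1 h6 with e0 | e0
    · rw [e0]; exact zero_mem _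
    · rcases mul_eq_zero.1 e0 with e0 | e0
      · rw [sub_eq_zero.1 e0]; exact one_mem _
      · exact hs.mem_four hF B e0
  obtain ⟨a₀, a₁', a₂', hwc⟩ := exists_co hF B w
  have hne : a₀ ≠ 0 ∨ a₂' ≠ 0 := by
    by_contra hc
    push Not at hc
    obtain ⟨rfl, rfl⟩ := hc
    have : a₁' = 0 := by simpa [hwc, B.h_co hF] using hww
    refine hnl ⟨0, e, ⟨1, one_mem _, 0, zero_mem _, 0, zero_mem _, co_e.symm⟩, ?_⟩
    rw [hwc, this]; simp [co]
  have hb0 : b⁻¹ ≠ 0 := fun e0 => by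
    obtain ⟨y₁, -, y₂, -, y₃, -, h1⟩ := hu e ⟨1, one_mem _, 0, zero_mem _, 0, zero_mem _, co_e.symm⟩
    have h7 : h (co e n f 1 1 0) (co e n f 0 1 0) = 0 := by
      rw [← hform (co e n f 1 1 0), e₄, e₁, show b = 0 from inv_eq_zero.1 e0, zero_smul, h_zero_left]
    rw [d₁] at h7
    exact one_ne_zero h7
  have key : ∀ v, RV B F₀ v → RV B F₀ (h v w • w) := fun v hv => by
    have h1 := ((hu v hv).smul B (inv_mem hb)).add B (hv.smul B (neg_mem (one_mem _)))
    convert h1 using 1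
    rw [smul_smul, inv_mul_cancel₀ hb0]
    module
  rcases hne with hne | hne
  · have h1 := key f ⟨0, zero_mem _, 0, zero_mem _, 1, one_mem _, co_f.symm⟩
    rw [hwc, h_f hF B, ← hwc] at h1
    exact hnl ⟨(cj a₀)⁻¹, _, h1, by rw [smul_smul, inv_mul_cancel₀ ((map_ne_zero cj).2 hne), one_smul]⟩
  · have h1 := key e ⟨1, one_mem _, 0, zero_mem _, 0, zero_mem _, co_e.symm⟩
    rw [hwc, h_e hF B, ← hwc] at h1
    exact hnl ⟨(cj a₂')⁻¹, _, h1, by rw [smul_smul, inv_mul_cancel₀ ((map_ne_zero cj).2 hne), one_smul]⟩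

end

end Cfsg.Agent.Classical.SUThree
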