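import Cfsg.Agent.Lib.Classical.SUThree.TorusCount
import Cfsg.Agent.Lib.Classical.SUThree.Bridge

/-!
The normaliser of a cubic field closed under adjoints is maximal in the special unitary group.
-/

set_option autoImplicit false
set_option linter.unusedSectionVars false

namespace Cfsg.Agent.Classical.SUThree.Torus

open Matrix Module MaxTv SLThree.Singer Transfer.U3Min Cfsg.Agent.Classical.PSUAut Cfsg.Agent.Fus.UnitN
  Cfsg.Agent.Lie.SUGen

theorem card_mul_relIndex {G : Type*} [Group G] {H K : Subgroup G} (h : H ≤ K) :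
    Nat.card H * H.relIndex K = Nat.card K := by
  rw [Subgroup.relIndex, ← Nat.card_congr (Subgroup.subgroupOfEquivOfLe h).toEquiv, Subgroup.card_mul_index]

variable {F : Type*} [Field F] [Fintype F] {q : ℕ} {K : Subalgebra F (Matrix (Fin 3) (Fin 3) F)}

local notation "M₃" => Matrix (Fin 3) (Fin 3) F
local notation "G₃" => GL (Fin 3) F

/-- Index 96 over eight elements does not occur. -/
theorem eight_false (hF : Fintype.card F = q ^ 2) (h8 : q = 8) (Hs : Subgroup (SU 3 F q))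
    (hcard : Nat.card Hs = 16416)
    (hline : ∀ v : Fin 3 → F, v ≠ 0 → ∃ x ∈ Hs, ∀ a : F, suVal x *ᵥ v ≠ a • v)
    (hbig : 513 ≤ Nat.card {x : Hs // x ^ 32 ≠ 1}) : False := by
  classical
  subst h8
  obtain ⟨e, n, f, B⟩ := exists_frame hF
  haveI : Fact (Nat.Prime 2) := ⟨Nat.prime_two⟩
  have hgu : Nat.card (SU 3 F 8) = 512 * 513 * 63 := by rw [UnitMult.natCard_SU3 hF]; norm_num
  obtain ⟨P⟩ : Nonempty (Sylow 2 Hs) := inferInstance
  have hP : Nat.card P = 32 := by
    rw [P.card_eq_multiplicity, hcard, ← Nat.primeFactorsList_count_eq]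
    have hperm : ([2, 2, 2, 2, 2, 3, 3, 3, 19] : List ℕ).Perm (16416 : ℕ).primeFactorsList :=
      Nat.primeFactorsList_unique (by norm_num) (by intro p hp; fin_cases hp <;> norm_num)
    rw [← hperm.count_eq]
    norm_num
  have hUmult : Nat.card (Uni hF B) = 512 := by rw [card_Uni hF B]; norm_num
  obtain ⟨Q, hQ⟩ : ∃ Q : Sylow 2 (SU 3 F 8), (Q : Subgroup (SU 3 F 8)) = Uni hF B := by
    have hU : IsPGroup 2 (Uni hF B) := IsPGroup.of_card (n := 9) (by rw [hUmult]; norm_num)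
    obtain ⟨Q, hQ⟩ := hU.exists_le_sylow
    refine ⟨Q, (Subgroup.eq_of_le_of_card_ge hQ ?_).symm⟩
    rw [hUmult]
    obtain ⟨i, hi⟩ := IsPGroup.iff_card.1 Q.2
    have hd : 2 ^ i ∣ 512 * 513 * 63 := hgu ▸ hi ▸ Subgroup.card_subgroup_dvd_card _
    have hd' : 2 ^ i ∣ 512 :=
      ((Nat.Coprime.pow_left i (by norm_num : Nat.Coprime 2 (513 * 63))).dvd_of_dvd_mul_right
        (by rwa [mul_assoc] at hd))
    rw [hi]
    exact Nat.le_of_dvd (by norm_num) hd'
  have hP0 : IsPGroup 2 ((P : Subgroup Hs).map Hs.subtype) := P.2.map _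
  obtain ⟨R, hR⟩ := hP0.exists_le_sylow
  obtain ⟨g, hg⟩ := MulAction.exists_smul_eq (SU 3 F 8) Q R
  obtain ⟨H1, hH1⟩ : ∃ H1, H1 = conjH Hs g := ⟨_, rfl⟩
  have hPU : 32 ≤ Nat.card (H1 ⊓ Uni hF B : Subgroup (SU 3 F 8)) := by
    rw [← hP]
    refine Nat.card_le_card_of_injective (fun u : P => (⟨g⁻¹ * ((u : Hs) : SU 3 F 8) * g, ?_, ?_⟩ :
      (H1 ⊓ Uni hF B : Subgroup (SU 3 F 8)))) fun a b h => ?_
    · rw [hH1]
      exact mem_conjH.2 (by simp [mul_assoc])
    · have h1 : ((u : Hs) : SU 3 F 8) ∈ (R : Subgroup (SU 3 F 8)) := hR ⟨u, u.2, rfl⟩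
      rw [← hg, Sylow.coe_subgroup_smul, Subgroup.mem_pointwise_smul_iff_inv_smul_mem, hQ] at h1
      simpa [MulAut.smul_def, mul_assoc] using h1
    · have h2 := congrArg Subtype.val h
      simp only [mul_left_inj, mul_right_inj] at h2
      exact Subtype.ext (Subtype.ext h2)
  have hU1 : Nat.card (H1 ⊓ Uni hF B : Subgroup (SU 3 F 8)) ∣ 512 :=
    hUmult ▸ Subgroup.card_dvd_of_le inf_le_right
  have hUH : Nat.card (H1 ⊓ Uni hF B : Subgroup (SU 3 F 8)) ∣ 16416 := by
    rw [← hcard, ← card_conjH Hs g, ← hH1]; exact Subgroup.card_dvd_of_le inf_le_left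
  have hU32 : Nat.card (H1 ⊓ Uni hF B : Subgroup (SU 3 F 8)) = 32 :=
    le_antisymm (Nat.le_of_dvd (by norm_num) (Nat.dvd_gcd hU1 hUH)) hPU
  obtain ⟨x₀, hx₀⟩ : ∃ x₀ : SU 3 F 8 ⧸ Bor B, x₀ = QuotientGroup.mk 1 := ⟨_, rfl⟩
  obtain ⟨s, hs⟩ : ∃ s, s = Nat.card (MulAction.orbit H1 x₀) := ⟨_, rfl⟩
  have hsc : s * Nat.card (H1 ⊓ Bor B : Subgroup (SU 3 F 8)) = 16416 := by
    rw [hs, hx₀]
    have h1 := orbit_mul_stab hF B H1 1
    rw [conjH_one] at h1
    rw [h1, hH1, card_conjH, hcard]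
  have hs513 : s ∣ 513 := by
    have h1 : 32 ∣ Nat.card (H1 ⊓ Bor B : Subgroup (SU 3 F 8)) :=
      hU32 ▸ Subgroup.card_dvd_of_le (inf_le_inf_left _ (Uni_le_Bor hF B))
    obtain ⟨c, hc⟩ := h1
    rw [hc] at hsc
    exact ⟨c, by linarith⟩
  have hfixu : ∀ u ∈ Uni hF B, u ≠ 1 → ∀ k : SU 3 F 8,
      (QuotientGroup.mk (u * k) : SU 3 F 8 ⧸ Bor B) = QuotientGroup.mk k → k ∈ Bor B := fun u hu hu1 k h => by
    rw [eq_comm, QuotientGroup.eq] at h
    exact fixed_Uni hF B hu hu1 (by rwa [mul_assoc])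
  have hs32 : s % 32 = 1 := by
    let U1 : Subgroup (SU 3 F 8) := H1 ⊓ Uni hF B
    letI : MulAction U1 (MulAction.orbit H1 x₀) :=
      MulAction.compHom _ (Subgroup.inclusion (inf_le_left : U1 ≤ H1))
    rw [hs]
    refine card_mod_of_free (A := U1) ⟨x₀, MulAction.mem_orbit_self _⟩ (fun u => Subtype.ext ?_) (d := 1)
      one_pos (by rw [one_mul]; exact hU32.symm) fun y hy => ?_
    · show ((u : SU 3 F 8) • x₀ : SU 3 F 8 ⧸ Bor B) = x₀
      rw [hx₀, MulAction.Quotient.smul_mk, smul_eq_mul, eq_comm, QuotientGroup.eq, inv_one, one_mul, mul_one]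
      exact Uni_le_Bor hF B u.2.2
    · rw [Nat.card_eq_one_iff_unique]
      refine ⟨⟨fun a b => Subtype.ext (Subtype.ext ?_)⟩, inferInstance⟩
      obtain ⟨k, hk⟩ := QuotientGroup.mk_surjective (y : SU 3 F 8 ⧸ Bor B)
      have hone : ∀ a : MulAction.stabilizer U1 y, ((a : U1) : SU 3 F 8) = 1 := fun a => by
        by_contra hne
        have h1 := congrArg Subtype.val a.2
        change ((a : U1) : SU 3 F 8) • (y : SU 3 F 8 ⧸ Bor B) = y at h1
        rw [← hk, MulAction.Quotient.smul_mk] at h1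
        refine hy (Subtype.ext ?_)
        show (y : SU 3 F 8 ⧸ Bor B) = x₀
        rw [← hk, hx₀, eq_comm, QuotientGroup.eq, inv_one, one_mul]
        exact hfixu _ (a : U1).2.2 hne k h1
      rw [hone a, hone b]
  have hs1 : s = 1 ∨ s = 513 := by
    have : s ∈ Nat.divisors 513 := Nat.mem_divisors.2 ⟨hs513, by norm_num⟩
    rw [show Nat.divisors 513 = {1, 3, 9, 19, 27, 57, 171, 513} by decide +kernel] at this
    simp only [Finset.mem_insert, Finset.mem_singleton] at this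
    omega
  rcases hs1 with h1 | h1
  · -- the group fixes a line
    have hle : H1 ≤ Bor B := by
      have := Subgroup.eq_of_le_of_card_ge (inf_le_left : H1 ⊓ Bor B ≤ H1) (by
        rw [h1, one_mul] at hsc
        rw [hsc, hH1, card_conjH, hcard])
      exact this ▸ inf_le_right
    obtain ⟨x, hx, hxv⟩ := hline (suVal g *ᵥ e) (fun h0 => B.P.ne_zero (su_injective g h0))
    obtain ⟨a, ha⟩ := hle (show g⁻¹ * x * g ∈ H1 by rw [hH1]; exact mem_conjH.2 (by simpa [mul_assoc] using hx))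
    refine hxv a ?_
    rw [← Matrix.mulVec_smul, ← ha, ← mulVec_mul, ← mulVec_mul]
    congr 2
    group
  · subst h1
    have hB32 : Nat.card (H1 ⊓ Bor B : Subgroup (SU 3 F 8)) = 32 := by omega
    -- the two kinds of elements
    have hrep : ∀ y : MulAction.orbit H1 x₀, ∃ k : H1, k • x₀ = (y : SU 3 F 8 ⧸ Bor B) := fun y => y.2
    choose k hk using hrep
    let φ : MulAction.orbit H1 x₀ × {u : (H1 ⊓ Uni hF B : Subgroup (SU 3 F 8)) // u ≠ 1} →
        {x : H1 // x ^ 32 = 1 ∧ x ≠ 1} := fun p =>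
      ⟨k p.1 * ⟨p.2.1, p.2.1.2.1⟩ * (k p.1)⁻¹, by
        rw [conj_pow, show (⟨p.2.1, p.2.1.2.1⟩ : H1) ^ 32 = 1 from Subtype.ext (by
          have h2 := congrArg Subtype.val (pow_card_eq_one' (x := p.2.1))
          rw [hU32] at h2
          exact h2), mul_one, mul_inv_cancel], fun h0 => p.2.2 (Subtype.ext (by
          have := congrArg Subtype.val ((conj_eq_one_iff).1 h0)
          simpa using this))⟩
    have hφ : Function.Injective φ := by
      rintro ⟨y, u, hu⟩ ⟨y', u', hu'⟩ h0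
      have h2 : ((k y : H1) : SU 3 F 8) * u * ((k y : H1) : SU 3 F 8)⁻¹ =
          ((k y' : H1) : SU 3 F 8) * u' * ((k y' : H1) : SU 3 F 8)⁻¹ :=
        congrArg (fun z : {x : H1 // x ^ 32 = 1 ∧ x ≠ 1} => ((z.1 : H1) : SU 3 F 8)) h0
      have hm : ((k y' : H1) : SU 3 F 8)⁻¹ * (k y : H1) ∈ Bor B := by
        refine hfixu u' u'.2.2 (fun e => hu' (Subtype.ext e)) _ ?_
        rw [eq_comm, QuotientGroup.eq,
          show (((k y' : H1) : SU 3 F 8)⁻¹ * (k y : H1))⁻¹ * ((u' : SU 3 F 8) * (((k y' : H1) : SU 3 F 8)⁻¹ * (k y : H1))) =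
            ((k y : H1) : SU 3 F 8)⁻¹ * (((k y' : H1) : SU 3 F 8) * u' * ((k y' : H1) : SU 3 F 8)⁻¹) * (k y : H1) by group,
          ← h2, show ((k y : H1) : SU 3 F 8)⁻¹ * (((k y : H1) : SU 3 F 8) * u * ((k y : H1) : SU 3 F 8)⁻¹) * (k y : H1) =
            u by group]
        exact Uni_le_Bor hF B u.2.2
      have hy : y = y' := Subtype.ext (by
        rw [← hk y, ← hk y', hx₀]
        show (QuotientGroup.mk ((k y : SU 3 F 8) * 1) : SU 3 F 8 ⧸ Bor B) = QuotientGroup.mk ((k y' : SU 3 F 8) * 1)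
        rw [mul_one, mul_one, eq_comm, QuotientGroup.eq]
        exact hm)
      subst hy
      simp only [mul_left_inj, mul_right_inj] at h2
      exact Prod.ext rfl (Subtype.ext (Subtype.ext h2))
    have h31 : Nat.card {u : (H1 ⊓ Uni hF B : Subgroup (SU 3 F 8)) // u ≠ 1} = 31 := by
      rw [Nat.card_eq_fintype_card, Fintype.card_subtype_compl, Fintype.card_subtype_eq, ← Nat.card_eq_fintype_card,
        hU32]
    have hA := Nat.card_le_card_of_injective φ hφ
    rw [Nat.card_prod, ← hs, h31] at hA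
    have hB : 513 ≤ Nat.card {x : H1 // x ^ 32 ≠ 1} := by
      refine hbig.trans (Nat.card_le_card_of_injective (fun x => ⟨⟨g⁻¹ * (x.1 : SU 3 F 8) * g, ?_⟩, ?_⟩) ?_)
      · rw [hH1]; exact mem_conjH.2 (by simp [mul_assoc])
      · intro h0
        refine x.2 (Subtype.ext ?_)
        have h2 := congrArg Subtype.val h0
        simp only [SubmonoidClass.coe_pow, OneMemClass.coe_one] at h2 ⊢
        rw [show g⁻¹ * (x.1 : SU 3 F 8) * g = g⁻¹ * (x.1 : SU 3 F 8) * g⁻¹⁻¹ by rw [inv_inv], conj_pow] at h2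
        exact conj_eq_one_iff.1 h2
      · intro a b h0
        have h2 := congrArg (fun z : {x : H1 // x ^ 32 ≠ 1} => ((z.1 : H1) : SU 3 F 8)) h0
        simp only [mul_left_inj, mul_right_inj] at h2
        exact Subtype.ext (Subtype.ext h2)
    have h3 : Nat.card {x : H1 // x ^ 32 = 1 ∧ x ≠ 1} + Nat.card {x : H1 // x ^ 32 ≠ 1} + 1 ≤ Nat.card H1 := by
      rw [← Nat.card_sum, Nat.add_comm, show 1 = Nat.card Unit from Nat.card_unique.symm, ← Nat.card_sum]
      refine Nat.card_le_card_of_injective (Sum.elim (fun _ => 1) (Sum.elim (fun x => x.1) fun x => x.1)) ?_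
      rintro (a | a | a) (b | b | b) h0 <;> simp only [Sum.elim_inl, Sum.elim_inr] at h0
      · rfl
      · exact absurd h0.symm b.2.2
      · exact absurd (by rw [← h0, one_pow]) b.2
      · exact absurd h0 a.2.2
      · exact congrArg _ (congrArg _ (Subtype.ext h0))
      · exact absurd (h0 ▸ a.2.1) b.2
      · exact absurd (by rw [h0, one_pow]) a.2
      · exact absurd (h0 ▸ b.2.1) a.2
      · exact congrArg _ (congrArg _ (Subtype.ext h0))
    rw [show Nat.card H1 = 16416 by rw [hH1, card_conjH, hcard]] at h3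
    omega

variable (hF : Fintype.card F = q ^ 2) (hK : Geo.IsFieldSubalgebra 3 K)
  (hac : Geo.IsAdjointClosedFor (hermForm 3 F q) K)
include hF hK hac

/-- Normalisers of cubic fields closed under adjoints. -/
theorem torus_maximal (hq : 3 ≤ q) (h3 : q ≠ 3) (h5 : q ≠ 5) :
    Geo.IsMaximalIn (GU 3 F q ⊓ Geo.specialLinear (Fin 3) F)
      (Geo.subalgebraNormalizer K ⊓ (GU 3 F q ⊓ Geo.specialLinear (Fin 3) F)) := by
  classical
  obtain ⟨p, hp⟩ := CharP.exists F
  haveI : Fact p.Prime := ⟨CharP.char_is_prime F p⟩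
  obtain ⟨i, -, hi⟩ := FiniteField.card F p
  obtain ⟨f, -, hf⟩ := (Nat.dvd_prime_pow (Fact.out : p.Prime)).1
    (show q ∣ p ^ (i : ℕ) from hi ▸ hF ▸ dvd_pow_self q two_ne_zero)
  obtain ⟨hNc, hN3⟩ := nor_data hF hK hac hq
  have hTc := card_Tor hF hK hac
  obtain ⟨d, hd⟩ : ∃ d, d = Nat.gcd 3 (q + 1) := ⟨_, rfl⟩
  have hd13 : d = 1 ∧ ¬ 3 ∣ q + 1 ∨ (d = 3 ∧ 3 ∣ q + 1) := by
    by_cases h : 3 ∣ q + 1
    · exact Or.inr ⟨hd.trans (Nat.gcd_eq_left h), h⟩
    · exact Or.inl ⟨hd.trans ((Nat.Prime.coprime_iff_not_dvd Nat.prime_three).2 h), h⟩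
  have hdT : d ∣ Nat.card (Tor K q) := by
    have hsub := card_scalars hF hK hac
    let S : Subgroup (Tor K q) :=
      { carrier := {g | ∃ s : F, ((g : G₃) : M₃) = s • 1}
        one_mem' := ⟨1, by simp⟩
        mul_mem' := by
          rintro a b ⟨s, hs⟩ ⟨t, ht⟩
          exact ⟨s * t, by simp [hs, ht, smul_smul, mul_comm]⟩
        inv_mem' := by
          rintro a ⟨s, hs⟩
          refine ⟨s⁻¹, ?_⟩
          have hs0 : s ≠ 0 := fun e => (a : G₃).ne_zero (by rw [hs, e, zero_smul])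
          show (((a : G₃)⁻¹ : G₃) : M₃) = _
          refine Units.inv_eq_of_mul_eq_one_right ?_
          rw [hs, Matrix.smul_mul, Matrix.one_mul, smul_smul, mul_inv_cancel₀ hs0, one_smul] }
    rw [hd, ← hsub]
    exact S.card_subgroup_dvd_card
  obtain ⟨n, hn⟩ := hdT
  have hqq : q * q + 1 = Nat.card (Tor K q) + q := by
    refine Nat.eq_of_mul_eq_mul_left (Nat.succ_pos q) ?_
    rw [Nat.succ_eq_add_one, mul_add (q + 1) (Nat.card _) q, mul_comm (q + 1) (Nat.card _), hTc]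
    ring
  have hdn : d * n + q = q * q + 1 := by rw [← hn, hqq]
  have hT0 : 0 < Nat.card (Tor K q) := Nat.card_pos
  have hn1 : 1 < n := by
    have h16 : 4 * q ≤ q * q := Nat.mul_le_mul_right q (by omega)
    rcases hd13 with ⟨e, -⟩ | ⟨e, -⟩ <;> subst e <;> omega
  have hNG : Nor K q ≤ GU 3 F q ⊓ Geo.specialLinear (Fin 3) F := inf_le_right
  have hbig : ¬ GU 3 F q ⊓ Geo.specialLinear (Fin 3) F ≤ Nor K q := fun h => by
    have h1 := Nat.le_of_dvd Nat.card_pos (Subgroup.card_dvd_of_le h)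
    rw [card_gusl hF, hNc] at h1
    have e1 : q ^ 2 - 1 ≥ 1 := Nat.sub_pos_of_lt (Nat.one_lt_pow two_ne_zero (by omega))
    have e2 : q ^ 3 + 1 ≤ q ^ 3 * (q ^ 3 + 1) * (q ^ 2 - 1) := by
      calc q ^ 3 + 1 = 1 * (q ^ 3 + 1) * 1 := by ring
        _ ≤ _ := Nat.mul_le_mul (Nat.mul_le_mul (Nat.one_le_pow _ _ (by omega)) le_rfl) e1
    have e3 : 4 * q ≤ q * q := Nat.mul_le_mul_right q (by omega)
    have e4 : 4 * (q * q) ≤ q ^ 3 := by rw [pow_succ, pow_two, mul_comm]; exact Nat.mul_le_mul_left _ (by omega)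
    omega
  refine isMaximalIn_intro inf_le_right hbig fun M hNM hMG g hgM hgN => ?_
  change Nor K q ≤ M at hNM
  change g ∉ Nor K q at hgN
  obtain ⟨x, hx⟩ : ∃ x, x = (Nor K q).relIndex M := ⟨_, rfl⟩
  obtain ⟨y, hy⟩ : ∃ y, y = M.relIndex (GU 3 F q ⊓ Geo.specialLinear (Fin 3) F) := ⟨_, rfl⟩
  have hxmod : x % n = 1 := by
    rw [hx, index_mod hF hK hac hq hNM hMG (n := n) (by rw [← hd, hn]), Nat.mod_eq_of_lt hn1]
  have hxy : 3 * (x * y) = q ^ 3 * ((q + 1) ^ 2 * (q - 1)) := by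
    refine Nat.eq_of_mul_eq_mul_left hT0 ?_
    rw [← mul_assoc, ← hNc, ← mul_assoc (Nat.card _) x, hx, card_mul_relIndex hNM, hy, card_mul_relIndex hMG,
      card_gusl hF]
    calc q ^ 3 * (q ^ 3 + 1) * (q ^ 2 - 1) = q ^ 3 * (Nat.card (Tor K q) * (q + 1)) * ((q + 1) * (q - 1)) := by
          rw [hTc, ← Nat.sq_sub_sq, one_pow]
      _ = _ := by ring
  have hx1 : x ≠ 1 := fun e => hgN (Subgroup.relIndex_eq_one.1 (hx ▸ e) hgM)
  have hMcard : Nat.card M = Nat.card (Tor K q) * 3 * x := by rw [← hNc, hx, card_mul_relIndex hNM]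
  rcases (show q = 4 ∨ q = 8 ∨ (7 ≤ q ∧ q ≠ 8) by
    have : q ≠ 6 := fun e => by
      have h2 : 2 ∣ p ^ f := hf ▸ e ▸ (by norm_num)
      have h3 : 3 ∣ p ^ f := hf ▸ e ▸ (by norm_num)
      have e2 := (Nat.prime_dvd_prime_iff_eq Nat.prime_two Fact.out).1 (Nat.prime_two.dvd_of_dvd_pow h2)
      have e3 := (Nat.prime_dvd_prime_iff_eq Nat.prime_three Fact.out).1 (Nat.prime_three.dvd_of_dvd_pow h3)
      omega
    omega) with h4 | h8 | ⟨h7, h8⟩
  · subst h4
    obtain rfl : d = 1 := by rcases hd13 with ⟨e, -⟩ | ⟨-, e⟩; exacts [e, absurd e (by norm_num)]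
    obtain rfl : n = 13 := by omega
    have h25 : 25 ≤ x := by
      norm_num at hxy
      by_contra hlt
      push Not at hlt
      have : x ∣ 1600 := ⟨y, by omega⟩
      interval_cases x <;> omega
    exact (eq_of_big hF (by norm_num) (by norm_num) hMG (by
      rw [hMcard, hn]; norm_num; omega)).ge
  · subst h8
    obtain rfl : d = 3 := by rcases hd13 with ⟨-, e⟩ | ⟨e, -⟩; exacts [absurd (by norm_num) e, e]
    obtain rfl : n = 19 := by omega
    norm_num at hxy
    by_cases h189 : 189 ≤ x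
    · exact (eq_of_big hF (by norm_num) (by norm_num) hMG (by rw [hMcard, hn]; norm_num; omega)).ge
    have hx96 : x = 96 := by
      push Not at h189
      have : x ∣ 96768 := ⟨y, by omega⟩
      interval_cases x <;> omega
    exfalso
    have hT57 : Nat.card (Tor K 8) = 57 := by omega
    have hsub : Tor K 8 ≤ M := (Tor_le_Nor hF hK hac).trans hNM
    refine eight_false hF rfl (M.comap (toG F 8)) ?_ (fun v hv => ?_) ?_
    · rw [card_comap hMG, hMcard, hT57, hx96]
    · obtain ⟨u, hu, huns⟩ := nonscalar_exists hF hK hac hq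
      obtain ⟨A, hA⟩ : u ∈ (toG F 8).range := range_toG (F := F) (q := 8) ▸ hu.2
      refine ⟨A, by rw [Subgroup.mem_comap, hA]; exact hsub hu, fun a ha => ?_⟩
      have ha' : (u : M₃) *ᵥ v = a • v := by rw [← hA]; exact ha
      have h1 : (F ∙ v) = ⊤ := eq_top_of_inv hK ((mem_Kx hK).1 hu.1) huns _ (fun z hz => by
        obtain ⟨t, rfl⟩ := Submodule.mem_span_singleton.1 hz
        rw [Matrix.mulVec_smul, ha']
        exact Submodule.smul_mem _ _ (Submodule.smul_mem _ _ (Submodule.mem_span_singleton_self v))) hv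
        (Submodule.mem_span_singleton_self v)
      have h2 := finrank_span_singleton (K := F) hv
      rw [h1, finrank_top, finrank_fin_fun] at h2
      norm_num at h2
    · obtain ⟨N', hN'⟩ : ∃ N', N' = (Nor K 8).subgroupOf M := ⟨_, rfl⟩
      have hidx : Nat.card (M ⧸ N') = 96 := by
        rw [← Subgroup.index_eq_card, hN', ← Subgroup.relIndex, ← hx, hx96]
      have hns : Nat.card {t : Tor K 8 // ¬ ∃ s : F, ((t : G₃) : M₃) = s • 1} = 54 := by
        rw [Nat.card_eq_fintype_card, Fintype.card_subtype_compl, ← Nat.card_eq_fintype_card, hT57,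
          ← Nat.card_eq_fintype_card, card_scalars hF hK hac, ← hd]
      have hmem : ∀ (c : M ⧸ N') (t : Tor K 8), ((c.out : M) : G₃) * t * ((c.out : M) : G₃)⁻¹ ∈ M := fun c t =>
        mul_mem (mul_mem (c.out : M).2 (hsub t.2)) (inv_mem (c.out : M).2)
      have hlift : ∀ (c : M ⧸ N') (t : Tor K 8), ∃ A : SU 3 F 8,
          toG F 8 A = ((c.out : M) : G₃) * t * ((c.out : M) : G₃)⁻¹ := fun c t =>
        (range_toG (F := F) (q := 8) ▸ hMG (hmem c t) : _ ∈ (toG F 8).range)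
      choose A hA using hlift
      refine le_trans (show 513 ≤ Nat.card ((M ⧸ N') × {t : Tor K 8 // ¬ ∃ s : F, ((t : G₃) : M₃) = s • 1}) by
        rw [Nat.card_prod, hidx, hns]; norm_num) (Nat.card_le_card_of_injective (fun z =>
          (⟨⟨A z.1 z.2.1, by rw [Subgroup.mem_comap, hA]; exact hmem _ _⟩, fun h0 => ?_⟩ :
            {w : M.comap (toG F 8) // w ^ 32 ≠ 1})) ?_)
      · have h1 := congrArg (fun w : M.comap (toG F 8) => toG F 8 (w : SU 3 F 8)) h0
        simp only [SubmonoidClass.coe_pow, map_pow, hA, OneMemClass.coe_one, map_one, conj_pow, conj_eq_one_iff] at h1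
        have h57 : (z.2.1 : G₃) ^ 57 = 1 := by
          rw [← hT57]; exact congrArg Subtype.val (pow_card_eq_one' (x := z.2.1))
        have h2 := pow_gcd_eq_one.2 ⟨h1, h57⟩
        rw [show Nat.gcd 32 57 = 1 by norm_num, pow_one] at h2
        exact z.2.2 ⟨1, by rw [h2, Units.val_one, one_smul]⟩
      · rintro ⟨c, t⟩ ⟨c', t'⟩ h0
        have h1 : ((c.out : M) : G₃) * t.1 * ((c.out : M) : G₃)⁻¹ = ((c'.out : M) : G₃) * t'.1 * ((c'.out : M) : G₃)⁻¹ := by
          rw [← hA, ← hA]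
          exact congrArg (fun w : {w : M.comap (toG F 8) // w ^ 32 ≠ 1} => toG F 8 ((w.1 : M.comap (toG F 8)) : SU 3 F 8)) h0
        have hm : ((c'.out : M) : G₃)⁻¹ * (c.out : M) ∈ Nor K 8 := by
          refine ⟨mem_normalizer_of_conj hF hK hac hq t.1.2 (not_exists.1 t.2) (x := (t.1 : G₃)) ?_,
            hMG (mul_mem (inv_mem (c'.out : M).2) (c.out : M).2)⟩
          rw [show ((c'.out : M) : G₃)⁻¹ * (c.out : M) * t.1 * (((c'.out : M) : G₃)⁻¹ * (c.out : M))⁻¹ =
            ((c'.out : M) : G₃)⁻¹ * (((c.out : M) : G₃) * t.1 * ((c.out : M) : G₃)⁻¹) * (c'.out : M) by group, h1,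
            show ((c'.out : M) : G₃)⁻¹ * (((c'.out : M) : G₃) * t'.1 * ((c'.out : M) : G₃)⁻¹) * (c'.out : M) =
              t'.1 by group]
          exact Tor_le_Nor hF hK hac t'.1.2
        have hc : c = c' := by
          rw [← Quotient.out_eq' c, ← Quotient.out_eq' c']
          refine (QuotientGroup.eq.2 ?_).symm
          simpa only [hN', Subgroup.mem_subgroupOf, Subgroup.coe_mul, InvMemClass.coe_inv] using hm
        subst hc
        simp only [mul_left_inj, mul_right_inj] at h1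
        exact Prod.ext rfl (Subtype.ext (Subtype.ext h1))
  · rcases Arith.divisor (Fact.out : p.Prime) hf h7 h8 hdn hd13 hxy hxmod with e | e
    · exact absurd e hx1
    · exact Subgroup.relIndex_eq_one.1 (hy ▸ e)

end Cfsg.Agent.Classical.SUThree.Torus
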