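import Cfsg.Agent.Lib.Classical.AschUnitBase
import Cfsg.Agent.Lib.Classical.SUThree.Subspace
import Cfsg.Agent.Lib.Classical.SLThree.SingerField

/-!
A cubic field subalgebra closed under adjoints: the torus in the special unitary group and its normaliser.
-/

set_option autoImplicit false
set_option linter.unusedSectionVars false
set_option linter.style.haveILetI false

namespace Cfsg.Agent.Classical.SUThree.Torus

open Matrix Module MaxTv SLThree.Singer Cfsg.Agent.Classical.Asch

variable {F : Type*} [Field F] [Fintype F] {q : ℕ}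

local notation "M₃" => Matrix (Fin 3) (Fin 3) F
local notation "G₃" => GL (Fin 3) F

/-- The adjoint. -/
noncomputable def st (hF : Fintype.card F = q ^ 2) (A : Matrix (Fin 3) (Fin 3) F) : Matrix (Fin 3) (Fin 3) F :=
  Aᵀ.map (qEquiv hF)

theorem exists_root_of_pow {G : Type*} [Group G] [IsCyclic G] {m l : ℕ} (hm : 0 < m)
    (hcard : Nat.card G = m * l) {x : G} (hx : x ^ m = 1) : ∃ y : G, y ^ l = x := by
  obtain ⟨g, hg⟩ := IsCyclic.exists_zpow_surjective (G := G)
  obtain ⟨i, rfl⟩ := hg x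
  simp only at hx
  rw [← zpow_natCast, ← _root_.zpow_mul, ← orderOf_dvd_iff_zpow_eq_one] at hx
  have ho : orderOf g = m * l := by
    have hz : Subgroup.zpowers g = ⊤ := (Subgroup.eq_top_iff' _).2 hg
    rw [← hcard, ← Nat.card_zpowers, hz, Subgroup.card_top]
  rw [ho, Nat.cast_mul, mul_comm (i : ℤ)] at hx
  obtain ⟨c, hc⟩ := Int.dvd_of_mul_dvd_mul_left (by exact_mod_cast hm.ne') hx
  refine ⟨g ^ c, ?_⟩
  show (g ^ c) ^ l = g ^ i
  rw [← zpow_natCast, ← _root_.zpow_mul, hc, mul_comm]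

variable {K : Subalgebra F (Matrix (Fin 3) (Fin 3) F)} (hF : Fintype.card F = q ^ 2)
  (hK : Geo.IsFieldSubalgebra 3 K) (hac : Geo.IsAdjointClosedFor (hermForm 3 F q) K)

include hF

theorem st_st (A : M₃) : st hF (st hF A) = A := by
  ext i j
  simp only [st, Matrix.map_apply, Matrix.transpose_apply]
  exact (herm_hermForm (n := 1) hF).invol _

theorem st_mul (A B : M₃) : st hF (A * B) = st hF B * st hF A := by
  rw [st, Matrix.transpose_mul, Matrix.map_mul]; rfl

theorem st_one : st hF (1 : M₃) = 1 := by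
  rw [st, Matrix.transpose_one, Matrix.map_one _ (map_zero _) (map_one _)]

theorem st_smul (c : F) (A : M₃) : st hF (c • A) = qEquiv hF c • st hF A := by
  ext i j; simp [st]

theorem st_add (A B : M₃) : st hF (A + B) = st hF A + st hF B := by
  ext i j; simp [st]

theorem iso_iff {g : G₃} : g ∈ GU 3 F q ↔ st hF (g : M₃) * (g : M₃) = 1 := by
  rw [mem_GU_gram (σ := qEquiv hF) (fun a => rfl), Matrix.one_mul]
  constructor <;> intro h <;>
  · have h2 := congrArg (fun A : M₃ => A.map (qEquiv hF)) h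
    simp only [Matrix.map_mul, Matrix.map_map, Matrix.map_one _ (map_zero _) (map_one _)] at h2
    have e : ∀ A : M₃, A.map (⇑(qEquiv hF) ∘ ⇑(qEquiv hF)) = A := fun A => by
      ext i j; exact (herm_hermForm (n := 1) hF).invol _
    simp only [st, e, Matrix.map_map] at h h2 ⊢
    exact h2

include hK hac

theorem st_mem {a : M₃} (ha : a ∈ K) : st hF a ∈ K := by
  obtain ⟨k', hk', hf⟩ := hac a ha
  convert hk'
  ext i j
  have e := hf (Pi.single i 1) (Pi.single j 1)
  rw [hermForm_single_right hF, ← hermForm_symm hF 3 (k' *ᵥ Pi.single j 1) (Pi.single i 1),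
    hermForm_single_right hF, Matrix.mulVec_single_one, Matrix.mulVec_single_one] at e
  simp only [Matrix.col_apply] at e
  simp only [st, Matrix.map_apply, Matrix.transpose_apply]
  rw [e]
  exact (herm_hermForm (n := 1) hF).invol _

/-- The adjoint is the automorphism of order two. -/
theorem st_eq_pow {a : M₃} (ha : a ∈ K) : st hF a = a ^ q ^ 3 := by
  classical
  letI : Field K := FieldExtNormalizer.fieldOf hK (by norm_num)
  haveI : FiniteDimensional F K := Module.finite_of_finrank_pos (by rw [hK.finrank_eq]; norm_num)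
  haveI : Finite K := Module.finite_of_finite F
  haveI : Fintype K := Fintype.ofFinite K
  let τ : K →+* K :=
    { toFun := fun k => ⟨st hF k, st_mem hF hK hac k.2⟩
      map_one' := Subtype.ext (st_one hF)
      map_mul' := fun x y => Subtype.ext (by
        show st hF ((x : M₃) * (y : M₃)) = st hF x * st hF y
        rw [hK.comm _ x.2 _ y.2, st_mul])
      map_zero' := Subtype.ext (by ext; simp [st])
      map_add' := fun x y => Subtype.ext (st_add hF _ _) }
  have hττ : ∀ k, τ (τ k) = k := fun k => Subtype.ext (st_st hF _)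
  obtain ⟨c, hc⟩ := (herm_hermForm (n := 1) hF).exists_moved
  set θ := algebraMap F K c with hθ
  have hτθ : τ θ = algebraMap F K (qEquiv hF c) := Subtype.ext (by
    show st hF (algebraMap F M₃ c) = algebraMap F M₃ (qEquiv hF c)
    rw [Algebra.algebraMap_eq_smul_one, Algebra.algebraMap_eq_smul_one, st_smul, st_one])
  have hne : θ - τ θ ≠ 0 := fun e => hc ((algebraMap F K).injective (by rw [← hτθ]; exact (sub_eq_zero.1 e).symm))
  let E := RingHom.eqLocusField τ (RingHom.id K)
  haveI : Fintype E := Fintype.ofFinite E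
  let f : E × E → K := fun x => (x.1 : K) + θ * x.2
  have hf : Function.Bijective f := by
    constructor
    · rintro ⟨⟨x, hx⟩, ⟨y, hy⟩⟩ ⟨⟨x', hx'⟩, ⟨y', hy'⟩⟩ e
      have e' := congrArg τ e
      simp only [f, map_add, map_mul, show τ x = x from hx, show τ y = y from hy, show τ x' = x' from hx',
        show τ y' = y' from hy'] at e e'
      have hy2 : y = y' := mul_left_cancel₀ hne (by linear_combination e - e')
      subst hy2
      have hx2 : x = x' := add_right_cancel e
      subst hx2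
      rfl
    · intro k
      have hb : τ ((k - τ k) / (θ - τ θ)) = (k - τ k) / (θ - τ θ) := by
        rw [map_div₀, map_sub, map_sub, hττ, hττ, ← neg_sub k, ← neg_sub θ, neg_div_neg_eq]
      refine ⟨(⟨k - θ * ((k - τ k) / (θ - τ θ)), ?_⟩, ⟨_, hb⟩), ?_⟩
      · show τ (k - θ * ((k - τ k) / (θ - τ θ))) = k - θ * ((k - τ k) / (θ - τ θ))
        rw [map_sub, map_mul, hb]
        field_simp
        ring
      · simp only [f]; ring
  have hcE := Fintype.card_of_bijective hf
  have hK6 : Fintype.card K = q ^ 6 := by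
    rw [Module.card_eq_pow_finrank (K := F), hF, hK.finrank_eq, ← pow_mul]
  rw [Fintype.card_prod, hK6, show q ^ 6 = q ^ 3 * q ^ 3 by ring] at hcE
  have hE : Fintype.card E = q ^ 3 := Nat.mul_self_inj.1 hcE
  obtain ⟨p, hp⟩ := CharP.exists F
  haveI : CharP K p := charP_of_injective_algebraMap (algebraMap F K).injective p
  haveI : Fact p.Prime := ⟨CharP.char_is_prime F p⟩
  obtain ⟨j, hj⟩ : ∃ j, q ^ 3 = p ^ j := by
    obtain ⟨i, -, hi⟩ := FiniteField.card F p
    obtain ⟨k, -, hk⟩ := (Nat.dvd_prime_pow (Fact.out : p.Prime)).1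
      (show q ∣ p ^ (i : ℕ) from hi ▸ hF ▸ dvd_pow_self q two_ne_zero)
    exact ⟨k * 3, by rw [hk, pow_mul]⟩
  have hEfix : ∀ x : E, (x : K) ^ q ^ 3 = x := fun x => by
    have h1 := FiniteField.pow_card x
    rw [hE] at h1
    exact congrArg Subtype.val h1
  have hθp : θ ^ q ^ 3 = τ θ := by
    rw [hτθ, hθ, ← map_pow, qEquiv_apply, show q ^ 3 = q ^ 2 * q by ring, pow_mul, ← hF, FiniteField.pow_card]
  have key : ∀ k : K, τ k = k ^ q ^ 3 := fun k => by
    obtain ⟨⟨x, y⟩, rfl⟩ := hf.2 k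
    simp only [f]
    rw [map_add, map_mul, show τ (x : K) = x from x.2, show τ (y : K) = y from y.2, hj, add_pow_char_pow, mul_pow,
      ← hj, hEfix, hEfix, hθp]
  exact congrArg Subtype.val (key ⟨a, ha⟩)

/-- The torus. -/
def Tor (K : Subalgebra F (Matrix (Fin 3) (Fin 3) F)) (q : ℕ) : Subgroup (GL (Fin 3) F) :=
  Kx K ⊓ (GU 3 F q ⊓ Geo.specialLinear (Fin 3) F)

theorem Kx_iso_iff {g : G₃} (hg : g ∈ Kx K) : g ∈ GU 3 F q ↔ g ^ (q ^ 3 + 1) = 1 := by
  rw [iso_iff hF, st_eq_pow hF hK hac ((mem_Kx hK).1 hg), Units.ext_iff, Units.val_pow_eq_pow_val, Units.val_one,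
    pow_succ (g : M₃)]

theorem cyclic_Kx : IsCyclic (Kx K) := by
  classical
  letI : Field K := FieldExtNormalizer.fieldOf hK (by norm_num)
  refine isCyclic_of_subgroup_isDomain
    ({ toFun := fun g : Kx K => (⟨((g : G₃) : M₃), (mem_Kx hK).1 g.2⟩ : K)
       map_one' := rfl
       map_mul' := fun _ _ => rfl } : Kx K →* K) fun a b e => Subtype.ext (Units.ext (congrArg Subtype.val e))

/-- The isometries in the units. -/
noncomputable def iso (K : Subalgebra F (Matrix (Fin 3) (Fin 3) F)) (q : ℕ) : Subgroup (Kx K) :=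
  (GU 3 F q).subgroupOf (Kx K)

theorem card_iso : Nat.card (iso K q) = q ^ 3 + 1 := by
  haveI := cyclic_Kx hF hK hac
  letI : CommGroup (Kx K) := { mul_comm := fun a b => Subtype.ext (Kx_comm hK a.2 b.2) }
  have he : iso K q = (powMonoidHom (q ^ 3 + 1) : Kx K →* Kx K).ker := by
    ext g
    rw [MonoidHom.mem_ker, powMonoidHom_apply, iso, Subgroup.mem_subgroupOf, Kx_iso_iff hF hK hac g.2,
      Subtype.ext_iff, SubmonoidClass.coe_pow]
    rfl
  have hq := two_le_q hF
  rw [he, IsCyclic.card_powMonoidHom_ker, card_Kx hK, hF, Nat.gcd_comm]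
  refine Nat.gcd_eq_left ⟨q ^ 3 - 1, ?_⟩
  have h1 : 1 ≤ q ^ 3 := Nat.one_le_pow _ _ (by omega)
  have h2 : 1 ≤ (q ^ 2) ^ 3 := Nat.one_le_pow _ _ (pow_pos (by omega) 2)
  zify [h1, h2]
  ring

/-- An isometry in the units with prescribed determinant. -/
theorem exists_iso_det {ω : F} (hω : ω * qEquiv hF ω = 1) :
    ∃ g ∈ Kx K, g ∈ GU 3 F q ∧ (g : M₃).det = ω := by
  have hs := herm_hermForm (n := 1) hF
  have hq := two_le_q hF
  have hω0 : ω ≠ 0 := fun e => one_ne_zero (by rw [← hω, e, zero_mul])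
  -- Hilbert 90
  obtain ⟨z, hz0, hz⟩ : ∃ z : F, z ≠ 0 ∧ z ^ q = ω * z := by
    obtain ⟨a, ha⟩ : ∃ a : F, a + qEquiv hF a * qEquiv hF ω ≠ 0 := by
      by_contra hc
      push Not at hc
      have h1 := hc 1
      rw [map_one, one_mul, add_comm] at h1
      rw [eq_neg_of_add_eq_zero_left h1] at hc
      obtain ⟨a, ha⟩ := hs.exists_moved
      exact ha (by linear_combination -hc a)
    refine ⟨_, ha, ?_⟩
    rw [← qEquiv_apply hF, map_add, map_mul, hs.invol, hs.invol]
    linear_combination -(qEquiv hF a) * hω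
  have hzq : z ^ (q - 1) = ω := mul_right_cancel₀ hz0 (by rw [← pow_succ, Nat.sub_add_cancel (by omega), hz])
  have hωq : ω ^ (q + 1) = 1 := by rw [pow_succ', ← qEquiv_apply hF, hω]
  obtain ⟨k, hk⟩ := detK_surjective hK (Units.mk0 z hz0)
  refine ⟨((k ^ (q ^ 3 - 1) : Kx K) : G₃), SetLike.coe_mem _, ?_, ?_⟩
  · rw [Kx_iso_iff hF hK hac (SetLike.coe_mem _), ← SubmonoidClass.coe_pow, ← pow_mul]
    have h1 : k ^ Nat.card (Kx K) = 1 := pow_card_eq_one'
    rw [show (q ^ 3 - 1) * (q ^ 3 + 1) = Nat.card (Kx K) by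
      rw [card_Kx hK, hF]
      have h1 : 1 ≤ q ^ 3 := Nat.one_le_pow _ _ (by omega)
      have h2 : 1 ≤ (q ^ 2) ^ 3 := Nat.one_le_pow _ _ (pow_pos (by omega) 2)
      zify [h1, h2]
      ring, h1, OneMemClass.coe_one]
  · have h2 := congrArg Units.val hk
    rw [detK_apply, Units.val_mk0] at h2
    rw [SubmonoidClass.coe_pow, Units.val_pow_eq_pow_val, Matrix.det_pow, h2,
      show q ^ 3 - 1 = (q - 1) * ((q + 1) * q + 1) by
        have h1 : 1 ≤ q ^ 3 := Nat.one_le_pow _ _ (by omega)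
        zify [h1, (by omega : 1 ≤ q)]
        ring, pow_mul, hzq, pow_succ, pow_mul, hωq, one_pow, one_mul]

/-- The order of the torus. -/
theorem card_Tor : Nat.card (Tor K q) * (q + 1) = q ^ 3 + 1 := by
  classical
  have hq := two_le_q hF
  obtain ⟨φ, hφ⟩ : ∃ φ : iso K q →* Fˣ, φ = (detK K).comp (iso K q).subtype := ⟨_, rfl⟩
  have hker : Nat.card φ.ker = Nat.card (Tor K q) := by
    refine Nat.card_congr
      { toFun := fun g => ⟨((g.1.1 : Kx K) : G₃), g.1.1.2, g.1.2, by
          have := g.2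
          simp only [hφ, MonoidHom.mem_ker] at this
          exact MonoidHom.mem_ker.2 (Units.ext (by
            have h1 := congrArg Units.val this
            simpa [detK_apply] using h1))⟩
        invFun := fun g => ⟨⟨⟨g.1, g.2.1⟩, g.2.2.1⟩, by
          simp only [hφ, MonoidHom.mem_ker]
          refine Units.ext ?_
          show (detK K ⟨g.1, g.2.1⟩ : F) = 1
          rw [detK_apply]
          exact congrArg Units.val (MonoidHom.mem_ker.1 g.2.2.2)⟩
        left_inv := fun g => rfl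
        right_inv := fun g => rfl }
  have hr : φ.range = (powMonoidHom (q + 1) : Fˣ →* Fˣ).ker := by
    ext ω
    rw [MonoidHom.mem_ker, powMonoidHom_apply, hφ, Units.ext_iff, Units.val_pow_eq_pow_val, pow_succ', Units.val_one,
      ← qEquiv_apply hF]
    constructor
    · rintro ⟨g, rfl⟩
      exact norm_det_isometry hF (g.1 : G₃) (mem_GU.1 g.2)
    · intro h
      obtain ⟨g, hg, hgi, hgd⟩ := exists_iso_det hF hK hac h
      exact ⟨⟨⟨g, hg⟩, hgi⟩, Units.ext hgd⟩
  have h := φ.ker.card_mul_index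
  rw [Subgroup.index_ker, hr, card_iso hF hK hac, hker, IsCyclic.card_powMonoidHom_ker, Nat.card_units,
    Nat.card_eq_fintype_card (α := F), hF] at h
  rwa [Nat.gcd_eq_right (Dvd.intro (q - 1) (by rw [← Nat.sq_sub_sq, one_pow]))] at h

theorem Tor_comm {a b : G₃} (ha : a ∈ Tor K q) (hb : b ∈ Tor K q) : a * b = b * a := Kx_comm hK ha.1 hb.1

theorem nonscalar_exists (hq : 3 ≤ q) : ∃ u : G₃, u ∈ Tor K q ∧ ∀ s : F, (u : M₃) ≠ s • 1 := by
  classical
  by_contra hc
  push Not at hc
  have hle : Nat.card (Tor K q) ≤ 3 := by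
    refine le_trans (Nat.card_le_card_of_injective (fun g : Tor K q => (⟨⟨g.1, g.2.1⟩, ?_⟩ : {x : Kx K // x ^ 3 = 1}))
      fun a b e => Subtype.ext (congrArg (fun x : {x : Kx K // x ^ 3 = 1} => ((x.1 : Kx K) : G₃)) e))
      (card_pow_eq_one_le hK (by norm_num))
    obtain ⟨s, hs⟩ := hc g.1 g.2
    refine Subtype.ext (Units.ext ?_)
    have hd : (g.1 : M₃).det = 1 := congrArg Units.val (MonoidHom.mem_ker.1 g.2.2.2)
    rw [hs, Matrix.det_smul, Matrix.det_one, mul_one, Fintype.card_fin] at hd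
    show ((g.1 ^ 3 : G₃) : M₃) = 1
    rw [Units.val_pow_eq_pow_val, hs, smul_pow, one_pow, hd, one_smul]
  have h1 := card_Tor hF hK hac
  have h2 := Nat.mul_le_mul_right (q + 1) hle
  rw [h1] at h2
  have : 3 * 3 ≤ q * q := Nat.mul_le_mul hq hq
  nlinarith

/-- Cube roots of one in the field are scalars. -/
theorem scalar_of_cube {y : G₃} (h : y ∈ Kx K) (hy3 : y ^ 3 = 1) : ∃ s : F, (y : M₃) = s • 1 := by
  classical
  by_contra hns
  push Not at hns
  letI : Field K := FieldExtNormalizer.fieldOf hK (by norm_num)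
  obtain ⟨Y, hY⟩ : ∃ Y : K, Y = ⟨(y : M₃), (mem_Kx hK).1 h⟩ := ⟨_, rfl⟩
  have hY3 : Y ^ 3 = 1 := Subtype.ext (by
    rw [hY]
    show (y : M₃) ^ 3 = 1
    rw [← Units.val_pow_eq_pow_val, hy3, Units.val_one])
  by_cases hprim : ∃ ω : F, ω ^ 3 = 1 ∧ ω ≠ 1
  · obtain ⟨ω, hω, hω1⟩ := hprim
    have hs : (1 : F) + ω + ω ^ 2 = 0 := (mul_eq_zero.1 (show (ω - 1) * (1 + ω + ω ^ 2) = 0 by
      linear_combination hω)).resolve_left (sub_ne_zero.2 hω1)
    have hprod : (Y - algebraMap F K 1) * ((Y - algebraMap F K ω) * (Y - algebraMap F K (ω ^ 2))) = 0 := by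
      have h1 : (1 : K) + algebraMap F K ω + algebraMap F K ω ^ 2 = 0 := by
        rw [← map_one (algebraMap F K), ← map_pow, ← map_add, ← map_add, hs, map_zero]
      have h2 : algebraMap F K ω ^ 3 = 1 := by rw [← map_pow, hω, map_one]
      rw [map_one, map_pow]
      linear_combination hY3 - h2 - Y ^ 2 * h1 + Y * algebraMap F K ω * h1
    have hroot : ∀ c : F, Y - algebraMap F K c = 0 → False := fun c e => hns c (by
      have h3 := congrArg Subtype.val (sub_eq_zero.1 e)
      rw [hY] at h3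
      exact h3.trans (Algebra.algebraMap_eq_smul_one c))
    rcases mul_eq_zero.1 hprod with e | e
    · exact hroot _ e
    rcases mul_eq_zero.1 e with e | e <;> exact hroot _ e
  · push Not at hprim
    have hcard : ¬ 3 ∣ Nat.card Fˣ := fun h3 => by
      obtain ⟨v, hv⟩ := exists_prime_orderOf_dvd_card' (G := Fˣ) 3 (hp := ⟨Nat.prime_three⟩) h3
      have := hprim v (by rw [← Units.val_pow_eq_pow_val, ← hv, pow_orderOf_eq_one, Units.val_one])
      rw [Units.val_eq_one] at this
      rw [this, orderOf_one] at hv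
      norm_num at hv
    rw [Nat.card_units, Nat.card_eq_fintype_card, hF] at hcard
    have hmod : q % 3 = 0 := by
      have h9 : q % 3 < 3 := Nat.mod_lt _ (by norm_num)
      by_contra h0
      refine hcard (Nat.dvd_of_mod_eq_zero (Nat.sub_mod_eq_zero_of_mod_eq ?_))
      rw [Nat.pow_mod]
      rcases (show q % 3 = 1 ∨ q % 3 = 2 by omega) with e | e <;> rw [e]
    obtain ⟨p, hp⟩ := CharP.exists F
    haveI : Fact p.Prime := ⟨CharP.char_is_prime F p⟩
    obtain ⟨i, -, hi⟩ := FiniteField.card F p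
    have h3 : 3 ∣ p ^ (i : ℕ) := by
      rw [← hi, hF]
      exact (Nat.dvd_of_mod_eq_zero hmod).trans (dvd_pow_self q two_ne_zero)
    have hp3 : p = 3 :=
      ((Nat.prime_dvd_prime_iff_eq Nat.prime_three Fact.out).1 (Nat.prime_three.dvd_of_dvd_pow h3)).symm
    subst hp3
    haveI : CharP K 3 := charP_of_injective_algebraMap (algebraMap F K).injective 3
    have : (Y - 1) ^ 3 = 0 := by rw [sub_pow_char, hY3, one_pow, sub_self]
    have hY1 : Y = 1 := sub_eq_zero.1 (pow_eq_zero_iff (by norm_num) |>.1 this)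
    refine hns 1 ?_
    rw [one_smul]
    have h4 := congrArg Subtype.val hY1
    rw [hY] at h4
    exact h4

/-- An element of the special unitary group inducing a non-trivial automorphism of the field. -/
theorem exists_frob_su (hq : 3 ≤ q) : ∃ g ∈ GU 3 F q ⊓ Geo.specialLinear (Fin 3) F,
    g ∈ Geo.subalgebraNormalizer K ∧ g ∉ Kx K := by
  classical
  obtain ⟨y, hyN, hy3, hyns⟩ := SingerNormalizerDerange.exists_frob Nat.prime_three hK
  obtain ⟨u, hu, huns⟩ := nonscalar_exists hF hK hac hq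
  have hyK : y ∉ Kx K := fun h => by
    obtain ⟨c, hc⟩ := scalar_of_cube hF hK hac h hy3
    exact hyns c hc
  obtain ⟨G, hG⟩ : ∃ G, G = st hF (y : M₃) * (y : M₃) := ⟨_, rfl⟩
  have hcomm : ∀ a ∈ K, G * a = a * G := fun a ha => by
    obtain ⟨b, hb⟩ : ∃ b, b = (y : M₃) * a * ((y⁻¹ : G₃) : M₃) := ⟨_, rfl⟩
    have hbK : b ∈ K := hb ▸ (hyN a).1 ha
    have h1 : (y : M₃) * a = b * (y : M₃) := by
      rw [hb, Matrix.mul_assoc ((y : M₃) * a), Units.inv_mul, Matrix.mul_one]
    have h2 : (y : M₃) * st hF a = st hF b * (y : M₃) := by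
      have hpow : ∀ n : ℕ, (y : M₃) * a ^ n = b ^ n * (y : M₃) := fun n => by
        induction n with
        | zero => simp
        | succ n ih => rw [pow_succ, ← Matrix.mul_assoc, ih, Matrix.mul_assoc, h1, ← Matrix.mul_assoc, ← pow_succ]
      rw [st_eq_pow hF hK hac ha, st_eq_pow hF hK hac hbK, hpow]
    have h3 : st hF (y : M₃) * b = a * st hF (y : M₃) := by
      have := congrArg (st hF) h2
      rw [st_mul, st_mul, st_st, st_st] at this
      exact this.symm
    rw [hG, Matrix.mul_assoc, h1, ← Matrix.mul_assoc, h3, Matrix.mul_assoc]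
  have hGK : G ∈ K := mem_of_commute hK ((mem_Kx hK).1 hu.1) huns (hcomm _ ((mem_Kx hK).1 hu.1))
  have hG0 : G ≠ 0 := fun e => by
    have h1 : G.det = 0 := by rw [e, Matrix.det_zero]
    rw [hG, Matrix.det_mul, st, ← RingEquiv.coe_toRingHom, ← RingHom.mapMatrix_apply, ← RingHom.map_det,
      Matrix.det_transpose] at h1
    have h2 : (y : M₃).det ≠ 0 := ((Matrix.isUnit_iff_isUnit_det _).1 y.isUnit).ne_zero
    exact mul_ne_zero ((map_ne_zero _).2 h2) h2 h1
  obtain ⟨g, hg, hgG⟩ := exists_unit hK hGK hG0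
  have hgfix : g ^ (q ^ 3 - 1) = 1 := by
    have h1 : g ^ q ^ 3 = g := Units.ext (by
      rw [Units.val_pow_eq_pow_val, hgG, ← st_eq_pow hF hK hac hGK, hG, st_mul, st_st])
    refine mul_right_cancel (b := g) ?_
    rw [one_mul, ← pow_succ, Nat.sub_add_cancel (Nat.one_le_pow _ _ (by omega)), h1]
  haveI := cyclic_Kx hF hK hac
  obtain ⟨k, hk⟩ := exists_root_of_pow (G := Kx K) (m := q ^ 3 - 1) (l := q ^ 3 + 1)
    (x := (⟨g, hg⟩ : Kx K)⁻¹) (Nat.sub_pos_of_lt (Nat.one_lt_pow (by norm_num) (by omega))) (by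
      rw [card_Kx hK, hF]
      have h1 : 1 ≤ q ^ 3 := Nat.one_le_pow _ _ (by omega)
      have h2 : 1 ≤ (q ^ 2) ^ 3 := Nat.one_le_pow _ _ (pow_pos (by omega) 2)
      zify [h1, h2]
      ring) (by rw [inv_pow, inv_eq_one]; exact Subtype.ext hgfix)
  have hkG : ((k : G₃) : M₃) ^ q ^ 3 * G * ((k : G₃) : M₃) = 1 := by
    have h1 := congrArg (fun x : Kx K => ((x * ⟨g, hg⟩ : Kx K) : G₃)) hk
    simp only [inv_mul_cancel, OneMemClass.coe_one, Subgroup.coe_mul, SubmonoidClass.coe_pow] at h1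
    have h2 := congrArg Units.val h1
    rw [Units.val_mul, Units.val_pow_eq_pow_val, Units.val_one, pow_succ, hgG, Matrix.mul_assoc,
      hK.comm _ ((mem_Kx hK).1 k.2) _ hGK, ← Matrix.mul_assoc] at h2
    exact h2
  have hiso : y * (k : G₃) ∈ GU 3 F q := by
    rw [iso_iff hF, Units.val_mul, st_mul, st_eq_pow hF hK hac ((mem_Kx hK).1 k.2), Matrix.mul_assoc,
      ← Matrix.mul_assoc (st hF (y : M₃)), ← hG, ← Matrix.mul_assoc, hkG]
  have hdet := norm_det_isometry hF _ (mem_GU.1 hiso)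
  obtain ⟨w, hw, hwi, hwd⟩ := exists_iso_det hF hK hac (ω := qEquiv hF ((y * (k : G₃) : G₃) : M₃).det) (by
    rw [(herm_hermForm (n := 1) hF).invol, mul_comm]; exact hdet)
  refine ⟨y * k * w, ⟨mul_mem hiso hwi, MonoidHom.mem_ker.2 (Units.ext ?_)⟩,
    mul_mem (mul_mem hyN (Kx_le_normalizer hK k.2)) (Kx_le_normalizer hK hw), fun h => hyK ?_⟩
  · show ((y * k * w : G₃) : M₃).det = 1
    rw [Units.val_mul, Matrix.det_mul, hwd, hdet]
  · rw [show y = y * k * w * (k * w)⁻¹ by group]
    exact mul_mem h (inv_mem (mul_mem k.2 hw))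

end Cfsg.Agent.Classical.SUThree.Torus
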