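import Cfsg.Agent.Lib.Classical.SUThree.TorusBase
import Cfsg.Agent.Lib.Classical.SUThree.Arith

/-!
Overgroups of the normaliser of the torus: the index is one modulo the order of the torus modulo scalars.
-/

set_option autoImplicit false
set_option linter.unusedSectionVars false
set_option linter.style.haveILetI false

namespace Cfsg.Agent.Classical.SUThree.Torus

open Matrix Module MaxTv SLThree.Singer

/-- A fixed point and all other orbits regular. -/
theorem card_mod_of_free {A X : Type*} [Group A] [MulAction A X] [Finite A] [Finite X] (x₀ : X)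
    (hfix : ∀ a : A, a • x₀ = x₀) {d n : ℕ} (hd : 0 < d) (hn : d * n = Nat.card A)
    (hst : ∀ x : X, x ≠ x₀ → Nat.card (MulAction.stabilizer A x) = d) : Nat.card X % n = 1 % n := by
  classical
  letI := Fintype.ofFinite (Quotient (MulAction.orbitRel A X))
  rw [Nat.card_congr (MulAction.selfEquivSigmaOrbits A X), Nat.card_sigma]
  obtain ⟨ω₀, hω₀⟩ : ∃ ω₀ : Quotient (MulAction.orbitRel A X), ω₀ = Quotient.mk'' x₀ := ⟨_, rfl⟩
  have hiff : ∀ ω : Quotient (MulAction.orbitRel A X), ω.out = x₀ ↔ ω = ω₀ := fun ω => by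
    constructor
    · intro e; rw [hω₀, ← e]; exact (Quotient.out_eq' ω).symm
    · rintro rfl
      have h1 : ω.out ∈ MulAction.orbit A x₀ := by
        have := Quotient.exact' ((Quotient.out_eq' ω).trans hω₀)
        exact this
      obtain ⟨a, ha⟩ := h1
      exact ha.symm.trans (hfix a)
  have h0 : Nat.card (MulAction.orbit A ω₀.out) = 1 := by
    rw [(hiff ω₀).2 rfl, Nat.card_eq_one_iff_unique]
    exact ⟨⟨fun a b => Subtype.ext (by
      obtain ⟨_, i, rfl⟩ := a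
      obtain ⟨_, j, rfl⟩ := b
      exact (hfix i).trans (hfix j).symm)⟩, ⟨⟨x₀, MulAction.mem_orbit_self x₀⟩⟩⟩
  have h1 : ∀ ω ∈ Finset.univ.erase ω₀, n ∣ Nat.card (MulAction.orbit A ω.out) := fun ω hω => by
    have hne : ω.out ≠ x₀ := fun e => (Finset.mem_erase.1 hω).1 ((hiff ω).1 e)
    have h2 := Nat.card_congr (MulAction.orbitProdStabilizerEquivGroup A ω.out)
    rw [Nat.card_prod, hst _ hne, ← hn, mul_comm d] at h2
    exact Dvd.intro 1 (by rw [mul_one]; exact (Nat.eq_of_mul_eq_mul_right hd h2).symm)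
  rw [← Finset.add_sum_erase _ _ (Finset.mem_univ ω₀), h0]
  obtain ⟨k, hk⟩ := Finset.dvd_sum h1
  rw [hk, Nat.add_mul_mod_self_left]

variable {F : Type*} [Field F] [Fintype F] {q : ℕ} {K : Subalgebra F (Matrix (Fin 3) (Fin 3) F)}
  (hF : Fintype.card F = q ^ 2) (hK : Geo.IsFieldSubalgebra 3 K)
  (hac : Geo.IsAdjointClosedFor (hermForm 3 F q) K)

local notation "M₃" => Matrix (Fin 3) (Fin 3) F
local notation "G₃" => GL (Fin 3) F

/-- The normaliser. -/
def Nor (K : Subalgebra F (Matrix (Fin 3) (Fin 3) F)) (q : ℕ) : Subgroup (GL (Fin 3) F) :=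
  Geo.subalgebraNormalizer K ⊓ (GU 3 F q ⊓ Geo.specialLinear (Fin 3) F)

include hF hK hac

theorem Tor_le_Nor : Tor K q ≤ Nor K q := fun _ hg => ⟨Kx_le_normalizer hK hg.1, hg.2⟩

theorem nor_data (hq : 3 ≤ q) :
    Nat.card (Nor K q) = Nat.card (Tor K q) * 3 ∧ ∀ g ∈ Nor K q, g ^ 3 ∈ Tor K q := by
  classical
  letI : Field K := FieldExtNormalizer.fieldOf hK (by norm_num)
  haveI : FiniteDimensional F K := Module.finite_of_finrank_pos (by rw [hK.finrank_eq]; norm_num)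
  haveI : Finite K := Module.finite_of_finite F
  haveI := Fintype.ofFinite (K ≃ₐ[F] K)
  let e : ∀ g : Nor K q, K →ₐ[F] K := fun g =>
    { toFun := fun a => ⟨((g : G₃) : M₃) * (a : M₃) * (((g : G₃)⁻¹ : G₃) : M₃), (g.2.1 a).1 a.2⟩
      map_one' := Subtype.ext (by simp)
      map_mul' := fun a b => Subtype.ext (by
        simp only [MulMemClass.coe_mul, Matrix.mul_assoc]
        rw [← Matrix.mul_assoc (((g : G₃)⁻¹ : G₃) : M₃) ((g : G₃) : M₃), Units.inv_mul, Matrix.one_mul])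
      map_zero' := Subtype.ext (by simp)
      map_add' := fun a b => Subtype.ext (by simp [Matrix.mul_add, Matrix.add_mul])
      commutes' := fun t => Subtype.ext (by
        show ((g : G₃) : M₃) * algebraMap F M₃ t * (((g : G₃)⁻¹ : G₃) : M₃) = algebraMap F M₃ t
        rw [← Algebra.commutes, Matrix.mul_assoc, Units.mul_inv, Matrix.mul_one]) }
  let ψ : Nor K q →* (K ≃ₐ[F] K) := MonoidHom.mk'
    (fun g => AlgEquiv.ofBijective (e g) (Finite.injective_iff_bijective.1 (e g).toRingHom.injective))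
    fun g g' => AlgEquiv.ext fun a => Subtype.ext (by
      show (((g * g' : Nor K q) : G₃) : M₃) * (a : M₃) * ((((g * g' : Nor K q) : G₃)⁻¹ : G₃) : M₃) =
        ((g : G₃) : M₃) * (((g' : G₃) : M₃) * (a : M₃) * (((g' : G₃)⁻¹ : G₃) : M₃)) * (((g : G₃)⁻¹ : G₃) : M₃)
      rw [Subgroup.coe_mul, _root_.mul_inv_rev, Units.val_mul, Units.val_mul]
      simp only [Matrix.mul_assoc])
  have hone : ∀ g : Nor K q, ψ g = 1 ↔ (g : G₃) ∈ Tor K q := fun g => by
    constructor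
    · intro h
      obtain ⟨u, hu, huns⟩ := nonscalar_exists hF hK hac hq
      have hc : ((g : G₃) : M₃) * (u : M₃) * (((g : G₃)⁻¹ : G₃) : M₃) = (u : M₃) :=
        congrArg Subtype.val (AlgEquiv.congr_fun h (⟨_, (mem_Kx hK).1 hu.1⟩ : K))
      refine ⟨(mem_Kx hK).2 (mem_of_commute hK ((mem_Kx hK).1 hu.1) huns ?_), g.2.2⟩
      conv_rhs => rw [← hc]
      rw [Matrix.mul_assoc (((g : G₃) : M₃) * (u : M₃)), Units.inv_mul, Matrix.mul_one]
    · intro h
      refine AlgEquiv.ext fun a => Subtype.ext ?_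
      show ((g : G₃) : M₃) * (a : M₃) * (((g : G₃)⁻¹ : G₃) : M₃) = (a : M₃)
      rw [hK.comm _ ((mem_Kx hK).1 h.1) _ a.2, Matrix.mul_assoc, Units.mul_inv, Matrix.mul_one]
  have hcard : Nat.card (K ≃ₐ[F] K) = 3 := by rw [IsGalois.card_aut_eq_finrank, hK.finrank_eq]
  refine ⟨?_, fun g hg => ?_⟩
  · have h := ψ.ker.card_mul_index
    rw [Subgroup.index_ker] at h
    have hk : Nat.card ψ.ker = Nat.card (Tor K q) := Nat.card_congr
      { toFun := fun g => ⟨g.1.1, (hone g.1).1 g.2⟩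
        invFun := fun g => ⟨⟨g.1, Tor_le_Nor hF hK hac g.2⟩, (hone _).2 g.2⟩
        left_inv := fun g => rfl
        right_inv := fun g => rfl }
    haveI : Fact (Nat.Prime 3) := ⟨Nat.prime_three⟩
    have hr : Nat.card ψ.range = 3 := by
      rcases (Nat.dvd_prime Nat.prime_three).1 (hcard ▸ ψ.range.card_subgroup_dvd_card) with h1 | h1
      · obtain ⟨g, hg, hgN, hgK⟩ := exists_frob_su hF hK hac hq
        refine absurd ((hone ⟨g, hgN, hg⟩).1 ?_).1 hgK
        have := Subgroup.card_eq_one.1 h1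
        exact Subgroup.mem_bot.1 (this ▸ MonoidHom.mem_range.2 ⟨_, rfl⟩)
      · exact h1
    rw [← h, hk, hr]
  · refine (hone ⟨g ^ 3, pow_mem hg 3⟩).1 ?_
    rw [show (⟨g ^ 3, pow_mem hg 3⟩ : Nor K q) = ⟨g, hg⟩ ^ 3 from Subtype.ext rfl, map_pow]
    have := pow_card_eq_one' (x := ψ ⟨g, hg⟩)
    rwa [hcard] at this

theorem scalar_of_cube_scalar {x : G₃} (hx : x ∈ Tor K q) {s : F} (hs : ((x ^ 3 : G₃) : M₃) = s • 1) :
    ∃ c : F, (x : M₃) = c • 1 := by
  have hd : (x : M₃).det = 1 := congrArg Units.val (MonoidHom.mem_ker.1 hx.2.2)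
  have hs3 : s ^ 3 = 1 := by
    have h := congrArg Matrix.det hs
    rw [Units.val_pow_eq_pow_val, Matrix.det_pow, hd, one_pow, Matrix.det_smul, Matrix.det_one, mul_one,
      Fintype.card_fin] at h
    exact h.symm
  have h9 : x ^ 9 = 1 := Units.ext (by
    rw [show x ^ 9 = (x ^ 3) ^ 3 by rw [← pow_mul], Units.val_pow_eq_pow_val, hs, smul_pow, one_pow, hs3, one_smul,
      Units.val_one])
  have hT : x ^ Nat.card (Tor K q) = 1 :=
    congrArg Subtype.val (pow_card_eq_one' (x := (⟨x, hx⟩ : Tor K q)))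
  have hq := two_le_q hF
  have hcop : ¬ 9 ∣ Nat.card (Tor K q) := fun h => by
    have h1 := (h.mul_right (q + 1))
    rw [card_Tor hF hK hac] at h1
    obtain ⟨m, hm⟩ := h
    have h2 : (q + 1) * (q * q + 1) = (q + 1) * (9 * m + q) := by
      rw [mul_add (q + 1) (9 * m) q, mul_comm (q + 1) (9 * m), ← hm, card_Tor hF hK hac]; ring
    have h3 := congrArg (· % 9) (Nat.eq_of_mul_eq_mul_left (by omega) h2)
    simp only [Nat.mul_add_mod] at h3
    rw [Nat.add_mod, Nat.mul_mod] at h3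
    have := Nat.mod_lt q (show 9 > 0 by norm_num)
    generalize q % 9 = r at h3 this
    interval_cases r <;> norm_num at h3
  have hg : Nat.gcd 9 (Nat.card (Tor K q)) ∣ 3 := by
    obtain ⟨i, hi, hg⟩ := (Nat.dvd_prime_pow Nat.prime_three).1
      (show Nat.gcd 9 (Nat.card (Tor K q)) ∣ 3 ^ 2 from Nat.gcd_dvd_left _ _)
    rw [hg]
    interval_cases i <;> norm_num
    exact hcop (by rw [show (9 : ℕ) = 3 ^ 2 by norm_num, ← hg]; exact Nat.gcd_dvd_right _ _)
  obtain ⟨l, hl⟩ := hg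
  refine scalar_of_cube hF hK hac hx.1 ?_
  rw [show x ^ 3 = (x ^ Nat.gcd 9 (Nat.card (Tor K q))) ^ l by rw [← pow_mul, ← hl], pow_gcd_eq_one.2 ⟨h9, hT⟩,
    one_pow]

/-- The torus is a trivial intersection set modulo scalars. -/
theorem mem_normalizer_of_conj (hq : 3 ≤ q) {g x : G₃} (hx : x ∈ Tor K q) (hns : ∀ s : F, (x : M₃) ≠ s • 1)
    (h : g * x * g⁻¹ ∈ Nor K q) : g ∈ Geo.subalgebraNormalizer K := by
  have h3 := (nor_data hF hK hac hq).2 _ h
  rw [conj_pow] at h3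
  have hx3 : ∀ s : F, ((x ^ 3 : G₃) : M₃) ≠ s • 1 := fun s e => by
    obtain ⟨c, hc⟩ := scalar_of_cube_scalar hF hK hac hx e
    exact hns c hc
  have hx3K : ((x ^ 3 : G₃) : M₃) ∈ K := (mem_Kx hK).1 (pow_mem hx.1 3)
  refine FieldExtNormalizer.mem_normalizer hK (by norm_num) fun a ha => ?_
  refine ⟨(g : M₃) * a * ((g⁻¹ : G₃) : M₃), mem_of_commute hK ((mem_Kx hK).1 h3.1) (fun s e => hx3 s ?_) ?_, ?_⟩
  · have h1 := congrArg (fun A : M₃ => ((g⁻¹ : G₃) : M₃) * A * (g : M₃)) e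
    simp only [Units.val_mul, Matrix.mul_assoc, Units.inv_mul, Matrix.mul_one, Matrix.smul_mul, Matrix.one_mul,
      Matrix.mul_smul] at h1
    rwa [← Matrix.mul_assoc, Units.inv_mul, Matrix.one_mul] at h1
  · simp only [Units.val_mul]
    calc (g : M₃) * a * ((g⁻¹ : G₃) : M₃) * ((g : M₃) * ((x ^ 3 : G₃) : M₃) * ((g⁻¹ : G₃) : M₃))
        = (g : M₃) * (a * ((x ^ 3 : G₃) : M₃)) * ((g⁻¹ : G₃) : M₃) := by
          simp only [Matrix.mul_assoc]; rw [← Matrix.mul_assoc ((g⁻¹ : G₃) : M₃) (g : M₃), Units.inv_mul, Matrix.one_mul]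
      _ = (g : M₃) * (((x ^ 3 : G₃) : M₃) * a) * ((g⁻¹ : G₃) : M₃) := by rw [hK.comm _ ha _ hx3K]
      _ = (g : M₃) * ((x ^ 3 : G₃) : M₃) * ((g⁻¹ : G₃) : M₃) * ((g : M₃) * a * ((g⁻¹ : G₃) : M₃)) := by
          simp only [Matrix.mul_assoc]; rw [← Matrix.mul_assoc ((g⁻¹ : G₃) : M₃) (g : M₃), Units.inv_mul, Matrix.one_mul]
  · rw [Matrix.mul_assoc ((g : M₃) * a), Units.inv_mul, Matrix.mul_one]

theorem card_scalars : Nat.card {g : Tor K q // ∃ s : F, ((g : G₃) : M₃) = s • 1} = Nat.gcd 3 (q + 1) := by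
  classical
  have hq := two_le_q hF
  have hS : ∀ g : {g : Tor K q // ∃ s : F, ((g : G₃) : M₃) = s • 1}, ∃ c : Fˣ,
      (((g : Tor K q) : G₃) : M₃) = (c : F) • 1 ∧ c ^ 3 = 1 ∧ c ^ (q + 1) = 1 := fun ⟨g, s, hs⟩ => by
    have hd : ((g : G₃) : M₃).det = 1 := congrArg Units.val (MonoidHom.mem_ker.1 g.2.2.2)
    rw [hs, Matrix.det_smul, Matrix.det_one, mul_one, Fintype.card_fin] at hd
    have hi := (iso_iff hF).1 g.2.2.1
    rw [hs, st_smul, st_one, Matrix.smul_mul, Matrix.one_mul, smul_smul, qEquiv_apply, ← pow_succ] at hi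
    have hi' := congrFun (congrFun hi 0) 0
    simp at hi'
    exact ⟨Units.mk0 s (fun e => by rw [e] at hd; simp at hd), hs, Units.ext hd, Units.ext hi'⟩
  choose c hc hc3 hcq using hS
  have hdvd : Nat.gcd 3 (q + 1) ∣ q ^ 2 - 1 :=
    (Nat.gcd_dvd_right 3 (q + 1)).trans ⟨q - 1, by rw [← Nat.sq_sub_sq, one_pow]⟩
  rw [show Nat.gcd 3 (q + 1) = Nat.card (powMonoidHom (Nat.gcd 3 (q + 1)) : Fˣ →* Fˣ).ker by
    rw [IsCyclic.card_powMonoidHom_ker, Nat.card_units, Nat.card_eq_fintype_card, hF, Nat.gcd_eq_right hdvd]]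
  refine Nat.card_eq_of_bijective (fun g => ⟨c g, ?_⟩) ⟨fun a b e => ?_, fun z => ?_⟩
  · rw [MonoidHom.mem_ker, powMonoidHom_apply]; exact pow_gcd_eq_one.2 ⟨hc3 g, hcq g⟩
  · have h : c a = c b := congrArg (fun w : (powMonoidHom (Nat.gcd 3 (q + 1)) : Fˣ →* Fˣ).ker => (w : Fˣ)) e
    exact Subtype.ext (Subtype.ext (Units.ext ((hc a).trans ((congrArg (fun z : Fˣ => (z : F) • (1 : M₃)) h).trans
      (hc b).symm))))
  · have hz : (z : Fˣ) ^ 3 = 1 ∧ (z : Fˣ) ^ (q + 1) = 1 := pow_gcd_eq_one.1 z.2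
    obtain ⟨g, hg⟩ : ∃ g : G₃, (g : M₃) = ((z : Fˣ) : F) • 1 :=
      ⟨Matrix.GeneralLinearGroup.scalar (Fin 3) (z : Fˣ), by simp [Matrix.smul_one_eq_diagonal]⟩
    have hmem : g ∈ Tor K q := ⟨scalar_mem hK hg, (iso_iff hF).2 (by
        rw [hg, st_smul, st_one, Matrix.smul_mul, Matrix.one_mul, smul_smul, qEquiv_apply, ← pow_succ,
          ← Units.val_pow_eq_pow_val, hz.2, Units.val_one, one_smul]),
      MonoidHom.mem_ker.2 (Units.ext (by
        show (g : M₃).det = 1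
        rw [hg, Matrix.det_smul, Matrix.det_one, mul_one, Fintype.card_fin, ← Units.val_pow_eq_pow_val, hz.1,
          Units.val_one]))⟩
    refine ⟨⟨⟨g, hmem⟩, _, hg⟩, Subtype.ext (Units.ext ?_)⟩
    have h1 := congrFun (congrFun ((hc ⟨⟨g, hmem⟩, _, hg⟩).symm.trans hg) 0) 0
    simpa using h1

/-- The index of the normaliser in an overgroup is one modulo `n`. -/
theorem index_mod (hq : 3 ≤ q) {M : Subgroup G₃} (hNM : Nor K q ≤ M) (hM : M ≤ GU 3 F q ⊓ Geo.specialLinear (Fin 3) F)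
    {n : ℕ} (hn : Nat.gcd 3 (q + 1) * n = Nat.card (Tor K q)) : (Nor K q).relIndex M % n = 1 % n := by
  classical
  have hTM : Tor K q ≤ M := (Tor_le_Nor hF hK hac).trans hNM
  rw [Subgroup.relIndex, Subgroup.index_eq_card]
  obtain ⟨N', hN'⟩ : ∃ N', N' = (Nor K q).subgroupOf M := ⟨_, rfl⟩
  rw [← hN']
  letI : MulAction (Tor K q) (M ⧸ N') := MulAction.compHom _ (Subgroup.inclusion hTM)
  refine card_mod_of_free (A := Tor K q) (QuotientGroup.mk 1 : M ⧸ N') (fun a => ?_)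
    (Nat.gcd_pos_of_pos_left _ (by norm_num)) hn fun x hx => ?_
  · show QuotientGroup.mk (Subgroup.inclusion hTM a * 1) = _
    rw [mul_one, eq_comm, QuotientGroup.eq, inv_one, one_mul, hN', Subgroup.mem_subgroupOf]
    exact Tor_le_Nor hF hK hac a.2
  obtain ⟨g, rfl⟩ := QuotientGroup.mk_surjective x
  have hgN : (g : G₃) ∉ Nor K q := fun h => hx (by
    rw [eq_comm, QuotientGroup.eq, inv_one, one_mul, hN', Subgroup.mem_subgroupOf]; exact h)
  rw [← card_scalars hF hK hac]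
  refine Nat.card_congr (Equiv.subtypeEquivRight fun a => ?_)
  show QuotientGroup.mk (Subgroup.inclusion hTM a * g) = QuotientGroup.mk g ↔ _
  rw [eq_comm, QuotientGroup.eq, hN', Subgroup.mem_subgroupOf]
  show (g : G₃)⁻¹ * ((a : G₃) * g) ∈ Nor K q ↔ _
  constructor
  · intro h
    by_contra hns
    push Not at hns
    refine hgN ⟨?_, hM g.2⟩
    refine inv_inv (g : G₃) ▸ (Geo.subalgebraNormalizer K).inv_mem (mem_normalizer_of_conj hF hK hac hq a.2 hns ?_)
    rwa [inv_inv, mul_assoc]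
  · rintro ⟨s, hs⟩
    have : (g : G₃)⁻¹ * ((a : G₃) * g) = a := Units.ext (by
      rw [Units.val_mul, Units.val_mul, hs, Matrix.smul_mul, Matrix.one_mul, Matrix.mul_smul, Units.inv_mul])
    rw [this]
    exact Tor_le_Nor hF hK hac a.2

end Cfsg.Agent.Classical.SUThree.Torus
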